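import Groth.Agent.Lib.Helper14.AlgSpQuot1

/-!
# Utilities on fppf sheaves over `S`: lifting sieves, local factorisation through monos (helper14)

(The `liftSieve` API is a self-contained copy of the one in `Lib/Helper5/AlgSpEpi`, to avoid its import closure.)
-/

set_option autoImplicit false

universe u

open CategoryTheory CategoryTheory.Limits AlgebraicGeometry Opposite

namespace Groth.Agent.Lib.Helper14.AlgSpQuot

open Groth.Agent.Lib.Helper14.RepSh

variable {S : Scheme.{u}}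

/-- covering sieves of the fppf topology contain flat, locally finitely presented members through every point -/
theorem exists_flat_mem_of_mem_fppfTopology {X : Scheme.{u}} (R : Sieve X)
    (hR : R ∈ Scheme.fppfTopology X) (x : ↥X) :
    ∃ (Y : Scheme.{u}) (f : Y ⟶ X) (y : ↥Y), R f ∧ f y = x ∧ Flat f ∧
      LocallyOfFinitePresentation f := by
  have : Scheme.fppfPrecoverage.{u}.HasIsos := fppf_hasIsos
  have : Scheme.fppfPrecoverage.{u}.HasPullbacks := fppf_hasPullbacks
  obtain ⟨R', hR', hle⟩ := Precoverage.mem_toGrothendieck_iff_of_isStableUnderComposition.1 hR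
  obtain ⟨𝒰, rfl⟩ := R'.exists_eq_preZeroHypercover
  rw [Scheme.fppfPrecoverage, Scheme.ofArrows_mem_precoverage_iff] at hR'
  obtain ⟨i, y, hy⟩ := hR'.1 x
  exact ⟨_, 𝒰.f i, y, hle _ _ (Presieve.ofArrows.mk i), hy, (hR'.2 i).1, (hR'.2 i).2⟩

theorem exists_flat_mem_of_mem_J {T : Over S} (R : Sieve T) (hR : R ∈ AlgSp.J S T) (τ : ↥T.left) :
    ∃ (T' : Over S) (f : T' ⟶ T) (τ' : ↥T'.left), R f ∧ f.left τ' = τ ∧ Flat f.left ∧
      LocallyOfFinitePresentation f.left := by
  rw [GrothendieckTopology.mem_over_iff] at hR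
  obtain ⟨Y, f, y, h1, hy, hf1, hf2⟩ := exists_flat_mem_of_mem_fppfTopology _ hR τ
  rw [Sieve.overEquiv_iff] at h1
  exact ⟨Over.mk (f ≫ T.hom), Over.homMk f, y, h1, hy, hf1, hf2⟩

/-- a jointly surjective family of flat lfp morphisms generates a covering sieve -/
theorem cover_mem_family {κ : Type u} {T : Over S} (Tk : κ → Over S)
    (c : ∀ k, Tk k ⟶ T) (h1 : ∀ k, Flat (c k).left) (h2 : ∀ k, LocallyOfFinitePresentation (c k).left)
    (h3 : ∀ x : ↥T.left, ∃ k, x ∈ Set.range (c k).left) :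
    Sieve.ofArrows Tk c ∈ (AlgSp.J S) T := by
  rw [GrothendieckTopology.mem_over_iff, Sieve.overEquiv_ofArrows]
  refine Precoverage.generate_mem_toGrothendieck ?_
  rw [Scheme.fppfPrecoverage, Scheme.ofArrows_mem_precoverage_iff]
  exact ⟨h3, fun k => ⟨h1 k, h2 k⟩⟩

/-- a sieve is covering as soon as every point is hit by a flat lfp member -/
theorem mem_J_of_forall_exists_flat {T : Over S} (R : Sieve T)
    (h : ∀ τ : ↥T.left, ∃ (T' : Over S) (f : T' ⟶ T), R f ∧ τ ∈ Set.range f.left ∧ Flat f.left ∧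
      LocallyOfFinitePresentation f.left) : R ∈ AlgSp.J S T := by
  choose T' f h1 h2 h3 h4 using h
  refine (AlgSp.J S).superset_covering ?_ (cover_mem_family T' f h3 h4 (fun x => ⟨x, h2 x⟩))
  rintro V g ⟨_, u, _, ⟨τ⟩, rfl⟩
  exact R.downward_closed (h1 τ) u

/-- The sieve of `c : T' ⟶ T` such that `h_c ≫ η` lifts through `f`. -/
def liftSieve {X Y : AlgSp.Sp S} (f : X ⟶ Y) {T : Over S} (η : (AlgSp.yon S).obj T ⟶ Y) : Sieve T where
  arrows T' c := ∃ x : (AlgSp.yon S).obj T' ⟶ X, x ≫ f = (AlgSp.yon S).map c ≫ η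
  downward_closed := by
    rintro T' T'' c ⟨x, hx⟩ d
    exact ⟨(AlgSp.yon S).map d ≫ x, by rw [Category.assoc, hx, Functor.map_comp, Category.assoc]⟩

theorem imageSieve_eq_liftSieve {X Y : AlgSp.Sp S} (f : X ⟶ Y) {T : Over S}
    (y : Y.obj.obj (op T)) :
    Presheaf.imageSieve f.hom y = liftSieve f ((AlgSp.J S).uliftYonedaEquiv.symm y) := by
  ext T' t
  constructor
  · rintro ⟨x, hx⟩
    refine ⟨(AlgSp.J S).uliftYonedaEquiv.symm x, ?_⟩
    apply (AlgSp.J S).uliftYonedaEquiv.injective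
    rw [GrothendieckTopology.uliftYonedaEquiv_comp, Equiv.apply_symm_apply,
      ← GrothendieckTopology.uliftYonedaEquiv_naturality, Equiv.apply_symm_apply]
    exact hx
  · rintro ⟨x, hx⟩
    refine ⟨(AlgSp.J S).uliftYonedaEquiv x, ?_⟩
    have e1 := GrothendieckTopology.uliftYonedaEquiv_comp (AlgSp.J S) x f
    rw [hx, ← GrothendieckTopology.uliftYonedaEquiv_naturality, Equiv.apply_symm_apply] at e1
    exact e1.symm

theorem isLocallySurjective_iff {X Y : AlgSp.Sp S} (f : X ⟶ Y) :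
    Sheaf.IsLocallySurjective f ↔
      ∀ (T : Over S) (η : (AlgSp.yon S).obj T ⟶ Y), liftSieve f η ∈ (AlgSp.J S) T := by
  constructor
  · intro h T η
    have := h.imageSieve_mem ((AlgSp.J S).uliftYonedaEquiv η)
    rwa [imageSieve_eq_liftSieve, Equiv.symm_apply_apply] at this
  · intro h
    refine ⟨fun {T} y => ?_⟩
    rw [imageSieve_eq_liftSieve]
    exact h T _

theorem liftSieve_mem_of_epi {X Y : AlgSp.Sp S} (f : X ⟶ Y) [Epi f] {T : Over S}
    (η : (AlgSp.yon S).obj T ⟶ Y) : liftSieve f η ∈ (AlgSp.J S) T :=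
  (isLocallySurjective_iff f).1 ((Sheaf.isLocallySurjective_iff_epi f).2 inferInstance) T η

theorem liftSieve_pullback {X Y : AlgSp.Sp S} (f : X ⟶ Y) {T T' : Over S} (η : (AlgSp.yon S).obj T ⟶ Y)
    (t : T' ⟶ T) : (liftSieve f η).pullback t = liftSieve f ((AlgSp.yon S).map t ≫ η) := by
  ext T'' s
  change (∃ x : (AlgSp.yon S).obj T'' ⟶ X, x ≫ f = (AlgSp.yon S).map (s ≫ t) ≫ η) ↔
    (∃ x : (AlgSp.yon S).obj T'' ⟶ X, x ≫ f = (AlgSp.yon S).map s ≫ (AlgSp.yon S).map t ≫ η)
  rw [Functor.map_comp, Category.assoc]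

/-- A monomorphism of fppf sheaves all of whose lifting sieves are covering is an isomorphism. -/
theorem isIso_of_mono_of_liftSieve {X Y : AlgSp.Sp S} (f : X ⟶ Y) [Mono f]
    (h : ∀ (T : Over S) (η : (AlgSp.yon S).obj T ⟶ Y), liftSieve f η ∈ (AlgSp.J S) T) : IsIso f := by
  have : Sheaf.IsLocallySurjective f := (isLocallySurjective_iff f).2 h
  have : Epi f := inferInstance
  exact isIso_of_mono_of_epi f

/-- A map to the target of a monomorphism of sheaves factors through it as soon as it does so locally. -/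
theorem exists_factor_of_liftSieve {A B : AlgSp.Sp S} (f : A ⟶ B) [Mono f] {T : Over S}
    (η : (AlgSp.yon S).obj T ⟶ B) (h : liftSieve f η ∈ (AlgSp.J S) T) :
    ∃ x : (AlgSp.yon S).obj T ⟶ A, x ≫ f = η := by
  have sq : IsPullback (pullback.fst η f) (pullback.snd η f) η f := IsPullback.of_hasPullback _ _
  have hm : Mono (pullback.fst η f) := inferInstance
  have hiso : IsIso (pullback.fst η f) := by
    apply isIso_of_mono_of_liftSieve
    intro T' η'
    obtain ⟨c, rfl⟩ := (AlgSp.yon S).map_surjective η'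
    refine (AlgSp.J S).superset_covering ?_ ((AlgSp.J S).pullback_stable c h)
    rintro T'' d ⟨x, hx⟩
    refine ⟨sq.lift ((AlgSp.yon S).map (d ≫ c)) x hx.symm, ?_⟩
    rw [sq.lift_fst, Functor.map_comp]
  exact ⟨inv (pullback.fst η f) ≫ pullback.snd η f, by
    rw [Category.assoc, ← sq.w, IsIso.inv_hom_id_assoc]⟩

end Groth.Agent.Lib.Helper14.AlgSpQuot
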