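import Groth.Agent.Lib.Helper14.AlgSpQuot3

/-!
# Restriction of an fppf equivalence relation: `U'/R' ⟶ U/R` is an open immersion (helper14)
-/

set_option autoImplicit false

universe u

open CategoryTheory CategoryTheory.Limits AlgebraicGeometry Opposite

namespace Groth.Agent.Lib.Helper14.AlgSpQuot

open Groth.Agent.Lib.Helper14.RepSh

variable {S : Scheme.{u}}

theorem quotMap_condition {R U : Over S} (s t : R ⟶ U) :
    (AlgSp.yon S).map s ≫ quotMap s t = (AlgSp.yon S).map t ≫ quotMap s t := by
  unfold quotMap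
  rw [← Category.assoc, yon_map_repIso_inv, ← Category.assoc, yon_map_repIso_inv, Category.assoc,
    Category.assoc, QuotSh.quot_condition]

theorem quotMap_comm {R U R' U' : Over S} (s t : R ⟶ U) (s' t' : R' ⟶ U') (g : U' ⟶ U)
    (φ : QuotSh.quot Scheme.fppfPrecoverage s' t' ⟶ QuotSh.quot Scheme.fppfPrecoverage s t)
    (hφ : QuotSh.quotπ Scheme.fppfPrecoverage s' t' ≫ φ =
      QuotSh.repMap Scheme.fppfPrecoverage g ≫ QuotSh.quotπ Scheme.fppfPrecoverage s t) :
    quotMap s' t' ≫ φ = (AlgSp.yon S).map g ≫ quotMap s t := by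
  unfold quotMap
  rw [Category.assoc, hφ, ← Category.assoc, ← yon_map_repIso_inv, Category.assoc]

/-- the restriction of a relation: lifting property of the defining cartesian square -/
theorem exists_lift_restriction {R U R' U' : Over S} {s t : R ⟶ U} {g : U' ⟶ U} {s' t' : R' ⟶ U'}
    {r : R' ⟶ R} (hsq : IsPullback (prod.lift t' s') r (prod.map g g) (prod.lift t s))
    {T : Over S} (x₁' x₂' : T ⟶ U') (ρ : T ⟶ R) (h1 : ρ ≫ t = x₁' ≫ g) (h2 : ρ ≫ s = x₂' ≫ g) :
    ∃ ρ' : T ⟶ R', ρ' ≫ t' = x₁' ∧ ρ' ≫ s' = x₂' := by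
  have e : prod.lift x₁' x₂' ≫ prod.map g g = ρ ≫ prod.lift t s := by
    apply Limits.prod.hom_ext
    · rw [Category.assoc, Category.assoc, Limits.prod.map_fst, Limits.prod.lift_fst,
        Limits.prod.lift_fst_assoc, h1]
    · rw [Category.assoc, Category.assoc, Limits.prod.map_snd, Limits.prod.lift_snd,
        Limits.prod.lift_snd_assoc, h2]
  refine ⟨hsq.lift _ _ e, ?_, ?_⟩
  · have := congrArg (fun k => k ≫ (Limits.prod.fst : U' ⨯ U' ⟶ U')) (hsq.lift_fst _ _ e)
    simp only [Category.assoc, Limits.prod.lift_fst] at this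
    exact this
  · have := congrArg (fun k => k ≫ (Limits.prod.snd : U' ⨯ U' ⟶ U')) (hsq.lift_fst _ _ e)
    simp only [Category.assoc, Limits.prod.lift_snd] at this
    exact this

/-- the orbit map `U' ×_U R ⟶ U`, `(u', ρ) ↦ s ρ` -/
noncomputable abbrev orbMap {R U U' : Over S} (s t : R ⟶ U) (g : U' ⟶ U) : pullback g t ⟶ U :=
  pullback.snd g t ≫ s

theorem orbMap_left_flat {R U U' : Over S} (s t : R ⟶ U) (g : U' ⟶ U) [Flat s.left] [Flat g.left] :
    Flat (orbMap s t g).left := by
  have sq : IsPullback (pullback.fst g t).left (pullback.snd g t).left g.left t.left :=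
    (IsPullback.of_hasPullback g t).map (Over.forget S)
  have : Flat (pullback.snd g t).left := MorphismProperty.of_isPullback (P := @Flat) sq inferInstance
  rw [orbMap, Over.comp_left]
  infer_instance

theorem orbMap_left_lfp {R U U' : Over S} (s t : R ⟶ U) (g : U' ⟶ U)
    [LocallyOfFinitePresentation s.left] [LocallyOfFinitePresentation g.left] :
    LocallyOfFinitePresentation (orbMap s t g).left := by
  have sq : IsPullback (pullback.fst g t).left (pullback.snd g t).left g.left t.left :=
    (IsPullback.of_hasPullback g t).map (Over.forget S)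
  have : LocallyOfFinitePresentation (pullback.snd g t).left :=
    MorphismProperty.of_isPullback (P := @LocallyOfFinitePresentation) sq inferInstance
  rw [orbMap, Over.comp_left]
  infer_instance

/-- the open image of the orbit map -/
noncomputable def orbOpen {R U U' : Over S} (s t : R ⟶ U) (g : U' ⟶ U) [Flat s.left] [Flat g.left]
    [LocallyOfFinitePresentation s.left] [LocallyOfFinitePresentation g.left] : U.left.Opens :=
  ⟨Set.range (orbMap s t g).left, by
    have := orbMap_left_flat s t g
    have := orbMap_left_lfp s t g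
    exact (orbMap s t g).left.isOpenMap.isOpen_range⟩

/-- the hypotheses of the core lemma hold for the restriction of an fppf equivalence relation -/
theorem openQuot_of_isEqvRel {R U R' U' : Over S} (s t : R ⟶ U)
    (g : U' ⟶ U) (s' t' : R' ⟶ U') (r : R' ⟶ R)
    (hsq : IsPullback (prod.lift t' s') r (prod.map g g) (prod.lift t s))
    (hR : AlgSp.IsEqvRel s t)
    [Flat s.left] [LocallyOfFinitePresentation s.left]
    [Flat g.left] [LocallyOfFinitePresentation g.left]
    (φ : QuotSh.quot Scheme.fppfPrecoverage s' t' ⟶ QuotSh.quot Scheme.fppfPrecoverage s t)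
    (hφ : QuotSh.quotπ Scheme.fppfPrecoverage s' t' ≫ φ =
      QuotSh.repMap Scheme.fppfPrecoverage g ≫ QuotSh.quotπ Scheme.fppfPrecoverage s t) :
    OpenQuot s t g (quotMap s t) (quotMap s' t') φ (orbOpen s t g) where
  comm := quotMap_comm s t s' t' g φ hφ
  rel := by
    intro T ρ
    rw [Functor.map_comp, Functor.map_comp, Category.assoc, Category.assoc, quotMap_condition]
  ker := by
    intro T x₁ x₂ h
    obtain ⟨ρ, hρ⟩ := (AlgSp.yon S).map_surjective ((isPullback_quotMap hR).lift _ _ h)
    have : relSieve s t x₁ x₂ = ⊤ := by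
      rw [← Sieve.id_mem_iff_eq_top]
      refine ⟨ρ, ?_, ?_⟩
      · apply (AlgSp.yon S).map_injective
        rw [Functor.map_comp, hρ, IsPullback.lift_fst, Category.id_comp]
      · apply (AlgSp.yon S).map_injective
        rw [Functor.map_comp, hρ, IsPullback.lift_snd, Category.id_comp]
    rw [this]
    exact (AlgSp.J S).top_mem _
  ker' := by
    intro T x₁' x₂' ρ h1 h2
    obtain ⟨ρ', e1, e2⟩ := exists_lift_restriction hsq x₁' x₂' ρ h1 h2
    rw [← e1, ← e2, Functor.map_comp, Functor.map_comp, Category.assoc, Category.assoc,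
      quotMap_condition]
  memW := by
    intro T ρ u' h τ
    refine ⟨(pullback.lift u' ρ h.symm).left τ, ?_⟩
    rw [← Scheme.Hom.comp_apply, ← Over.comp_left, orbMap, pullback.lift_snd_assoc]
  surjW := by
    intro T a ha
    have hf := orbMap_left_flat s t g
    have hl := orbMap_left_lfp s t g
    apply mem_J_of_forall_exists_flat
    intro τ
    obtain ⟨p, hp⟩ := ha τ
    obtain ⟨z, hz1, -⟩ := exists_point_pullback_over a (orbMap s t g) τ p hp.symm
    have sq : IsPullback (pullback.fst a (orbMap s t g)).left (pullback.snd a (orbMap s t g)).left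
        a.left (orbMap s t g).left :=
      (IsPullback.of_hasPullback a (orbMap s t g)).map (Over.forget S)
    refine ⟨pullback a (orbMap s t g), pullback.fst a (orbMap s t g),
      ⟨pullback.snd a (orbMap s t g) ≫ pullback.snd g t,
        pullback.snd a (orbMap s t g) ≫ pullback.fst g t, ?_, ?_⟩, ⟨z, hz1⟩, ?_, ?_⟩
    · rw [Category.assoc, Category.assoc, pullback.condition]
    · rw [Category.assoc, pullback.condition]
    · exact MorphismProperty.of_isPullback (P := @Flat) sq.flip hf
    · exact MorphismProperty.of_isPullback (P := @LocallyOfFinitePresentation) sq.flip hl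

end Groth.Agent.Lib.Helper14.AlgSpQuot
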