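import Groth.Agent.Lib.Helper14.RepSh5

set_option autoImplicit false

universe u

open CategoryTheory CategoryTheory.Limits AlgebraicGeometry Opposite

namespace Groth.Agent.Lib.Helper14.RepSh

variable {S : Scheme.{u}}

/-- a flat, locally finitely presented, surjective map generates a covering sieve of the big
fppf site -/
theorem factSieve_mem_fppf {U V : Over S} (g : V ⟶ U) [Flat g.left]
    [LocallyOfFinitePresentation g.left] [AlgebraicGeometry.Surjective g.left] :
    factSieve g ∈ QuotSh.J Scheme.fppfPrecoverage S U := by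
  rw [factSieve_eq_generate, GrothendieckTopology.mem_over_iff, Sieve.overEquiv_generate]
  have h1 : Sieve.generate (Presieve.singleton g.left) ∈ Scheme.fppfTopology U.left :=
    Precoverage.generate_mem_toGrothendieck (Scheme.Hom.singleton_mem_fppfPrecoverage g.left)
  refine GrothendieckTopology.superset_covering _ ?_ h1
  rw [Sieve.generate_le_iff]
  intro Z k hk
  cases hk
  exact Sieve.le_generate _ _ _ ⟨V, g, 𝟙 _, Presieve.singleton.mk, (Category.id_comp _).symm⟩

theorem epi_repMap_fppf {U V : Over S} (g : V ⟶ U) [Flat g.left]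
    [LocallyOfFinitePresentation g.left] [AlgebraicGeometry.Surjective g.left] :
    Epi (QuotSh.repMap Scheme.fppfPrecoverage g) :=
  (epi_repMap_iff _ g).2 (factSieve_mem_fppf g)

/-- an etale surjective map generates a covering sieve of the big etale site -/
theorem factSieve_mem_etale {U V : Over S} (g : V ⟶ U) [Etale g.left] [AlgebraicGeometry.Surjective g.left] :
    factSieve g ∈ QuotSh.J Scheme.etalePrecoverage S U := by
  rw [factSieve_eq_generate, GrothendieckTopology.mem_over_iff, Sieve.overEquiv_generate]
  have h0 : Presieve.singleton g.left ∈ Scheme.etalePrecoverage U.left := by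
    rw [Scheme.etalePrecoverage, Scheme.singleton_mem_precoverage_iff]
    exact ⟨g.left.surjective, inferInstance⟩
  have h1 : Sieve.generate (Presieve.singleton g.left) ∈
      Scheme.etalePrecoverage.toGrothendieck U.left :=
    Precoverage.generate_mem_toGrothendieck h0
  refine GrothendieckTopology.superset_covering _ ?_ h1
  rw [Sieve.generate_le_iff]
  intro Z k hk
  cases hk
  exact Sieve.le_generate _ _ _ ⟨V, g, 𝟙 _, Presieve.singleton.mk, (Category.id_comp _).symm⟩

theorem epi_repMap_etale {U V : Over S} (g : V ⟶ U) [Etale g.left] [AlgebraicGeometry.Surjective g.left] :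
    Epi (QuotSh.repMap Scheme.etalePrecoverage g) :=
  (epi_repMap_iff _ g).2 (factSieve_mem_etale g)

/-- descent of a morphism to the quotient sheaf along a covering map -/
theorem existsUnique_desc (K : Precoverage Scheme.{u}) {Z T : Over S} (g : Z ⟶ T)
    [Epi (QuotSh.repMap K g)] {F : QuotSh.Sh K S} (φ : QuotSh.rep K Z ⟶ F)
    (h : ∀ (P : Over S) (z₁ z₂ : P ⟶ Z), z₁ ≫ g = z₂ ≫ g →
      QuotSh.repMap K z₁ ≫ φ = QuotSh.repMap K z₂ ≫ φ) :
    ∃! σ : QuotSh.rep K T ⟶ F, φ = QuotSh.repMap K g ≫ σ := by
  have hk : IsKernelPair (QuotSh.repMap K g) (QuotSh.repMap K (pullback.fst g g))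
      (QuotSh.repMap K (pullback.snd g g)) :=
    isPullback_repMap K (IsPullback.of_hasPullback g g)
  obtain ⟨σ, hσ⟩ := IsRegularEpi.exists_of_isKernelPair (QuotSh.repMap K g) hk φ
    (h _ _ _ pullback.condition)
  refine ⟨σ, hσ.symm, fun σ' hσ' => ?_⟩
  rw [← cancel_epi (QuotSh.repMap K g), hσ, ← hσ']

end Groth.Agent.Lib.Helper14.RepSh
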