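import Groth.Agent.Lib.Helper14.RepSh9
import Groth.Prelude.Def_AlgSp

/-!
# Bridge between `AlgSp.yon` and `QuotSh.rep` (fppf), equivalence relations (helper14)

* `yon_map_repIso_inv`, `yonRepIso`: `AlgSp.yon S ≅ repF fppf`.
* `isEquivalenceRelation_of_isEqvRel`: `AlgSp.IsEqvRel s t` gives Mathlib's `IsEquivalenceRelation s t`.
* `factSieve_mem_of_isPullback`: the base change of an epi `h_U ⟶ F` to a scheme has fppf local sections.
* `repWith_of_kernelPair`: if `p : h_U ⟶ F` is a representable epi whose kernel pair is `(h_t, h_s)` and `t` has an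
  fppf local property `P` stable under base change, then `p` is representable with `P`.
* `isPullback_quotπ`: the kernel pair of `h_U ⟶ U/R` for an equivalence relation.
-/

set_option autoImplicit false

universe u

open CategoryTheory CategoryTheory.Limits AlgebraicGeometry Opposite

namespace Groth.Agent.Lib.Helper14.AlgSpQuot

open Groth.Agent.Lib.Helper14.RepSh

variable {S : Scheme.{u}}

theorem yon_map_repIso_inv {V W : Over S} (g : V ⟶ W) :
    (AlgSp.yon S).map g ≫ (QuotSh.repIsoUliftYoneda Scheme.fppfPrecoverage W).inv =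
      (QuotSh.repIsoUliftYoneda Scheme.fppfPrecoverage V).inv ≫
        QuotSh.repMap Scheme.fppfPrecoverage g := by
  apply Sheaf.hom_ext
  simp only [QuotSh.repIsoUliftYoneda, Iso.symm_inv]
  rw [ObjectProperty.FullSubcategory.comp_hom, ObjectProperty.FullSubcategory.comp_hom,
    sheafificationIso_hom_hom, sheafificationIso_hom_hom, isoSheafify_hom, isoSheafify_hom]
  exact toSheafify_naturality _ _

/-- `AlgSp.yon S ≅ repF fppf` -/
noncomputable def yonRepIso : AlgSp.yon S ≅ repF Scheme.fppfPrecoverage (S := S) :=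
  NatIso.ofComponents (fun V => (QuotSh.repIsoUliftYoneda Scheme.fppfPrecoverage V).symm)
    (fun g => yon_map_repIso_inv g)

theorem epi_repMap_iff_epi_yon_map {V W : Over S} (g : V ⟶ W) :
    Epi (QuotSh.repMap Scheme.fppfPrecoverage g) ↔ Epi ((AlgSp.yon S).map g) := by
  have h := NatIso.naturality_2 (yonRepIso (S := S)) g
  constructor
  · intro hg
    rw [← h]
    have : Epi ((repF Scheme.fppfPrecoverage).map g) := hg
    infer_instance
  · intro hg
    have h' := NatIso.naturality_1 (yonRepIso (S := S)) g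
    change Epi ((repF Scheme.fppfPrecoverage).map g)
    rw [← h']
    infer_instance

/-- an `AlgSp` equivalence relation is an internal equivalence relation of `Over S` -/
theorem isEquivalenceRelation_of_isEqvRel {R U : Over S} {s t : R ⟶ U} (h : AlgSp.IsEqvRel s t) :
    IsEquivalenceRelation s t := by
  obtain ⟨r, hr1, hr2⟩ := (h.equivalence U).refl (𝟙 U)
  obtain ⟨sy, hsy1, hsy2⟩ := (h.equivalence R).symm (x := t) (y := s) ⟨𝟙 R, Category.id_comp _, Category.id_comp _⟩
  have htr := (h.equivalence (pullback t s)).trans (x := pullback.snd t s ≫ t)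
    (y := pullback.snd t s ≫ s) (z := pullback.fst t s ≫ s) ⟨pullback.snd t s, rfl, rfl⟩
    ⟨pullback.fst t s, pullback.condition, rfl⟩
  obtain ⟨tr, htr1, htr2⟩ := htr
  have hjm : JointlyMono₂ s t := ⟨fun Y f g h1 h2 => h.injective Y f g h2 h1⟩
  exact ⟨⟨{ toJointlyMono₂ := hjm
            r := r
            reflexivity₁ := hr2
            reflexivity₂ := hr1
            s := sy
            symmetry₁ := hsy2
            symmetry₂ := hsy1
            c := pullback.cone t s
            isLimit := pullback.isLimit t s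
            t := tr
            transitivity₁ := htr2
            transitivity₂ := htr1 }⟩⟩

/-- the base change of an epimorphism `h_U ⟶ F` along `h_T ⟶ F` has fppf local sections -/
theorem factSieve_mem_of_isPullback {F : AlgSp.Sp S} {U V T : Over S} (p : (AlgSp.yon S).obj U ⟶ F)
    [Epi p] (g : (AlgSp.yon S).obj T ⟶ F) (fst : (AlgSp.yon S).obj V ⟶ (AlgSp.yon S).obj U)
    (snd : V ⟶ T) (sq : IsPullback fst ((AlgSp.yon S).map snd) p g) :
    factSieve snd ∈ AlgSp.J S T := by
  have hls : Sheaf.IsLocallySurjective p := (Sheaf.isLocallySurjective_iff_epi p).2 inferInstance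
  have h1 := hls.imageSieve_mem ((AlgSp.J S).uliftYonedaEquiv g)
  refine (AlgSp.J S).superset_covering ?_ h1
  rintro T' c ⟨x, hx⟩
  have e1 : (AlgSp.J S).uliftYonedaEquiv.symm x ≫ p = (AlgSp.yon S).map c ≫ g := by
    apply (AlgSp.J S).uliftYonedaEquiv.injective
    rw [GrothendieckTopology.uliftYonedaEquiv_comp, Equiv.apply_symm_apply,
      ← GrothendieckTopology.uliftYonedaEquiv_naturality]
    exact hx
  obtain ⟨b, hb⟩ := (AlgSp.yon S).map_surjective (sq.lift _ _ e1)
  refine ⟨b, ?_⟩
  apply (AlgSp.yon S).map_injective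
  rw [Functor.map_comp, hb, sq.lift_snd]

/-- if `p : h_U ⟶ F` is a representable epimorphism with kernel pair `(h_t, h_s)` and `t` has the fppf local
property `P`, then `p` is representable with property `P` -/
theorem repWith_of_kernelPair (P : MorphismProperty Scheme.{u}) [P.IsStableUnderBaseChange]
    [IsZariskiLocalAtTarget P]
    [P.DescendsAlong (@Surjective ⊓ @Flat ⊓ @LocallyOfFinitePresentation)]
    {F : AlgSp.Sp S} {R U : Over S} (s t : R ⟶ U) (p : (AlgSp.yon S).obj U ⟶ F) [Epi p]
    (hrep : AlgSp.Representable p)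
    (hk : IsPullback ((AlgSp.yon S).map t) ((AlgSp.yon S).map s) p p) (ht : P t.left) :
    AlgSp.RepWith P p := by
  refine ⟨hrep, ?_⟩
  intro T V g fst snd sq
  obtain ⟨f', rfl⟩ := (AlgSp.yon S).map_surjective fst
  have hcov := factSieve_mem_of_isPullback p g _ snd sq
  have : Epi (QuotSh.repMap Scheme.fppfPrecoverage snd) :=
    (epi_repMap_iff Scheme.fppfPrecoverage snd).2 hcov
  -- kernel pair of `snd`
  have hkp : IsKernelPair snd (pullback.fst snd snd) (pullback.snd snd snd) :=
    IsPullback.of_hasPullback snd snd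
  refine prop_of_epi_fppf hkp P ?_
  -- `pullback.fst snd snd` is a base change of `t`
  have sqA : IsPullback ((AlgSp.yon S).map (pullback.snd snd snd))
      ((AlgSp.yon S).map (pullback.fst snd snd)) ((AlgSp.yon S).map snd) ((AlgSp.yon S).map snd) :=
    (hkp.map (AlgSp.yon S)).flip
  have big := sqA.paste_horiz sq
  have e1 : (AlgSp.yon S).map (pullback.fst snd snd ≫ f') ≫ p =
      (AlgSp.yon S).map (pullback.snd snd snd ≫ f') ≫ p := by
    rw [Functor.map_comp, Functor.map_comp, Category.assoc, Category.assoc, sq.w,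
      ← Category.assoc, ← Category.assoc, ← Functor.map_comp, ← Functor.map_comp, pullback.condition]
  obtain ⟨k, hk'⟩ := (AlgSp.yon S).map_surjective (hk.lift _ _ e1)
  have hk1 : k ≫ t = pullback.fst snd snd ≫ f' := by
    apply (AlgSp.yon S).map_injective
    rw [Functor.map_comp, hk', hk.lift_fst]
  have hk2 : k ≫ s = pullback.snd snd snd ≫ f' := by
    apply (AlgSp.yon S).map_injective
    rw [Functor.map_comp, hk', hk.lift_snd]
  have sqD : IsPullback k (pullback.fst snd snd) t f' := by
    refine IsPullback.of_map (AlgSp.yon S) hk1 ?_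
    refine IsPullback.of_right ?_ (by rw [← Functor.map_comp, ← Functor.map_comp, hk1]) hk.flip
    rw [← Functor.map_comp, hk2, Functor.map_comp, sq.w]
    exact big
  exact MorphismProperty.of_isPullback (P := P) (sqD.map (Over.forget S)) ht

/-- the quotient map `h_U ⟶ U/R` written on `AlgSp.yon` -/
noncomputable abbrev quotMap {R U : Over S} (s t : R ⟶ U) :
    (AlgSp.yon S).obj U ⟶ QuotSh.quot Scheme.fppfPrecoverage s t :=
  (QuotSh.repIsoUliftYoneda Scheme.fppfPrecoverage U).inv ≫ QuotSh.quotπ Scheme.fppfPrecoverage s t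

instance epi_quotMap {R U : Over S} (s t : R ⟶ U) : Epi (quotMap s t) := by
  have : Epi (QuotSh.quotπ Scheme.fppfPrecoverage s t) := by
    unfold QuotSh.quotπ
    exact coequalizer.π_epi
  exact epi_comp _ _

/-- the kernel pair of `h_U ⟶ U/R` for an equivalence relation -/
theorem isPullback_quotMap {R U : Over S} {s t : R ⟶ U} (h : AlgSp.IsEqvRel s t) :
    IsPullback ((AlgSp.yon S).map t) ((AlgSp.yon S).map s) (quotMap s t) (quotMap s t) := by
  have := isEquivalenceRelation_of_isEqvRel h
  have hk := (isKernelPair_quotπ Scheme.fppfPrecoverage s t).flip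
  refine IsPullback.of_iso hk (QuotSh.repIsoUliftYoneda Scheme.fppfPrecoverage R)
    (QuotSh.repIsoUliftYoneda Scheme.fppfPrecoverage U)
    (QuotSh.repIsoUliftYoneda Scheme.fppfPrecoverage U) (Iso.refl _) ?_ ?_ ?_ ?_
  · rw [← Iso.inv_comp_eq, ← Category.assoc, ← yon_map_repIso_inv, Category.assoc, Iso.inv_hom_id,
      Category.comp_id]
  · rw [← Iso.inv_comp_eq, ← Category.assoc, ← yon_map_repIso_inv, Category.assoc, Iso.inv_hom_id,
      Category.comp_id]
  · simp
  · simp

end Groth.Agent.Lib.Helper14.AlgSpQuot
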