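import Groth.Agent.Lib.Helper14.AlgSpQuot5
import Groth.Prelude.Def_AlgSpGpd

/-!
# Sheaf-level pre-equivalence relations: the kernel pair of `U ⟶ U/R` and restriction (helper14)
-/

set_option autoImplicit false

universe u

open CategoryTheory CategoryTheory.Limits AlgebraicGeometry Opposite

namespace Groth.Agent.Lib.Helper14.AlgSpQuot

open Groth.Agent.Lib.Helper14.RepSh Groth.Agent.Lib.Helper14

variable {S : Scheme.{u}}

/-- the sieve on which `x₁, x₂` are `R`-related (sheaf version) -/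
def relSieveSp {R U : AlgSp.Sp S} (s t : R ⟶ U) {T : Over S}
    (x₁ x₂ : (AlgSp.yon S).obj T ⟶ U) : Sieve T where
  arrows T' c := ∃ ρ : (AlgSp.yon S).obj T' ⟶ R,
    ρ ≫ t = (AlgSp.yon S).map c ≫ x₁ ∧ ρ ≫ s = (AlgSp.yon S).map c ≫ x₂
  downward_closed := by
    rintro T' T'' c ⟨ρ, h1, h2⟩ d
    exact ⟨(AlgSp.yon S).map d ≫ ρ,
      by rw [Category.assoc, h1, Functor.map_comp, Category.assoc],
      by rw [Category.assoc, h2, Functor.map_comp, Category.assoc]⟩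

theorem relSieveSp_mem {R U : AlgSp.Sp S} (s t : R ⟶ U) (hE : AlgSp.IsPreEqvRelSp s t)
    {T : Over S} (x₁ x₂ : (AlgSp.yon S).obj T ⟶ U)
    (h : x₁ ≫ AlgSp.quotSpπ s t = x₂ ≫ AlgSp.quotSpπ s t) :
    relSieveSp s t x₁ x₂ ∈ AlgSp.J S T := by
  let P := QuotRel.quotPsh t.hom s.hom
  let q : U.obj ⟶ P := QuotRel.quotMk t.hom s.hom
  have hq : t.hom ≫ q = s.hom ≫ q := QuotRel.quotMk_condition _ _
  let aP : AlgSp.Sp S := (presheafToSheaf (AlgSp.J S) (Type (u + 1))).obj P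
  let π₀ : U ⟶ aP := ObjectProperty.homMk (q ≫ toSheafify (AlgSp.J S) P)
  have hπ₀ : s ≫ π₀ = t ≫ π₀ := by
    apply ObjectProperty.hom_ext
    change s.hom ≫ q ≫ toSheafify (AlgSp.J S) P = t.hom ≫ q ≫ toSheafify (AlgSp.J S) P
    rw [← Category.assoc, ← hq, Category.assoc]
  let δ : AlgSp.quotSp s t ⟶ aP := AlgSp.quotSpDesc π₀ hπ₀
  have hδ : AlgSp.quotSpπ s t ≫ δ = π₀ := AlgSp.quotSpπ_desc s t π₀ hπ₀
  have h' : x₁ ≫ π₀ = x₂ ≫ π₀ := by
    have := congrArg (fun k => k ≫ δ) h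
    simp only [Category.assoc, hδ] at this
    exact this
  have h'' := congrArg (AlgSp.J S).uliftYonedaEquiv h'
  rw [GrothendieckTopology.uliftYonedaEquiv_comp, GrothendieckTopology.uliftYonedaEquiv_comp] at h''
  set ξ₁ := (AlgSp.J S).uliftYonedaEquiv x₁ with hξ₁
  set ξ₂ := (AlgSp.J S).uliftYonedaEquiv x₂ with hξ₂
  have h3' : (toSheafify (AlgSp.J S) P).app (op T) (q.app (op T) ξ₁) =
      (toSheafify (AlgSp.J S) P).app (op T) (q.app (op T) ξ₂) := h''
  have hli : Presheaf.IsLocallyInjective (AlgSp.J S) (toSheafify (AlgSp.J S) P) :=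
    Presheaf.isLocallyInjective_toSheafify' _ _
  have h3 := hli.equalizerSieve_mem (X := op T) (q.app (op T) ξ₁) (q.app (op T) ξ₂) h3'
  refine (AlgSp.J S).superset_covering ?_ h3
  intro T' c hc
  have hc' : Quot.mk (QuotRel.Rel t.hom s.hom (op T')) (U.obj.map c.op ξ₁) =
      Quot.mk (QuotRel.Rel t.hom s.hom (op T')) (U.obj.map c.op ξ₂) := hc
  have hEq : Equivalence (QuotRel.Rel t.hom s.hom (op T')) := by
    have hE' := hE T'
    have key : ∀ x y : U.obj.obj (op T'), QuotRel.Rel t.hom s.hom (op T') x y ↔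
        ∃ r : (AlgSp.yon S).obj T' ⟶ R, r ≫ t = (AlgSp.J S).uliftYonedaEquiv.symm x ∧
          r ≫ s = (AlgSp.J S).uliftYonedaEquiv.symm y := by
      intro x y
      constructor
      · rintro ⟨r, h1, h2⟩
        refine ⟨(AlgSp.J S).uliftYonedaEquiv.symm r, ?_, ?_⟩
        · apply (AlgSp.J S).uliftYonedaEquiv.injective
          rw [GrothendieckTopology.uliftYonedaEquiv_comp, Equiv.apply_symm_apply,
            Equiv.apply_symm_apply]
          exact h1
        · apply (AlgSp.J S).uliftYonedaEquiv.injective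
          rw [GrothendieckTopology.uliftYonedaEquiv_comp, Equiv.apply_symm_apply,
            Equiv.apply_symm_apply]
          exact h2
      · rintro ⟨r, h1, h2⟩
        refine ⟨(AlgSp.J S).uliftYonedaEquiv r, ?_, ?_⟩
        · have := congrArg (AlgSp.J S).uliftYonedaEquiv h1
          rw [GrothendieckTopology.uliftYonedaEquiv_comp, Equiv.apply_symm_apply] at this
          exact this
        · have := congrArg (AlgSp.J S).uliftYonedaEquiv h2
          rw [GrothendieckTopology.uliftYonedaEquiv_comp, Equiv.apply_symm_apply] at this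
          exact this
    refine ⟨fun x => (key x x).2 (hE'.refl _), fun {x y} hxy => (key y x).2 (hE'.symm ((key x y).1 hxy)),
      fun {x y z} hxy hyz => (key x z).2 (hE'.trans ((key x y).1 hxy) ((key y z).1 hyz))⟩
  obtain ⟨ρ, h1, h2⟩ := (hEq.eqvGen_iff).1 (Quot.eqvGen_exact hc')
  refine ⟨(AlgSp.J S).uliftYonedaEquiv.symm ρ, ?_, ?_⟩
  · apply (AlgSp.J S).uliftYonedaEquiv.injective
    rw [GrothendieckTopology.uliftYonedaEquiv_comp, Equiv.apply_symm_apply,
      ← GrothendieckTopology.uliftYonedaEquiv_naturality]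
    exact h1
  · apply (AlgSp.J S).uliftYonedaEquiv.injective
    rw [GrothendieckTopology.uliftYonedaEquiv_comp, Equiv.apply_symm_apply,
      ← GrothendieckTopology.uliftYonedaEquiv_naturality]
    exact h2

/-- restriction of a pre-equivalence relation of sheaves: the map of quotients is a monomorphism -/
theorem mono_quotSp_of_restrict {R U R' U' : AlgSp.Sp S} (s t : R ⟶ U)
    (hpre : AlgSp.IsPreEqvRelSp s t) (g : U' ⟶ U) (s' t' : R' ⟶ U')
    (hlift : ∀ (T : Over S) (y₁ y₂ : (AlgSp.yon S).obj T ⟶ U') (ρ : (AlgSp.yon S).obj T ⟶ R),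
      ρ ≫ t = y₁ ≫ g → ρ ≫ s = y₂ ≫ g →
      ∃ ρ' : (AlgSp.yon S).obj T ⟶ R', ρ' ≫ t' = y₁ ∧ ρ' ≫ s' = y₂)
    (ψ : AlgSp.quotSp s' t' ⟶ AlgSp.quotSp s t)
    (hψ : AlgSp.quotSpπ s' t' ≫ ψ = g ≫ AlgSp.quotSpπ s t) : Mono ψ := by
  haveI : Epi (AlgSp.quotSpπ s' t') := by
    unfold AlgSp.quotSpπ
    exact coequalizer.π_epi
  constructor
  intro Z f₁ f₂ hf
  refine GrothendieckTopology.hom_ext_uliftYoneda.{u + 1, u, u + 1} (AlgSp.J S) ?_
  intro T p
  apply eq_of_eqSieve_mem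
  have hS1 : liftSieve (AlgSp.quotSpπ s' t') (p ≫ f₁) ⊓ liftSieve (AlgSp.quotSpπ s' t') (p ≫ f₂) ∈
      AlgSp.J S T :=
    (AlgSp.J S).intersection_covering (liftSieve_mem_of_epi _ _) (liftSieve_mem_of_epi _ _)
  refine (AlgSp.J S).transitive hS1 _ ?_
  rintro T' c ⟨⟨y₁, hy₁⟩, ⟨y₂, hy₂⟩⟩
  have e : (y₁ ≫ g) ≫ AlgSp.quotSpπ s t = (y₂ ≫ g) ≫ AlgSp.quotSpπ s t := by
    rw [Category.assoc, Category.assoc, ← hψ, ← Category.assoc, ← Category.assoc, hy₁, hy₂,
      Category.assoc, Category.assoc, Category.assoc, Category.assoc, hf]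
  refine (AlgSp.J S).superset_covering ?_ (relSieveSp_mem s t hpre _ _ e)
  rintro T'' d ⟨ρ, h1, h2⟩
  change (AlgSp.yon S).map (d ≫ c) ≫ p ≫ f₁ = (AlgSp.yon S).map (d ≫ c) ≫ p ≫ f₂
  obtain ⟨ρ', h1', h2'⟩ := hlift T'' ((AlgSp.yon S).map d ≫ y₁) ((AlgSp.yon S).map d ≫ y₂) ρ
    (by rw [h1, Category.assoc]) (by rw [h2, Category.assoc])
  have e2 : ((AlgSp.yon S).map d ≫ y₁) ≫ AlgSp.quotSpπ s' t' =
      ((AlgSp.yon S).map d ≫ y₂) ≫ AlgSp.quotSpπ s' t' := by
    rw [← h1', ← h2', Category.assoc, Category.assoc, AlgSp.quotSp_condition]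
  rw [Functor.map_comp, Category.assoc, ← hy₁, Category.assoc, ← hy₂, ← Category.assoc, e2,
    Category.assoc]

end Groth.Agent.Lib.Helper14.AlgSpQuot
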