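import Mathlib.CategoryTheory.Sites.Over
import Mathlib.CategoryTheory.Sites.IsSheafFor

set_option autoImplicit false
open CategoryTheory Limits Opposite
universe w v₁ u₁
namespace Groth.Agent.Lib.Helper14.SigSheaf

variable {C : Type u₁} [Category.{v₁} C] {S : C} (G : (Over S)ᵒᵖ ⥤ Type w)

/-- the identity-on-underlying-objects morphism between two presentations -/
def idHom {X : C} {f f' : X ⟶ S} (e : f = f') : Over.mk f' ⟶ Over.mk f :=
  Over.homMk (𝟙 X) (by
    change 𝟙 X ≫ f = f'
    rw [Category.id_comp, e])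

@[simp] theorem idHom_left {X : C} {f f' : X ⟶ S} (e : f = f') : (idHom e).left = 𝟙 X := rfl

/-- transport along equality of structure maps -/
def tr {X : C} {f f' : X ⟶ S} (e : f = f') (x : G.obj (op (Over.mk f))) :
    G.obj (op (Over.mk f')) :=
  G.map (idHom e).op x

theorem tr_rfl {X : C} {f : X ⟶ S} (e : f = f) (x : G.obj (op (Over.mk f))) : tr G e x = x := by
  have h : idHom e = 𝟙 (Over.mk f) := by
    apply Over.OverMorphism.ext
    rfl
  unfold tr
  rw [h, op_id, G.map_id]
  rfl

/-- `G.map` depends only on the underlying morphism -/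
theorem map_congr {Y Z : Over S} {k k' : Z ⟶ Y} (h : k.left = k'.left) (x : G.obj (op Y)) :
    G.map k.op x = G.map k'.op x := by
  have : k = k' := Over.OverMorphism.ext h
  rw [this]

theorem map_map {Y Z W : Over S} (k : Z ⟶ Y) (l : W ⟶ Z) (x : G.obj (op Y)) :
    G.map l.op (G.map k.op x) = G.map (l ≫ k).op x := by
  rw [op_comp, G.map_comp]
  rfl

/-- extensionality for pairs -/
theorem sig_ext {X : C} (p q : Σ f : X ⟶ S, G.obj (op (Over.mk f))) (e : p.1 = q.1)
    (h : tr G e p.2 = q.2) : p = q := by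
  obtain ⟨f, x⟩ := p
  obtain ⟨f', y⟩ := q
  dsimp only at e
  subst e
  rw [tr_rfl] at h
  dsimp only at h
  rw [h]

/-- the second components of equal pairs -/
theorem snd_of_eq {X : C} {p q : Σ f : X ⟶ S, G.obj (op (Over.mk f))} (h : p = q) :
    tr G (congrArg Sigma.fst h) p.2 = q.2 := by
  subst h
  exact tr_rfl G _ _

/-- the presheaf on `C` with sections over `X` the pairs of a map `f : X ⟶ S` and a section of
`G` over `f` -/
def sig : Cᵒᵖ ⥤ Type (max v₁ w) where
  obj X := Σ f : X.unop ⟶ S, G.obj (op (Over.mk f))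
  map {X X'} h := TypeCat.ofHom (fun p =>
    ⟨h.unop ≫ p.1, G.map (Over.homMk h.unop rfl : Over.mk (h.unop ≫ p.1) ⟶ Over.mk p.1).op p.2⟩)
  map_id X := by
    apply ConcreteCategory.hom_ext
    intro p
    obtain ⟨f, x⟩ := p
    refine sig_ext G _ _ (Category.id_comp f) ?_
    change G.map (idHom (Category.id_comp f)).op (G.map (Over.homMk (𝟙 X.unop) rfl :
      Over.mk (𝟙 X.unop ≫ f) ⟶ Over.mk f).op x) = x
    rw [map_map]
    have h : idHom (Category.id_comp f) ≫ (Over.homMk (𝟙 X.unop) rfl :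
        Over.mk (𝟙 X.unop ≫ f) ⟶ Over.mk f) = 𝟙 _ := by
      apply Over.OverMorphism.ext
      change 𝟙 _ ≫ 𝟙 _ = 𝟙 _
      rw [Category.id_comp]
    rw [h, op_id, G.map_id]
    rfl
  map_comp {X Y Z} h k := by
    apply ConcreteCategory.hom_ext
    intro p
    obtain ⟨f, x⟩ := p
    refine sig_ext G _ _ (Category.assoc _ _ _) ?_
    change G.map (idHom (Category.assoc k.unop h.unop f)).op
      (G.map (Over.homMk (k.unop ≫ h.unop) rfl :
        Over.mk ((k.unop ≫ h.unop) ≫ f) ⟶ Over.mk f).op x) =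
      G.map (Over.homMk k.unop rfl : Over.mk (k.unop ≫ h.unop ≫ f) ⟶ Over.mk (h.unop ≫ f)).op
        (G.map (Over.homMk h.unop rfl : Over.mk (h.unop ≫ f) ⟶ Over.mk f).op x)
    rw [map_map, map_map]
    apply map_congr
    change 𝟙 _ ≫ (k.unop ≫ h.unop) = k.unop ≫ h.unop
    rw [Category.id_comp]

theorem sig_map_apply {X X' : C} (h : X' ⟶ X) (p : (sig G).obj (op X)) :
    (sig G).map h.op p =
      ⟨h ≫ p.1, G.map (Over.homMk h rfl : Over.mk (h ≫ p.1) ⟶ Over.mk p.1).op p.2⟩ := rfl

/-- a family depends only on the arrow -/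
theorem fam_congr {P : (Over S)ᵒᵖ ⥤ Type w} {Y : Over S} {R : Presieve Y}
    (x : Presieve.FamilyOfElements P R) {Z : Over S} {k k' : Z ⟶ Y} (e : k = k') (hk : R k) :
    x k hk = x k' (e ▸ hk) := by
  subst e
  rfl

/-- `Over.mk Y.hom` is `Y` -/
theorem mk_hom_eq (Y : Over S) : Over.mk Y.hom = Y := rfl

section back
variable {Y : Over S} (T : Sieve Y)

/-- the family for `sig G` attached to a family for `G` -/
def famSig (x : Presieve.FamilyOfElements G T.arrows) :
    Presieve.FamilyOfElements (sig G) (Sieve.overEquiv Y T).arrows :=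
  fun W h hh => ⟨h ≫ Y.hom, x (Over.homMk h rfl : Over.mk (h ≫ Y.hom) ⟶ Y)
    ((Sieve.overEquiv_iff T h).mp hh)⟩

theorem famSig_compatible (x : Presieve.FamilyOfElements G T.arrows) (hx : x.Compatible) :
    (famSig G T x).Compatible := by
  rw [Presieve.compatible_iff_sieveCompatible] at hx ⊢
  intro W W' h l hh
  refine sig_ext G _ _ (Category.assoc _ _ _) ?_
  change G.map (idHom (Category.assoc l h Y.hom)).op
    (x (Over.homMk (l ≫ h) rfl : Over.mk ((l ≫ h) ≫ Y.hom) ⟶ Y) _) =
    G.map (Over.homMk l rfl : Over.mk (l ≫ h ≫ Y.hom) ⟶ Over.mk (h ≫ Y.hom)).op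
      (x (Over.homMk h rfl : Over.mk (h ≫ Y.hom) ⟶ Y) _)
  rw [← hx, ← hx]
  apply fam_congr
  apply Over.OverMorphism.ext
  change 𝟙 _ ≫ (l ≫ h) = l ≫ h
  rw [Category.id_comp]

end back

section back2
variable {Y : Over S} (T : Sieve Y)

/-- the canonical arrow `Z ⟶ Over.mk (k.left ≫ Y.hom)` for `k : Z ⟶ Y` -/
def canHom {Z : Over S} (k : Z ⟶ Y) : Z ⟶ Over.mk (k.left ≫ Y.hom) :=
  Over.homMk (𝟙 Z.left) (by
    change 𝟙 Z.left ≫ (k.left ≫ Y.hom) = Z.hom
    rw [Category.id_comp, Over.w])

/-- the inverse of `canHom` -/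
def canInv {Z : Over S} (k : Z ⟶ Y) : Over.mk (k.left ≫ Y.hom) ⟶ Z :=
  Over.homMk (𝟙 Z.left) (by
    change 𝟙 Z.left ≫ Z.hom = k.left ≫ Y.hom
    rw [Category.id_comp, Over.w])

theorem canInv_comp {Z : Over S} (k : Z ⟶ Y) :
    canInv k ≫ k = (Over.homMk k.left rfl : Over.mk (k.left ≫ Y.hom) ⟶ Y) := by
  apply Over.OverMorphism.ext
  change 𝟙 _ ≫ k.left = k.left
  rw [Category.id_comp]

theorem canHom_comp {Z : Over S} (k : Z ⟶ Y) :
    canHom k ≫ (Over.homMk k.left rfl : Over.mk (k.left ≫ Y.hom) ⟶ Y) = k := by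
  apply Over.OverMorphism.ext
  change 𝟙 _ ≫ k.left = k.left
  rw [Category.id_comp]

/-- sheaf condition for `G` from the sheaf condition for `sig G` -/
theorem isSheafFor_of_sig
    (hF : Presieve.IsSheafFor (sig G) (Sieve.overEquiv Y T).arrows)
    (hS : ∀ g g' : Y.left ⟶ S,
      (∀ ⦃W : C⦄ (h : W ⟶ Y.left), (Sieve.overEquiv Y T) h → h ≫ g = h ≫ g') → g = g') :
    Presieve.IsSheafFor G T.arrows := by
  intro x hx
  have hx' := (Presieve.compatible_iff_sieveCompatible x).mp hx
  obtain ⟨q, hq, hquniq⟩ := hF (famSig G T x) (famSig_compatible G T x hx)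
  obtain ⟨g, y⟩ := q
  -- the first component is the structure map
  have hg : g = Y.hom := by
    apply hS
    intro W h hh
    have h1 := hq h hh
    exact congrArg Sigma.fst h1
  subst hg
  -- amalgamation
  have hy : ∀ ⦃W : C⦄ (h : W ⟶ Y.left) (hh : (Sieve.overEquiv Y T) h),
      G.map (Over.homMk h rfl : Over.mk (h ≫ Y.hom) ⟶ Y).op y =
        x (Over.homMk h rfl : Over.mk (h ≫ Y.hom) ⟶ Y) ((Sieve.overEquiv_iff T h).mp hh) := by
    intro W h hh
    have h1 := snd_of_eq G (hq h hh)
    exact (tr_rfl G _ _).symm.trans h1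
  refine ⟨y, ?_, ?_⟩
  · intro Z k hk
    have hk' : (Sieve.overEquiv Y T) k.left := by
      rw [Sieve.overEquiv_iff, ← canInv_comp]
      exact T.downward_closed hk (canInv k)
    have h1 := hy k.left hk'
    have h2 : G.map k.op y = G.map (canHom k).op
        (G.map (Over.homMk k.left rfl : Over.mk (k.left ≫ Y.hom) ⟶ Y).op y) := by
      rw [map_map, canHom_comp]
    rw [h2, h1, ← hx']
    apply fam_congr
    exact canHom_comp k
  · intro y' hy'
    have h3 : (famSig G T x).IsAmalgamation (⟨Y.hom, y'⟩ : (sig G).obj (op Y.left)) := by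
      intro W h hh
      refine sig_ext G _ _ rfl ?_
      exact (tr_rfl G _ _).trans (hy' _ _)
    have h4 := hquniq _ h3
    have h5 := snd_of_eq G h4
    exact (tr_rfl G _ _).symm.trans h5

end back2

section fwd
variable {X : C} (R : Sieve X)

theorem snd_of_eq' {X : C} {p q : Σ f : X ⟶ S, G.obj (op (Over.mk f))} (h : p = q) :
    p.2 = tr G (congrArg Sigma.fst h).symm q.2 := by
  subst h
  exact (tr_rfl G _ _).symm

/-- sheaf condition for `sig G` from the sheaf conditions for the representable `S` and for `G` -/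
theorem isSheafFor_sig
    (hS : Presieve.IsSheafFor (yoneda.obj S) R.arrows)
    (hG : ∀ g : X ⟶ S, Presieve.IsSheafFor G ((Sieve.overEquiv (Over.mk g)).symm R).arrows) :
    Presieve.IsSheafFor (sig G) R.arrows := by
  intro p hp
  have hp' := (Presieve.compatible_iff_sieveCompatible p).mp hp
  let fam : Presieve.FamilyOfElements (yoneda.obj S) R.arrows := fun W h hh => (p h hh).1
  have hfam : fam.Compatible := by
    rw [Presieve.compatible_iff_sieveCompatible]
    intro W W' h l hh
    exact congrArg Sigma.fst (hp' h l hh)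
  obtain ⟨g, hg, hguniq⟩ := hS fam hfam
  have hg' : ∀ ⦃W : C⦄ (h : W ⟶ X) (hh : R h), h ≫ g = (p h hh).1 := fun W h hh => hg h hh
  have he : ∀ ⦃Z : Over S⦄ (k : Z ⟶ Over.mk g) (hk : R k.left), (p k.left hk).1 = Z.hom := by
    intro Z k hk
    rw [← hg' k.left hk]
    exact Over.w k
  let x : Presieve.FamilyOfElements G ((Sieve.overEquiv (Over.mk g)).symm R).arrows :=
    fun Z k hk => tr G (he k hk) (p k.left hk).2
  have hxc : x.Compatible := by
    rw [Presieve.compatible_iff_sieveCompatible]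
    intro Z Z' k m hk
    have h1 := snd_of_eq' G (hp' k.left m.left hk)
    change tr G (he (m ≫ k) _) (p (m.left ≫ k.left) _).2 = G.map m.op (tr G (he k hk) (p k.left hk).2)
    rw [h1]
    change G.map (idHom _).op (G.map (idHom _).op (G.map (Over.homMk m.left rfl :
      Over.mk (m.left ≫ (p k.left hk).1) ⟶ Over.mk (p k.left hk).1).op (p k.left hk).2)) =
      G.map m.op (G.map (idHom (he k hk)).op (p k.left hk).2)
    rw [map_map, map_map, map_map]
    apply map_congr
    change (𝟙 _ ≫ 𝟙 _) ≫ m.left = m.left ≫ 𝟙 _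
    rw [Category.id_comp, Category.id_comp, Category.comp_id]
  obtain ⟨y, hy, hyuniq⟩ := hG g x hxc
  refine ⟨⟨g, y⟩, ?_, ?_⟩
  · intro W h hh
    have h2 := hy (Over.homMk h rfl : Over.mk (h ≫ g) ⟶ Over.mk g) hh
    refine (sig_ext G (p h hh) _ (hg' h hh).symm ?_).symm
    exact h2.symm
  · intro q' hq'
    obtain ⟨g', y'⟩ := q'
    have hgg : g' = g := by
      apply hguniq
      intro W h hh
      exact congrArg Sigma.fst (hq' h hh)
    subst hgg
    have hy' : x.IsAmalgamation y' := by
      intro Z k hk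
      have h3 := snd_of_eq' G (hq' k.left hk).symm
      change G.map k.op y' = tr G (he k hk) (p k.left hk).2
      rw [h3]
      change G.map k.op y' = G.map (idHom _).op (G.map (idHom _).op (G.map (Over.homMk k.left rfl :
        Over.mk (k.left ≫ g') ⟶ Over.mk g').op y'))
      rw [map_map, map_map]
      apply map_congr
      change k.left = (𝟙 _ ≫ 𝟙 _) ≫ k.left
      rw [Category.id_comp, Category.id_comp]
    rw [hyuniq y' hy']

end fwd

section singleton

/-- the sieve on `Over.mk g` corresponding to the sieve generated by a single map `f` is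
generated by the single map `Over.homMk f` -/
theorem overEquiv_symm_generate_singleton {X Y : C} (f : Y ⟶ X) (g : X ⟶ S) :
    (Sieve.overEquiv (Over.mk g)).symm (Sieve.generate (Presieve.singleton f)) =
      Sieve.generate
        (Presieve.singleton (Over.homMk f rfl : Over.mk (f ≫ g) ⟶ Over.mk g)) := by
  refine le_antisymm (fun Z k hk => ?_) ?_
  · rw [Sieve.overEquiv_symm_iff] at hk
    obtain ⟨W, p, q, hq, hpq⟩ := hk
    cases hq
    refine ⟨Over.mk (f ≫ g), Over.homMk p ?_, Over.homMk f rfl, Presieve.singleton.mk, ?_⟩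
    · have := Over.w k
      dsimp at this ⊢
      rw [← this, ← hpq, Category.assoc]
    · ext
      exact hpq
  · rw [Sieve.generate_le_iff]
    intro Z k hk
    cases hk
    rw [Sieve.overEquiv_symm_iff]
    exact Sieve.le_generate _ _ _ Presieve.singleton.mk

end singleton

end Groth.Agent.Lib.Helper14.SigSheaf
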