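import Mathlib
import Groth.Prelude.Def_HilbD

/-!
# helper14: base change of closed subschemes of `X_T` (towards separatedness of `Hilb^d`)
-/

set_option autoImplicit false
universe u
open CategoryTheory CategoryTheory.Limits AlgebraicGeometry

namespace Groth.Agent.Lib.Helper14.HilbSep

variable {X S : Scheme.{u}} (f : X ⟶ S)

lemma XTmap_fst {T T' : Over S} (g : T' ⟶ T) :
    PicF.XTmap f g ≫ pullback.fst f T.hom = pullback.fst f T'.hom := by
  unfold PicF.XTmap
  rw [pullback.lift_fst, Category.comp_id]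

lemma XTmap_snd {T T' : Over S} (g : T' ⟶ T) :
    PicF.XTmap f g ≫ pullback.snd f T.hom = pullback.snd f T'.hom ≫ g.left := by
  unfold PicF.XTmap
  rw [pullback.lift_snd]

lemma XTmap_comp {T T' T'' : Over S} (t : T'' ⟶ T') (g : T' ⟶ T) :
    PicF.XTmap f (t ≫ g) = PicF.XTmap f t ≫ PicF.XTmap f g := by
  apply pullback.hom_ext
  · rw [XTmap_fst, Category.assoc, XTmap_fst, XTmap_fst]
  · rw [XTmap_snd, Category.assoc, XTmap_snd, ← Category.assoc, XTmap_snd, Category.assoc]
    rfl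

/-- `X_{T'} = X_T ×_T T'` -/
lemma isPullback_XTmap {T T' : Over S} (g : T' ⟶ T) :
    IsPullback (PicF.XTmap f g) (PicF.XTproj f T') (PicF.XTproj f T) g.left := by
  have right : IsPullback (pullback.fst f T.hom) (pullback.snd f T.hom) f T.hom :=
    IsPullback.of_hasPullback _ _
  have big : IsPullback (PicF.XTmap f g ≫ pullback.fst f T.hom) (pullback.snd f T'.hom) f
      (g.left ≫ T.hom) := by
    rw [XTmap_fst, Over.w g]
    exact IsPullback.of_hasPullback _ _
  exact IsPullback.of_right big (XTmap_snd f g) right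

/-- the base change of a closed subscheme `Z ⊆ X_T` along `g`, as a scheme -/
noncomputable abbrev bcZ {T T' : Over S} (g : T' ⟶ T) (I : (PicF.XT f T).IdealSheafData) :
    Scheme.{u} := pullback I.subschemeι (PicF.XTmap f g)

/-- its closed immersion into `X_{T'}` -/
noncomputable abbrev bcι {T T' : Over S} (g : T' ⟶ T) (I : (PicF.XT f T).IdealSheafData) :
    bcZ f g I ⟶ PicF.XT f T' := pullback.snd I.subschemeι (PicF.XTmap f g)

lemma pull_eq_ker {T T' : Over S} (g : T' ⟶ T) (I : (PicF.XT f T).IdealSheafData) :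
    HilbD.pull f g I = (bcι f g I).ker := rfl

/-- `Z_{T'} = Z ×_T T'` -/
lemma isPullback_bcZ {T T' : Over S} (g : T' ⟶ T) (I : (PicF.XT f T).IdealSheafData) :
    IsPullback (pullback.fst I.subschemeι (PicF.XTmap f g)) (bcι f g I ≫ PicF.XTproj f T')
      (I.subschemeι ≫ PicF.XTproj f T) g.left :=
  (IsPullback.of_hasPullback I.subschemeι (PicF.XTmap f g)).paste_vert (isPullback_XTmap f g)

/-- equality of kernels of closed immersions is mutual factorization -/
lemma ker_eq_iff {A₁ A₂ B : Scheme.{u}} (c₁ : A₁ ⟶ B) (c₂ : A₂ ⟶ B) [IsClosedImmersion c₁]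
    [IsClosedImmersion c₂] :
    c₁.ker = c₂.ker ↔ (∃ a : A₁ ⟶ A₂, a ≫ c₂ = c₁) ∧ (∃ b : A₂ ⟶ A₁, b ≫ c₁ = c₂) := by
  constructor
  · intro h
    exact ⟨⟨IsClosedImmersion.lift c₂ c₁ h.ge, IsClosedImmersion.lift_fac _ _ _⟩,
      ⟨IsClosedImmersion.lift c₁ c₂ h.le, IsClosedImmersion.lift_fac _ _ _⟩⟩
  · rintro ⟨⟨a, ha⟩, ⟨b, hb⟩⟩
    apply le_antisymm
    · rw [← hb]; exact Scheme.Hom.le_ker_comp _ _
    · rw [← ha]; exact Scheme.Hom.le_ker_comp _ _

/-- factorization through the base-changed subscheme -/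
lemma factors_bcι_iff {T T' : Over S} (g : T' ⟶ T) (I : (PicF.XT f T).IdealSheafData)
    {A : Scheme.{u}} (a : A ⟶ PicF.XT f T') :
    (∃ l : A ⟶ bcZ f g I, l ≫ bcι f g I = a) ↔
      ∃ e : A ⟶ I.subscheme, e ≫ I.subschemeι = a ≫ PicF.XTmap f g := by
  constructor
  · rintro ⟨l, rfl⟩
    exact ⟨l ≫ pullback.fst _ _, by rw [Category.assoc, pullback.condition, Category.assoc]⟩
  · rintro ⟨e, he⟩
    exact ⟨pullback.lift e a he, pullback.lift_snd _ _ _⟩

end Groth.Agent.Lib.Helper14.HilbSep
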