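import Mathlib
import Groth.Prelude.Def_ega3

/-!
# helper14: `h^0(O) = 1` for an integral proper scheme over a field with a rational point
-/

set_option autoImplicit false
universe u

open CategoryTheory CategoryTheory.Limits AlgebraicGeometry

namespace Groth.Agent.Lib.Helper14.UnivPushField

variable (k : Type u) [Field k]

theorem bijective_appTop_of_section {X : Scheme.{u}} (f : X ⟶ Spec (CommRingCat.of k))
    [IsIntegral X] [UniversallyClosed f] (σ : Spec (CommRingCat.of k) ⟶ X)
    (hσ : σ ≫ f = 𝟙 (Spec (CommRingCat.of k))) : Function.Bijective f.appTop.hom := by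
  have hF : IsField Γ(X, ⊤) := isField_of_universallyClosed k f
  have hcomp : ∀ b, σ.appTop.hom (f.appTop.hom b) = b := by
    intro b
    have h1 : f.appTop ≫ σ.appTop = 𝟙 _ := by
      rw [← Scheme.Hom.comp_appTop, hσ]
      rfl
    have := congrArg (fun φ => φ.hom b) h1
    simpa using this
  have hinj : Function.Injective σ.appTop.hom := by
    letI := hF.toField
    exact RingHom.injective _
  refine ⟨Function.LeftInverse.injective hcomp, fun a => ⟨σ.appTop.hom a, hinj ?_⟩⟩
  rw [hcomp]

theorem isIso_fromSpecResidueField (y : Spec (CommRingCat.of k)) :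
    IsIso ((Spec (CommRingCat.of k)).fromSpecResidueField y) := by
  rw [← Scheme.Spec.map_residueFieldIso_inv_eq_fromSpecResidueField]
  have hbot : y.asIdeal = ⊥ := (Ideal.eq_bot_or_top _).resolve_right y.2.ne_top
  haveI : y.asIdeal.IsMaximal := by rw [hbot]; exact Ideal.bot_isMaximal
  have hb : Function.Bijective (algebraMap (CommRingCat.of k) y.asIdeal.ResidueField) :=
    ⟨RingHom.injective _, y.asIdeal.algebraMap_residueField_surjective⟩
  haveI : IsIso (CommRingCat.ofHom (algebraMap (CommRingCat.of k) y.asIdeal.ResidueField)) :=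
    (ConcreteCategory.isIso_iff_bijective _).mpr hb
  infer_instance

theorem finrank_fiber_eq_one {X : Scheme.{u}} (f : X ⟶ Spec (CommRingCat.of k))
    [IsIntegral X] [UniversallyClosed f] (σ : Spec (CommRingCat.of k) ⟶ X)
    (hσ : σ ≫ f = 𝟙 (Spec (CommRingCat.of k))) (y : Spec (CommRingCat.of k)) :
    Module.finrank ((Spec (CommRingCat.of k)).residueField y) Γ(f.fiber y, ⊤) = 1 := by
  haveI := isIso_fromSpecResidueField k y
  haveI : IsIso f.appTop :=
    (ConcreteCategory.isIso_iff_bijective _).mpr (bijective_appTop_of_section k f σ hσ)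
  have hfac : f.fiberToSpecResidueField y =
      f.fiberι y ≫ f ≫ inv ((Spec (CommRingCat.of k)).fromSpecResidueField y) := by
    rw [← Category.assoc, IsIso.eq_comp_inv]
    exact (f.fiber_fac y).symm
  haveI : IsIso (f.fiberι y) :=
    (IsPullback.of_hasPullback f ((Spec (CommRingCat.of k)).fromSpecResidueField y)).isIso_fst_of_isIso
  have hI : ∀ {A B : Scheme.{u}} (g : A ⟶ B) [IsIso g], IsIso g.appTop :=
    fun g _ => inferInstanceAs (IsIso (g.app ⊤))
  haveI := hI (f.fiberι y)
  haveI := hI (inv ((Spec (CommRingCat.of k)).fromSpecResidueField y))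
  have h2 : IsIso (f.fiberToSpecResidueField y).appTop := by
    rw [hfac, Scheme.Hom.comp_appTop, Scheme.Hom.comp_appTop]
    infer_instance
  have hb : Function.Bijective (algebraMap ((Spec (CommRingCat.of k)).residueField y)
      Γ(f.fiber y, ⊤)) := by
    show Function.Bijective ((f.fiberToSpecResidueField y).appTop.hom.comp
      (Scheme.ΓSpecIso ((Spec (CommRingCat.of k)).residueField y)).inv.hom)
    rw [RingHom.coe_comp]
    exact (ConcreteCategory.bijective_of_isIso (f.fiberToSpecResidueField y).appTop).comp
      (ConcreteCategory.bijective_of_isIso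
        (Scheme.ΓSpecIso ((Spec (CommRingCat.of k)).residueField y)).inv)
  exact Algebra.finrank_eq_one_iff_bijective_algebraMap.mpr hb

end Groth.Agent.Lib.Helper14.UnivPushField
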