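import Mathlib
import Groth.Agent.Lib.Helper22.FlatSrc

/-!
# helper14: a homomorphism of group schemes which is flat on an open `U ⟶ G` with `U ⟶ S`
flat and surjective is flat (translation trick, no points needed)
-/

set_option autoImplicit false
universe u
open CategoryTheory MonoidalCategory CartesianMonoidalCategory MonObj GrpObj AlgebraicGeometry
  CategoryTheory.Limits

namespace Groth.Agent.Lib.Helper14.HomFlat

variable {S : Scheme.{u}} {G H : Over S} [GrpObj G] [GrpObj H]

/-- the shear automorphism `(g, u) ↦ (g * j u, u)` of `G ⊗ U` -/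
noncomputable def shear {U : Over S} (j : U ⟶ G) : G ⊗ U ≅ G ⊗ U where
  hom := lift (fst G U * (snd G U ≫ j)) (snd G U)
  inv := lift (fst G U * (snd G U ≫ j)⁻¹) (snd G U)
  hom_inv_id := by
    apply CartesianMonoidalCategory.hom_ext
    · rw [Category.assoc, lift_fst, MonObj.comp_mul, lift_fst, GrpObj.comp_inv, ← Category.assoc,
        lift_snd, Category.id_comp, mul_inv_cancel_right]
    · rw [Category.assoc, lift_snd, lift_snd, Category.id_comp]
  inv_hom_id := by
    apply CartesianMonoidalCategory.hom_ext
    · rw [Category.assoc, lift_fst, MonObj.comp_mul, lift_fst, ← Category.assoc,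
        lift_snd, Category.id_comp, inv_mul_cancel_right]
    · rw [Category.assoc, lift_snd, lift_snd, Category.id_comp]

/-- the shear automorphism `(g, h) ↦ (g, f g * h)` of `G ⊗ H` -/
noncomputable def shear' (f : G ⟶ H) : G ⊗ H ≅ G ⊗ H where
  hom := lift (fst G H) ((fst G H ≫ f) * snd G H)
  inv := lift (fst G H) ((fst G H ≫ f)⁻¹ * snd G H)
  hom_inv_id := by
    apply CartesianMonoidalCategory.hom_ext
    · rw [Category.assoc, lift_fst, lift_fst, Category.id_comp]
    · rw [Category.assoc, lift_snd, MonObj.comp_mul, lift_snd, GrpObj.comp_inv, ← Category.assoc,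
        lift_fst, Category.id_comp, inv_mul_cancel_left]
  inv_hom_id := by
    apply CartesianMonoidalCategory.hom_ext
    · rw [Category.assoc, lift_fst, lift_fst, Category.id_comp]
    · rw [Category.assoc, lift_snd, MonObj.comp_mul, lift_snd, ← Category.assoc,
        lift_fst, Category.id_comp, mul_inv_cancel_left]

theorem shear_hom_fst {U : Over S} (j : U ⟶ G) :
    (shear j).hom ≫ fst G U = (G ◁ j) ≫ μ[G] := by
  change lift (fst G U * (snd G U ≫ j)) (snd G U) ≫ fst G U = _
  rw [lift_fst, Hom.mul_def]
  congr 1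

theorem mul_comp_hom {U : Over S} (j : U ⟶ G) (f : G ⟶ H) [IsMonHom f] :
    ((G ◁ j) ≫ μ[G]) ≫ f = (G ◁ (j ≫ f)) ≫ (shear' f).hom ≫ snd G H := by
  change _ = (G ◁ (j ≫ f)) ≫ lift (fst G H) ((fst G H ≫ f) * snd G H) ≫ snd G H
  rw [lift_snd, MonObj.comp_mul, ← Category.assoc, whiskerLeft_fst, whiskerLeft_snd,
    ← shear_hom_fst]
  change (lift (fst G U * (snd G U ≫ j)) (snd G U) ≫ fst G U) ≫ f = _
  rw [lift_fst, MonObj.mul_comp, Category.assoc]

theorem flat_whiskerLeft_left {A B C : Over S} (g : B ⟶ C) [Flat g.left] :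
    Flat (A ◁ g).left := by
  rw [Over.whiskerLeft_left]
  exact MorphismProperty.pullbackMap (P := @Flat) (i₁ := 𝟙 A.left) (i₂ := g.left)
    (inferInstanceAs (Flat (𝟙 A.left))) (inferInstanceAs (Flat g.left))
    (Category.id_comp _).symm (Over.w g).symm

/-- **Translation trick**: a homomorphism `f : G ⟶ H` of group schemes over `S` (with `G` flat
over `S`) which becomes flat after composition with some `j : U ⟶ G`, `U` flat and surjective
over `S`, is flat. -/
theorem flat_of_flat_comp {U : Over S} (j : U ⟶ G) (f : G ⟶ H) [IsMonHom f]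
    [Flat G.hom] [Flat U.hom] [Surjective U.hom] [Flat (j ≫ f).left] : Flat f.left := by
  have hfst : Flat (fst G U).left := by
    change Flat (pullback.fst G.hom U.hom); infer_instance
  have hfsts : Surjective (fst G U).left := by
    change Surjective (pullback.fst G.hom U.hom); infer_instance
  have hsnd : Flat (snd G H).left := by
    change Flat (pullback.snd G.hom H.hom); infer_instance
  have hiso1 : IsIso (shear j).hom.left := inferInstance
  have hiso2 : IsIso (shear' f).hom.left := inferInstance
  have hm : ((G ◁ j) ≫ μ[G]).left = (shear j).hom.left ≫ (fst G U).left := by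
    rw [← Over.comp_left, shear_hom_fst]
  have hmflat : Flat ((G ◁ j) ≫ μ[G]).left := by rw [hm]; infer_instance
  have hmsurj : Surjective ((G ◁ j) ≫ μ[G]).left := by rw [hm]; infer_instance
  have hw : Flat (G ◁ (j ≫ f)).left := flat_whiskerLeft_left _
  have hcomp : ((G ◁ j) ≫ μ[G]).left ≫ f.left =
      (G ◁ (j ≫ f)).left ≫ (shear' f).hom.left ≫ (snd G H).left := by
    rw [← Over.comp_left, mul_comp_hom, Over.comp_left, Over.comp_left]
  have hcf : Flat (((G ◁ j) ≫ μ[G]).left ≫ f.left) := by rw [hcomp]; infer_instance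
  exact Groth.Agent.Lib.helper22.flat_of_flat_comp ((G ◁ j) ≫ μ[G]).left f.left

end Groth.Agent.Lib.Helper14.HomFlat
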