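import Mathlib
import Groth.Agent.Lib.Helper14.HomFlat1
import Groth.Agent.Lib.Helper3.FlatDescI

/-!
# helper14: a homomorphism of locally algebraic groups over a field onto a reduced group, whose
image contains a maximal point of the target, is flat
-/

set_option autoImplicit false
universe u
open CategoryTheory MonoidalCategory CartesianMonoidalCategory MonObj GrpObj AlgebraicGeometry
  CategoryTheory.Limits

namespace Groth.Agent.Lib.Helper14.HomFlat

/-- the stalk of a reduced scheme at a point without proper generizations is a field -/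
theorem isField_stalk_of_maximal {Y : Scheme.{u}} [IsReduced Y] (y : Y)
    (hy : ∀ y' : Y, y' ⤳ y → y' = y) : IsField (Y.presheaf.stalk y) := by
  rw [IsLocalRing.isField_iff_maximalIdeal_eq]
  have hprime : ∀ p : PrimeSpectrum (Y.presheaf.stalk y),
      p = IsLocalRing.closedPoint (Y.presheaf.stalk y) := by
    intro p
    have h1 : Y.fromSpecStalk y p ∈ Set.range (Y.fromSpecStalk y) := ⟨p, rfl⟩
    rw [Scheme.range_fromSpecStalk] at h1
    have h2 : Y.fromSpecStalk y p = y := hy _ h1
    have h3 : Y.fromSpecStalk y p =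
        Y.fromSpecStalk y (IsLocalRing.closedPoint (Y.presheaf.stalk y)) := by
      rw [h2, Scheme.fromSpecStalk_closedPoint]
    exact (Y.fromSpecStalk y).isEmbedding.injective h3
  have hnil : nilradical (Y.presheaf.stalk y) = ⊥ := nilradical_eq_zero _
  rw [← hnil, nilradical_eq_sInf]
  apply le_antisymm
  · apply le_sInf
    intro J hJ
    have := hprime ⟨J, hJ⟩
    have h4 : J = IsLocalRing.maximalIdeal (Y.presheaf.stalk y) :=
      congrArg PrimeSpectrum.asIdeal this
    rw [h4]
  · exact sInf_le (IsLocalRing.maximalIdeal.isMaximal _).isPrime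

/-- a morphism to a reduced scheme is flat at points over maximal points -/
theorem flat_stalkMap_of_maximal {X Y : Scheme.{u}} [IsReduced Y] (f : X ⟶ Y) (x : X)
    (hy : ∀ y' : Y, y' ⤳ f x → y' = f x) : (f.stalkMap x).hom.Flat :=
  RingHom.Flat.of_isField (isField_stalk_of_maximal (f x) hy) _

/-- every nonempty scheme has a point without proper generizations -/
theorem exists_maximal_point (Y : Scheme.{u}) [Nonempty Y] :
    ∃ y : Y, ∀ y' : Y, y' ⤳ y → y' = y := by
  obtain ⟨y₀⟩ := ‹Nonempty Y›
  have hirr : IsIrreducible (irreducibleComponent y₀) := isIrreducible_irreducibleComponent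
  have hcl : IsClosed (irreducibleComponent y₀) := isClosed_irreducibleComponent
  obtain ⟨z, hz⟩ := QuasiSober.sober hirr hcl
  refine ⟨z, fun y' hy' => ?_⟩
  have hzc : closure {z} = irreducibleComponent y₀ := hz.def
  have h0 : z ∈ closure {y'} := specializes_iff_mem_closure.mp hy'
  have h1 : irreducibleComponent y₀ ⊆ closure {y'} := by
    rw [← hzc]
    exact closure_minimal (Set.singleton_subset_iff.mpr h0) isClosed_closure
  have h2 : closure {y'} = irreducibleComponent y₀ :=
    eq_irreducibleComponent isPreirreducible_singleton.closure h1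
  have h3 : y' ∈ closure {z} := by
    rw [hzc, ← h2]
    exact subset_closure rfl
  exact (hy'.antisymm (specializes_iff_mem_closure.mpr h3)).eq

/-- the flat locus of a morphism locally of finite presentation is an open subscheme on which the
morphism is flat -/
theorem exists_flatLocus {X Y : Scheme.{u}} (f : X ⟶ Y) [LocallyOfFinitePresentation f] :
    ∃ U : X.Opens, (∀ x, x ∈ U ↔ (f.stalkMap x).hom.Flat) ∧ Flat (U.ι ≫ f) := by
  refine ⟨⟨{x : X | (f.stalkMap x).hom.Flat},
    Groth.Agent.Lib.helper3.FlatDesc.isOpen_flatLocus_of_locallyOfFinitePresentation f⟩,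
    fun x => Iff.rfl, ?_⟩
  rw [Flat.iff_flat_stalkMap]
  intro u
  rw [Scheme.Hom.stalkMap_comp]
  have h1 : (f.stalkMap (Scheme.Opens.ι _ u)).hom.Flat := u.2
  have h2 : ((Scheme.Opens.ι (⟨{x : X | (f.stalkMap x).hom.Flat},
    Groth.Agent.Lib.helper3.FlatDesc.isOpen_flatLocus_of_locallyOfFinitePresentation f⟩ :
      X.Opens)).stalkMap u).hom.Flat := Flat.stalkMap _ u
  exact RingHom.Flat.comp h1 h2

theorem surjective_of_nonempty_field {k : Type u} [Field k] {W : Scheme.{u}} [Nonempty W]
    (g : W ⟶ Spec (CommRingCat.of k)) : Surjective g := by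
  refine ⟨fun y => ?_⟩
  obtain ⟨w⟩ := ‹Nonempty W›
  exact ⟨w, Subsingleton.elim _ _⟩

/-- **A homomorphism of locally algebraic groups over a field, with reduced target, whose image
contains a point without proper generizations, is flat.** -/
theorem flat_of_maximal_point {k : Type u} [Field k] {G H : Over (Spec (CommRingCat.of k))}
    [GrpObj G] [GrpObj H] [LocallyOfFiniteType G.hom] [LocallyOfFiniteType H.hom]
    [IsReduced H.left] (f : G ⟶ H) [IsMonHom f] (x : G.left)
    (hx : ∀ y' : H.left, y' ⤳ f.left x → y' = f.left x) : Flat f.left := by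
  haveI : IsLocallyNoetherian H.left := LocallyOfFiniteType.isLocallyNoetherian H.hom
  haveI : LocallyOfFiniteType f.left := by
    have h1 : LocallyOfFiniteType (f.left ≫ H.hom) := by rw [Over.w f]; infer_instance
    exact locallyOfFiniteType_of_comp f.left H.hom
  obtain ⟨U, hU, hUflat⟩ := exists_flatLocus f.left
  have hxU : x ∈ U := (hU x).mpr (flat_stalkMap_of_maximal f.left x hx)
  haveI : Nonempty U := ⟨⟨x, hxU⟩⟩
  let Uo : Over (Spec (CommRingCat.of k)) := Over.mk (U.ι ≫ G.hom)
  let j : Uo ⟶ G := Over.homMk U.ι rfl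
  haveI : Flat G.hom := inferInstance
  haveI : Flat Uo.hom := inferInstanceAs (Flat (U.ι ≫ G.hom))
  haveI : Surjective Uo.hom := surjective_of_nonempty_field (W := U) (U.ι ≫ G.hom)
  haveI : Flat (j ≫ f).left := by
    rw [Over.comp_left]
    exact hUflat
  exact flat_of_flat_comp j f

/-- surjective version -/
theorem flat_of_surjective {k : Type u} [Field k] {G H : Over (Spec (CommRingCat.of k))}
    [GrpObj G] [GrpObj H] [LocallyOfFiniteType G.hom] [LocallyOfFiniteType H.hom]
    [IsReduced H.left] (f : G ⟶ H) [IsMonHom f] [Surjective f.left] : Flat f.left := by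
  haveI : Nonempty H.left := ⟨η[H].left (IsLocalRing.closedPoint k)⟩
  obtain ⟨y, hy⟩ := exists_maximal_point H.left
  obtain ⟨x, rfl⟩ := f.left.surjective y
  exact flat_of_maximal_point f x hy

end Groth.Agent.Lib.Helper14.HomFlat
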