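import Mathlib

set_option autoImplicit false
universe u
open CategoryTheory AlgebraicGeometry

namespace Groth.Agent.Lib.Helper14.DualNumUnram

/-- Nakayama: a nonzero finitely generated module has a maximal ideal `m` with `mM ≠ M` -/
theorem exists_maximal_smul_top_ne_top {A : Type*} [CommRing A] (M : Type*) [AddCommGroup M]
    [Module A M] [Module.Finite A M] [Nontrivial M] :
    ∃ m : Ideal A, m.IsMaximal ∧ (m • (⊤ : Submodule A M)) ≠ ⊤ := by
  have hann : Module.annihilator A M ≠ ⊤ := by
    rw [Ne, Module.annihilator_eq_top_iff]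
    exact not_subsingleton M
  obtain ⟨m, hm, hle⟩ := Ideal.exists_le_maximal _ hann
  refine ⟨m, hm, fun htop => ?_⟩
  obtain ⟨r, hr1, hr⟩ := Submodule.exists_sub_one_mem_and_smul_eq_zero_of_fg_of_le_smul m
    (⊤ : Submodule A M) Module.Finite.fg_top (by rw [htop])
  have hrann : r ∈ Module.annihilator A M := by
    rw [Module.mem_annihilator]
    intro x
    exact hr x trivial
  have h1 : (1 : A) ∈ m := by
    have := m.sub_mem (hle hrann) hr1
    simpa using this
  exact hm.ne_top ((Ideal.eq_top_iff_one _).mpr h1)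

variable (k : Type u) [Field k] [IsAlgClosed k] (A : Type u) [CommRing A] [Algebra k A]

/-- a maximal ideal of a finite type algebra over an algebraically closed field is the kernel of a
`k`-point -/
theorem exists_algHom_sub_mem [Algebra.FiniteType k A] (m : Ideal A) [m.IsMaximal] :
    ∃ φ : A →ₐ[k] k, ∀ a, a - algebraMap k A (φ a) ∈ m := by
  letI : Field (A ⧸ m) := Ideal.Quotient.field m
  haveI : Algebra.FiniteType k (A ⧸ m) :=
    .of_surjective (Ideal.Quotient.mkₐ k m) (Ideal.Quotient.mkₐ_surjective k m)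
  haveI : Module.Finite k (A ⧸ m) := finite_of_finite_type_of_isJacobsonRing k (A ⧸ m)
  have hbij : Function.Bijective (algebraMap k (A ⧸ m)) :=
    IsAlgClosed.algebraMap_bijective_of_isIntegral
  let e : k ≃ₐ[k] (A ⧸ m) := AlgEquiv.ofBijective (Algebra.ofId k (A ⧸ m)) hbij
  refine ⟨(e.symm : (A ⧸ m) →ₐ[k] k).comp (Ideal.Quotient.mkₐ k m), fun a => ?_⟩
  rw [← Ideal.Quotient.eq_zero_iff_mem, map_sub, sub_eq_zero]
  have h1 : Ideal.Quotient.mk m (algebraMap k A (((e.symm : (A ⧸ m) →ₐ[k] k).comp
      (Ideal.Quotient.mkₐ k m)) a)) = e (e.symm (Ideal.Quotient.mk m a)) := rfl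
  rw [h1, AlgEquiv.apply_symm_apply]

omit [IsAlgClosed k] in
/-- **ring-level core, general field**: if every maximal ideal of the finite type `k`-algebra `A`
is the kernel of a `k`-point and `k[ε]`-points of `A` are determined by the
underlying `k`-points, then `A` is formally unramified. -/
theorem formallyUnramified_of_dualNumber' [Algebra.FiniteType k A]
    (hpt : ∀ m : Ideal A, m.IsMaximal → ∃ φ : A →ₐ[k] k, ∀ a, a - algebraMap k A (φ a) ∈ m)
    (H : ∀ f g : A →ₐ[k] DualNumber k,
      (TrivSqZeroExt.fstHom k k k).comp f = (TrivSqZeroExt.fstHom k k k).comp g → f = g) :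
    Algebra.FormallyUnramified k A := by
  rw [Algebra.formallyUnramified_iff]
  by_contra hne
  haveI : Nontrivial Ω[A⁄k] := not_subsingleton_iff_nontrivial.mp hne
  obtain ⟨m, hm, hmtop⟩ := exists_maximal_smul_top_ne_top (A := A) Ω[A⁄k]
  obtain ⟨φ, hφ⟩ := hpt m hm
  set N : Submodule A Ω[A⁄k] := m • ⊤ with hN
  haveI : Nontrivial (Ω[A⁄k] ⧸ N) :=
    Submodule.Quotient.nontrivial_iff.mpr hmtop
  obtain ⟨q, hq⟩ := exists_ne (0 : Ω[A⁄k] ⧸ N)
  obtain ⟨ℓ, hℓ⟩ := Module.Projective.exists_dual_ne_zero k hq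
  let L : Ω[A⁄k] →ₗ[k] k := ℓ.comp (N.mkQ.restrictScalars k)
  have hLdef : ∀ w, L w = ℓ (N.mkQ w) := fun _ => rfl
  have hL : ∀ (a : A) (w : Ω[A⁄k]), L (a • w) = φ a * L w := by
    intro a w
    have h1 : a • w = (a - algebraMap k A (φ a)) • w + (φ a) • w := by
      rw [sub_smul, algebraMap_smul]; abel
    have h2 : N.mkQ ((a - algebraMap k A (φ a)) • w) = 0 := by
      rw [Submodule.mkQ_apply, Submodule.Quotient.mk_eq_zero]
      exact Submodule.smul_mem_smul (hφ a) Submodule.mem_top
    rw [h1, map_add, hLdef ((a - algebraMap k A (φ a)) • w), h2, map_zero, zero_add,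
      LinearMap.map_smul, smul_eq_mul]
  let d : A →ₗ[k] k := L.comp (KaehlerDifferential.D k A).toLinearMap
  have hddef : ∀ a, d a = L (KaehlerDifferential.D k A a) := fun _ => rfl
  have hd_mul : ∀ a b, d (a * b) = φ a * d b + φ b * d a := by
    intro a b
    rw [hddef, Derivation.leibniz, map_add, hL, hL]; rfl
  have hd_one : d 1 = 0 := by
    rw [hddef, Derivation.map_one_eq_zero, map_zero]
  let f₁ : A →ₐ[k] DualNumber k := AlgHom.ofLinearMap
    ((Algebra.linearMap k (DualNumber k)).comp φ.toLinearMap + (TrivSqZeroExt.inrHom k k).comp d)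
    (by
      ext
      · simp [TrivSqZeroExt.algebraMap_eq_inl]
      · simp [hd_one, TrivSqZeroExt.algebraMap_eq_inl])
    (by
      intro a b
      ext
      · simp [TrivSqZeroExt.algebraMap_eq_inl]
      · simp [hd_mul, TrivSqZeroExt.algebraMap_eq_inl]; ring)
  let f₂ : A →ₐ[k] DualNumber k := (Algebra.ofId k (DualNumber k)).comp φ
  have h12 : (TrivSqZeroExt.fstHom k k k).comp f₁ = (TrivSqZeroExt.fstHom k k k).comp f₂ := by
    ext a
    simp [f₁, f₂, TrivSqZeroExt.algebraMap_eq_inl]
  have hEq := H f₁ f₂ h12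
  have hd0 : ∀ a, d a = 0 := by
    intro a
    have := congrArg TrivSqZeroExt.snd (DFunLike.congr_fun hEq a)
    simpa [f₁, f₂, TrivSqZeroExt.algebraMap_eq_inl] using this
  have hL0 : ∀ w, L w = 0 := by
    intro w
    have hw : w ∈ Submodule.span A (Set.range (KaehlerDifferential.D k A)) := by
      rw [KaehlerDifferential.span_range_derivation]; trivial
    induction hw using Submodule.span_induction with
    | mem x hx => obtain ⟨a, rfl⟩ := hx; exact hd0 a
    | zero => simp
    | add x y _ _ hx hy => rw [map_add, hx, hy, add_zero]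
    | smul a x _ hx => rw [hL, hx, mul_zero]
  apply hℓ
  obtain ⟨w, rfl⟩ := N.mkQ_surjective q
  exact hL0 w

/-- **ring-level core**: if `k[ε]`-points of a finite type `k`-algebra are determined by the
underlying `k`-points, it is formally unramified (`k` algebraically closed). -/
theorem formallyUnramified_of_dualNumber [Algebra.FiniteType k A]
    (H : ∀ f g : A →ₐ[k] DualNumber k,
      (TrivSqZeroExt.fstHom k k k).comp f = (TrivSqZeroExt.fstHom k k k).comp g → f = g) :
    Algebra.FormallyUnramified k A :=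
  formallyUnramified_of_dualNumber' k A (fun m _ => exists_algHom_sub_mem k A m) H

/-- the kernel ideal sheaf of `Spec` of a surjection with nilpotent kernel is nilpotent -/
theorem isNilpotent_ker_SpecMap {R S : CommRingCat.{u}} (ψ : R ⟶ S)
    (hs : Function.Surjective ψ.hom) (h : IsNilpotent (RingHom.ker ψ.hom)) :
    IsNilpotent (Spec.map ψ).ker := by
  haveI : IsClosedImmersion (Spec.map ψ) := IsClosedImmersion.spec_of_surjective ψ hs
  obtain ⟨n, hn⟩ := h
  refine ⟨n, ?_⟩
  apply Scheme.IdealSheafData.ext_of_isAffine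
  have key : RingHom.ker ((Spec.map ψ).app ⊤).hom =
      (RingHom.ker ψ.hom).comap (Scheme.ΓSpecIso R).hom.hom := by
    ext x
    rw [RingHom.mem_ker, Ideal.mem_comap, RingHom.mem_ker]
    have h1 := congr($(Scheme.ΓSpecIso_naturality ψ) x)
    simp only [CommRingCat.comp_apply] at h1
    rw [← h1]
    exact (map_eq_zero_iff _
      (ConcreteCategory.bijective_of_isIso (Scheme.ΓSpecIso S).hom).1).symm
  rw [Scheme.IdealSheafData.ideal_pow, Pi.pow_apply, Scheme.Hom.ker_apply, key]
  refine le_antisymm ((Ideal.le_comap_pow _ n).trans ?_) ?_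
  · rw [hn]
    intro x hx
    rw [Ideal.mem_comap, Ideal.zero_eq_bot, Ideal.mem_bot] at hx
    have hx0 : x = 0 := (map_eq_zero_iff _
      (ConcreteCategory.bijective_of_isIso (Scheme.ΓSpecIso R).hom).1).mp hx
    rw [hx0]
    exact Ideal.zero_mem _
  · simp

/-- affine case of the dual number criterion -/
theorem formallyUnramified_Spec_of_dualNumber {A : CommRingCat.{u}}
    (f : Spec A ⟶ Spec (CommRingCat.of k)) [LocallyOfFiniteType f]
    (H : ∀ v₁ v₂ : Spec (CommRingCat.of (DualNumber k)) ⟶ Spec A,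
      v₁ ≫ f = Spec.map (CommRingCat.ofHom (algebraMap k (DualNumber k))) →
      v₂ ≫ f = Spec.map (CommRingCat.ofHom (algebraMap k (DualNumber k))) →
      Spec.map (CommRingCat.ofHom (TrivSqZeroExt.fstHom k k k).toRingHom) ≫ v₁ =
        Spec.map (CommRingCat.ofHom (TrivSqZeroExt.fstHom k k k).toRingHom) ≫ v₂ →
      v₁ = v₂) :
    FormallyUnramified f := by
  obtain ⟨ψ, rfl⟩ := Spec.map_surjective f
  rw [HasRingHomProperty.Spec_iff (P := @FormallyUnramified)]
  have hft : ψ.hom.FiniteType :=
    (HasRingHomProperty.Spec_iff (P := @LocallyOfFiniteType)).mp inferInstance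
  algebraize [ψ.hom]
  show Algebra.FormallyUnramified k A
  apply formallyUnramified_of_dualNumber k A
  intro g₁ g₂ hg
  have h := H (Spec.map (CommRingCat.ofHom g₁.toRingHom)) (Spec.map (CommRingCat.ofHom g₂.toRingHom))
    ?_ ?_ ?_
  · have h2 : CommRingCat.ofHom g₁.toRingHom = CommRingCat.ofHom g₂.toRingHom :=
      Spec.map_injective h
    have h3 : g₁.toRingHom = g₂.toRingHom := congrArg CommRingCat.Hom.hom h2
    exact AlgHom.coe_ringHom_injective h3
  · rw [← Spec.map_comp]
    congr 1
    apply CommRingCat.hom_ext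
    apply RingHom.ext
    intro x
    exact g₁.commutes x
  · rw [← Spec.map_comp]
    congr 1
    apply CommRingCat.hom_ext
    apply RingHom.ext
    intro x
    exact g₂.commutes x
  · rw [← Spec.map_comp, ← Spec.map_comp]
    congr 1
    apply CommRingCat.hom_ext
    apply RingHom.ext
    intro x
    exact congr($hg x)

end Groth.Agent.Lib.Helper14.DualNumUnram
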