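import Mathlib
import Groth.Prelude.Def_Red

/-!
# helper14: base change of group schemes: composition, equal morphisms, `D_S(M)`
-/

set_option autoImplicit false
universe u
open CategoryTheory CategoryTheory.Limits AlgebraicGeometry MonoidalCategory
  CartesianMonoidalCategory MonObj

namespace Groth.Agent.Lib.Helper14.BCGrp

noncomputable section

variable {S S' S'' : Scheme.{u}}

/-- base change along a composite, as an isomorphism of group schemes -/
def bcCompGrpIso (w : S'' ⟶ S') (f : S' ⟶ S) (G : Over S) [GrpObj G] :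
    Grp.mk (Red.bc (w ≫ f) G) ≅ Grp.mk (Red.bc w (Red.bc f G)) :=
  (Functor.mapGrpNatIso (Over.pullbackComp w f)).app (Grp.mk G) ≪≫
    (Functor.mapGrpCompIso (F := Over.pullback f) (G := Over.pullback w)).app (Grp.mk G)

/-- base change along equal morphisms -/
def bcGrpIsoOfEq {f f' : S' ⟶ S} (h : f = f') (G : Over S) [GrpObj G] :
    Grp.mk (Red.bc f G) ≅ Grp.mk (Red.bc f' G) := by
  subst h
  exact Iso.refl _

/-- base change of an isomorphism of group schemes -/
def bcGrpMapIso (w : S'' ⟶ S') {G H : Over S'} [GrpObj G] [GrpObj H] (e : Grp.mk G ≅ Grp.mk H) :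
    Grp.mk (Red.bc w G) ≅ Grp.mk (Red.bc w H) :=
  (Over.pullback w).mapGrp.mapIso e

/-- the base change of `D_{S'}(M)` is `D_{S''}(M)` -/
def DSbcIso (w : S'' ⟶ S') (M : Type) [AddCommGroup M] :
    Grp.mk (Red.bc w (Red.DS S' M)) ≅ Grp.mk (Red.DS S'' M) :=
  (bcCompGrpIso w (Limits.IsTerminal.from specULiftZIsTerminal S') (Red.diag (ULift.{u} ℤ) M)).symm ≪≫
    bcGrpIsoOfEq (specULiftZIsTerminal.hom_ext _ _) (Red.diag (ULift.{u} ℤ) M)

/-- transport of a diagonalisation along a base change -/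
def diagBC (w : S'' ⟶ S') (f : S' ⟶ S) (G : Over S) [GrpObj G] (M : Type) [AddCommGroup M]
    (e : Grp.mk (Red.bc f G) ≅ Grp.mk (Red.DS S' M)) :
    Grp.mk (Red.bc (w ≫ f) G) ≅ Grp.mk (Red.DS S'' M) :=
  bcCompGrpIso w f G ≪≫ bcGrpMapIso w e ≪≫ DSbcIso w M

end

end Groth.Agent.Lib.Helper14.BCGrp
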