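import Mathlib

/-!
# helper14: morphisms out of a K-projective complex in the derived category (general abelian category)
-/

set_option autoImplicit false
universe w v u
open CategoryTheory CochainComplex DerivedCategory

namespace Groth.Agent.Lib.Helper14.KProjLift

variable {C : Type u} [Category.{v} C] [Abelian C] [HasDerivedCategory.{w} C]

theorem Q_map_surjective_of_isKProjective (K L : CochainComplex C ℤ)
    [K.IsKProjective] (ψ : Q.obj K ⟶ Q.obj L) : ∃ f : K ⟶ L, Q.map f = ψ := by
  obtain ⟨g, hg⟩ := (IsKProjective.Qh_map_bijective K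
    ((HomotopyCategory.quotient _ _).obj L)).surjective
    ((quotientCompQhIso _).hom.app K ≫ ψ ≫ (quotientCompQhIso _).inv.app L)
  obtain ⟨f, rfl⟩ := (HomotopyCategory.quotient _ _).map_surjective g
  refine ⟨f, ?_⟩
  have hnat := (quotientCompQhIso C).hom.naturality f
  simp only [Functor.comp_map] at hnat
  rw [hg] at hnat
  simp only [Category.assoc, Iso.inv_hom_id_app, Category.comp_id] at hnat
  exact ((cancel_epi _).1 hnat).symm

theorem homotopy_of_Q_map_eq (K L : CochainComplex C ℤ) [K.IsKProjective]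
    (f₁ f₂ : K ⟶ L) (h : Q.map f₁ = Q.map f₂) : Nonempty (Homotopy f₁ f₂) := by
  refine ⟨HomotopyCategory.homotopyOfEq _ _ ?_⟩
  apply (IsKProjective.Qh_map_bijective K ((HomotopyCategory.quotient _ _).obj L)).injective
  have h1 := (quotientCompQhIso C).hom.naturality f₁
  have h2 := (quotientCompQhIso C).hom.naturality f₂
  simp only [Functor.comp_map] at h1 h2
  rw [← cancel_mono ((quotientCompQhIso _).hom.app L), h1, h2, h]

/-- Strict lifting along a termwise epimorphic quasi-isomorphism, from a K-projective complex with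
projective terms. -/
theorem exists_lift_of_quasiIso_epi (M N L : CochainComplex C ℤ) [M.IsKProjective]
    [∀ n, Projective (M.X n)] (φ : M ⟶ L) (π : N ⟶ L) [QuasiIso π] [∀ n, Epi (π.f n)] :
    ∃ ψ : M ⟶ N, ψ ≫ π = φ := by
  haveI : IsIso (Q.map π) := (DerivedCategory.isIso_Q_map_iff_quasiIso (φ := π)).2 inferInstance
  obtain ⟨ψ₀, hψ₀⟩ := Q_map_surjective_of_isKProjective M N (Q.map φ ≫ inv (Q.map π))
  obtain ⟨h⟩ := homotopy_of_Q_map_eq M L (ψ₀ ≫ π) φ (by rw [Functor.map_comp, hψ₀]; simp)
  let ht : ∀ i j, M.X i ⟶ N.X j := fun i j => Projective.factorThru (h.hom i j) (π.f j)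
  refine ⟨ψ₀ - Homotopy.nullHomotopicMap ht, ?_⟩
  rw [Preadditive.sub_comp, Homotopy.nullHomotopicMap_comp]
  have hht : (fun i j => ht i j ≫ π.f j) = h.hom := by
    funext i j
    exact Projective.factorThru_comp _ _
  rw [hht]
  ext i
  have hc := h.comm i
  simp only [HomologicalComplex.sub_f_apply, Homotopy.nullHomotopicMap]
  rw [hc]
  abel

end Groth.Agent.Lib.Helper14.KProjLift
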