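import Mathlib

/-!
# helper14: a reduced ring integral over a field with connected spectrum is a field
-/

set_option autoImplicit false
universe u

namespace Groth.Agent.Lib.Helper14.FibreH0

theorem isField_of_isIntegral_of_connected (K A : Type u) [Field K] [CommRing A] [Algebra K A]
    [Algebra.IsIntegral K A] [IsReduced A] [ConnectedSpace (PrimeSpectrum A)] : IsField A := by
  have : Nontrivial A := by
    obtain ⟨x⟩ : Nonempty (PrimeSpectrum A) := inferInstance
    exact x.nontrivial
  have key : ∀ a : A, a ≠ 0 → ∃ b : A, a * b = 1 := by
    intro a ha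
    let B : Subalgebra K A := Algebra.adjoin K {a}
    have haB : a ∈ B := Algebra.subset_adjoin (Set.mem_singleton a)
    have : Module.Finite K B :=
      Module.Finite.iff_fg.mpr (Algebra.IsIntegral.isIntegral (R := K) a).fg_adjoin_singleton
    have : IsArtinianRing B := IsArtinianRing.of_finite K B
    have : IsReduced B := isReduced_of_injective B.val Subtype.val_injective
    have : Algebra.IsIntegral B A := Algebra.IsIntegral.tower_top (R := K)
    have hsurj : Function.Surjective (PrimeSpectrum.comap (algebraMap B A)) :=
      Algebra.IsIntegral.comap_surjective B A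
    have : ConnectedSpace (PrimeSpectrum B) :=
      hsurj.connectedSpace (PrimeSpectrum.continuous_comap (algebraMap B A))
    have : Subsingleton (PrimeSpectrum B) := PreconnectedSpace.trivial_of_discrete
    have : IsLocalRing B := by
      obtain ⟨m, hm⟩ := Ideal.exists_maximal B
      refine IsLocalRing.of_unique_max_ideal ⟨m, hm, fun m' hm' => ?_⟩
      have := Subsingleton.elim (⟨m', hm'.isPrime⟩ : PrimeSpectrum B) ⟨m, hm.isPrime⟩
      exact congrArg PrimeSpectrum.asIdeal this
    have hF : IsField B := IsArtinianRing.isField_of_isReduced_of_isLocalRing B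
    have hne : (⟨a, haB⟩ : B) ≠ 0 := fun h => ha (congrArg Subtype.val h)
    obtain ⟨b, hb⟩ := hF.mul_inv_cancel hne
    exact ⟨b.1, congrArg Subtype.val hb⟩
  exact ⟨exists_pair_ne A, mul_comm, fun {a} ha => key a ha⟩

end Groth.Agent.Lib.Helper14.FibreH0
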