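import Mathlib
import Groth.Agent.Lib.Helper14.FibreH0a
import Groth.Agent.Lib.Helper24.SmoothReduced

/-!
# helper14: `H⁰(Z, O_Z) = K` for `Z` proper, reduced, connected over a field `K` with a rational point
-/

set_option autoImplicit false
universe u
open CategoryTheory CategoryTheory.Limits AlgebraicGeometry

namespace Groth.Agent.Lib.Helper14.FibreH0

theorem isField_appTop {Z : Scheme.{u}} (K : Type u) [Field K] (π : Z ⟶ Spec (CommRingCat.of K))
    [UniversallyClosed π] [IsReduced Z] [ConnectedSpace Z] : IsField Γ(Z, ⊤) := by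
  let F := (Scheme.ΓSpecIso (CommRingCat.of K)).inv ≫ π.appTop
  have hint : F.hom.IsIntegral := by
    apply RingHom.isIntegral_respectsIso.2 (e := (Scheme.ΓSpecIso _).symm.commRingCatIsoToRingEquiv)
    exact isIntegral_appTop_of_universallyClosed π
  algebraize [F.hom]
  have : CompactSpace Z := (quasiCompact_iff_compactSpace π).mp inferInstance
  have : UniversallyClosed (Z.toSpecΓ ≫ Spec.map π.appTop) := by
    rwa [← Scheme.toSpecΓ_naturality,
      MorphismProperty.cancel_right_of_respectsIso (P := @UniversallyClosed)]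
  have : UniversallyClosed Z.toSpecΓ := .of_comp_of_isSeparated _ (Spec.map π.appTop)
  have hs : Surjective Z.toSpecΓ :=
    surjective_of_isDominant_of_isClosed_range _ (Z.toSpecΓ.isClosedMap.isClosed_range)
  have : ConnectedSpace (PrimeSpectrum Γ(Z, ⊤)) :=
    hs.surj.connectedSpace Z.toSpecΓ.continuous
  exact isField_of_isIntegral_of_connected K Γ(Z, ⊤)

theorem bijective_appTop_of_section {Z : Scheme.{u}} (K : Type u) [Field K]
    (π : Z ⟶ Spec (CommRingCat.of K)) [UniversallyClosed π] [IsReduced Z] [ConnectedSpace Z]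
    (σ : Spec (CommRingCat.of K) ⟶ Z) (hσ : σ ≫ π = 𝟙 (Spec (CommRingCat.of K))) : Function.Bijective π.appTop.hom := by
  have hF : IsField Γ(Z, ⊤) := isField_appTop K π
  have hcomp : ∀ b, σ.appTop.hom (π.appTop.hom b) = b := by
    intro b
    have h1 : π.appTop ≫ σ.appTop = 𝟙 _ := by
      rw [← Scheme.Hom.comp_appTop, hσ]
      rfl
    have := congrArg (fun φ => φ.hom b) h1
    simpa using this
  have hinj : Function.Injective σ.appTop.hom := by
    letI := hF.toField
    exact RingHom.injective _
  refine ⟨Function.LeftInverse.injective hcomp, fun a => ⟨σ.appTop.hom a, hinj ?_⟩⟩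
  rw [hcomp]

theorem isReduced_of_smooth_field_affine {W : Scheme.{u}} [IsAffine W] (K : Type u) [Field K]
    (g : W ⟶ Spec (CommRingCat.of K)) [Smooth g] : IsReduced W := by
  have h1 : RingHom.Smooth g.appTop.hom :=
    (HasRingHomProperty.iff_of_isAffine (P := @Smooth)).mp ‹Smooth g›
  algebraize [g.appTop.hom]
  have h2 : Algebra.Smooth Γ(Spec (CommRingCat.of K), ⊤) Γ(W, ⊤) := h1
  have h3 : _root_.IsReduced Γ(W, ⊤) :=
    Groth.Agent.Lib.Helper24.SmoothReduced.isReduced_of_smooth Γ(Spec (CommRingCat.of K), ⊤) Γ(W, ⊤)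
  exact isReduced_of_isAffine_isReduced W

theorem isReduced_of_smooth_field {Z : Scheme.{u}} (K : Type u) [Field K]
    (π : Z ⟶ Spec (CommRingCat.of K)) [Smooth π] : IsReduced Z := by
  have : ∀ i, IsReduced (Z.affineCover.X i) := fun i =>
    isReduced_of_smooth_field_affine K (Z.affineCover.f i ≫ π)
  exact IsReduced.of_openCover _ Z.affineCover

end Groth.Agent.Lib.Helper14.FibreH0
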