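import Mathlib
import Groth.Agent.Lib.Helper14.FibreH0
import Groth.Agent.Lib.Helper3.GeomSep
import Groth.Agent.Lib.Helper13.Normal2
import Groth.Agent.Lib.Helper13.Normal3

/-!
# helper14: proper smooth connected group schemes over an algebraically closed field are
commutative and have only constant global functions
-/

set_option autoImplicit false
universe u
open CategoryTheory MonoidalCategory CartesianMonoidalCategory MonObj GrpObj AlgebraicGeometry
  CategoryTheory.Limits

namespace Groth.Agent.Lib.Helper14.AbVarComm

variable {K : Type u} [Field K]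

theorem isIso_appTop (A : Over (Spec (CommRingCat.of K))) [UniversallyClosed A.hom]
    [Smooth A.hom] [ConnectedSpace A.left] (σ : 𝟙_ (Over (Spec (CommRingCat.of K))) ⟶ A) :
    IsIso A.hom.appTop := by
  haveI := Groth.Agent.Lib.Helper14.FibreH0.isReduced_of_smooth_field K A.hom
  have := Groth.Agent.Lib.Helper14.FibreH0.bijective_appTop_of_section K A.hom σ.left (Over.w σ)
  exact (ConcreteCategory.isIso_iff_bijective _).mpr this

theorem geometricallyConnected_of_connectedSpace [IsAlgClosed K] {X : Scheme.{u}}
    (f : X ⟶ Spec (CommRingCat.of K)) [ConnectedSpace X] : GeometricallyConnected f := by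
  refine Groth.Agent.Lib.helper3.GeomSep.geometricallyConnected_of_connectedSpace_sepClosed f K ?_
  have h1 : Spec.map (CommRingCat.ofHom (algebraMap K K)) = 𝟙 _ := by
    rw [Algebra.algebraMap_self]
    exact Spec.map_id _
  haveI : IsIso (Spec.map (CommRingCat.ofHom (algebraMap K K))) := by
    rw [h1]; infer_instance
  haveI : IsIso (pullback.fst f (Spec.map (CommRingCat.ofHom (algebraMap K K)))) := inferInstance
  let a := inv (pullback.fst f (Spec.map (CommRingCat.ofHom (algebraMap K K))))
  have ha : Function.Surjective a := by
    intro y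
    refine ⟨pullback.fst f _ y, ?_⟩
    rw [← Scheme.Hom.comp_apply]
    simp [a]
  exact ha.connectedSpace a.continuous

/-- a connected quasi-compact smooth scheme over a field is integral -/
theorem isIntegral_of_smooth_connected {X : Scheme.{u}} (f : X ⟶ Spec (CommRingCat.of K))
    [Smooth f] [QuasiCompact f] [ConnectedSpace X] : IsIntegral X := by
  haveI : IsLocallyNoetherian X := LocallyOfFiniteType.isLocallyNoetherian f
  haveI : CompactSpace X := (quasiCompact_iff_compactSpace f).mp inferInstance
  haveI : IsNoetherian X := {}
  have hN : Pi1.IsNormalScheme X :=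
    Groth.Agent.Lib.helper13.Normal.of_smooth f
      (Groth.Agent.Lib.helper13.Normal.Spec_of_isNormalDomain (CommRingCat.of K)
        ⟨inferInstanceAs (IsDomain K), inferInstanceAs (IsIntegrallyClosed K)⟩)
  refine Groth.Agent.Lib.helper13.Normal.isIntegral_of_connected hN (fun U _ => ?_)
  haveI : TopologicalSpace.NoetherianSpace X := inferInstance
  haveI : TopologicalSpace.NoetherianSpace ((U : Set X) : Type u) := TopologicalSpace.NoetherianSpace.set _
  exact TopologicalSpace.NoetherianSpace.finite_irreducibleComponents

theorem isIntegral_tensor [IsAlgClosed K] (A : Over (Spec (CommRingCat.of K))) [IsProper A.hom]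
    [Smooth A.hom] [ConnectedSpace A.left] : IsIntegral (A ⊗ A).left := by
  haveI := geometricallyConnected_of_connectedSpace A.hom
  haveI : ConnectedSpace (A ⊗ A).left :=
    inferInstanceAs (ConnectedSpace ↥(pullback A.hom A.hom))
  haveI : IsProper (A ⊗ A).hom := by dsimp; infer_instance
  haveI : Smooth (A ⊗ A).hom := by dsimp; infer_instance
  exact isIntegral_of_smooth_connected (A ⊗ A).hom

theorem isCommMonObj [IsAlgClosed K] (A : Over (Spec (CommRingCat.of K))) [GrpObj A]
    [IsProper A.hom] [Smooth A.hom] [ConnectedSpace A.left] : IsCommMonObj A := by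
  haveI := isIntegral_tensor A
  exact isCommMonObj_of_isProper_of_isIntegral_tensorObj_of_isAlgClosed A

end Groth.Agent.Lib.Helper14.AbVarComm
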