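import Mathlib

/-!
# helper14: closed subschemes representing local predicates on points (abstract form)

`P` is a predicate on morphisms `T ⟶ X` which is stable under precomposition and Zariski local
on the source (`IsLocalPred`). If `P` is cut out by an ideal on every affine open of `X`
(`exists_closed_of_criterion`), or merely on every member of a covering lower set of affine opens
(`exists_closed_of_criterion_on_basis`, in `AbsClosed2`), then `P` is represented by a closed
subscheme of `X`.
-/

set_option autoImplicit false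
universe u
open CategoryTheory CategoryTheory.Limits AlgebraicGeometry

namespace Groth.Agent.Lib.Helper14.AbsClosed

variable {X : Scheme.{u}}

/-- a predicate on morphisms into `X`, stable under precomposition and Zariski local on the
source -/
structure IsLocalPred (P : ∀ ⦃T : Scheme.{u}⦄, (T ⟶ X) → Prop) : Prop where
  comp : ∀ ⦃T T' : Scheme.{u}⦄ (t : T' ⟶ T) (x : T ⟶ X), P x → P (t ≫ x)
  of_openCover : ∀ ⦃T : Scheme.{u}⦄ (x : T ⟶ X) (𝒰 : Scheme.OpenCover.{u} T),
    (∀ i, P (𝒰.f i ≫ x)) → P x

variable {P : ∀ ⦃T : Scheme.{u}⦄, (T ⟶ X) → Prop}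

section Criterion

variable (I : ∀ U : X.affineOpens, Ideal Γ(X, U))
  (hI : ∀ (U : X.affineOpens) (R' : CommRingCat.{u}) (ρ : Γ(X, U) ⟶ R'),
    P (Spec.map ρ ≫ U.2.fromSpec) ↔ I U ≤ RingHom.ker ρ.hom)

include hI in
theorem map_ideal_basicOpen_of_criterion (U : X.affineOpens) (f : Γ(X, U)) :
    (I U).map (X.presheaf.map (homOfLE (X.basicOpen_le f)).op).hom =
      I (X.affineBasicOpen f) := by
  have hfs : Spec.map (X.presheaf.map (homOfLE (X.basicOpen_le f)).op) ≫ U.2.fromSpec =
      (X.affineBasicOpen f).2.fromSpec :=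
    U.2.map_fromSpec (X.affineBasicOpen f).2 _
  apply le_antisymm
  · rw [Ideal.map_le_iff_le_comap]
    let ρ' : Γ(X, X.affineBasicOpen f) ⟶
        CommRingCat.of (Γ(X, X.affineBasicOpen f) ⧸ I (X.affineBasicOpen f)) :=
      CommRingCat.ofHom (Ideal.Quotient.mk _)
    have h1 : P (Spec.map ρ' ≫ (X.affineBasicOpen f).2.fromSpec) :=
      (hI (X.affineBasicOpen f) _ ρ').mpr (by
        change _ ≤ RingHom.ker (Ideal.Quotient.mk _)
        rw [Ideal.mk_ker])
    have e : Spec.map ρ' ≫ (X.affineBasicOpen f).2.fromSpec =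
        Spec.map (X.presheaf.map (homOfLE (X.basicOpen_le f)).op ≫ ρ') ≫ U.2.fromSpec := by
      rw [Spec.map_comp, Category.assoc]
      exact congrArg (Spec.map ρ' ≫ ·) hfs.symm
    rw [e] at h1
    have h2 := (hI U _ _).mp h1
    intro r hr
    have h3 := h2 hr
    rw [RingHom.mem_ker] at h3
    rw [Ideal.mem_comap]
    exact Ideal.Quotient.eq_zero_iff_mem.mp h3
  · let ρ' : Γ(X, X.affineBasicOpen f) ⟶
        CommRingCat.of (Γ(X, X.affineBasicOpen f) ⧸ (I U).map
          (X.presheaf.map (homOfLE (X.basicOpen_le f)).op).hom) :=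
      CommRingCat.ofHom (Ideal.Quotient.mk _)
    have h1 : P
        (Spec.map (X.presheaf.map (homOfLE (X.basicOpen_le f)).op ≫ ρ') ≫ U.2.fromSpec) :=
      (hI U _ _).mpr (by
        intro r hr
        rw [RingHom.mem_ker]
        exact Ideal.Quotient.eq_zero_iff_mem.mpr (Ideal.mem_map_of_mem _ hr))
    have e : Spec.map (X.presheaf.map (homOfLE (X.basicOpen_le f)).op ≫ ρ') ≫ U.2.fromSpec =
        Spec.map ρ' ≫ (X.affineBasicOpen f).2.fromSpec := by
      rw [Spec.map_comp, Category.assoc]
      exact congrArg (Spec.map ρ' ≫ ·) hfs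
    rw [e] at h1
    have h2 := (hI (X.affineBasicOpen f) _ ρ').mp h1
    change _ ≤ RingHom.ker (Ideal.Quotient.mk _) at h2
    rw [Ideal.mk_ker] at h2
    exact h2

/-- **A local predicate is represented by a closed subscheme** as soon as it is cut out by an
ideal on every affine open. -/
theorem exists_closed_of_criterion (hP : IsLocalPred P)
    (I : ∀ U : X.affineOpens, Ideal Γ(X, U))
    (hI : ∀ (U : X.affineOpens) (R' : CommRingCat.{u}) (ρ : Γ(X, U) ⟶ R'),
      P (Spec.map ρ ≫ U.2.fromSpec) ↔ I U ≤ RingHom.ker ρ.hom) :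
    ∃ (Z : Scheme.{u}) (j : Z ⟶ X), IsClosedImmersion j ∧ P j ∧
      ∀ (T : Scheme.{u}) (x : T ⟶ X), P x → ∃ z : T ⟶ Z, z ≫ j = x := by
  let J : X.IdealSheafData :=
    { ideal := I
      map_ideal_basicOpen := map_ideal_basicOpen_of_criterion I hI }
  refine ⟨J.subscheme, J.subschemeι, inferInstance, ?_, ?_⟩
  · apply hP.of_openCover _ J.subschemeCover.openCover
    intro U
    have e : J.subschemeCover.f U ≫ J.subschemeι =
        Spec.map (CommRingCat.ofHom (Ideal.Quotient.mk (J.ideal U))) ≫ U.2.fromSpec := by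
      rw [J.subschemeCover_map_subschemeι]
      rfl
    change P (J.subschemeCover.f U ≫ J.subschemeι)
    rw [e]
    refine (hI U _ _).mpr ?_
    change I U ≤ RingHom.ker (Ideal.Quotient.mk (I U))
    rw [Ideal.mk_ker]
  · intro T x hx
    have hle : J.subschemeι.ker ≤ x.ker := by
      rw [Scheme.IdealSheafData.ker_subschemeι, Scheme.Hom.ker,
        Scheme.IdealSheafData.le_ofIdeals_iff]
      intro U r hr
      rw [RingHom.mem_ker]
      apply T.IsSheaf.section_ext
      rintro p hp
      obtain ⟨W, hW, hpW, hWU⟩ :=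
        exists_isAffineOpen_mem_and_subset (x := p) (U := x ⁻¹ᵁ U) hp
      refine ⟨W, hWU, hpW, ?_⟩
      rw [map_zero]
      change (x.appLE U W hWU).hom r = 0
      have hfix : P (Spec.map (x.appLE U W hWU) ≫ U.2.fromSpec) := by
        rw [IsAffineOpen.SpecMap_appLE_fromSpec x U.2 hW hWU]
        exact hP.comp _ _ hx
      exact (hI U _ _).mp hfix hr
    exact ⟨IsClosedImmersion.lift _ x hle, IsClosedImmersion.lift_fac _ _ _⟩

end Criterion

end Groth.Agent.Lib.Helper14.AbsClosed
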