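import Mathlib
import Groth.Agent.Lib.Helper14.AbsClosed1

/-!
# helper14: closed subschemes representing local predicates, criterion on a basis

If a local predicate `P` on points of `X` is cut out by an ideal on every member of a covering
lower set `𝓑` of affine opens of `X`, then `P` is represented by a closed subscheme of `X`.
-/

set_option autoImplicit false
universe u
open CategoryTheory CategoryTheory.Limits AlgebraicGeometry

namespace Groth.Agent.Lib.Helper14.AbsClosed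

variable {X : Scheme.{u}} (P : ∀ ⦃T : Scheme.{u}⦄, (T ⟶ X) → Prop)

/-- the ideal of functions on the affine open `U` vanishing on all `P`-points of `U` -/
def kerP (U : X.affineOpens) : Ideal Γ(X, U) where
  carrier := {r | ∀ (R' : CommRingCat.{u}) (ρ : Γ(X, U) ⟶ R'),
    P (Spec.map ρ ≫ U.2.fromSpec) → ρ.hom r = 0}
  add_mem' := fun {a b} ha hb R' ρ h => by rw [map_add, ha R' ρ h, hb R' ρ h, add_zero]
  zero_mem' := fun R' ρ _ => map_zero _
  smul_mem' := fun c {a} ha R' ρ h => by rw [smul_eq_mul, map_mul, ha R' ρ h, mul_zero]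

theorem mem_kerP {U : X.affineOpens} {r : Γ(X, U)} :
    r ∈ kerP P U ↔ ∀ (R' : CommRingCat.{u}) (ρ : Γ(X, U) ⟶ R'),
      P (Spec.map ρ ≫ U.2.fromSpec) → ρ.hom r = 0 := Iff.rfl

/-- restriction between affine opens -/
def res {U V : X.affineOpens} (h : V.1 ≤ U.1) : Γ(X, U) ⟶ Γ(X, V) :=
  X.presheaf.map (homOfLE h).op

theorem res_fromSpec {U V : X.affineOpens} (h : V.1 ≤ U.1) :
    Spec.map (res h) ≫ U.2.fromSpec = V.2.fromSpec :=
  U.2.map_fromSpec V.2 _

theorem res_comp {U V W : X.affineOpens} (h : V.1 ≤ U.1) (h' : W.1 ≤ V.1) :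
    res h ≫ res h' = res (h'.trans h) := by
  rw [res, res, ← Functor.map_comp]
  rfl

theorem res_res {U V W : X.affineOpens} (h : V.1 ≤ U.1) (h' : W.1 ≤ V.1) (r : Γ(X, U)) :
    (res h').hom ((res h).hom r) = (res (h'.trans h)).hom r :=
  congrArg (fun φ => φ.hom r) (res_comp h h')

theorem affineBasicOpen_le (U : X.affineOpens) (f : Γ(X, U)) :
    (X.affineBasicOpen f).1 ≤ U.1 := X.basicOpen_le f

/-- restriction to a basic open -/
abbrev resB (U : X.affineOpens) (f : Γ(X, U)) : Γ(X, U) ⟶ Γ(X, X.affineBasicOpen f) :=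
  res (affineBasicOpen_le U f)

theorem isLocalization_resB (U : X.affineOpens) (f : Γ(X, U)) :
    @IsLocalization.Away _ _ f Γ(X, X.affineBasicOpen f) _ (resB U f).hom.toAlgebra :=
  U.2.isLocalization_basicOpen f

variable {P}

theorem kerP_res {U V : X.affineOpens} (h : V.1 ≤ U.1) {r : Γ(X, U)} (hr : r ∈ kerP P U) :
    (res h).hom r ∈ kerP P V := by
  intro R' ρ hρ
  have e : Spec.map ρ ≫ V.2.fromSpec = Spec.map (res h ≫ ρ) ≫ U.2.fromSpec := by
    rw [Spec.map_comp, Category.assoc, res_fromSpec]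
  rw [e] at hρ
  exact hr R' _ hρ

theorem exists_lift_basicOpen (U : X.affineOpens) (f : Γ(X, U)) {R' R'' : CommRingCat.{u}}
    (ρ : Γ(X, U) ⟶ R') (τ : R' ⟶ R'') (hu : IsUnit (τ.hom (ρ.hom f))) :
    ∃ ρ' : Γ(X, X.affineBasicOpen f) ⟶ R'', resB U f ≫ ρ' = ρ ≫ τ := by
  letI := (resB U f).hom.toAlgebra
  haveI := isLocalization_resB U f
  refine ⟨CommRingCat.ofHom (IsLocalization.Away.lift f (g := (ρ ≫ τ).hom) hu), ?_⟩
  ext r
  exact IsLocalization.Away.lift_eq f hu r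

theorem spec_lift_basicOpen (U : X.affineOpens) (f : Γ(X, U)) {R' R'' : CommRingCat.{u}}
    (ρ : Γ(X, U) ⟶ R') (τ : R' ⟶ R'') (ρ' : Γ(X, X.affineBasicOpen f) ⟶ R'')
    (hρ' : resB U f ≫ ρ' = ρ ≫ τ) :
    Spec.map ρ' ≫ (X.affineBasicOpen f).2.fromSpec = Spec.map τ ≫ Spec.map ρ ≫ U.2.fromSpec := by
  have e1 : Spec.map (resB U f ≫ ρ') ≫ U.2.fromSpec =
      Spec.map ρ' ≫ (X.affineBasicOpen f).2.fromSpec := by
    rw [Spec.map_comp, Category.assoc, res_fromSpec]
  rw [← e1, hρ', Spec.map_comp, Category.assoc]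

theorem exists_pow_mul_eq_zero (hP : IsLocalPred P) (U : X.affineOpens) (f : Γ(X, U))
    {R' : CommRingCat.{u}} (ρ : Γ(X, U) ⟶ R') (hρ : P (Spec.map ρ ≫ U.2.fromSpec))
    (t' : Γ(X, U)) (ht : (resB U f).hom t' ∈ kerP P (X.affineBasicOpen f)) :
    ∃ N : ℕ, ρ.hom f ^ N * ρ.hom t' = 0 := by
  let R'' : CommRingCat.{u} := CommRingCat.of (Localization.Away (ρ.hom f))
  let τ : R' ⟶ R'' := CommRingCat.ofHom (algebraMap R' (Localization.Away (ρ.hom f)))
  obtain ⟨ρ', hρ'⟩ := exists_lift_basicOpen U f ρ τ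
    (IsLocalization.Away.algebraMap_isUnit (ρ.hom f))
  have hP' : P (Spec.map ρ' ≫ (X.affineBasicOpen f).2.fromSpec) := by
    rw [spec_lift_basicOpen U f ρ τ ρ' hρ']
    exact hP.comp _ _ hρ
  have h0 := ht _ ρ' hP'
  have h1 : ρ'.hom ((resB U f).hom t') = τ.hom (ρ.hom t') := congrArg (fun φ => φ.hom t') hρ'
  have h2 : τ.hom (ρ.hom t') = 0 := h1.symm.trans h0
  obtain ⟨⟨_, N, rfl⟩, hN⟩ :=
    (IsLocalization.map_eq_zero_iff (Submonoid.powers (ρ.hom f))
      (Localization.Away (ρ.hom f)) _).mp h2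
  exact ⟨N, hN⟩

/-- the quotient map by `kerP` -/
def mkQ (P : ∀ ⦃T : Scheme.{u}⦄, (T ⟶ X) → Prop) (V : X.affineOpens) :
    Γ(X, V) ⟶ CommRingCat.of (Γ(X, V) ⧸ kerP P V) :=
  CommRingCat.ofHom (Ideal.Quotient.mk (kerP P V))

theorem mkQ_eq_zero_iff {V : X.affineOpens} {r : Γ(X, V)} :
    (mkQ P V).hom r = 0 ↔ r ∈ kerP P V := Ideal.Quotient.eq_zero_iff_mem

theorem exists_factor_mkQ {V : X.affineOpens} {R' : CommRingCat.{u}} (ρ : Γ(X, V) ⟶ R')
    (hker : kerP P V ≤ RingHom.ker ρ.hom) :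
    ∃ ρ'' : CommRingCat.of (Γ(X, V) ⧸ kerP P V) ⟶ R', ρ = mkQ P V ≫ ρ'' := by
  refine ⟨CommRingCat.ofHom (Ideal.Quotient.lift _ ρ.hom hker), ?_⟩
  ext x
  exact (Ideal.Quotient.lift_mk (kerP P V) ρ.hom hker).symm

/-- the universal `P`-point of `U` is a `P`-point -/
def UnivMem (P : ∀ ⦃T : Scheme.{u}⦄, (T ⟶ X) → Prop) (V : X.affineOpens) : Prop :=
  P (Spec.map (mkQ P V) ≫ V.2.fromSpec)

theorem exists_pow_mul_mem_kerP (hP : IsLocalPred P) (V : X.affineOpens) (huniv : UnivMem P V)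
    (f t : Γ(X, V)) (ht : (resB V f).hom t ∈ kerP P (X.affineBasicOpen f)) :
    ∃ n : ℕ, f ^ n * t ∈ kerP P V := by
  obtain ⟨N, hN⟩ := exists_pow_mul_eq_zero hP V f (mkQ P V) huniv t ht
  refine ⟨N, ?_⟩
  rw [← mkQ_eq_zero_iff, map_mul, map_pow]
  exact hN

theorem mem_kerP_of_span (hP : IsLocalPred P) (U : X.affineOpens) (s : Set Γ(X, U))
    (hs : Ideal.span s = ⊤) (r : Γ(X, U))
    (hr : ∀ g ∈ s, (resB U g).hom r ∈ kerP P (X.affineBasicOpen g)) : r ∈ kerP P U := by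
  intro R' ρ hρ
  have hs' : Ideal.span (ρ.hom '' s) = ⊤ := by
    rw [← Ideal.map_span, hs, Ideal.map_top]
  have := Submodule.mem_of_span_eq_top_of_smul_pow_mem (⊥ : Submodule R' R') (ρ.hom '' s) hs'
    (ρ.hom r) (by
      rintro ⟨_, g, hg, rfl⟩
      obtain ⟨N, hN⟩ := exists_pow_mul_eq_zero hP U g ρ hρ r (hr g hg)
      exact ⟨N, by rw [smul_eq_mul, hN]; exact Submodule.zero_mem _⟩)
  exact (Submodule.mem_bot R').mp this

section Basis

variable (𝓑 : Set X.affineOpens)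
  (hlow : ∀ U ∈ 𝓑, ∀ V : X.affineOpens, V.1 ≤ U.1 → V ∈ 𝓑)
  (hcov : ∀ x : X, ∃ U ∈ 𝓑, x ∈ U.1)

include hlow hcov in
theorem span_good_eq_top (U : X.affineOpens) :
    Ideal.span {g : Γ(X, U) | X.affineBasicOpen g ∈ 𝓑} = ⊤ := by
  rw [← U.2.self_le_iSup_basicOpen_iff]
  intro x hx
  obtain ⟨V, hV, hxV⟩ := hcov x
  obtain ⟨f, hfV, hxf⟩ := U.2.exists_basicOpen_le (V := V.1) ⟨x, hxV⟩ hx
  have hf : X.affineBasicOpen f ∈ 𝓑 := hlow V hV _ hfV
  rw [TopologicalSpace.Opens.mem_iSup]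
  exact ⟨⟨f, hf⟩, hxf⟩

include hlow hcov in
theorem exists_pow_mul_eq_res (hP : IsLocalPred P) (huniv : ∀ V ∈ 𝓑, UnivMem P V)
    (U : X.affineOpens) (g : Γ(X, U)) (s : Γ(X, X.affineBasicOpen g))
    (hs : s ∈ kerP P (X.affineBasicOpen g)) :
    ∃ (n : ℕ) (r : Γ(X, U)), r ∈ kerP P U ∧ (resB U g).hom r = (resB U g).hom g ^ n * s := by
  letI := (resB U g).hom.toAlgebra
  haveI := isLocalization_resB U g
  obtain ⟨⟨s', ⟨_, m, rfl⟩⟩, hs'⟩ := IsLocalization.surj (Submonoid.powers g) s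
  replace hs' : s * (resB U g).hom g ^ m = (resB U g).hom s' := by
    rw [← map_pow]
    exact hs'
  obtain ⟨G', hG'sub, hG'⟩ :=
    (Ideal.span_eq_top_iff_finite _).mp (span_good_eq_top 𝓑 hlow hcov U)
  have key : ∀ g' ∈ G', ∃ n : ℕ,
      (resB U g').hom (g ^ n * s') ∈ kerP P (X.affineBasicOpen g') := by
    intro g' hg'
    have hV : X.affineBasicOpen g' ∈ 𝓑 := hG'sub hg'
    have hle : (X.affineBasicOpen ((resB U g').hom g)).1 ≤ (X.affineBasicOpen g).1 := by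
      change X.basicOpen ((X.presheaf.map (homOfLE (X.basicOpen_le g')).op).hom g) ≤
        X.basicOpen g
      rw [Scheme.basicOpen_res]
      exact inf_le_right
    have ht : (resB (X.affineBasicOpen g') ((resB U g').hom g)).hom ((resB U g').hom s') ∈
        kerP P (X.affineBasicOpen ((resB U g').hom g)) := by
      have h1 : (resB (X.affineBasicOpen g') ((resB U g').hom g)).hom ((resB U g').hom s') =
          (res hle).hom ((resB U g).hom s') := by
        rw [res_res, res_res]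
      rw [h1, ← hs']
      exact kerP_res hle (Ideal.mul_mem_right _ _ hs)
    obtain ⟨n, hn⟩ := exists_pow_mul_mem_kerP hP (X.affineBasicOpen g')
      (huniv _ hV) _ _ ht
    exact ⟨n, by rw [map_mul, map_pow]; exact hn⟩
  choose! N hN using key
  refine ⟨G'.sup N + m, g ^ G'.sup N * s', ?_, ?_⟩
  · apply mem_kerP_of_span hP U (G' : Set Γ(X, U)) hG'
    intro g' hg'
    have hle : N g' ≤ G'.sup N := Finset.le_sup hg'
    have e : g ^ G'.sup N * s' = g ^ (G'.sup N - N g') * (g ^ N g' * s') := by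
      rw [← mul_assoc, ← pow_add, Nat.sub_add_cancel hle]
    rw [e, map_mul]
    exact Ideal.mul_mem_left _ _ (hN g' hg')
  · rw [map_mul, map_pow, ← hs', pow_add]
    ring

include hlow hcov in
theorem univMem_of_basis (hP : IsLocalPred P) (huniv : ∀ V ∈ 𝓑, UnivMem P V)
    (U : X.affineOpens) : UnivMem P U := by
  let Q : CommRingCat.{u} := CommRingCat.of (Γ(X, U) ⧸ kerP P U)
  let π : Γ(X, U) ⟶ Q := mkQ P U
  let s : {g : Γ(X, U) // X.affineBasicOpen g ∈ 𝓑} → Q := fun g => π.hom g.1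
  have hs : Ideal.span (Set.range s) = ⊤ := by
    have e : Set.range s = π.hom '' {g : Γ(X, U) | X.affineBasicOpen g ∈ 𝓑} := by
      ext q
      constructor
      · rintro ⟨g, rfl⟩
        exact ⟨g.1, g.2, rfl⟩
      · rintro ⟨g, hg, rfl⟩
        exact ⟨⟨g, hg⟩, rfl⟩
    rw [e, ← Ideal.map_span, span_good_eq_top 𝓑 hlow hcov U, Ideal.map_top]
  change P (Spec.map π ≫ U.2.fromSpec)
  apply hP.of_openCover _ (Scheme.affineOpenCoverOfSpanRangeEqTop s hs).openCover
  intro (i : {g : Γ(X, U) // X.affineBasicOpen g ∈ 𝓑})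
  change P (Spec.map (CommRingCat.ofHom (algebraMap Q (Localization.Away (s i)))) ≫
    Spec.map π ≫ U.2.fromSpec)
  obtain ⟨ρ', hρ'⟩ := exists_lift_basicOpen U i.1 π
    (CommRingCat.ofHom (algebraMap Q (Localization.Away (s i))))
    (IsLocalization.Away.algebraMap_isUnit (s i))
  rw [← spec_lift_basicOpen U i.1 π _ ρ' hρ']
  have hV := huniv _ i.2
  have hker : kerP P (X.affineBasicOpen i.1) ≤ RingHom.ker ρ'.hom := by
    intro s₀ hs₀
    obtain ⟨n, r, hr, hrs⟩ := exists_pow_mul_eq_res 𝓑 hlow hcov hP huniv U i.1 s₀ hs₀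
    rw [RingHom.mem_ker]
    have h1 : ρ'.hom ((resB U i.1).hom r) = 0 := by
      refine (congrArg (fun φ => φ.hom r) hρ').trans ?_
      change algebraMap Q (Localization.Away (s i)) (π.hom r) = 0
      have h0 : π.hom r = 0 := mkQ_eq_zero_iff.mpr hr
      rw [h0, map_zero]
    have h2 : IsUnit (ρ'.hom ((resB U i.1).hom i.1)) := by
      have h3 : ρ'.hom ((resB U i.1).hom i.1) =
          algebraMap Q (Localization.Away (s i)) (s i) := congrArg (fun φ => φ.hom i.1) hρ'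
      rw [h3]
      exact IsLocalization.Away.algebraMap_isUnit (s i)
    rw [hrs, map_mul, map_pow] at h1
    exact (h2.pow n).mul_right_eq_zero.mp h1
  obtain ⟨ρ'', hfac⟩ := exists_factor_mkQ ρ' hker
  rw [hfac, Spec.map_comp, Category.assoc]
  exact hP.comp _ _ hV

include hlow hcov in
/-- **A local predicate is represented by a closed subscheme** as soon as it is cut out by an
ideal on every member of a covering lower set of affine opens. -/
theorem exists_closed_of_criterion_on_basis (hP : IsLocalPred P)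
    (I : ∀ U : X.affineOpens, Ideal Γ(X, U))
    (hI : ∀ U ∈ 𝓑, ∀ (R' : CommRingCat.{u}) (ρ : Γ(X, U) ⟶ R'),
      P (Spec.map ρ ≫ U.2.fromSpec) ↔ I U ≤ RingHom.ker ρ.hom) :
    ∃ (Z : Scheme.{u}) (j : Z ⟶ X), IsClosedImmersion j ∧ P j ∧
      ∀ (T : Scheme.{u}) (x : T ⟶ X), P x → ∃ z : T ⟶ Z, z ≫ j = x := by
  have huniv : ∀ V ∈ 𝓑, UnivMem P V := by
    intro V hV
    refine (hI V hV _ _).mpr ?_
    intro r hr
    rw [RingHom.mem_ker, mkQ_eq_zero_iff]
    intro R' ρ hρ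
    exact (hI V hV R' ρ).mp hρ hr
  refine exists_closed_of_criterion hP (kerP P) ?_
  intro U R' ρ
  constructor
  · intro hρ r hr
    exact hr R' ρ hρ
  · intro hle
    have hU := univMem_of_basis 𝓑 hlow hcov hP huniv U
    obtain ⟨ρ'', hfac⟩ := exists_factor_mkQ ρ hle
    rw [hfac, Spec.map_comp, Category.assoc]
    exact hP.comp _ _ hU

include hlow hcov in
/-- variant with the ideals given by an existence statement -/
theorem exists_closed_of_criterion_on_basis' (hP : IsLocalPred P)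
    (hI : ∀ U ∈ 𝓑, ∃ I : Ideal Γ(X, U), ∀ (R' : CommRingCat.{u}) (ρ : Γ(X, U) ⟶ R'),
      P (Spec.map ρ ≫ U.2.fromSpec) ↔ I ≤ RingHom.ker ρ.hom) :
    ∃ (Z : Scheme.{u}) (j : Z ⟶ X), IsClosedImmersion j ∧ P j ∧
      ∀ (T : Scheme.{u}) (x : T ⟶ X), P x → ∃ z : T ⟶ Z, z ≫ j = x := by
  classical
  refine exists_closed_of_criterion_on_basis 𝓑 hlow hcov hP
    (fun U => if h : U ∈ 𝓑 then (hI U h).choose else ⊥) ?_
  intro U hU R' ρ
  rw [dif_pos hU]
  exact (hI U hU).choose_spec R' ρ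

end Basis

end Groth.Agent.Lib.Helper14.AbsClosed
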