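import Mathlib
import Groth.Agent.Lib.Helper14.AbsClosed1

/-!
# helper14: closed subschemes representing local predicates: finite presentation
-/

set_option autoImplicit false
universe u
open CategoryTheory CategoryTheory.Limits AlgebraicGeometry

namespace Groth.Agent.Lib.Helper14.AbsClosed

variable {X : Scheme.{u}} {P : ∀ ⦃T : Scheme.{u}⦄, (T ⟶ X) → Prop}

/-- **A local predicate cut out by a finitely generated ideal on every affine open is represented
by a closed subscheme of finite presentation.** -/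
theorem exists_closed_of_criterion_fg (hP : IsLocalPred P)
    (I : ∀ U : X.affineOpens, Ideal Γ(X, U))
    (hI : ∀ (U : X.affineOpens) (R' : CommRingCat.{u}) (ρ : Γ(X, U) ⟶ R'),
      P (Spec.map ρ ≫ U.2.fromSpec) ↔ I U ≤ RingHom.ker ρ.hom)
    (hfg : ∀ U : X.affineOpens, (I U).FG) :
    ∃ (Z : Scheme.{u}) (j : Z ⟶ X), IsClosedImmersion j ∧ LocallyOfFinitePresentation j ∧ P j ∧
      ∀ (T : Scheme.{u}) (x : T ⟶ X), P x → ∃ z : T ⟶ Z, z ≫ j = x := by
  let J : X.IdealSheafData :=
    { ideal := I
      map_ideal_basicOpen := map_ideal_basicOpen_of_criterion I hI }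
  have he : ∀ U : X.affineOpens, J.subschemeCover.f U ≫ J.subschemeι =
      Spec.map (CommRingCat.ofHom (Ideal.Quotient.mk (J.ideal U))) ≫ U.2.fromSpec := by
    intro U
    rw [J.subschemeCover_map_subschemeι]
    rfl
  refine ⟨J.subscheme, J.subschemeι, inferInstance, ?_, ?_, ?_⟩
  · rw [IsZariskiLocalAtSource.iff_of_openCover (P := @LocallyOfFinitePresentation)
      J.subschemeCover.openCover]
    intro U
    change LocallyOfFinitePresentation (J.subschemeCover.f U ≫ J.subschemeι)
    rw [he U]
    have h1 : LocallyOfFinitePresentation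
        (Spec.map (CommRingCat.ofHom (Ideal.Quotient.mk (J.ideal U)))) := by
      rw [HasRingHomProperty.Spec_iff (P := @LocallyOfFinitePresentation)]
      refine RingHom.FinitePresentation.of_surjective _ Ideal.Quotient.mk_surjective ?_
      change (RingHom.ker (Ideal.Quotient.mk (I U))).FG
      rw [Ideal.mk_ker]
      exact hfg U
    haveI : IsOpenImmersion U.2.fromSpec := U.2.isOpenImmersion_fromSpec
    haveI h2 : LocallyOfFinitePresentation U.2.fromSpec := inferInstance
    exact @locallyOfFinitePresentation_comp _ _ _ _ _ h1 h2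
  · apply hP.of_openCover _ J.subschemeCover.openCover
    intro U
    change P (J.subschemeCover.f U ≫ J.subschemeι)
    rw [he U]
    refine (hI U _ _).mpr ?_
    change I U ≤ RingHom.ker (Ideal.Quotient.mk (I U))
    rw [Ideal.mk_ker]
  · intro T x hx
    have hle : J.subschemeι.ker ≤ x.ker := by
      rw [Scheme.IdealSheafData.ker_subschemeι, Scheme.Hom.ker,
        Scheme.IdealSheafData.le_ofIdeals_iff]
      intro U r hr
      rw [RingHom.mem_ker]
      apply T.IsSheaf.section_ext
      rintro p hp
      obtain ⟨W, hW, hpW, hWU⟩ :=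
        exists_isAffineOpen_mem_and_subset (x := p) (U := x ⁻¹ᵁ U) hp
      refine ⟨W, hWU, hpW, ?_⟩
      rw [map_zero]
      change (x.appLE U W hWU).hom r = 0
      have hfix : P (Spec.map (x.appLE U W hWU) ≫ U.2.fromSpec) := by
        rw [IsAffineOpen.SpecMap_appLE_fromSpec x U.2 hW hWU]
        exact hP.comp _ _ hx
      exact (hI U _ _).mp hfix hr
    exact ⟨IsClosedImmersion.lift _ x hle, IsClosedImmersion.lift_fac _ _ _⟩

/-- cancellation: if `f ≫ g` is locally of finite presentation and `g` is locally of finite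
type then `f` is locally of finite presentation -/
theorem locallyOfFinitePresentation_of_comp {X Y Z : Scheme.{u}} (f : X ⟶ Y) (g : Y ⟶ Z)
    [LocallyOfFinitePresentation (f ≫ g)] [LocallyOfFiniteType g] :
    LocallyOfFinitePresentation f := by
  have hstab : RingHom.StableUnderCompositionWithLocalizationAwaySource
      @RingHom.FinitePresentation := by
    intro R S T _ _ _ _ r _ f hf
    exact hf.comp (RingHom.finitePresentation_holdsForLocalizationAway S r)
  rw [HasRingHomProperty.iff_exists_appLE (P := @LocallyOfFinitePresentation) hstab]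
  intro x
  obtain ⟨W, hW, hxW, -⟩ :=
    exists_isAffineOpen_mem_and_subset (x := g (f x)) (U := ⊤) trivial
  obtain ⟨V, hV, hxV, hVW⟩ :=
    exists_isAffineOpen_mem_and_subset (x := f x) (U := g ⁻¹ᵁ W) hxW
  obtain ⟨U, hU, hxU, hUV⟩ :=
    exists_isAffineOpen_mem_and_subset (x := x) (U := f ⁻¹ᵁ V) hxV
  refine ⟨⟨V, hV⟩, ⟨U, hU⟩, hxU, hUV, ?_⟩
  have hUW : U ≤ (f ≫ g) ⁻¹ᵁ W := fun p hp => hVW (hUV hp)
  have h1 : ((f ≫ g).appLE W U hUW).hom.FinitePresentation :=
    HasRingHomProperty.appLE (P := @LocallyOfFinitePresentation) _ inferInstance ⟨W, hW⟩ ⟨U, hU⟩ hUW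
  have h2 : (g.appLE W V hVW).hom.FiniteType :=
    HasRingHomProperty.appLE (P := @LocallyOfFiniteType) _ inferInstance ⟨W, hW⟩ ⟨V, hV⟩ hVW
  have e : (f ≫ g).appLE W U hUW = g.appLE W V hVW ≫ f.appLE V U hUV :=
    (Scheme.Hom.appLE_comp_appLE _ _ _ _ _ _ _).symm
  rw [e] at h1
  exact RingHom.FinitePresentation.of_comp_finiteType _ h1 h2

end Groth.Agent.Lib.Helper14.AbsClosed
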