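import Mathlib
import Groth.Agent.Lib.Helper15.DSMap

/-!
# helper14: base change of a property of `(Over.pullback g).map u`, Zariski localisation and fpqc
descent in the parameter `g`
-/

set_option autoImplicit false
universe u
open CategoryTheory CategoryTheory.Limits AlgebraicGeometry

namespace Groth.Agent.Lib.Helper14.DiagHomG1

open Groth.Agent.Lib.helper15.DSMap

/-- the fpqc class of morphisms -/
abbrev Qfpqc : MorphismProperty Scheme.{u} := @Surjective ⊓ @Flat ⊓ @QuasiCompact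

/-- local fpqc descent of a Zariski-local property (covering given over an open) -/
theorem descend_local' (P : MorphismProperty Scheme.{u}) [IsZariskiLocalAtTarget P]
    [P.DescendsAlong Qfpqc.{u}]
    {A B : Scheme.{u}} (f : A ⟶ B)
    (H : ∀ b : B, ∃ (V : B.Opens) (_ : b ∈ V) (A' B' : Scheme.{u}) (a' : A' ⟶ A) (f' : A' ⟶ B')
      (b' : B' ⟶ V), IsPullback a' f' f (b' ≫ V.ι) ∧ Qfpqc b' ∧ P f') : P f := by
  refine IsZariskiLocalAtTarget.of_forall_exists_morphismRestrict (P := P) fun b => ?_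
  obtain ⟨V, hbV, A', B', a', f', b', hsq, hQ, hP⟩ := H b
  refine ⟨V, hbV, ?_⟩
  have hsub' : Set.range a' ⊆ Set.range (f ⁻¹ᵁ V).ι := by
    rintro _ ⟨z, rfl⟩
    rw [Scheme.Opens.range_ι]
    show f (a' z) ∈ V
    rw [← Scheme.Hom.comp_apply, hsq.w, Scheme.Hom.comp_apply, Scheme.Hom.comp_apply]
    exact (b' (f' z)).2
  let a'' : A' ⟶ f ⁻¹ᵁ V := IsOpenImmersion.lift (f ⁻¹ᵁ V).ι a' hsub'
  have ha'' : a'' ≫ (f ⁻¹ᵁ V).ι = a' := IsOpenImmersion.lift_fac _ _ _
  have hcomm : a'' ≫ (f ∣_ V) = f' ≫ b' := by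
    rw [← cancel_mono V.ι, Category.assoc, Category.assoc,
      (isPullback_morphismRestrict f V).w, reassoc_of% ha'', hsq.w]
  have hsq' : IsPullback a'' f' (f ∣_ V) b' := by
    refine IsPullback.of_right ?_ hcomm (isPullback_morphismRestrict f V).flip
    rw [ha'']
    exact hsq
  exact MorphismProperty.of_isPullback_of_descendsAlong (P := P) (Q := Qfpqc.{u}) hsq'.flip hQ hP

section Kappa

variable {S X X' : Scheme.{u}} (k : X' ⟶ X) (g : X ⟶ S)

/-- the comparison `Y ×_S X' ⟶ Y ×_S X` -/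
noncomputable def kap (Y : Over S) : pullback Y.hom (k ≫ g) ⟶ pullback Y.hom g :=
  pullback.lift (pullback.fst _ _) (pullback.snd _ _ ≫ k) (by
    rw [Category.assoc, ← pullback.condition])

@[reassoc (attr := simp)]
lemma kap_fst (Y : Over S) : kap k g Y ≫ pullback.fst Y.hom g = pullback.fst Y.hom (k ≫ g) :=
  pullback.lift_fst _ _ _

@[reassoc (attr := simp)]
lemma kap_snd (Y : Over S) :
    kap k g Y ≫ pullback.snd Y.hom g = pullback.snd Y.hom (k ≫ g) ≫ k :=
  pullback.lift_snd _ _ _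

/-- `kap` is a base change of `k` -/
theorem isPullback_kap (Y : Over S) :
    IsPullback (kap k g Y) (pullback.snd Y.hom (k ≫ g)) (pullback.snd Y.hom g) k := by
  refine IsPullback.of_right ?_ (kap_snd k g Y) (IsPullback.of_hasPullback Y.hom g)
  rw [kap_fst]
  exact IsPullback.of_hasPullback Y.hom (k ≫ g)

variable {G H : Over S} (u : G ⟶ H)

lemma kap_comm :
    kap k g G ≫ ((Over.pullback g).map u).left =
      ((Over.pullback (k ≫ g)).map u).left ≫ kap k g H := by
  apply pullback.hom_ext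
  · rw [Category.assoc, Category.assoc, kap_fst]
    have h1 : ((Over.pullback g).map u).left ≫ pullback.fst H.hom g =
        pullback.fst G.hom g ≫ u.left := pullback.lift_fst _ _ _
    have h2 : ((Over.pullback (k ≫ g)).map u).left ≫ pullback.fst H.hom (k ≫ g) =
        pullback.fst G.hom (k ≫ g) ≫ u.left := pullback.lift_fst _ _ _
    rw [h1, h2, kap_fst_assoc]
  · rw [Category.assoc, Category.assoc, kap_snd]
    have h1 : ((Over.pullback g).map u).left ≫ pullback.snd H.hom g =
        pullback.snd G.hom g := pullback.lift_snd _ _ _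
    have h2 : ((Over.pullback (k ≫ g)).map u).left ≫ pullback.snd H.hom (k ≫ g) =
        pullback.snd G.hom (k ≫ g) := pullback.lift_snd _ _ _
    rw [h1, kap_snd, reassoc_of% h2]

/-- the base change square for `(Over.pullback _).map u` -/
theorem isPullback_kap_map :
    IsPullback (kap k g G) ((Over.pullback (k ≫ g)).map u).left
      ((Over.pullback g).map u).left (kap k g H) := by
  refine IsPullback.of_right ?_ (kap_comm k g u) (isPullback_pullback_map g u).flip
  rw [kap_fst, kap_fst]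
  exact (isPullback_pullback_map (k ≫ g) u).flip

end Kappa

section PAt

variable (P : MorphismProperty Scheme.{u}) {S : Scheme.{u}} {G H : Over S} (u : G ⟶ H)

/-- the property `P` for the base change of `u` along `g` -/
def PAt {X : Scheme.{u}} (g : X ⟶ S) : Prop := P ((Over.pullback g).map u).left

variable {P u}

theorem PAt.comp [P.IsStableUnderBaseChange] {X X' : Scheme.{u}} {g : X ⟶ S} (h : PAt P u g)
    (k : X' ⟶ X) : PAt P u (k ≫ g) :=
  MorphismProperty.of_isPullback (isPullback_kap_map k g u) h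

theorem PAt.of_comp [P.DescendsAlong Qfpqc.{u}] {X X' : Scheme.{u}} {g : X ⟶ S}
    (k : X' ⟶ X) (hk : Qfpqc k) (h : PAt P u (k ≫ g)) : PAt P u g := by
  have hQ : Qfpqc (kap k g H) :=
    MorphismProperty.of_isPullback (P := Qfpqc.{u}) (isPullback_kap k g H).flip hk
  exact MorphismProperty.of_isPullback_of_descendsAlong (P := P) (Q := Qfpqc.{u})
    (isPullback_kap_map k g u).flip hQ h

/-- Zariski localisation and fpqc descent in the parameter -/
theorem PAt.of_local [IsZariskiLocalAtTarget P] [P.DescendsAlong Qfpqc.{u}]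
    {X : Scheme.{u}} (g : X ⟶ S)
    (hloc : ∀ x : X, ∃ (V : X.Opens) (_ : x ∈ V) (B' : Scheme.{u}) (b' : B' ⟶ V),
      Qfpqc b' ∧ PAt P u ((b' ≫ V.ι) ≫ g)) : PAt P u g := by
  apply descend_local' P
  intro t
  obtain ⟨V, hxV, B', b', hQ, hP⟩ := hloc ((pullback.snd H.hom g) t)
  let V' : (pullback H.hom g).Opens := (pullback.snd H.hom g) ⁻¹ᵁ V
  have hsub : Set.range (kap (b' ≫ V.ι) g H) ⊆ Set.range V'.ι := by
    rintro _ ⟨z, rfl⟩
    rw [Scheme.Opens.range_ι]
    show (pullback.snd H.hom g) (kap (b' ≫ V.ι) g H z) ∈ V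
    rw [← Scheme.Hom.comp_apply, kap_snd, Scheme.Hom.comp_apply, Scheme.Hom.comp_apply]
    exact (b' _).2
  let b'' : pullback H.hom ((b' ≫ V.ι) ≫ g) ⟶ V' :=
    IsOpenImmersion.lift V'.ι (kap (b' ≫ V.ι) g H) hsub
  have hb'' : b'' ≫ V'.ι = kap (b' ≫ V.ι) g H := IsOpenImmersion.lift_fac _ _ _
  refine ⟨V', hxV, _, _, kap (b' ≫ V.ι) g G, ((Over.pullback ((b' ≫ V.ι) ≫ g)).map u).left, b'',
    ?_, ?_, hP⟩
  · rw [hb'']
    exact isPullback_kap_map (b' ≫ V.ι) g u
  · -- `b''` is a base change of `b'`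
    have hcomm : b'' ≫ ((pullback.snd H.hom g) ∣_ V) =
        pullback.snd H.hom ((b' ≫ V.ι) ≫ g) ≫ b' := by
      rw [← cancel_mono V.ι]
      calc (b'' ≫ ((pullback.snd H.hom g) ∣_ V)) ≫ V.ι
          = b'' ≫ (((pullback.snd H.hom g) ∣_ V) ≫ V.ι) := Category.assoc _ _ _
        _ = b'' ≫ (V'.ι ≫ pullback.snd H.hom g) :=
            congrArg (fun t => b'' ≫ t) (isPullback_morphismRestrict (pullback.snd H.hom g) V).w
        _ = (b'' ≫ V'.ι) ≫ pullback.snd H.hom g := (Category.assoc _ _ _).symm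
        _ = kap (b' ≫ V.ι) g H ≫ pullback.snd H.hom g :=
            congrArg (fun t => t ≫ pullback.snd H.hom g) hb''
        _ = pullback.snd H.hom ((b' ≫ V.ι) ≫ g) ≫ (b' ≫ V.ι) := kap_snd _ _ _
        _ = (pullback.snd H.hom ((b' ≫ V.ι) ≫ g) ≫ b') ≫ V.ι := (Category.assoc _ _ _).symm
    have hsq : IsPullback b'' (pullback.snd H.hom ((b' ≫ V.ι) ≫ g))
        ((pullback.snd H.hom g) ∣_ V) b' := by
      refine IsPullback.of_right ?_ hcomm (isPullback_morphismRestrict (pullback.snd H.hom g) V).flip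
      rw [hb'']
      exact isPullback_kap (b' ≫ V.ι) g H
    exact MorphismProperty.of_isPullback (P := Qfpqc.{u}) hsq.flip hQ

end PAt

end Groth.Agent.Lib.Helper14.DiagHomG1
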