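import Mathlib
import Groth.Agent.Lib.Helper14.DiagHomG1
import Groth.Agent.Lib.Helper2.EtDesc
import Groth.Agent.Lib.Helper1.BootB

/-!
# helper14: flat descent of flatness, iterated base change, fibres, and open subsets descend along
fpqc coverings
-/

set_option autoImplicit false
universe u
open CategoryTheory CategoryTheory.Limits AlgebraicGeometry

namespace Groth.Agent.Lib.Helper14.DiagHomG2

open Groth.Agent.Lib.Helper14.DiagHomG1

section FlatDescent

/-- flatness can be checked after a flat surjective precomposition -/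
theorem flat_of_comp {X Y Z : Scheme.{u}} (f : X ⟶ Y) (g : Y ⟶ Z) [Flat f] [Surjective f]
    (h : Flat (f ≫ g)) : Flat g := by
  rw [Flat.iff_flat_stalkMap]
  intro y
  obtain ⟨x, rfl⟩ := f.surjective y
  have h1 : (f ≫ g).stalkMap x = g.stalkMap (f x) ≫ f.stalkMap x := Scheme.Hom.stalkMap_comp f g x
  have h2 : ((f.stalkMap x).hom.comp (g.stalkMap (f x)).hom).Flat := by
    have h3 : ((f ≫ g).stalkMap x).hom.Flat := Flat.stalkMap (f ≫ g) x
    rw [h1] at h3
    exact h3
  algebraize [(g.stalkMap (f x)).hom, (f.stalkMap x).hom,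
    ((f.stalkMap x).hom.comp (g.stalkMap (f x)).hom)]
  have : Module.FaithfullyFlat (Y.presheaf.stalk (f x)) (X.presheaf.stalk x) :=
    @Module.FaithfullyFlat.of_flat_of_isLocalHom _ _ _ _ _ _ _
      (Flat.stalkMap f x) (f.toLRSHom.prop x)
  exact Groth.Agent.Lib.helper2.EtDesc.flat_of_faithfullyFlat_comp
    (Z.presheaf.stalk (g (f x))) (Y.presheaf.stalk (f x)) (X.presheaf.stalk x)

instance flat_descendsAlong :
    MorphismProperty.DescendsAlong (@Flat : MorphismProperty Scheme.{u}) Qfpqc.{u} where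
  of_isPullback {A X Y Z fst snd f g} h hf hfst := by
    -- `fst : A ⟶ X` flat, `f : X ⟶ Z` fpqc; `snd : A ⟶ Y` is fpqc and `snd ≫ g = fst ≫ f` is flat
    have hsnd : Qfpqc.{u} snd := MorphismProperty.of_isPullback (P := Qfpqc.{u}) h hf
    haveI : Flat snd := hsnd.1.2
    haveI : Surjective snd := hsnd.1.1
    haveI : Flat fst := hfst
    haveI : Flat f := hf.1.2
    apply flat_of_comp snd g
    rw [← h.w]
    infer_instance

instance flatSurj_descendsAlong :
    MorphismProperty.DescendsAlong (@Flat ⊓ @Surjective : MorphismProperty Scheme.{u}) Qfpqc.{u} :=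
  inferInstance

end FlatDescent

section Iterated

variable (P : MorphismProperty Scheme.{u}) {S X X' : Scheme.{u}} {G H : Over S} (u : G ⟶ H)

/-- base change in two steps -/
theorem PAt_pullback_iff [P.RespectsIso] (k : X' ⟶ X) (v : X ⟶ S) :
    PAt P u (k ≫ v) ↔ P ((Over.pullback k).map ((Over.pullback v).map u)).left := by
  have nat := (Over.pullbackComp k v).hom.naturality u
  have nat' : ((Over.pullback (k ≫ v)).map u).left ≫ ((Over.pullbackComp k v).hom.app H).left =
      ((Over.pullbackComp k v).hom.app G).left ≫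
        ((Over.pullback k).map ((Over.pullback v).map u)).left := by
    have := congrArg (fun t => t.left) nat
    simpa only [Over.comp_left, Functor.comp_map] using this
  haveI : IsIso ((Over.pullbackComp k v).hom.app G).left :=
    (Over.forget _).map_isIso ((Over.pullbackComp k v).hom.app G)
  haveI : IsIso ((Over.pullbackComp k v).hom.app H).left :=
    (Over.forget _).map_isIso ((Over.pullbackComp k v).hom.app H)
  unfold PAt
  rw [← P.cancel_right_of_respectsIso _ ((Over.pullbackComp k v).hom.app H).left, nat',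
    P.cancel_left_of_respectsIso]

end Iterated

section Fibre

variable (P : MorphismProperty Scheme.{u}) [P.IsStableUnderBaseChange] [P.DescendsAlong Qfpqc.{u}]
  {S S' : Scheme.{u}} (f : S' ⟶ S) {G H : Over S} (u : G ⟶ H)

/-- the property on a fibre does not depend on the residue field extension -/
theorem PAt_fibre_iff (s' : S') :
    PAt P u (S'.fromSpecResidueField s' ≫ f) ↔ PAt P u (S.fromSpecResidueField (f s')) := by
  rw [← Scheme.Hom.SpecMap_residueFieldMap_fromSpecResidueField]
  have hk : Qfpqc.{u} (Spec.map (f.residueFieldMap s')) := by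
    refine ⟨⟨?_, inferInstance⟩, inferInstance⟩
    refine ⟨fun y => ?_⟩
    haveI : Subsingleton (Spec (S.residueField (f s'))) :=
      inferInstanceAs (Subsingleton (PrimeSpectrum (S.residueField (f s'))))
    haveI : Nonempty (Spec (S'.residueField s')) :=
      inferInstanceAs (Nonempty (PrimeSpectrum (S'.residueField s')))
    obtain ⟨x⟩ := ‹Nonempty (Spec (S'.residueField s'))›
    exact ⟨x, Subsingleton.elim _ _⟩
  exact ⟨PAt.of_comp _ hk, fun h => h.comp _⟩

end Fibre

section Topology

/-- open subsets descend along an fpqc covering -/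
theorem isOpen_of_isOpen_preimage {S S' : Scheme.{u}} (f : S' ⟶ S) [Flat f]
    (hcov : ∀ V : S.Opens, IsAffineOpen V → ∃ W : S'.Opens, IsCompact (W : Set S') ∧
      f.base '' (W : Set S') = (V : Set S))
    (A : Set S) (hA : IsOpen (f.base ⁻¹' A)) : IsOpen A := by
  rw [isOpen_iff_forall_mem_open]
  intro a ha
  have hb : ∀ (U : S.Opens) (p : S), p ∈ U → ∃ U' ∈ S.affineOpens, p ∈ U' ∧ U' ≤ U :=
    fun U p hp => TopologicalSpace.Opens.isBasis_iff_nbhd.mp S.isBasis_affineOpens hp
  obtain ⟨V, hV, haV, -⟩ := hb ⊤ a trivial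
  obtain ⟨W, hWc, hWV⟩ := hcov V hV
  have hsub : Set.range (W.ι ≫ f).base ⊆ Set.range V.ι.base := by
    rintro _ ⟨w, rfl⟩
    rw [Scheme.Opens.range_ι, ← hWV]
    exact ⟨w.1, w.2, rfl⟩
  let fW : (W : Scheme.{u}) ⟶ (V : Scheme.{u}) := IsOpenImmersion.lift V.ι (W.ι ≫ f) hsub
  have hfW : fW ≫ V.ι = W.ι ≫ f := IsOpenImmersion.lift_fac _ _ _
  haveI : IsAffine (V : Scheme.{u}) := hV
  haveI : CompactSpace ↥(W : Scheme.{u}) := isCompact_iff_compactSpace.mp hWc
  haveI : QuasiCompact fW := (quasiCompact_iff_compactSpace fW).mpr inferInstance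
  haveI : Flat fW := MorphismProperty.of_postcomp (W := @Flat) (W' := @IsOpenImmersion) fW V.ι
    inferInstance (by rw [hfW]; infer_instance)
  haveI : Surjective fW := by
    refine ⟨fun v => ?_⟩
    have hv : V.ι v ∈ f.base '' (W : Set S') := by rw [hWV]; exact v.2
    obtain ⟨w, hw, hwv⟩ := hv
    refine ⟨⟨w, hw⟩, ?_⟩
    apply V.ι.injective
    rw [← Scheme.Hom.comp_apply, hfW, Scheme.Hom.comp_apply]
    exact hwv
  have hq := Flat.isQuotientMap_of_surjective fW
  have hopenV : IsOpen (V.ι.base ⁻¹' A) := by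
    rw [← hq.isOpen_preimage]
    have h1 : fW.base ⁻¹' (V.ι.base ⁻¹' A) = W.ι.base ⁻¹' (f.base ⁻¹' A) := by
      ext w
      simp only [Set.mem_preimage]
      rw [← Scheme.Hom.comp_apply, hfW, Scheme.Hom.comp_apply]
    rw [h1]
    exact hA.preimage W.ι.continuous
  refine ⟨V.ι.base '' (V.ι.base ⁻¹' A), ?_, V.ι.isOpenEmbedding.isOpenMap _ hopenV, ?_⟩
  · rintro _ ⟨v, hv, rfl⟩
    exact hv
  · exact ⟨⟨a, haV⟩, ha, rfl⟩

end Topology

end Groth.Agent.Lib.Helper14.DiagHomG2
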