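import Mathlib
import Groth.Prelude.Def_AlgGrp
import Groth.Prelude.Def_Red

/-!
# helper14: base change of group actions along `g : S' ⟶ S`
-/

set_option autoImplicit false
universe u
open CategoryTheory MonoidalCategory CartesianMonoidalCategory MonObj GrpObj AlgebraicGeometry
  CategoryTheory.Limits

namespace Groth.Agent.Lib.Helper14.BCAct

variable {S S' : Scheme.{u}} (g : S' ⟶ S)

/-- the projection `W_{S'} ⟶ W` -/
noncomputable abbrev prL (W : Over S) : (Red.bc g W).left ⟶ W.left := pullback.fst W.hom g

theorem map_left_prL {W W' : Over S} (h : W' ⟶ W) :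
    ((Over.pullback g).map h).left ≫ prL g W = prL g W' ≫ h.left := by
  simp only [Over.pullback_map_left, pullback.lift_fst]

/-- base change squares are cartesian -/
theorem isPullback_map_left {W W' : Over S} (h : W' ⟶ W) :
    IsPullback (prL g W') ((Over.pullback g).map h).left h.left (prL g W) := by
  have hR : IsPullback (prL g W) (Red.bc g W).hom W.hom g :=
    IsPullback.of_hasPullback W.hom g
  have hB : IsPullback (prL g W') (Red.bc g W').hom (h.left ≫ W.hom) g := by
    rw [Over.w h]
    exact IsPullback.of_hasPullback W'.hom g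
  have hw : ((Over.pullback g).map h).left ≫ (Red.bc g W).hom = (Red.bc g W').hom :=
    Over.w _
  rw [← hw] at hB
  exact (IsPullback.of_right hB.flip (map_left_prL g h) hR.flip).flip

theorem surjective_prL [Surjective g] (W : Over S) : Surjective (prL g W) :=
  inferInstanceAs (Surjective (pullback.fst W.hom g))

theorem flat_prL [Flat g] (W : Over S) : Flat (prL g W) :=
  inferInstanceAs (Flat (pullback.fst W.hom g))

variable {G X : Over S} [GrpObj G] (a : AlgGrp.Action G X)

/-- base change of an action -/
noncomputable def bcAction : AlgGrp.Action (Red.bc g G) (Red.bc g X) where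
  act := Functor.LaxMonoidal.μ (Over.pullback g) G X ≫ (Over.pullback g).map a.act
  one_act := by
    have h1 : (η[Red.bc g G] : 𝟙_ (Over S') ⟶ Red.bc g G) =
        Functor.LaxMonoidal.ε (Over.pullback g) ≫ (Over.pullback g).map η[G] := rfl
    rw [h1, comp_whiskerRight, Category.assoc, Functor.LaxMonoidal.μ_natural_left_assoc,
      ← Functor.map_comp, a.one_act]
    exact (Functor.LaxMonoidal.left_unitality (Over.pullback g) X).symm
  mul_act := by
    have h1 : (μ[Red.bc g G] : Red.bc g G ⊗ Red.bc g G ⟶ Red.bc g G) =
        Functor.LaxMonoidal.μ (Over.pullback g) G G ≫ (Over.pullback g).map μ[G] := rfl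
    rw [h1, comp_whiskerRight, Category.assoc, Functor.LaxMonoidal.μ_natural_left_assoc,
      ← Functor.map_comp, a.mul_act, Functor.map_comp, Functor.map_comp,
      Functor.LaxMonoidal.associativity_assoc, MonoidalCategory.whiskerLeft_comp, Category.assoc,
      Functor.LaxMonoidal.μ_natural_right_assoc]

/-- the projection `G_{S'} × X_{S'} ⟶ G × X` -/
noncomputable def prT (G X : Over S) : (Red.bc g G ⊗ Red.bc g X).left ⟶ (G ⊗ X).left :=
  (Functor.LaxMonoidal.μ (Over.pullback g) G X).left ≫ prL g (G ⊗ X)

theorem bcAction_act_prL :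
    (bcAction g a).act.left ≫ prL g X = prT g G X ≫ a.act.left := by
  show (Functor.LaxMonoidal.μ (Over.pullback g) G X ≫ (Over.pullback g).map a.act).left ≫
    prL g X = _
  rw [Over.comp_left, Category.assoc, map_left_prL, prT, Category.assoc]

omit [GrpObj G] in
theorem whiskerLeft_prT {Y : Over S} (f : X ⟶ Y) :
    (Red.bc g G ◁ (Over.pullback g).map f).left ≫ prT g G Y = prT g G X ≫ (G ◁ f).left := by
  have h := congrArg (fun t => t.left) (Functor.LaxMonoidal.μ_natural_right (Over.pullback g) G f)
  simp only [Over.comp_left] at h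
  rw [prT, ← Category.assoc, h, Category.assoc, map_left_prL, prT, Category.assoc]

omit [GrpObj G] in
theorem isPullback_whiskerLeft_prT {Y : Over S} (f : X ⟶ Y) :
    IsPullback (prT g G X) (Red.bc g G ◁ (Over.pullback g).map f).left (G ◁ f).left
      (prT g G Y) := by
  have h1 := isPullback_map_left g (G ◁ f)
  haveI : IsIso (Functor.LaxMonoidal.μ (Over.pullback g) G X).left :=
    inferInstanceAs (IsIso ((Over.forget _).map (Functor.LaxMonoidal.μ (Over.pullback g) G X)))
  haveI : IsIso (Functor.LaxMonoidal.μ (Over.pullback g) G Y).left :=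
    inferInstanceAs (IsIso ((Over.forget _).map (Functor.LaxMonoidal.μ (Over.pullback g) G Y)))
  have h := congrArg (fun t => t.left) (Functor.LaxMonoidal.μ_natural_right (Over.pullback g) G f)
  simp only [Over.comp_left] at h
  have h2 : IsPullback (Functor.LaxMonoidal.μ (Over.pullback g) G X).left
      (Red.bc g G ◁ (Over.pullback g).map f).left ((Over.pullback g).map (G ◁ f)).left
      (Functor.LaxMonoidal.μ (Over.pullback g) G Y).left :=
    IsPullback.of_horiz_isIso ⟨h.symm⟩
  exact h2.paste_horiz h1

omit [GrpObj G] in
theorem surjective_prT [Surjective g] (G X : Over S) : Surjective (prT g G X) := by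
  haveI : IsIso (Functor.LaxMonoidal.μ (Over.pullback g) G X).left :=
    inferInstanceAs (IsIso ((Over.forget _).map (Functor.LaxMonoidal.μ (Over.pullback g) G X)))
  haveI := surjective_prL g (G ⊗ X)
  rw [prT]
  infer_instance

end Groth.Agent.Lib.Helper14.BCAct
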