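import Mathlib
import Groth.Agent.Lib.Helper14.BCAct

/-!
# helper14: the base change of an action and the adjunction `Over.map v ⊣ Over.pullback v`
-/

set_option autoImplicit false
universe u
open CategoryTheory CategoryTheory.Limits AlgebraicGeometry MonoidalCategory
  CartesianMonoidalCategory MonObj

namespace Groth.Agent.Lib.Helper14.BCActAdj

noncomputable section

open Groth.Agent.Lib.Helper14.BCAct

variable {S S' : Scheme.{u}} (v : S' ⟶ S) {G X : Over S} [GrpObj G] (a : AlgGrp.Action G X)

theorem adj_act (T : Over S') (g' : (Over.map v).obj T ⟶ G) (x' : (Over.map v).obj T ⟶ X) :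
    (Over.mapPullbackAdj v).homEquiv T X (lift g' x' ≫ a.act) =
      lift ((Over.mapPullbackAdj v).homEquiv T G g') ((Over.mapPullbackAdj v).homEquiv T X x') ≫
        (bcAction v a).act := by
  rw [Adjunction.homEquiv_unit, Adjunction.homEquiv_unit, Adjunction.homEquiv_unit]
  change _ = _ ≫ Functor.LaxMonoidal.μ (Over.pullback v) G X ≫ (Over.pullback v).map a.act
  rw [← comp_lift, Category.assoc, Functor.Monoidal.lift_μ_assoc, ← Functor.map_comp]

/-- if the base-changed action fixes the adjoint points, the action fixes the points -/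
theorem act_eq_of_bc (T : Over S') (g' : (Over.map v).obj T ⟶ G) (x' : (Over.map v).obj T ⟶ X)
    (h : lift ((Over.mapPullbackAdj v).homEquiv T G g') ((Over.mapPullbackAdj v).homEquiv T X x') ≫
        (bcAction v a).act = (Over.mapPullbackAdj v).homEquiv T X x') :
    lift g' x' ≫ a.act = x' := by
  apply ((Over.mapPullbackAdj v).homEquiv T X).injective
  rw [adj_act, h]

/-- if the action fixes the adjoint points, the base-changed action fixes the points -/
theorem bc_eq_of_act (T : Over S') (g : T ⟶ Red.bc v G) (x : T ⟶ Red.bc v X)
    (h : lift (((Over.mapPullbackAdj v).homEquiv T G).symm g)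
      (((Over.mapPullbackAdj v).homEquiv T X).symm x) ≫ a.act =
        ((Over.mapPullbackAdj v).homEquiv T X).symm x) :
    lift g x ≫ (bcAction v a).act = x := by
  have h1 := adj_act v a T (((Over.mapPullbackAdj v).homEquiv T G).symm g)
    (((Over.mapPullbackAdj v).homEquiv T X).symm x)
  rw [h, Equiv.apply_symm_apply, Equiv.apply_symm_apply] at h1
  exact h1.symm

end

end Groth.Agent.Lib.Helper14.BCActAdj
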