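import Mathlib
import Groth.Prelude.Def_AlgGrp

/-!
# helper14: the axioms of `AlgGrp.Action` in terms of `T`-valued points
-/

set_option autoImplicit false
universe u
open CategoryTheory MonoidalCategory CartesianMonoidalCategory MonObj GrpObj AlgebraicGeometry

namespace Groth.Agent.Lib.Helper14.ActPts

variable {S : Scheme.{u}} {G X : Over S} [GrpObj G] (a : AlgGrp.Action G X)

theorem act_one_pt {T : Over S} (z : T ⟶ X) : lift (toUnit T ≫ η[G]) z ≫ a.act = z := by
  have : lift (toUnit T ≫ η[G]) z = lift (toUnit T) z ≫ (η[G] ▷ X) := by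
    apply CartesianMonoidalCategory.hom_ext
    · simp only [Category.assoc, lift_fst, whiskerRight_fst, lift_fst_assoc]
    · simp only [Category.assoc, lift_snd, whiskerRight_snd]
  rw [this, Category.assoc, a.one_act]
  simp only [leftUnitor_hom, lift_snd]

theorem act_one_pt' {T : Over S} (z : T ⟶ X) : lift (1 : T ⟶ G) z ≫ a.act = z := by
  rw [Hom.one_def]
  exact act_one_pt a z

theorem act_mul_pt {T : Over S} (m₁ m₂ : T ⟶ G) (z : T ⟶ X) :
    lift (m₁ * m₂) z ≫ a.act = lift m₁ (lift m₂ z ≫ a.act) ≫ a.act := by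
  have h1 : lift (m₁ * m₂) z = lift (lift m₁ m₂) z ≫ (μ[G] ▷ X) := by
    apply CartesianMonoidalCategory.hom_ext
    · simp only [Category.assoc, lift_fst, whiskerRight_fst, lift_fst_assoc, Hom.mul_def]
    · simp only [Category.assoc, lift_snd, whiskerRight_snd]
  have h2 : lift (lift m₁ m₂) z ≫ (α_ G G X).hom ≫ (G ◁ a.act) =
      lift m₁ (lift m₂ z ≫ a.act) := by
    apply CartesianMonoidalCategory.hom_ext
    · simp
    · simp only [Category.assoc, whiskerLeft_snd, lift_snd]
      rw [← Category.assoc, ← Category.assoc]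
      congr 1
      apply CartesianMonoidalCategory.hom_ext <;> simp
  rw [h1, Category.assoc, a.mul_act, ← h2]
  simp only [Category.assoc]

theorem act_comp_pt {T T' : Over S} (t : T' ⟶ T) (m : T ⟶ G) (z : T ⟶ X) :
    t ≫ lift m z ≫ a.act = lift (t ≫ m) (t ≫ z) ≫ a.act := by
  rw [← Category.assoc, comp_lift]

end Groth.Agent.Lib.Helper14.ActPts
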