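import Mathlib

/-!
# helper14: an action of a diagonalisable group which is trivial modulo a nilpotent ideal is trivial
(algebraic core)

`ActData I B N` is the functor-of-points form of an action of `D(N)` on `Spec B` over `Spec R`:
for every `R`-algebra `C`, a map `(N →* C) × (B →ₐ[R] C) → (B →ₐ[R] C)`, natural in `C`, unital and
multiplicative, which is trivial on the `R`-algebras killed by `I`. If `I` is nilpotent, the action
is trivial (`ActData.act_eq`).
-/

set_option autoImplicit false
universe u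

namespace Groth.Agent.Lib.Helper14.MultNilAlg

open MonoidAlgebra

variable {R : Type u} [CommRing R] (I : Ideal R)
  (B : Type u) [CommRing B] [Algebra R B] (N : Type) [CommMonoid N]

structure ActData where
  act : ∀ (C : Type u) [CommRing C] [Algebra R C], (N →* C) → (B →ₐ[R] C) → (B →ₐ[R] C)
  nat : ∀ (C C' : Type u) [CommRing C] [Algebra R C] [CommRing C'] [Algebra R C']
    (f : C →ₐ[R] C') (γ : N →* C) (ξ : B →ₐ[R] C),
    act C' ((f : C →* C').comp γ) (f.comp ξ) = f.comp (act C γ ξ)
  one : ∀ (C : Type u) [CommRing C] [Algebra R C] (ξ : B →ₐ[R] C), act C 1 ξ = ξ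
  mul : ∀ (C : Type u) [CommRing C] [Algebra R C] (γ γ' : N →* C) (ξ : B →ₐ[R] C),
    act C (γ * γ') ξ = act C γ (act C γ' ξ)
  triv : ∀ (C : Type u) [CommRing C] [Algebra R C], (∀ r ∈ I, algebraMap R C r = 0) →
    ∀ (γ : N →* C) (ξ : B →ₐ[R] C), act C γ ξ = ξ

variable {I B N}

section ev

variable {C : Type u} [CommRing C] [Algebra R C] (γ : N →* C) (ξ : B →ₐ[R] C)

/-- the algebra map `B[N] → C` given by `ξ` on `B` and `γ` on `N` -/
noncomputable def ev : MonoidAlgebra B N →ₐ[R] C :=
  MonoidAlgebra.liftNCAlgHom ξ γ (fun _ _ => Commute.all _ _)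

lemma ev_single (n : N) (b : B) : ev γ ξ (single n b) = ξ b * γ n := by
  simp [ev]

lemma ev_comp_singleOne : (ev γ ξ).comp (singleOneAlgHom (R := R) (A := B) (M := N)) = ξ := by
  ext b
  change ev γ ξ (single 1 b) = ξ b
  rw [ev_single, map_one, mul_one]

lemma ev_comp_of : ((ev γ ξ : MonoidAlgebra B N →* C)).comp (of B N) = γ := by
  ext n
  change ev γ ξ (single n 1) = γ n
  rw [ev_single, map_one, one_mul]

end ev

namespace ActData

variable (A : ActData I B N)

/-- the coaction -/
noncomputable def ρ : B →ₐ[R] MonoidAlgebra B N :=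
  A.act (MonoidAlgebra B N) (of B N) (singleOneAlgHom (R := R) (A := B) (M := N))

lemma act_eq_ev {C : Type u} [CommRing C] [Algebra R C] (γ : N →* C) (ξ : B →ₐ[R] C) :
    A.act C γ ξ = (ev γ ξ).comp A.ρ := by
  have h := A.nat (MonoidAlgebra B N) C (ev γ ξ) (of B N) (singleOneAlgHom (R := R) (A := B) (M := N))
  rw [ev_comp_singleOne, ev_comp_of] at h
  exact h


/-- the `n`-th coefficient of the coaction, an `R`-linear endomorphism of `B` -/
noncomputable def L (n : N) : B →ₗ[R] B where
  toFun b := (A.ρ b).coeff n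
  map_add' x y := by rw [map_add, coeff_add, Finsupp.add_apply]
  map_smul' r x := by
    rw [map_smul, RingHom.id_apply]
    rfl

lemma L_apply (n : N) (b : B) : A.L n b = (A.ρ b).coeff n := rfl

/-- counit -/
lemma ev_one_ρ (b : B) : ev (1 : N →* B) (AlgHom.id R B) (A.ρ b) = b := by
  have h := A.one B (AlgHom.id R B)
  rw [A.act_eq_ev] at h
  exact congrArg (fun f => f b) h

/-- coassociativity -/
lemma ρ_L (n : N) (b : B) : A.ρ (A.L n b) = single n (A.L n b) := by
  classical
  let P := MonoidAlgebra B N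
  let P₂ := MonoidAlgebra P N
  let ι' : P →ₐ[R] P₂ := singleOneAlgHom (R := R) (A := P) (M := N)
  let γ₁ : N →* P₂ := of P N
  let γ₂ : N →* P₂ := (ι' : P →* P₂).comp (of B N)
  let ξ₂ : B →ₐ[R] P₂ := ι'.comp (singleOneAlgHom (R := R) (A := B) (M := N))
  have h1 : A.act P₂ γ₂ ξ₂ = ι'.comp A.ρ :=
    A.nat P P₂ ι' (of B N) (singleOneAlgHom (R := R) (A := B) (M := N))
  have h2 := A.mul P₂ γ₁ γ₂ ξ₂
  rw [h1, A.act_eq_ev, A.act_eq_ev] at h2
  have h3 := congrArg (fun f => (f b).coeff n) h2
  simp only [AlgHom.comp_apply] at h3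
  -- the two sides as additive maps of `ρ b`
  let oc : P₂ →+ P := (Finsupp.applyAddHom n).comp (coeffAddEquiv (R := P) (M := N)).toAddMonoidHom
  have hoc : ∀ q : P₂, oc q = q.coeff n := fun q => rfl
  let ic : P →+ B := (Finsupp.applyAddHom n).comp (coeffAddEquiv (R := B) (M := N)).toAddMonoidHom
  have hic : ∀ q : P, ic q = q.coeff n := fun q => rfl
  have e1 : oc.comp ((ev (γ₁ * γ₂) ξ₂ : P →ₐ[R] P₂) : P →+ P₂) =
      (singleAddHom (R := B) (M := N) n).comp ic := by
    apply MonoidAlgebra.addMonoidHom_ext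
    intro m x
    simp only [AddMonoidHom.comp_apply, hoc, hic]
    change (ev (γ₁ * γ₂) ξ₂ (single m x)).coeff n = single n ((single m x).coeff n)
    rw [ev_single]
    have : ξ₂ x * (γ₁ * γ₂) m = single m (single m x) := by
      change single 1 (single 1 x) * (single m 1 * single 1 (single m 1)) = _
      simp only [single_mul_single, mul_one, one_mul]
    rw [this, coeff_single, coeff_single, Finsupp.single_apply, Finsupp.single_apply]
    split_ifs with h
    · subst h; rfl
    · exact (single_zero _).symm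
  have e2 : oc.comp ((ev γ₁ (ι'.comp A.ρ) : P →ₐ[R] P₂) : P →+ P₂) =
      ((A.ρ : B →ₐ[R] P) : B →+ P).comp ic := by
    apply MonoidAlgebra.addMonoidHom_ext
    intro m x
    simp only [AddMonoidHom.comp_apply, hoc, hic]
    change (ev γ₁ (ι'.comp A.ρ) (single m x)).coeff n = A.ρ ((single m x).coeff n)
    rw [ev_single]
    have : (ι'.comp A.ρ) x * γ₁ m = single m (A.ρ x) := by
      change single 1 (A.ρ x) * single m 1 = _
      rw [single_mul_single, one_mul, mul_one]
    rw [this, coeff_single, coeff_single, Finsupp.single_apply, Finsupp.single_apply]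
    split_ifs with h
    · rfl
    · exact (map_zero _).symm
  have e1' := congrArg (fun f => f (A.ρ b)) e1
  have e2' := congrArg (fun f => f (A.ρ b)) e2
  simp only [AddMonoidHom.comp_apply, hoc, hic] at e1' e2'
  change (ev γ₁ (ι'.comp A.ρ) (A.ρ b)).coeff n = A.ρ ((A.ρ b).coeff n) at e2'
  change (ev (γ₁ * γ₂) ξ₂ (A.ρ b)).coeff n = single n ((A.ρ b).coeff n) at e1'
  rw [L_apply, ← e2', ← e1']
  exact h3.symm


lemma L_L (n : N) (b : B) : A.L n (A.L n b) = A.L n b := by
  classical
  rw [L_apply, ρ_L, coeff_single, Finsupp.single_eq_same]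

/-- elements of `I · B[N]` have coefficients in `I · B` -/
lemma coeff_mem_of_mem_map (p : MonoidAlgebra B N)
    (hp : p ∈ I.map (algebraMap R (MonoidAlgebra B N))) (n : N) :
    p.coeff n ∈ I.map (algebraMap R B) := by
  let K : Ideal (MonoidAlgebra B N) :=
    RingHom.ker (mapRingHom N (Ideal.Quotient.mk (I.map (algebraMap R B))))
  have hle : I.map (algebraMap R (MonoidAlgebra B N)) ≤ K := by
    rw [Ideal.map_le_iff_le_comap]
    intro r hr
    rw [Ideal.mem_comap, RingHom.mem_ker]
    change mapRingHom N _ (single 1 (algebraMap R B r)) = 0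
    rw [mapRingHom_single]
    have : (Ideal.Quotient.mk (I.map (algebraMap R B))) (algebraMap R B r) = 0 :=
      Ideal.Quotient.eq_zero_iff_mem.mpr (Ideal.mem_map_of_mem _ hr)
    rw [this, single_zero]
  have h1 := hle hp
  rw [RingHom.mem_ker] at h1
  have h2 := congrArg (fun q => q.coeff n) h1
  simp only [coeff_mapRingHom, coeff_zero, Finsupp.zero_apply] at h2
  exact Ideal.Quotient.eq_zero_iff_mem.mp h2

/-- the coaction is trivial modulo `I` -/
lemma ρ_sub_mem (b : B) :
    A.ρ b - single 1 b ∈ I.map (algebraMap R (MonoidAlgebra B N)) := by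
  let J : Ideal (MonoidAlgebra B N) := I.map (algebraMap R (MonoidAlgebra B N))
  let q : MonoidAlgebra B N →ₐ[R] (MonoidAlgebra B N ⧸ J) := Ideal.Quotient.mkₐ R J
  have hkill : ∀ r ∈ I, algebraMap R (MonoidAlgebra B N ⧸ J) r = 0 := by
    intro r hr
    have : algebraMap R (MonoidAlgebra B N ⧸ J) r = q (algebraMap R (MonoidAlgebra B N) r) :=
      (q.commutes r).symm
    rw [this]
    exact Ideal.Quotient.eq_zero_iff_mem.mpr (Ideal.mem_map_of_mem _ hr)
  have h1 := A.triv _ hkill ((q : MonoidAlgebra B N →* _).comp (of B N))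
    (q.comp (singleOneAlgHom (R := R) (A := B) (M := N)))
  rw [A.nat (MonoidAlgebra B N) _ q (of B N) (singleOneAlgHom (R := R) (A := B) (M := N))] at h1
  have h2 := congrArg (fun f => f b) h1
  simp only [AlgHom.comp_apply] at h2
  have h3 : q (A.ρ b - single 1 b) = 0 := by
    rw [map_sub, sub_eq_zero]
    exact h2
  exact Ideal.Quotient.eq_zero_iff_mem.mp h3

lemma L_mem (n : N) (hn : n ≠ 1) (b : B) : A.L n b ∈ I.map (algebraMap R B) := by
  classical
  have h := coeff_mem_of_mem_map _ (A.ρ_sub_mem b) n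
  rw [coeff_sub, Finsupp.sub_apply, coeff_single, Finsupp.single_apply, if_neg (Ne.symm hn),
    sub_zero] at h
  exact h

lemma L_mem_pow (n : N) (hn : n ≠ 1) (k : ℕ) (b : B) :
    A.L n b ∈ (I ^ k) • (⊤ : Submodule R B) := by
  induction k generalizing b with
  | zero => rw [pow_zero, Ideal.one_eq_top, Submodule.top_smul]; exact Submodule.mem_top
  | succ k ih =>
    have h1 : A.L n (A.L n b) ∈ Submodule.map (A.L n) ((I ^ k) • (⊤ : Submodule R B)) :=
      Submodule.mem_map_of_mem (ih b)
    rw [Submodule.map_smul''] at h1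
    have h2 : Submodule.map (A.L n) (⊤ : Submodule R B) ≤ I • (⊤ : Submodule R B) := by
      rintro _ ⟨x, _, rfl⟩
      have := A.L_mem n hn x
      rw [Ideal.smul_top_eq_map]
      exact this
    have h3 := Submodule.smul_mono (le_refl (I ^ k)) h2 h1
    rw [← Submodule.mul_smul, ← pow_succ] at h3
    rw [← A.L_L n b]
    exact h3

lemma L_eq_zero (hI : IsNilpotent I) (n : N) (hn : n ≠ 1) (b : B) : A.L n b = 0 := by
  obtain ⟨k, hk⟩ := hI
  have h := A.L_mem_pow n hn k b
  rw [hk, Ideal.zero_eq_bot, Submodule.bot_smul] at h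
  exact (Submodule.mem_bot R).mp h

theorem ρ_eq (hI : IsNilpotent I) : A.ρ = singleOneAlgHom (R := R) (A := B) (M := N) := by
  classical
  have h1 : ∀ b, A.ρ b = single 1 (A.L 1 b) := by
    intro b
    apply coeff_injective
    ext n
    rw [coeff_single, Finsupp.single_apply]
    split_ifs with h
    · subst h; rfl
    · exact A.L_eq_zero hI n (Ne.symm h) b
  apply AlgHom.ext
  intro b
  have h2 := A.ev_one_ρ b
  rw [h1 b, ev_single, MonoidHom.one_apply, mul_one, AlgHom.id_apply] at h2
  change A.ρ b = single 1 b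
  rw [h1 b, h2]

/-- **Main algebraic theorem**: the action is trivial. -/
theorem act_eq (hI : IsNilpotent I) (C : Type u) [CommRing C] [Algebra R C] (γ : N →* C)
    (ξ : B →ₐ[R] C) : A.act C γ ξ = ξ := by
  rw [A.act_eq_ev, A.ρ_eq hI, ev_comp_singleOne]

end ActData

end Groth.Agent.Lib.Helper14.MultNilAlg
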