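import Mathlib
import Groth.Prelude.Def_AlgGrp
import Groth.Prelude.Def_Red
import Groth.Agent.Lib.Helper14.MultNilAlg
import Groth.Agent.Lib.Helper14.ActPts
import Groth.Agent.Lib.Helper15.DSPts

/-!
# helper14: over an affine base, an action of a diagonalisable group which is trivial modulo a
nilpotent ideal is trivial
-/

set_option autoImplicit false
universe u
open CategoryTheory CategoryTheory.Limits AlgebraicGeometry MonoidalCategory
  CartesianMonoidalCategory MonObj

namespace Groth.Agent.Lib.Helper14.MultNilAff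

noncomputable section

open Groth.Agent.Lib.helper15.DSPts Groth.Agent.Lib.helper15.GaGm

section TestObjects

variable (R : Type u) [CommRing R]

/-- affine test objects over `Spec R` -/
abbrev Yo (C : Type u) [CommRing C] [Algebra R C] : Over (Spec (CommRingCat.of R)) :=
  Over.mk (Spec.map (CommRingCat.ofHom (algebraMap R C)))

variable {R}
variable {C C' C'' : Type u} [CommRing C] [Algebra R C] [CommRing C'] [Algebra R C']
  [CommRing C''] [Algebra R C'']

def Ymap (f : C →ₐ[R] C') : Yo R C' ⟶ Yo R C :=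
  Over.homMk (Spec.map (CommRingCat.ofHom f.toRingHom)) (by
    change Spec.map _ ≫ Spec.map _ = Spec.map _
    rw [← Spec.map_comp, ← CommRingCat.ofHom_comp]
    congr 2
    exact AlgHom.comp_algebraMap f)

@[simp] lemma Ymap_left (f : C →ₐ[R] C') :
    (Ymap f).left = Spec.map (CommRingCat.ofHom f.toRingHom) := rfl

lemma Ymap_comp (f : C →ₐ[R] C') (f' : C' →ₐ[R] C'') : Ymap (f'.comp f) = Ymap f' ≫ Ymap f := by
  apply Over.OverMorphism.ext
  rw [Over.comp_left, Ymap_left, Ymap_left, Ymap_left, ← Spec.map_comp, ← CommRingCat.ofHom_comp]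
  rfl

/-- the algebra hom of a morphism of test objects -/
def Ypre (t : Yo R C' ⟶ Yo R C) : C →ₐ[R] C' where
  toRingHom := (Spec.preimage t.left).hom
  commutes' r := by
    have h := Over.w t
    change t.left ≫ Spec.map _ = Spec.map _ at h
    rw [← Spec.map_preimage t.left, ← Spec.map_comp] at h
    have h2 := Spec.map_injective h
    have h3 := congrArg (fun φ => φ.hom r) h2
    exact h3

lemma Ymap_Ypre (t : Yo R C' ⟶ Yo R C) : Ymap (Ypre t) = t := by
  apply Over.OverMorphism.ext
  rw [Ymap_left]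
  exact Spec.map_preimage t.left

lemma Ymap_injective : Function.Injective (Ymap : (C →ₐ[R] C') → (Yo R C' ⟶ Yo R C)) := by
  intro f f' h
  have h1 := congrArg (fun t => t.left) h
  simp only [Ymap_left] at h1
  have h2 := Spec.map_injective h1
  apply AlgHom.ext
  intro c
  exact congrArg (fun φ => φ.hom c) h2

end TestObjects

section Diag

variable {R : Type u} [CommRing R] {M : Type} [AddCommGroup M]
  {G : Over (Spec (CommRingCat.of R))} [GrpObj G]
  (e : Grp.mk G ≅ Grp.mk (Red.DS (Spec (CommRingCat.of R)) M))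

/-- the underlying homomorphism of the isomorphism -/
def eh : G ⟶ Red.DS (Spec (CommRingCat.of R)) M := e.hom.hom.hom

instance : IsMonHom (eh e) := inferInstanceAs (IsMonHom e.hom.hom.hom)

/-- its inverse -/
def ei : Red.DS (Spec (CommRingCat.of R)) M ⟶ G := e.inv.hom.hom

lemma eh_ei : eh e ≫ ei e = 𝟙 G := congrArg (fun t => t.hom.hom) e.hom_inv_id

lemma ei_eh : ei e ≫ eh e = 𝟙 _ := congrArg (fun t => t.hom.hom) e.inv_hom_id

variable {C C' : Type u} [CommRing C] [Algebra R C] [CommRing C'] [Algebra R C']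

/-- the characters of a point of `G` on an affine test object -/
def chi (g : Yo R C ⟶ G) : Multiplicative M →* C where
  toFun m := (Scheme.ΓSpecIso (CommRingCat.of C)).hom (dsFn (g ≫ eh e) m.toAdd)
  map_one' := by rw [toAdd_one, dsFn_zero, map_one]
  map_mul' m m' := by rw [toAdd_mul, dsFn_add, map_mul]

lemma chi_apply (g : Yo R C ⟶ G) (m : Multiplicative M) :
    chi e g m = (Scheme.ΓSpecIso (CommRingCat.of C)).hom (dsFn (g ≫ eh e) m.toAdd) := rfl

lemma chi_mul (g g' : Yo R C ⟶ G) : chi e (g * g') = chi e g * chi e g' := by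
  apply MonoidHom.ext
  intro m
  have h := MonObj.mul_comp g g' (eh e)
  rw [MonoidHom.mul_apply, chi_apply, chi_apply, chi_apply, h, dsFn_mul, map_mul]

lemma chi_injective : Function.Injective (chi e : (Yo R C ⟶ G) → (Multiplicative M →* C)) := by
  intro g g' h
  have h1 : g ≫ eh e = g' ≫ eh e := by
    apply dsFn_injective
    intro m
    have h2 := congrArg (fun ch => ch (Multiplicative.ofAdd m)) h
    simp only [chi_apply, toAdd_ofAdd] at h2
    exact (ConcreteCategory.bijective_of_isIso (Scheme.ΓSpecIso (CommRingCat.of C)).hom).1 h2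
  have h3 := congrArg (fun t => t ≫ ei e) h1
  simp only [Category.assoc, eh_ei, Category.comp_id] at h3
  exact h3

lemma chi_surjective (ch : Multiplicative M →* C) : ∃ g : Yo R C ⟶ G, chi e g = ch := by
  let ψ : Multiplicative M →* Γ((Yo R C).left, ⊤) :=
    ((Scheme.ΓSpecIso (CommRingCat.of C)).inv.hom : C →* Γ(Spec (CommRingCat.of C), ⊤)).comp ch
  obtain ⟨x, hx⟩ := exists_dsFn_eq (S := Spec (CommRingCat.of R)) (X := Yo R C) ψ
  refine ⟨x ≫ ei e, ?_⟩
  apply MonoidHom.ext
  intro m
  rw [chi_apply, Category.assoc, ei_eh, Category.comp_id, hx, ofAdd_toAdd]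
  change (Scheme.ΓSpecIso (CommRingCat.of C)).hom ((Scheme.ΓSpecIso (CommRingCat.of C)).inv (ch m)) = _
  exact congrArg (fun φ => φ.hom (ch m)) (Scheme.ΓSpecIso (CommRingCat.of C)).inv_hom_id

lemma chi_nat (f : C →ₐ[R] C') (g : Yo R C ⟶ G) :
    chi e (Ymap f ≫ g) = (f : C →* C').comp (chi e g) := by
  apply MonoidHom.ext
  intro m
  rw [MonoidHom.comp_apply, chi_apply, chi_apply, Category.assoc, dsFn_comp, Ymap_left]
  have h := Scheme.ΓSpecIso_naturality (CommRingCat.ofHom f.toRingHom)
  exact congrArg (fun φ => φ.hom (dsFn (g ≫ eh e) m.toAdd)) h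

/-- the point with given characters -/
def ofChi (ch : Multiplicative M →* C) : Yo R C ⟶ G := Classical.choose (chi_surjective e ch)

lemma chi_ofChi (ch : Multiplicative M →* C) : chi e (ofChi e ch) = ch :=
  Classical.choose_spec (chi_surjective e ch)

lemma ofChi_chi (g : Yo R C ⟶ G) : ofChi e (chi e g) = g :=
  chi_injective e (chi_ofChi e _)

lemma ofChi_mul (ch ch' : Multiplicative M →* C) : ofChi e (ch * ch') = ofChi e ch * ofChi e ch' := by
  apply chi_injective e
  rw [chi_ofChi, chi_mul, chi_ofChi, chi_ofChi]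

lemma ofChi_one : ofChi e (1 : Multiplicative M →* C) = 1 := by
  have h := ofChi_mul e (1 : Multiplicative M →* C) 1
  rw [_root_.mul_one] at h
  exact (_root_.mul_eq_left (a := ofChi e (1 : Multiplicative M →* C))).mp h.symm

lemma ofChi_nat (f : C →ₐ[R] C') (ch : Multiplicative M →* C) :
    ofChi e ((f : C →* C').comp ch) = Ymap f ≫ ofChi e ch := by
  apply chi_injective e
  rw [chi_ofChi, chi_nat, chi_ofChi]

end Diag

section Chart

open Groth.Agent.Lib.Helper14.ActPts

variable {R : Type u} [CommRing R] (I : Ideal R) {M : Type} [AddCommGroup M]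
  {G X : Over (Spec (CommRingCat.of R))} [GrpObj G] (a : AlgGrp.Action G X)
  (e : Grp.mk G ≅ Grp.mk (Red.DS (Spec (CommRingCat.of R)) M))

/-- a quotient by a nilpotent ideal induces a surjection on spectra -/
lemma surjective_Ymap_mk (hI : IsNilpotent I) (C : Type u) [CommRing C] [Algebra R C] :
    Function.Surjective
      ((Ymap (Ideal.Quotient.mkₐ R (I.map (algebraMap R C)))).left.base : _ → _) := by
  intro c
  have h1 : Set.range (PrimeSpectrum.comap (Ideal.Quotient.mk (I.map (algebraMap R C)))) =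
      Set.univ := by
    rw [range_comap_of_surjective _ _ Ideal.Quotient.mk_surjective,
      PrimeSpectrum.zeroLocus_eq_univ_iff, Ideal.mk_ker]
    obtain ⟨n, hn⟩ := hI
    intro x hx
    refine ⟨n, ?_⟩
    have h2 : x ^ n ∈ (I.map (algebraMap R C)) ^ n := Ideal.pow_mem_pow hx n
    rw [← Ideal.map_pow, hn, Ideal.zero_eq_bot, Ideal.map_bot] at h2
    exact h2
  have h3 : c ∈ Set.range (PrimeSpectrum.comap (Ideal.Quotient.mk (I.map (algebraMap R C)))) := by
    rw [h1]; exact Set.mem_univ c
  obtain ⟨c₀, hc₀⟩ := h3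
  exact ⟨c₀, hc₀⟩

variable (h0 : ∀ (C : Type u) [CommRing C] [Algebra R C], (∀ r ∈ I, algebraMap R C r = 0) →
    ∀ (g : Yo R C ⟶ G) (x : Yo R C ⟶ X), lift g x ≫ a.act = x)
  (B : Type u) [CommRing B] [Algebra R B] (j : Yo R B ⟶ X) [IsOpenImmersion j.left]

include h0 in
/-- an affine chart is stable under the action -/
lemma exists_factor (hI : IsNilpotent I) (C : Type u) [CommRing C] [Algebra R C] (g : Yo R C ⟶ G)
    (x : Yo R C ⟶ Yo R B) : ∃ x' : Yo R C ⟶ Yo R B, x' ≫ j = lift g (x ≫ j) ≫ a.act := by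
  let J : Ideal C := I.map (algebraMap R C)
  let q : C →ₐ[R] C ⧸ J := Ideal.Quotient.mkₐ R J
  have hkill : ∀ r ∈ I, algebraMap R (C ⧸ J) r = 0 := by
    intro r hr
    have : algebraMap R (C ⧸ J) r = q (algebraMap R C r) := (q.commutes r).symm
    rw [this]
    exact Ideal.Quotient.eq_zero_iff_mem.mpr (Ideal.mem_map_of_mem _ hr)
  let y : Yo R C ⟶ X := lift g (x ≫ j) ≫ a.act
  have hpt : Ymap q ≫ y = Ymap q ≫ x ≫ j := by
    change Ymap q ≫ lift g (x ≫ j) ≫ a.act = _
    rw [act_comp_pt]
    exact h0 (C ⧸ J) hkill _ _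
  have hrange : Set.range y.left.base ⊆ Set.range j.left.base := by
    rintro _ ⟨c, rfl⟩
    obtain ⟨c₀, rfl⟩ := surjective_Ymap_mk I hI C c
    have h1 : y.left.base ((Ymap q).left.base c₀) = (Ymap q ≫ y).left.base c₀ := by
      rw [Over.comp_left, Scheme.Hom.comp_base]; rfl
    rw [h1, hpt]
    refine ⟨((Ymap q ≫ x).left.base c₀), ?_⟩
    rw [← Category.assoc]
    rfl
  let l : (Yo R C).left ⟶ (Yo R B).left := IsOpenImmersion.lift j.left y.left hrange
  have hl : l ≫ j.left = y.left := IsOpenImmersion.lift_fac _ _ _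
  refine ⟨Over.homMk l ?_, ?_⟩
  · rw [← Over.w j, ← Category.assoc, hl]
    exact Over.w y
  · apply Over.OverMorphism.ext
    rw [Over.comp_left]
    exact hl

omit [GrpObj G] in
lemma mono_chart : Mono j :=
  (Over.forget _).mono_of_mono_map (inferInstanceAs (Mono j.left))

/-- the action on points of the chart -/
def actPt (hI : IsNilpotent I) (C : Type u) [CommRing C] [Algebra R C] (g : Yo R C ⟶ G)
    (x : Yo R C ⟶ Yo R B) : Yo R C ⟶ Yo R B :=
  Classical.choose (exists_factor I a h0 B j hI C g x)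

lemma actPt_spec (hI : IsNilpotent I) (C : Type u) [CommRing C] [Algebra R C] (g : Yo R C ⟶ G)
    (x : Yo R C ⟶ Yo R B) : actPt I a h0 B j hI C g x ≫ j = lift g (x ≫ j) ≫ a.act :=
  Classical.choose_spec (exists_factor I a h0 B j hI C g x)


open Groth.Agent.Lib.Helper14.MultNilAlg in
/-- the functor-of-points action datum of the chart -/
def chartActData (hI : IsNilpotent I) : ActData I B (Multiplicative M) where
  act C _ _ ch ξ := Ypre (actPt I a h0 B j hI C (ofChi e ch) (Ymap ξ))
  nat C C' _ _ _ _ f ch ξ := by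
    haveI := mono_chart B j
    apply Ymap_injective
    rw [← cancel_mono j]
    have hL : Ymap (Ypre (actPt I a h0 B j hI C' (ofChi e ((f : C →* C').comp ch))
        (Ymap (f.comp ξ)))) ≫ j =
        lift (Ymap f ≫ ofChi e ch) (Ymap f ≫ Ymap ξ ≫ j) ≫ a.act := by
      rw [Ymap_Ypre, actPt_spec, ofChi_nat, Ymap_comp, Category.assoc]
    have hR : Ymap (f.comp (Ypre (actPt I a h0 B j hI C (ofChi e ch) (Ymap ξ)))) ≫ j =
        lift (Ymap f ≫ ofChi e ch) (Ymap f ≫ Ymap ξ ≫ j) ≫ a.act := by
      rw [Ymap_comp, Ymap_Ypre, Category.assoc, actPt_spec, act_comp_pt]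
    exact hL.trans hR.symm
  one C _ _ ξ := by
    haveI := mono_chart B j
    apply Ymap_injective
    rw [← cancel_mono j, Ymap_Ypre, actPt_spec, ofChi_one, act_one_pt']
  mul C _ _ ch ch' ξ := by
    haveI := mono_chart B j
    apply Ymap_injective
    rw [← cancel_mono j, Ymap_Ypre, actPt_spec, Ymap_Ypre, actPt_spec, Ymap_Ypre, actPt_spec,
      ofChi_mul, act_mul_pt]
  triv C _ _ hC ch ξ := by
    haveI := mono_chart B j
    apply Ymap_injective
    rw [← cancel_mono j, Ymap_Ypre, actPt_spec]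
    exact h0 C hC _ _

include h0 e in
/-- the action is trivial on points of an affine chart with values in affine test objects -/
theorem chart_trivial (hI : IsNilpotent I) (C : Type u) [CommRing C] [Algebra R C]
    (g : Yo R C ⟶ G) (x : Yo R C ⟶ Yo R B) : lift g (x ≫ j) ≫ a.act = x ≫ j := by
  have h := (chartActData I a e h0 B j hI).act_eq hI C (chi e g) (Ypre x)
  have h2 := congrArg (fun ξ => Ymap ξ ≫ j) h
  change Ymap (Ypre (actPt I a h0 B j hI C (ofChi e (chi e g)) (Ymap (Ypre x)))) ≫ j =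
    Ymap (Ypre x) ≫ j at h2
  rw [Ymap_Ypre, actPt_spec, ofChi_chi, Ymap_Ypre] at h2
  exact h2

end Chart

section Global

open Groth.Agent.Lib.Helper14.ActPts

variable {R : Type u} [CommRing R]

/-- an affine open of a scheme over `Spec R` as an affine test object -/
lemma exists_chart (T : Over (Spec (CommRingCat.of R))) (O : T.left.Opens) (hO : IsAffineOpen O) :
    ∃ (C : Type u) (_ : CommRing C) (_ : Algebra R C) (t : Yo R C ⟶ T),
      IsOpenImmersion t.left ∧ Set.range t.left.base = (O : Set T.left) := by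
  let φ : CommRingCat.of R ⟶ Γ(T.left, O) := Spec.preimage (hO.fromSpec ≫ T.hom)
  letI : Algebra R Γ(T.left, O) := φ.hom.toAlgebra
  have hφ : CommRingCat.ofHom (algebraMap R Γ(T.left, O)) = φ := rfl
  refine ⟨Γ(T.left, O), inferInstance, inferInstance, Over.homMk hO.fromSpec ?_, ?_, ?_⟩
  · change hO.fromSpec ≫ T.hom = Spec.map (CommRingCat.ofHom (algebraMap R Γ(T.left, O)))
    rw [hφ, Spec.map_preimage]
  · exact inferInstanceAs (IsOpenImmersion hO.fromSpec)
  · exact hO.range_fromSpec

/-- two morphisms which agree locally on the source are equal -/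
lemma hom_ext_of_locally_eq {T Y : Scheme.{u}} (f₁ f₂ : T ⟶ Y)
    (h : ∀ z : T, ∃ O : T.Opens, z ∈ O ∧ O.ι ≫ f₁ = O.ι ≫ f₂) : f₁ = f₂ := by
  choose O hzO hO using h
  have hcov : TopologicalSpace.IsOpenCover O := by
    apply TopologicalSpace.IsOpenCover.mk
    rw [eq_top_iff]
    intro z _
    exact TopologicalSpace.Opens.mem_iSup.mpr ⟨z, hzO z⟩
  exact (T.openCoverOfIsOpenCover O hcov).hom_ext f₁ f₂ hO

variable (I : Ideal R) {M : Type} [AddCommGroup M]
  {G X : Over (Spec (CommRingCat.of R))} [GrpObj G] (a : AlgGrp.Action G X)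
  (e : Grp.mk G ≅ Grp.mk (Red.DS (Spec (CommRingCat.of R)) M))
  (h0 : ∀ (C : Type u) [CommRing C] [Algebra R C], (∀ r ∈ I, algebraMap R C r = 0) →
    ∀ (g : Yo R C ⟶ G) (x : Yo R C ⟶ X), lift g x ≫ a.act = x)

include e h0 in
/-- **Affine base**: an action of a diagonalisable group over `Spec R` which is trivial on the
`R`-algebras killed by a nilpotent ideal `I` is trivial. -/
theorem action_trivial (hI : IsNilpotent I) (T : Over (Spec (CommRingCat.of R))) (g : T ⟶ G)
    (x : T ⟶ X) : lift g x ≫ a.act = x := by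
  apply Over.OverMorphism.ext
  apply hom_ext_of_locally_eq
  intro z
  have hbX : ∀ (U : X.left.Opens) (p : X.left), p ∈ U → ∃ U' ∈ X.left.affineOpens, p ∈ U' ∧ U' ≤ U :=
    fun U p hp => TopologicalSpace.Opens.isBasis_iff_nbhd.mp X.left.isBasis_affineOpens hp
  have hbT : ∀ (U : T.left.Opens) (p : T.left), p ∈ U → ∃ U' ∈ T.left.affineOpens, p ∈ U' ∧ U' ≤ U :=
    fun U p hp => TopologicalSpace.Opens.isBasis_iff_nbhd.mp T.left.isBasis_affineOpens hp
  obtain ⟨W, hW, hzW, -⟩ := hbX ⊤ (x.left.base z) trivial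
  obtain ⟨O, hO, hzO, hOW⟩ := hbT (x.left ⁻¹ᵁ W) z hzW
  refine ⟨O, hzO, ?_⟩
  obtain ⟨B, _, _, j, hj, hjr⟩ := exists_chart X W hW
  obtain ⟨C, _, _, t, ht, htr⟩ := exists_chart T O hO
  have hrange : Set.range (t ≫ x).left.base ⊆ Set.range j.left.base := by
    rintro _ ⟨c, rfl⟩
    rw [hjr]
    have h1 : t.left.base c ∈ (O : Set T.left) := by
      rw [← htr]; exact ⟨c, rfl⟩
    exact hOW h1
  let l : (Yo R C).left ⟶ (Yo R B).left := IsOpenImmersion.lift j.left (t ≫ x).left hrange
  have hl : l ≫ j.left = (t ≫ x).left := IsOpenImmersion.lift_fac _ _ _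
  let x'' : Yo R C ⟶ Yo R B := Over.homMk l (by
    rw [← Over.w j, ← Category.assoc, hl]
    exact Over.w (t ≫ x))
  have hx'' : x'' ≫ j = t ≫ x := by
    apply Over.OverMorphism.ext
    rw [Over.comp_left]
    exact hl
  have key : t ≫ (lift g x ≫ a.act) = t ≫ x := by
    rw [act_comp_pt, ← hx'']
    exact chart_trivial I a e h0 B j hI C (t ≫ g) x''
  have key' : t.left ≫ (lift g x ≫ a.act).left = t.left ≫ x.left :=
    congrArg (fun k => k.left) key
  -- `t.left` is `O.ι` up to an isomorphism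
  have hιt : Set.range O.ι.base ⊆ Set.range t.left.base := by
    rw [htr]
    rintro _ ⟨c, rfl⟩
    exact c.2
  have hfac : IsOpenImmersion.lift t.left O.ι hιt ≫ t.left = O.ι := IsOpenImmersion.lift_fac _ _ _
  rw [← hfac, Category.assoc, Category.assoc, key']

end Global

end

end Groth.Agent.Lib.Helper14.MultNilAff
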