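import Mathlib
import Groth.Prelude.Def_AlgGrp
import Groth.Prelude.Def_Red
import Groth.Agent.Lib.Helper14.MultNilAff
import Groth.Agent.Lib.Helper14.BCActAdj

/-!
# helper14: an action of a diagonalisable group trivial modulo a nilpotent ideal is trivial
(local form over an arbitrary base)
-/

set_option autoImplicit false
universe u
open CategoryTheory CategoryTheory.Limits AlgebraicGeometry MonoidalCategory
  CartesianMonoidalCategory MonObj

namespace Groth.Agent.Lib.Helper14.MultNilLoc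

noncomputable section

open Groth.Agent.Lib.Helper14.MultNilAff Groth.Agent.Lib.Helper14.BCAct
  Groth.Agent.Lib.Helper14.BCActAdj

/-- a morphism from an affine scheme into an affine open `V`, whose ring map kills the ideal of a
closed subscheme on `V`, factors through the closed subscheme -/
theorem exists_lift_closedImmersion {S₀ S : Scheme.{u}} (i₀ : S₀ ⟶ S) [IsClosedImmersion i₀]
    (V : S.Opens) (hV : IsAffineOpen V) {C : CommRingCat.{u}} (cc : Γ(S, V) ⟶ C)
    (hc : ∀ r ∈ RingHom.ker (i₀.app V).hom, cc.hom r = 0) :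
    ∃ p : Spec C ⟶ S₀, p ≫ i₀ = Spec.map cc ≫ hV.fromSpec := by
  have hsurj : Function.Surjective (i₀.app V).hom := i₀.app_surjective V hV
  let c₀ : Γ(S₀, i₀ ⁻¹ᵁ V) →+* C :=
    RingHom.liftOfSurjective (i₀.app V).hom hsurj ⟨cc.hom, fun r hr => hc r hr⟩
  have hc₀ : c₀.comp (i₀.app V).hom = cc.hom :=
    RingHom.liftOfRightInverse_comp _ _ _ _
  have hV₀ : IsAffineOpen (i₀ ⁻¹ᵁ V) := hV.preimage i₀
  refine ⟨Spec.map (CommRingCat.ofHom c₀) ≫ hV₀.fromSpec, ?_⟩
  rw [Category.assoc, ← IsAffineOpen.SpecMap_appLE_fromSpec i₀ hV hV₀ le_rfl, ← Category.assoc,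
    ← Spec.map_comp]
  congr 2
  ext r
  have := congrArg (fun φ => φ r) hc₀
  simpa [Scheme.Hom.app_eq_appLE] using this

variable {S S₀ : Scheme.{u}} (i₀ : S₀ ⟶ S) [IsClosedImmersion i₀] {G X : Over S} [GrpObj G]
  (a : AlgGrp.Action G X)
  (h0 : ∀ (Y : Over S) (_ : Y ⟶ Over.mk i₀) (g : Y ⟶ G) (x : Y ⟶ X), lift g x ≫ a.act = x)

include h0 in
/-- **Local form**: over `v : Spec R ⟶ S` landing in an affine open on which the ideal of `S₀` is
nilpotent and over which `G` is diagonalisable, the action is trivial. -/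
theorem local_trivial (R : Type u) [CommRing R] (v : Spec (CommRingCat.of R) ⟶ S) (M : Type)
    [AddCommGroup M] (e : Grp.mk (Red.bc v G) ≅ Grp.mk (Red.DS (Spec (CommRingCat.of R)) M))
    (V : S.Opens) (hV : IsAffineOpen V) (ψ : Γ(S, V) ⟶ CommRingCat.of R)
    (hv : v = Spec.map ψ ≫ hV.fromSpec) (hnil : IsNilpotent (i₀.ker.ideal ⟨V, hV⟩))
    (T : Over (Spec (CommRingCat.of R))) (g' : (Over.map v).obj T ⟶ G)
    (x' : (Over.map v).obj T ⟶ X) : lift g' x' ≫ a.act = x' := by
  let I : Ideal R := Ideal.map ψ.hom (i₀.ker.ideal ⟨V, hV⟩)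
  have hI : IsNilpotent I := by
    obtain ⟨n, hn⟩ := hnil
    refine ⟨n, ?_⟩
    change (Ideal.map ψ.hom (i₀.ker.ideal ⟨V, hV⟩)) ^ n = 0
    rw [← Ideal.map_pow, hn, Ideal.zero_eq_bot, Ideal.map_bot]
    rfl
  have h0' : ∀ (C : Type u) [CommRing C] [Algebra R C], (∀ r ∈ I, algebraMap R C r = 0) →
      ∀ (g : Yo R C ⟶ Red.bc v G) (x : Yo R C ⟶ Red.bc v X),
        lift g x ≫ (bcAction v a).act = x := by
    intro C _ _ hC g x
    apply bc_eq_of_act
    obtain ⟨p₀, hp₀⟩ := exists_lift_closedImmersion i₀ V hV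
      (ψ ≫ CommRingCat.ofHom (algebraMap R C)) (by
        intro r hr
        rw [← Scheme.Hom.ker_apply i₀ ⟨V, hV⟩] at hr
        exact hC (ψ.hom r) (Ideal.mem_map_of_mem _ hr))
    let p : (Over.map v).obj (Yo R C) ⟶ Over.mk i₀ := Over.homMk p₀ (by
      change p₀ ≫ i₀ = Spec.map (CommRingCat.ofHom (algebraMap R C)) ≫ v
      rw [hp₀, hv, Spec.map_comp, Category.assoc])
    exact h0 _ p _ _
  apply act_eq_of_bc
  exact action_trivial I (bcAction v a) e h0' hI T _ _

end

end Groth.Agent.Lib.Helper14.MultNilLoc
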