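import Mathlib
import Groth.Prelude.Def_AlgGrp
import Groth.Prelude.Def_Red
import Groth.Agent.Lib.Helper14.MultNilLoc
import Groth.Agent.Lib.Helper14.BCGrp
import Groth.Agent.Lib.Helper15.MultGa

/-!
# helper14: an action of a group of multiplicative type which is trivial modulo a locally nilpotent
ideal is trivial (SGA3 IX 3.x), over an arbitrary base
-/

set_option autoImplicit false
universe u
open CategoryTheory CategoryTheory.Limits AlgebraicGeometry MonoidalCategory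
  CartesianMonoidalCategory MonObj

namespace Groth.Agent.Lib.Helper14.MultNilGlobal

noncomputable section

open Groth.Agent.Lib.Helper14.MultNilLoc Groth.Agent.Lib.Helper14.BCGrp
  Groth.Agent.Lib.Helper14.ActPts

lemma exists_affine_nbhd (Z : Scheme.{u}) (U : Z.Opens) (p : Z) (hp : p ∈ U) :
    ∃ U' : Z.Opens, IsAffineOpen U' ∧ p ∈ U' ∧ U' ≤ U :=
  TopologicalSpace.Opens.isBasis_iff_nbhd.mp Z.isBasis_affineOpens hp

variable {S S₀ : Scheme.{u}} (i₀ : S₀ ⟶ S) [IsClosedImmersion i₀]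
  (hnil : ∀ x : S, ∃ U : S.affineOpens, x ∈ (U : S.Opens) ∧ IsNilpotent (i₀.ker.ideal U))
  {G X : Over S} [GrpObj G] (a : AlgGrp.Action G X)
  (h0 : ∀ (Y : Over S) (_ : Y ⟶ Over.mk i₀) (g : Y ⟶ G) (x : Y ⟶ X), lift g x ≫ a.act = x)
  {S' : Scheme.{u}} (f : S' ⟶ S) [Flat f] [Surjective f]
  (hloc : ∀ s' : S', ∃ U : S'.Opens, s' ∈ U ∧ ∃ (M : Type) (_ : AddCommGroup M),
    Nonempty (Grp.mk (Red.bc (U.ι ≫ f) G) ≅ Grp.mk (Red.DS U M)))

include hnil h0 hloc in
theorem global_trivial (Y : Over S) (g : Y ⟶ G) (x : Y ⟶ X) : lift g x ≫ a.act = x := by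
  apply Over.OverMorphism.ext
  have key : ∀ y : Y.left, ∃ (W : Scheme.{u}) (p : W ⟶ Y.left), Flat p ∧ y ∈ Set.range p.base ∧
      p ≫ (lift g x ≫ a.act).left = p ≫ x.left := by
    intro y
    let pr₁ := pullback.fst Y.hom f
    let pr₂ := pullback.snd Y.hom f
    have hsurj₁ : Surjective pr₁ := inferInstanceAs (Surjective (pullback.fst Y.hom f))
    obtain ⟨y', hy'⟩ := hsurj₁.surj y
    obtain ⟨V, hsV, hVnil⟩ := hnil (f.base (pr₂.base y'))
    obtain ⟨U, hs'U, M, instM, ⟨eU⟩⟩ := hloc (pr₂.base y')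
    obtain ⟨U', hU', hs'U', hU'le⟩ := exists_affine_nbhd S' (U ⊓ f ⁻¹ᵁ V.1) (pr₂.base y')
      ⟨hs'U, hsV⟩
    obtain ⟨O, hO, hy'O, hOle⟩ := exists_affine_nbhd (pullback Y.hom f) (pr₂ ⁻¹ᵁ U') y' hs'U'
    let v : Spec Γ(S', U') ⟶ S := hU'.fromSpec ≫ f
    let ψ : Γ(S, V.1) ⟶ Γ(S', U') := f.appLE V.1 U' (hU'le.trans inf_le_right)
    have hv : v = Spec.map ψ ≫ V.2.fromSpec :=
      (IsAffineOpen.SpecMap_appLE_fromSpec f V.2 hU' _).symm
    -- the diagonalisation over `Spec Γ(S', U')`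
    have hrU : Set.range hU'.fromSpec.base ⊆ Set.range U.ι.base := by
      rw [hU'.range_fromSpec, Scheme.Opens.range_ι]
      exact fun z hz => (hU'le hz).1
    let w : Spec Γ(S', U') ⟶ (U : Scheme.{u}) := IsOpenImmersion.lift U.ι hU'.fromSpec hrU
    have hw : w ≫ U.ι = hU'.fromSpec := IsOpenImmersion.lift_fac _ _ _
    have hvw : v = w ≫ U.ι ≫ f := by rw [← Category.assoc, hw]
    let e : Grp.mk (Red.bc v G) ≅ Grp.mk (Red.DS (Spec Γ(S', U')) M) :=
      bcGrpIsoOfEq hvw G ≪≫ diagBC w (U.ι ≫ f) G M eU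
    -- the test object
    have hrO : Set.range (hO.fromSpec ≫ pr₂).base ⊆ Set.range hU'.fromSpec.base := by
      rintro _ ⟨c, rfl⟩
      rw [hU'.range_fromSpec]
      have h1 : hO.fromSpec.base c ∈ (O : Set _) := by
        rw [← hO.range_fromSpec]; exact ⟨c, rfl⟩
      exact hOle h1
    let τ : Spec Γ(pullback Y.hom f, O) ⟶ Spec Γ(S', U') :=
      IsOpenImmersion.lift hU'.fromSpec (hO.fromSpec ≫ pr₂) hrO
    have hτ : τ ≫ hU'.fromSpec = hO.fromSpec ≫ pr₂ := IsOpenImmersion.lift_fac _ _ _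
    let T : Over (Spec Γ(S', U')) := Over.mk τ
    let t : (Over.map v).obj T ⟶ Y := Over.homMk (hO.fromSpec ≫ pr₁) (by
      change (hO.fromSpec ≫ pr₁) ≫ Y.hom = τ ≫ hU'.fromSpec ≫ f
      rw [← Category.assoc τ, hτ, Category.assoc, Category.assoc, pullback.condition])
    have loc := local_trivial i₀ a h0 Γ(S', U') v M e V.1 V.2 ψ hv hVnil T (t ≫ g) (t ≫ x)
    refine ⟨Spec Γ(pullback Y.hom f, O), hO.fromSpec ≫ pr₁, inferInstance, ?_, ?_⟩
    · have h1 : y' ∈ Set.range hO.fromSpec.base := by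
        rw [hO.range_fromSpec]; exact hy'O
      obtain ⟨c, hc⟩ := h1
      refine ⟨c, ?_⟩
      rw [Scheme.Hom.comp_base]
      change pr₁.base (hO.fromSpec.base c) = y
      rw [hc, hy']
    · have h2 : t ≫ (lift g x ≫ a.act) = t ≫ x := by
        rw [act_comp_pt]; exact loc
      exact congrArg (fun k => k.left) h2
  choose W p hflat hy hp using key
  haveI := hflat
  refine Groth.Agent.Lib.helper15.MultGa.hom_ext_of_flat_family p ?_ _ _ hp
  ext y
  simp only [Set.mem_iUnion, Set.mem_univ, iff_true]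
  exact ⟨y, hy y⟩

end

end Groth.Agent.Lib.Helper14.MultNilGlobal
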