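import Mathlib
import Groth.Agent.Lib.Helper14.DiagHomG2
import Groth.Agent.Lib.Helper14.MultNilGlobal

/-!
# helper14: the clopen locus theorem for an abstract property of the base changes `X ⟶ S`
(stable under base change, descending along fpqc morphisms, Zariski local) which is locally
constant on an fpqc covering
-/

set_option autoImplicit false
universe u
open CategoryTheory CategoryTheory.Limits AlgebraicGeometry

namespace Groth.Agent.Lib.Helper14.AbsMain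

open Groth.Agent.Lib.Helper14.DiagHomG1 Groth.Agent.Lib.Helper14.DiagHomG2
  Groth.Agent.Lib.Helper14.MultNilGlobal

variable {S : Scheme.{u}} (PA : ∀ {X : Scheme.{u}}, (X ⟶ S) → Prop)
  (hcomp : ∀ {X X' : Scheme.{u}} (g : X ⟶ S) (k : X' ⟶ X), PA g → PA (k ≫ g))
  (hdesc : ∀ {X X' : Scheme.{u}} (g : X ⟶ S) (k : X' ⟶ X), Qfpqc.{u} k → PA (k ≫ g) → PA g)
  (hzar : ∀ {X : Scheme.{u}} (g : X ⟶ S),
    (∀ x : X, ∃ V : X.Opens, x ∈ V ∧ PA (V.ι ≫ g)) → PA g)

include hcomp hdesc in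
/-- the property on a fibre does not depend on the residue field extension -/
theorem fibre_iff {S' : Scheme.{u}} (f : S' ⟶ S) (s' : S') :
    PA (S'.fromSpecResidueField s' ≫ f) ↔ PA (S.fromSpecResidueField (f s')) := by
  rw [← Scheme.Hom.SpecMap_residueFieldMap_fromSpecResidueField]
  have hk : Qfpqc.{u} (Spec.map (f.residueFieldMap s')) := by
    refine ⟨⟨?_, inferInstance⟩, inferInstance⟩
    refine ⟨fun y => ?_⟩
    haveI : Subsingleton (Spec (S.residueField (f s'))) :=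
      inferInstanceAs (Subsingleton (PrimeSpectrum (S.residueField (f s'))))
    haveI : Nonempty (Spec (S'.residueField s')) :=
      inferInstanceAs (Nonempty (PrimeSpectrum (S'.residueField s')))
    obtain ⟨x⟩ := ‹Nonempty (Spec (S'.residueField s'))›
    exact ⟨x, Subsingleton.elim _ _⟩
  exact ⟨hdesc _ _ hk, hcomp _ _⟩

include hcomp hdesc hzar in
theorem main_abs {S' : Scheme.{u}} (f : S' ⟶ S) [Flat f] [Surjective f]
    (hcov : ∀ V : S.Opens, IsAffineOpen V → ∃ W : S'.Opens, IsCompact (W : Set S') ∧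
      f.base '' (W : Set S') = (V : Set S))
    (key : ∀ s' : S', ∃ O : S'.Opens, s' ∈ O ∧ ∃ b : Prop, (b → PA (O.ι ≫ f)) ∧
      ∀ t ∈ O, (PA (S'.fromSpecResidueField t ≫ f) ↔ b)) :
    ∃ U : S.Opens, IsClosed (U : Set S) ∧
      (∀ s : S, s ∈ U ↔ PA (S.fromSpecResidueField s)) ∧ PA U.ι := by
  choose O hO b hb hOb using key
  let Uset : Set S := {s | PA (S.fromSpecResidueField s)}
  have hpre : ∀ t : S', f t ∈ Uset ↔ PA (S'.fromSpecResidueField t ≫ f) :=
    fun t => (fibre_iff PA hcomp hdesc f t).symm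
  have hopen₁ : IsOpen (f.base ⁻¹' Uset) := by
    rw [isOpen_iff_forall_mem_open]
    intro t ht
    have hbt : b t := (hOb t t (hO t)).mp ((hpre t).mp ht)
    refine ⟨(O t : Set S'), ?_, (O t).2, hO t⟩
    intro t' ht'
    exact (hpre t').mpr ((hOb t t' ht').mpr hbt)
  have hopen₂ : IsOpen (f.base ⁻¹' Usetᶜ) := by
    rw [isOpen_iff_forall_mem_open]
    intro t ht
    have hbt : ¬ b t := fun hbt => ht ((hpre t).mpr ((hOb t t (hO t)).mpr hbt))
    refine ⟨(O t : Set S'), ?_, (O t).2, hO t⟩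
    intro t' ht' hmem
    exact hbt ((hOb t t' ht').mp ((hpre t').mp hmem))
  have hUopen : IsOpen Uset := isOpen_of_isOpen_preimage f hcov Uset hopen₁
  have hUclosed : IsClosed Uset := ⟨isOpen_of_isOpen_preimage f hcov Usetᶜ hopen₂⟩
  let U : S.Opens := ⟨Uset, hUopen⟩
  refine ⟨U, hUclosed, fun s => Iff.rfl, ?_⟩
  apply hzar U.ι
  intro x
  obtain ⟨V₀, hV₀, hxV₀, hV₀le⟩ := exists_affine_nbhd S U (U.ι x) x.2
  obtain ⟨W, hWc, hWV⟩ := hcov V₀ hV₀
  let V : (U : Scheme.{u}).Opens := U.ι ⁻¹ᵁ V₀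
  have hVaff : IsAffineOpen V :=
    hV₀.preimage_of_isOpenImmersion U.ι (by rw [Scheme.Opens.opensRange_ι]; exact hV₀le)
  have hfW : ∀ w : (W : Scheme.{u}), f (W.ι w) ∈ V₀ := by
    intro w
    have : f (W.ι w) ∈ f.base '' (W : Set S') := ⟨W.ι w, w.2, rfl⟩
    rw [hWV] at this
    exact this
  have hsub₀ : Set.range (W.ι ≫ f).base ⊆ Set.range U.ι.base := by
    rintro _ ⟨w, rfl⟩
    rw [Scheme.Opens.range_ι]
    exact hV₀le (hfW w)
  let b₀ : (W : Scheme.{u}) ⟶ (U : Scheme.{u}) := IsOpenImmersion.lift U.ι (W.ι ≫ f) hsub₀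
  have hb₀ : b₀ ≫ U.ι = W.ι ≫ f := IsOpenImmersion.lift_fac _ _ _
  have hsub₁ : Set.range b₀.base ⊆ Set.range V.ι.base := by
    rintro _ ⟨w, rfl⟩
    rw [Scheme.Opens.range_ι]
    show U.ι (b₀ w) ∈ V₀
    rw [← Scheme.Hom.comp_apply, hb₀]
    exact hfW w
  let b' : (W : Scheme.{u}) ⟶ (V : Scheme.{u}) := IsOpenImmersion.lift V.ι b₀ hsub₁
  have hb' : b' ≫ V.ι = b₀ := IsOpenImmersion.lift_fac _ _ _
  have hb'' : b' ≫ V.ι ≫ U.ι = W.ι ≫ f := by rw [← Category.assoc, hb', hb₀]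
  haveI : IsAffine (V : Scheme.{u}) := hVaff
  haveI : CompactSpace ↥(W : Scheme.{u}) := isCompact_iff_compactSpace.mp hWc
  haveI : QuasiCompact b' := (quasiCompact_iff_compactSpace b').mpr inferInstance
  haveI : Flat b' := MorphismProperty.of_postcomp (W := @Flat) (W' := @IsOpenImmersion) b'
    (V.ι ≫ U.ι) inferInstance (by rw [hb'']; infer_instance)
  haveI : Surjective b' := by
    refine ⟨fun v => ?_⟩
    have hv : U.ι (V.ι v) ∈ f.base '' (W : Set S') := by rw [hWV]; exact v.2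
    obtain ⟨w, hw, hwv⟩ := hv
    refine ⟨⟨w, hw⟩, ?_⟩
    apply V.ι.injective
    apply U.ι.injective
    rw [← Scheme.Hom.comp_apply, ← Scheme.Hom.comp_apply, hb'', Scheme.Hom.comp_apply]
    exact hwv
  refine ⟨V, hxV₀, ?_⟩
  apply hdesc (V.ι ≫ U.ι) b' ⟨⟨inferInstance, inferInstance⟩, inferInstance⟩
  rw [hb'']
  -- the property over `W`, by Zariski localisation on `W`
  apply hzar (W.ι ≫ f)
  intro y
  let t : S' := W.ι y
  have htU : f t ∈ Uset := hV₀le (hfW y)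
  have hbt : b t := (hOb t t (hO t)).mp ((hpre t).mp htU)
  have hPO : PA ((O t).ι ≫ f) := hb t hbt
  let V' : (W : Scheme.{u}).Opens := W.ι ⁻¹ᵁ (O t)
  have hsub₂ : Set.range (V'.ι ≫ W.ι).base ⊆ Set.range (O t).ι.base := by
    rintro _ ⟨z, rfl⟩
    rw [Scheme.Opens.range_ι]
    exact z.2
  let k : (V' : Scheme.{u}) ⟶ (O t : Scheme.{u}) :=
    IsOpenImmersion.lift (O t).ι (V'.ι ≫ W.ι) hsub₂
  have hk : k ≫ (O t).ι = V'.ι ≫ W.ι := IsOpenImmersion.lift_fac _ _ _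
  refine ⟨V', hO t, ?_⟩
  have e : V'.ι ≫ W.ι ≫ f = k ≫ (O t).ι ≫ f := by
    rw [← Category.assoc, ← hk, Category.assoc]
  rw [e]
  exact hcomp _ k hPO

end Groth.Agent.Lib.Helper14.AbsMain
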