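import Groth.Prelude.Def_Adeq
import Mathlib.Algebra.Homology.ShortComplex.ModuleCat
import Mathlib.Algebra.Homology.ShortComplex.ExactFunctor
import Mathlib.Algebra.Category.ModuleCat.Presheaf.Limits
import Mathlib.Algebra.Category.ModuleCat.Presheaf.Colimits

/-! Pointwise API for module-valued functors (Adeq.MVF). -/

set_option autoImplicit false

namespace Groth.Agent.Lib.Helper14.AdeqLib

open CategoryTheory Limits Opposite TensorProduct

universe u

variable {A : Type u} [CommRing A]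

/-- evaluation at `X` -/
noncomputable abbrev ev (X : (Adeq.Alg A)ᵒᵖᵒᵖ) :
    Adeq.MVF A ⥤ ModuleCat.{u + 1} ((Adeq.ringOf A).obj X) :=
  PresheafOfModules.evaluation.{u + 1} (Adeq.ringOf A) X

instance evAdditive (X : (Adeq.Alg A)ᵒᵖᵒᵖ) : (ev X).Additive :=
  (fun (R : (Adeq.Alg A)ᵒᵖᵒᵖ ⥤ RingCat.{u}) =>
    (inferInstance : (PresheafOfModules.evaluation.{u + 1} R X).Additive)) _

noncomputable instance evPresFinLim (X : (Adeq.Alg A)ᵒᵖᵒᵖ) : PreservesFiniteLimits (ev X) :=
  (fun (R : (Adeq.Alg A)ᵒᵖᵒᵖ ⥤ RingCat.{u}) =>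
    (inferInstance : PreservesFiniteLimits (PresheafOfModules.evaluation.{u + 1} R X))) _

noncomputable instance evPresFinColim (X : (Adeq.Alg A)ᵒᵖᵒᵖ) : PreservesFiniteColimits (ev X) :=
  (fun (R : (Adeq.Alg A)ᵒᵖᵒᵖ ⥤ RingCat.{u}) =>
    (inferInstance : PreservesFiniteColimits (PresheafOfModules.evaluation.{u + 1} R X))) _

noncomputable instance evPresColim (X : (Adeq.Alg A)ᵒᵖᵒᵖ) :
    PreservesColimitsOfSize.{u + 1, u + 1} (ev X) :=
  (fun (R : (Adeq.Alg A)ᵒᵖᵒᵖ ⥤ RingCat.{u}) =>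
    (inferInstance : PreservesColimitsOfSize.{u + 1, u + 1}
      (PresheafOfModules.evaluation.{u + 1} R X))) _

noncomputable instance evPresLim (X : (Adeq.Alg A)ᵒᵖᵒᵖ) :
    PreservesLimitsOfSize.{u + 1, u + 1} (ev X) :=
  (fun (R : (Adeq.Alg A)ᵒᵖᵒᵖ ⥤ RingCat.{u}) =>
    (inferInstance : PreservesLimitsOfSize.{u + 1, u + 1}
      (PresheafOfModules.evaluation.{u + 1} R X))) _

theorem ker_ι_injective {F G : Adeq.MVF A} (f : F ⟶ G) (X : (Adeq.Alg A)ᵒᵖᵒᵖ) :
    Function.Injective ((kernel.ι f).app X) :=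
  PresheafOfModules.injective_of_mono _ X

theorem exists_of_exact (S : ShortComplex (Adeq.MVF A)) (hS : S.Exact)
    (X : (Adeq.Alg A)ᵒᵖᵒᵖ) (y : S.X₂.obj X) (hy : S.g.app X y = 0) :
    ∃ x : S.X₁.obj X, S.f.app X x = y := by
  have h := hS.map (ev X)
  exact (ShortComplex.moduleCat_exact_iff _).mp h y hy

theorem exists_ker_of_app_eq_zero {F G : Adeq.MVF A} (f : F ⟶ G) (X : (Adeq.Alg A)ᵒᵖᵒᵖ)
    (y : F.obj X) (hy : f.app X y = 0) : ∃ x : (kernel f).obj X, (kernel.ι f).app X x = y := by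
  have hS : (ShortComplex.mk (kernel.ι f) f (kernel.condition f)).Exact :=
    ShortComplex.exact_of_f_is_kernel _ (kernelIsKernel f)
  exact exists_of_exact _ hS X y hy

theorem comp_app_apply {F G H : Adeq.MVF A} (f : F ⟶ G) (g : G ⟶ H) (X : (Adeq.Alg A)ᵒᵖᵒᵖ)
    (x : F.obj X) : (f ≫ g).app X x = g.app X (f.app X x) := rfl

theorem ker_ι_app_comp {F G : Adeq.MVF A} (f : F ⟶ G) (X : (Adeq.Alg A)ᵒᵖᵒᵖ)
    (x : (kernel f).obj X) : f.app X ((kernel.ι f).app X x) = 0 := by
  rw [← comp_app_apply, kernel.condition]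
  rfl

end Groth.Agent.Lib.Helper14.AdeqLib

namespace Groth.Agent.Lib.Helper14.AdeqLib

open CategoryTheory Limits Opposite TensorProduct

universe u

variable {A : Type u} [CommRing A]

/-- pointwise criterion for exactness -/
theorem exact_of_pointwise (S : ShortComplex (Adeq.MVF A))
    (h : ∀ (X : (Adeq.Alg A)ᵒᵖᵒᵖ) (y : S.X₂.obj X), S.g.app X y = 0 → ∃ x : S.X₁.obj X, S.f.app X x = y) :
    S.Exact := by
  rw [S.exact_iff_epi_kernel_lift]
  apply PresheafOfModules.epi_of_surjective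
  intro X y
  obtain ⟨x, hx⟩ := h X ((kernel.ι S.g).app X y) (ker_ι_app_comp S.g X y)
  refine ⟨x, ?_⟩
  apply ker_ι_injective S.g X
  rw [← hx, ← comp_app_apply, kernel.lift_ι]

/-- criterion for adequacy: a left exact sequence `0 → F → underline M → underline N`. -/
theorem adequate_of_exact {F : Adeq.MVF A} {M N : ModuleCat.{u + 1} A} (φ : M ⟶ N)
    (i : F ⟶ (Adeq.underline A).obj M) (hi : ∀ X, Function.Injective (i.app X))
    (w : i ≫ (Adeq.underline A).map φ = 0)
    (hex : ∀ (X : (Adeq.Alg A)ᵒᵖᵒᵖ) (y : ((Adeq.underline A).obj M).obj X),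
      ((Adeq.underline A).map φ).app X y = 0 → ∃ x : F.obj X, i.app X x = y) :
    Adeq.adequate A F := by
  have : Mono i := PresheafOfModules.mono_of_injective (fun X => hi X)
  have hS : (ShortComplex.mk i ((Adeq.underline A).map φ) w).Exact := exact_of_pointwise _ hex
  have hk := hS.fIsKernel
  exact ⟨M, N, φ, ⟨IsLimit.conePointUniqueUpToIso hk (limit.isLimit _)⟩⟩

/-- unpacking adequacy -/
theorem exists_exact_of_adequate {F : Adeq.MVF A} (hF : Adeq.adequate A F) :
    ∃ (M N : ModuleCat.{u + 1} A) (φ : M ⟶ N) (i : F ⟶ (Adeq.underline A).obj M),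
      (∀ X, Function.Injective (i.app X)) ∧ i ≫ (Adeq.underline A).map φ = 0 ∧
      ∀ (X : (Adeq.Alg A)ᵒᵖᵒᵖ) (y : ((Adeq.underline A).obj M).obj X),
        ((Adeq.underline A).map φ).app X y = 0 → ∃ x : F.obj X, i.app X x = y := by
  obtain ⟨M, N, φ, ⟨e⟩⟩ := hF
  refine ⟨M, N, φ, e.hom ≫ kernel.ι _, ?_, ?_, ?_⟩
  · intro X
    have : Mono (e.hom ≫ kernel.ι ((Adeq.underline A).map φ)) := inferInstance
    exact PresheafOfModules.injective_of_mono _ X
  · rw [Category.assoc, kernel.condition, comp_zero]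
  · intro X y hy
    obtain ⟨k, hk⟩ := exists_ker_of_app_eq_zero _ X y hy
    refine ⟨e.inv.app X k, ?_⟩
    rw [← comp_app_apply, Iso.inv_hom_id_assoc, hk]

section underline

variable (M N : ModuleCat.{u + 1} A) (B B' : Adeq.Alg A)

/-- an element of `B ⊗ M` as an element of `underline M (B)`. -/
def toU (x : B ⊗[A] M) : ((Adeq.underline A).obj M).obj (Adeq.pt B) := x

/-- an element of `underline M (B)` as an element of `B ⊗ M`. -/
def ofU (x : ((Adeq.underline A).obj M).obj (Adeq.pt B)) : B ⊗[A] M := x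

variable {M N B B'}

@[simp] theorem ofU_toU (x : B ⊗[A] M) : ofU M B (toU M B x) = x := rfl
@[simp] theorem toU_ofU (x : ((Adeq.underline A).obj M).obj (Adeq.pt B)) : toU M B (ofU M B x) = x := rfl

theorem underline_map_app (g : M ⟶ N) (x : ((Adeq.underline A).obj M).obj (Adeq.pt B)) :
    ofU N B (((Adeq.underline A).map g).app (Adeq.pt B) x) = g.hom.baseChange B (ofU M B x) := rfl

theorem underline_obj_map (f : B ⟶ B') (x : ((Adeq.underline A).obj M).obj (Adeq.pt B)) :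
    ofU M B' (((Adeq.underline A).obj M).map (Adeq.ptHom f) x) =
      (f.hom.toLinearMap.rTensor M) (ofU M B x) := rfl

theorem underline_smul (b : B) (x : ((Adeq.underline A).obj M).obj (Adeq.pt B)) :
    ofU M B (b • x) = b • ofU M B x := rfl

theorem underline_add (x y : ((Adeq.underline A).obj M).obj (Adeq.pt B)) :
    ofU M B (x + y) = ofU M B x + ofU M B y := rfl

theorem underline_zero : ofU M B (0 : ((Adeq.underline A).obj M).obj (Adeq.pt B)) = 0 := rfl

end underline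

end Groth.Agent.Lib.Helper14.AdeqLib
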