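import Groth.Agent.Lib.Helper14.Adeq9

set_option autoImplicit false
open CategoryTheory Limits Opposite TensorProduct
universe u u₁ v w
namespace Groth.Agent.Lib.Helper14.AdeqLib
variable {A : Type u} [CommRing A]

theorem adequate_coequalizer {X Y : Adeq.MVF A} (f g : X ⟶ Y) (hX : Adeq.adequate A X)
    (hY : Adeq.adequate A Y) : Adeq.adequate A (coequalizer f g) := by
  have h := adequate_cokernel_of_adequate (f - g) hX hY
  let e : coequalizer f g ≅ cokernel (f - g) :=
    IsColimit.coconePointUniqueUpToIso (colimit.isColimit (parallelPair f g))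
      (Preadditive.isColimitCoforkOfCokernelCofork (cokernelIsCokernel (f - g)))
  exact (Adeq.adequate A).prop_of_iso e.symm h

/-- S8745: a (small) colimit of adequate functors is adequate. -/
theorem adequate_colimit {J : Type (u + 1)} [SmallCategory J]
    (D : J ⥤ Adeq.MVF A) (hD : ∀ j, Adeq.adequate A (D.obj j)) :
    Adeq.adequate A (colimit D) := by
  let cc := colimitCoconeOfCoequalizerAndCoproduct D
  have h : Adeq.adequate A cc.cocone.pt :=
    adequate_coequalizer _ _ (adequate_sigma _ fun f => hD f.1.1) (adequate_sigma _ hD)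
  let e : colimit D ≅ cc.cocone.pt :=
    IsColimit.coconePointUniqueUpToIso (colimit.isColimit D) cc.isColimit
  exact (Adeq.adequate A).prop_of_iso e.symm h

end Groth.Agent.Lib.Helper14.AdeqLib
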