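import Groth.Agent.Lib.Helper14.Adeq10
import Mathlib.CategoryTheory.Abelian.Subcategory
import Mathlib.CategoryTheory.Limits.FullSubcategory

set_option autoImplicit false
open CategoryTheory Limits Opposite TensorProduct ZeroObject
universe u
namespace Groth.Agent.Lib.Helper14.AdeqLib
variable {A : Type u} [CommRing A]

instance adequate_closedColim (J : Type (u + 1)) [SmallCategory J] :
    (Adeq.adequate A).IsClosedUnderColimitsOfShape J :=
  ObjectProperty.IsClosedUnderColimitsOfShape.mk' (by
    rintro _ ⟨F, hF⟩
    exact adequate_colimit F hF)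

instance adequate_closedKernels : (Adeq.adequate A).IsClosedUnderKernels where
  kernels_le := by
    rintro _ ⟨f, k, hk, ⟨hX, hY⟩⟩
    have h := adequate_kernel_of_adequate f hX hY
    exact (Adeq.adequate A).prop_of_iso
      (IsLimit.conePointUniqueUpToIso (kernelIsKernel f) hk) h

instance adequate_closedCokernels : (Adeq.adequate A).IsClosedUnderCokernels where
  cokernels_le := by
    rintro _ ⟨f, k, hk, ⟨hX, hY⟩⟩
    have h := adequate_cokernel_of_adequate f hX hY
    exact (Adeq.adequate A).prop_of_iso
      (IsColimit.coconePointUniqueUpToIso (cokernelIsCokernel f) hk) h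

theorem adequate_kernel_underline {M N : ModuleCat.{u + 1} A} (φ : M ⟶ N) :
    Adeq.adequate A (kernel ((Adeq.underline A).map φ)) :=
  ⟨M, N, φ, ⟨Iso.refl _⟩⟩

theorem adequate_of_isZero {Z : Adeq.MVF A} (hZ : IsZero Z) : Adeq.adequate A Z := by
  let F : Adeq.MVF A := kernel ((Adeq.underline A).map (𝟙 (ModuleCat.of A PUnit.{u + 2})))
  have hF : Adeq.adequate A F := adequate_kernel_underline _
  have h := adequate_cokernel_of_adequate (𝟙 F) hF hF
  have hz : IsZero (cokernel (𝟙 F)) := (isZero_zero _).of_iso (cokernel.ofEpi (𝟙 F))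
  exact (Adeq.adequate A).prop_of_iso (hz.iso hZ) h

instance adequate_containsZero : (Adeq.adequate A).ContainsZero where
  exists_zero := ⟨0, isZero_zero _, adequate_of_isZero (isZero_zero _)⟩

end Groth.Agent.Lib.Helper14.AdeqLib
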