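import Groth.Agent.Lib.Helper14.Adeq11

set_option autoImplicit false
open CategoryTheory Limits Opposite TensorProduct ZeroObject
universe u
namespace Groth.Agent.Lib.Helper14.AdeqLib
variable {A : Type u} [CommRing A]

instance adequate_closedBinaryCoprod :
    (Adeq.adequate A).IsClosedUnderColimitsOfShape (Discrete WalkingPair) :=
  ObjectProperty.IsClosedUnderColimitsOfShape.of_equivalence
    (J := Discrete (ULift.{u + 1} WalkingPair)) (Discrete.equivalence Equiv.ulift)

theorem adequate_biprod {X Y : Adeq.MVF A} (hX : Adeq.adequate A X) (hY : Adeq.adequate A Y) :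
    Adeq.adequate A (X ⊞ Y) := by
  have h : Adeq.adequate A (X ⨿ Y) :=
    (Adeq.adequate A).prop_colimit (pair X Y) (by rintro ⟨_ | _⟩ <;> assumption)
  exact (Adeq.adequate A).prop_of_iso (biprod.isoCoprod X Y).symm h

instance adequate_closedBinaryProd : (Adeq.adequate A).IsClosedUnderBinaryProducts :=
  ObjectProperty.IsClosedUnderLimitsOfShape.mk' (by
    rintro _ ⟨F, hF⟩
    have h := adequate_biprod (hF ⟨WalkingPair.left⟩) (hF ⟨WalkingPair.right⟩)
    let e : limit F ≅ F.obj ⟨WalkingPair.left⟩ ⊞ F.obj ⟨WalkingPair.right⟩ :=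
      HasLimit.isoOfNatIso (diagramIsoPair F) ≪≫ (biprod.isoProd _ _).symm
    exact (Adeq.adequate A).prop_of_iso e.symm h)

instance adequate_closedFiniteProducts : (Adeq.adequate A).IsClosedUnderFiniteProducts :=
  ObjectProperty.IsClosedUnderFiniteProducts.mk'

noncomputable instance : Abelian (Adeq.Adequate A) :=
  inferInstanceAs (Abelian (Adeq.adequate A).FullSubcategory)

end Groth.Agent.Lib.Helper14.AdeqLib
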