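import Groth.Agent.Lib.Helper14.Adeq12
import Mathlib.CategoryTheory.Adjunction.AdjointFunctorTheorems
import Mathlib.CategoryTheory.Abelian.Subobject
import Mathlib.CategoryTheory.ObjectProperty.Small
import Mathlib.LinearAlgebra.FreeModule.Finite.Basic

set_option autoImplicit false
open CategoryTheory Limits Opposite TensorProduct ZeroObject
universe u
namespace Groth.Agent.Lib.Helper14.AdeqLib
variable {A : Type u} [CommRing A]

theorem exists_equiv_fin (M : Type (u + 1)) [AddCommGroup M] [Module A M] [Module.Finite A M]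
    [Module.Free A M] : ∃ n : ℕ, Nonempty (M ≃ₗ[A] (Fin n → A)) := by
  let b := Module.Free.chooseBasis A M
  let b' := b.reindex (Fintype.equivFin _)
  exact ⟨_, ⟨b'.equivFun⟩⟩

variable (A) in
/-- index type of standard linearly adequate functors -/
abbrev StdIdx : Type u := Σ (n m : ℕ), ((Fin n → A) →ₗ[A] (Fin m → A))

variable (A) in
/-- the standard free module `A^n`, one universe up -/
noncomputable abbrev stdMod (n : ℕ) : ModuleCat.{u + 1} A :=
  ModuleCat.of A (ULift.{u + 1} (Fin n → A))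

variable (A) in
/-- unlifting -/
noncomputable def uE (n : ℕ) : ULift.{u + 1} (Fin n → A) ≃ₗ[A] (Fin n → A) := ULift.moduleEquiv

/-- the standard map -/
noncomputable def stdMap (t : StdIdx A) : stdMod A t.1 ⟶ stdMod A t.2.1 :=
  ModuleCat.ofHom ((uE A t.2.1).symm.toLinearMap ∘ₗ t.2.2 ∘ₗ (uE A t.1).toLinearMap)

/-- the standard linearly adequate functor, as an object of `Adequate A` -/
noncomputable def stdObj (t : StdIdx A) : Adeq.Adequate A :=
  ⟨kernel ((Adeq.underline A).map (stdMap t)), adequate_kernel_underline _⟩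

theorem exists_iso_stdObj {L : Adeq.MVF A} (hL : Adeq.linAdequate A L) :
    ∃ t : StdIdx A, Nonempty (L ≅ (stdObj t).obj) := by
  obtain ⟨M, N, φ, hM, hM', hN, hN', ⟨e⟩⟩ := hL
  obtain ⟨n, ⟨eM⟩⟩ := exists_equiv_fin (A := A) M
  obtain ⟨m, ⟨eN⟩⟩ := exists_equiv_fin (A := A) N
  let t : StdIdx A := ⟨n, m, eN.toLinearMap ∘ₗ φ.hom ∘ₗ eM.symm.toLinearMap⟩
  let EM : M ≅ stdMod A n := (eM.trans (uE A n).symm).toModuleIso
  let EN : N ≅ stdMod A m := (eN.trans (uE A m).symm).toModuleIso
  have hsq : φ ≫ EN.hom = EM.hom ≫ stdMap t := by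
    apply ModuleCat.hom_ext
    apply LinearMap.ext
    intro x
    change (uE A m).symm (eN (φ.hom x)) =
      (uE A m).symm (eN (φ.hom (eM.symm ((uE A n) ((uE A n).symm (eM x))))))
    rw [LinearEquiv.apply_symm_apply, LinearEquiv.symm_apply_apply]
  refine ⟨t, ⟨e ≪≫ kernel.mapIso _ _ ((Adeq.underline A).mapIso EM) ((Adeq.underline A).mapIso EN) ?_⟩⟩
  rw [Functor.mapIso_hom, Functor.mapIso_hom, ← Functor.map_comp, ← Functor.map_comp, hsq]

variable (A) in
/-- the small separating family -/
def stdProp : ObjectProperty (Adeq.Adequate A) := ObjectProperty.ofObj (stdObj (A := A))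

instance : ObjectProperty.Small.{u + 1} (stdProp A) :=
  inferInstanceAs (ObjectProperty.Small.{u + 1} (ObjectProperty.ofObj (stdObj (A := A))))

theorem stdProp_isSeparating : (stdProp A).IsSeparating := by
  intro X Y f g h
  obtain ⟨ι, L, hL, c, hc, π, hπ⟩ := exists_epi_cofan_linAdequate X.obj X.property
  apply ObjectProperty.hom_ext
  rw [← cancel_epi π]
  apply Cofan.IsColimit.hom_ext hc
  intro i
  obtain ⟨t, ⟨e⟩⟩ := exists_iso_stdObj (hL i)
  have h1 := h (stdObj t) (ObjectProperty.ofObj_apply _ t)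
    (ObjectProperty.homMk (e.inv ≫ c.inj i ≫ π))
  have h2 := congrArg (fun k => k.hom) h1
  simp only [ObjectProperty.FullSubcategory.comp_hom] at h2
  rw [← cancel_epi e.inv]
  simpa using h2

end Groth.Agent.Lib.Helper14.AdeqLib
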