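import Groth.Agent.Lib.Helper14.Adeq13

set_option autoImplicit false
open CategoryTheory Limits Opposite TensorProduct ZeroObject
universe u
namespace Groth.Agent.Lib.Helper14.AdeqLib
variable {A : Type u} [CommRing A]

instance adequate_hasColimits : HasColimitsOfSize.{u + 1, u + 1} (Adeq.Adequate A) :=
  ⟨fun J _ => inferInstanceAs (HasColimitsOfShape J (Adeq.adequate A).FullSubcategory)⟩

noncomputable instance adequate_ι_preservesColimits :
    PreservesColimitsOfSize.{u + 1, u + 1} (Adeq.adequate A).ι :=
  ⟨fun {_} _ => inferInstance⟩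

instance adequate_wellPowered : WellPowered.{u + 1} (Adeq.Adequate A) :=
  wellPowered_of_isDetecting (𝒢 := stdProp A) stdProp_isSeparating.isDetecting

instance adequate_wellPowered_op : WellPowered.{u + 1} (Adeq.Adequate A)ᵒᵖ :=
  inferInstance

/-- S8752 -/
theorem adequate_ι_isLeftAdjoint : (Adeq.adequate A).ι.IsLeftAdjoint :=
  isLeftAdjoint_of_preservesColimits_of_isSeparating (C := Adeq.Adequate A)
    (P := stdProp A) stdProp_isSeparating (Adeq.adequate A).ι

end Groth.Agent.Lib.Helper14.AdeqLib

namespace Groth.Agent.Lib.Helper14.AdeqLib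
open CategoryTheory Limits
variable {A : Type u} [CommRing A]

instance adequate_ι_preservesMono : (Adeq.adequate A).ι.PreservesMonomorphisms :=
  (Adeq.adequate A).preservesMonomorphisms_ι_of_isNormalEpiCategory

/-- S8753, given enough injectives in `MVF A` -/
theorem adequate_enoughInjectives [EnoughInjectives (Adeq.MVF A)] :
    EnoughInjectives (Adeq.Adequate A) := by
  have := adequate_ι_isLeftAdjoint (A := A)
  exact EnoughInjectives.of_adjunction (Adjunction.ofIsLeftAdjoint (Adeq.adequate A).ι)

end Groth.Agent.Lib.Helper14.AdeqLib
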