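import Groth.Agent.Lib.Helper14.Adeq1
import Mathlib.RingTheory.RingHom.Flat
import Mathlib.RingTheory.Flat.Basic

set_option autoImplicit false
open CategoryTheory Limits Opposite TensorProduct ChangeOfRings
universe u
namespace Groth.Agent.Lib.Helper14.AdeqLib
variable {A : Type u} [CommRing A]

theorem bc_one_tmul (F : Adeq.MVF A) {B B' : Adeq.Alg A} (f : B ⟶ B') (x : F.obj (Adeq.pt B)) :
    F.bc f ((1 : B') ⊗ₜ[B, f.hom.toRingHom] x) = F.map (Adeq.ptHom f) x := by
  have h := (ModuleCat.extendRestrictScalarsAdj.{u + 1, u, u} f.hom.toRingHom).homEquiv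
    (F.obj (Adeq.pt B)) (F.obj (Adeq.pt B')) |>.apply_symm_apply (F.map (Adeq.ptHom f))
  have h2 := congrArg (fun t => t.hom x) h
  exact h2

theorem bc_tmul (F : Adeq.MVF A) {B B' : Adeq.Alg A} (f : B ⟶ B') (b' : B') (x : F.obj (Adeq.pt B)) :
    F.bc f (b' ⊗ₜ[B, f.hom.toRingHom] x) = b' • F.map (Adeq.ptHom f) x := by
  let T := (ModuleCat.extendScalars.{u, u, u + 1} f.hom.toRingHom).obj (F.obj (Adeq.pt B))
  let z1 : T := (1 : B') ⊗ₜ[B, f.hom.toRingHom] x
  let zb : T := b' ⊗ₜ[B, f.hom.toRingHom] x
  have h1 : zb = b' • z1 := by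
    change zb = (b' * 1) ⊗ₜ[B, f.hom.toRingHom] x
    rw [mul_one]
    rfl
  change (F.bc f).hom zb = _
  rw [h1]
  have h2 := (F.bc f).hom.map_smul b' z1
  refine h2.trans ?_
  congr 1
  exact bc_one_tmul F f x


theorem bc_naturality {F G : Adeq.MVF A} (α : F ⟶ G) {B B' : Adeq.Alg A} (f : B ⟶ B') :
    F.bc f ≫ α.app (Adeq.pt B') =
      (ModuleCat.extendScalars.{u, u, u + 1} f.hom.toRingHom).map (α.app (Adeq.pt B)) ≫ G.bc f := by
  unfold Adeq.MVF.bc
  rw [← Adjunction.homEquiv_naturality_right_symm, ← Adjunction.homEquiv_naturality_left_symm]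
  congr 1
  exact α.naturality (Adeq.ptHom f)

theorem bc_naturality_apply {F G : Adeq.MVF A} (α : F ⟶ G) {B B' : Adeq.Alg A} (f : B ⟶ B')
    (z : (ModuleCat.extendScalars.{u, u, u + 1} f.hom.toRingHom).obj (F.obj (Adeq.pt B))) :
    α.app (Adeq.pt B') (F.bc f z) =
      G.bc f ((ModuleCat.extendScalars.{u, u, u + 1} f.hom.toRingHom).map (α.app (Adeq.pt B)) z) := by
  have := congrArg (fun t => t.hom z) (bc_naturality α f)
  exact this

section flat

variable {R S : Type u} [CommRing R] [CommRing S] (f : R →+* S) (hf : f.Flat)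
include hf

theorem extendScalars_map_injective {M N : ModuleCat.{u + 1} R} (g : M ⟶ N)
    (hg : Function.Injective g) :
    Function.Injective ((ModuleCat.extendScalars.{u, u, u + 1} f).map g) := by
  algebraize [f]
  change Function.Injective (LinearMap.lTensor S g.hom)
  exact Module.Flat.lTensor_preserves_injective_linearMap g.hom hg

theorem extendScalars_map_exact {M N P : ModuleCat.{u + 1} R} (g : M ⟶ N) (h : N ⟶ P)
    (hgh : Function.Exact g h) :
    Function.Exact ((ModuleCat.extendScalars.{u, u, u + 1} f).map g)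
      ((ModuleCat.extendScalars.{u, u, u + 1} f).map h) := by
  algebraize [f]
  change Function.Exact (LinearMap.lTensor S g.hom) (LinearMap.lTensor S h.hom)
  exact Module.Flat.lTensor_exact S hgh

end flat


theorem bc_underline_bijective (M : ModuleCat.{u + 1} A) {B B' : Adeq.Alg A} (f : B ⟶ B') :
    Function.Bijective (((Adeq.underline A).obj M).bc f) := by
  let _ : Algebra B B' := f.hom.toRingHom.toAlgebra
  have : IsScalarTower A B B' := IsScalarTower.of_algebraMap_eq (fun a => (f.hom.commutes a).symm)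
  let e := TensorProduct.AlgebraTensorModule.cancelBaseChange A B B' B' M
  let g : B' ⊗[B] (B ⊗[A] M) →+ B' ⊗[A] M :=
    AddMonoidHom.mk' (fun z => ofU M B' ((((Adeq.underline A).obj M).bc f).hom z))
      (fun z z' => congrArg (ofU M B') ((((Adeq.underline A).obj M).bc f).hom.map_add z z'))
  have hpure : ∀ (b' : B') (y : B ⊗[A] M),
      b' • ((f.hom.toLinearMap.rTensor M) y) = e (b' ⊗ₜ[B] y) := by
    intro b' y
    induction y using TensorProduct.induction_on with
    | zero => simp
    | tmul b m =>
      simp only [LinearMap.rTensor_tmul, AlgHom.toLinearMap_apply,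
        TensorProduct.smul_tmul', smul_eq_mul, e,
        TensorProduct.AlgebraTensorModule.cancelBaseChange_tmul]
      rw [mul_comm]
      rfl
    | add y y' hy hy' =>
      simp only [map_add, smul_add, TensorProduct.tmul_add] at hy hy' ⊢
      rw [hy, hy']
  have key : ∀ z : B' ⊗[B] (B ⊗[A] M), g z = e z := by
    intro z
    induction z using TensorProduct.induction_on with
    | zero => rw [map_zero, map_zero]
    | tmul b' y =>
      have h1 := bc_tmul ((Adeq.underline A).obj M) f b' (toU M B y)
      refine (congrArg (ofU M B') h1).trans ?_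
      exact hpure b' y
    | add z z' hz hz' => rw [map_add, hz, hz', map_add]
  constructor
  · intro z z' h
    apply e.injective
    rw [← key z, ← key z']
    exact congrArg (ofU M B') h
  · intro y
    refine ⟨e.symm (ofU M B' y), ?_⟩
    have := key (e.symm (ofU M B' y))
    rw [LinearEquiv.apply_symm_apply] at this
    exact this


theorem isIso_bc_of_adequate_flat (F : Adeq.MVF A) (hF : Adeq.adequate A F)
    {B B' : Adeq.Alg A} (f : B ⟶ B') (hf : f.hom.toRingHom.Flat) : IsIso (F.bc f) := by
  obtain ⟨M, N, φ, i, hi, w, hex⟩ := exists_exact_of_adequate hF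
  have hexact : Function.Exact (i.app (Adeq.pt B)) (((Adeq.underline A).map φ).app (Adeq.pt B)) := by
    intro y
    constructor
    · intro hy
      obtain ⟨x, hx⟩ := hex _ y hy
      exact ⟨x, hx⟩
    · rintro ⟨x, rfl⟩
      rw [← comp_app_apply, w]
      rfl
  have hE := extendScalars_map_exact f.hom.toRingHom hf _ _ hexact
  have hEi := extendScalars_map_injective f.hom.toRingHom hf _ (hi (Adeq.pt B))
  have hM := bc_underline_bijective M f
  have hN := bc_underline_bijective N f
  rw [ConcreteCategory.isIso_iff_bijective]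
  constructor
  · intro z z' h
    apply hEi
    apply hM.1
    rw [← bc_naturality_apply, ← bc_naturality_apply]
    exact congrArg _ h
  · intro y
    obtain ⟨z, hz⟩ := hM.2 (i.app (Adeq.pt B') y)
    have h0 : (ModuleCat.extendScalars.{u, u, u + 1} f.hom.toRingHom).map
        (((Adeq.underline A).map φ).app (Adeq.pt B)) z = 0 := by
      apply hN.1
      rw [← bc_naturality_apply, hz, ← comp_app_apply, w, map_zero]
      rfl
    obtain ⟨x, hx⟩ := (hE z).mp h0
    refine ⟨x, ?_⟩
    apply hi (Adeq.pt B')
    rw [bc_naturality_apply, hx, hz]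

end Groth.Agent.Lib.Helper14.AdeqLib
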