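import Groth.Agent.Lib.Helper14.AdeqLift
import Mathlib.RingTheory.RingHom.Flat
import Mathlib.RingTheory.Flat.Basic

/-! Pure algebra for the splitting lemma (adequate functors): maps from the universal square-zero
algebra to square-zero extensions `C ⊕ V`. -/

set_option autoImplicit false
open TensorProduct
universe u v w
namespace Groth.Agent.Lib.Helper14.AdeqSplit

open Groth.Agent.Lib.Helper14.AdeqLift

noncomputable section

variable {A : Type u} [CommRing A] {Qm : Type u} [AddCommGroup Qm] [Module A Qm]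
  [Module Aᵐᵒᵖ Qm] [IsCentralScalar A Qm]
  {C : Type u} [CommRing C] [Algebra A C]
  {V : Type u} [AddCommGroup V] [Module C V] [Module Cᵐᵒᵖ V] [IsCentralScalar C V]
  [Module A V] [IsScalarTower A C V] [IsScalarTower A Cᵐᵒᵖ V]
  {V' : Type u} [AddCommGroup V'] [Module C V'] [Module Cᵐᵒᵖ V'] [IsCentralScalar C V']
  [Module A V'] [IsScalarTower A C V'] [IsScalarTower A Cᵐᵒᵖ V']

variable (A C V) in
/-- `v ↦ inr v` as an `A`-linear map -/
def inrLV : V →ₗ[A] TrivSqZeroExt C V := (TrivSqZeroExt.inrHom C V).restrictScalars A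

variable (C) in
/-- the algebra map `A ⊕ Q → C ⊕ V` attached to a linear map `Q → V` -/
def fbV (l : Qm →ₗ[A] V) : TrivSqZeroExt A Qm →ₐ[A] TrivSqZeroExt C V :=
  TrivSqZeroExt.liftEquivOfComm ⟨inrLV A C V ∘ₗ l, fun _ _ => TrivSqZeroExt.inr_mul_inr _ _ _⟩

theorem fbV_inr (l : Qm →ₗ[A] V) (x : Qm) :
    fbV C l (TrivSqZeroExt.inr x) = (TrivSqZeroExt.inr (l x) : TrivSqZeroExt C V) := by
  unfold fbV
  rw [TrivSqZeroExt.liftEquivOfComm_apply, TrivSqZeroExt.lift_apply_inr]
  rfl

/-- functoriality in the module, as an `A`-algebra map -/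
def mapV (u : V →ₗ[C] V') : TrivSqZeroExt C V →ₐ[A] TrivSqZeroExt C V' :=
  (TrivSqZeroExt.map u).restrictScalars A

theorem mapV_apply (u : V →ₗ[C] V') (z : TrivSqZeroExt C V) :
    mapV (A := A) u z = TrivSqZeroExt.map u z := rfl

theorem mapV_comp_fbV (u : V →ₗ[C] V') (l : Qm →ₗ[A] V) :
    (mapV u).comp (fbV C l) = fbV C ((u.restrictScalars A) ∘ₗ l) := by
  apply TrivSqZeroExt.algHom_ext
  intro x
  rw [AlgHom.comp_apply, fbV_inr, fbV_inr, mapV_apply, TrivSqZeroExt.map_inr]
  rfl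

instance flat_tsze [Module.Free C V] : Module.Flat C (TrivSqZeroExt C V) :=
  Module.Flat.of_linearEquiv (N := C × V)
    { toFun := fun z => (z.fst, z.snd)
      invFun := fun z => ⟨z.1, z.2⟩
      map_add' := fun _ _ => rfl
      map_smul' := fun _ _ => rfl
      left_inv := fun _ => rfl
      right_inv := fun _ => rfl }

variable (A C V) in
theorem flat_inl [Module.Free C V] :
    ((TrivSqZeroExt.inlAlgHom A C V).toRingHom).Flat := by
  have h : (TrivSqZeroExt.inlAlgHom A C V).toRingHom = algebraMap C (TrivSqZeroExt C V) := rfl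
  rw [h, RingHom.flat_algebraMap_iff]
  infer_instance

section dual

variable {C' : Type u} [CommRing C'] [Algebra A C']

/-- base change of dual numbers along an algebra map -/
def dualMap (h : C →ₐ[A] C') : TrivSqZeroExt C C →ₐ[A] TrivSqZeroExt C' C' :=
  TrivSqZeroExt.lift ((TrivSqZeroExt.inlAlgHom A C' C').comp h) (inrLV A C' C' ∘ₗ h.toLinearMap)
    (fun _ _ => TrivSqZeroExt.inr_mul_inr _ _ _)
    (fun r x => by
      change TrivSqZeroExt.inr (h (r * x)) = TrivSqZeroExt.inl (h r) * TrivSqZeroExt.inr (h x)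
      rw [TrivSqZeroExt.inl_mul_inr, map_mul, smul_eq_mul])
    (fun r x => by
      change TrivSqZeroExt.inr (h (x * r)) = TrivSqZeroExt.inr (h x) * TrivSqZeroExt.inl (h r)
      rw [TrivSqZeroExt.inr_mul_inl, map_mul, MulOpposite.smul_eq_mul_unop, MulOpposite.unop_op])

theorem dualMap_inl (h : C →ₐ[A] C') (c : C) :
    dualMap h (TrivSqZeroExt.inl c) = TrivSqZeroExt.inl (h c) := by
  unfold dualMap
  rw [TrivSqZeroExt.lift_apply_inl]
  rfl

theorem dualMap_inr (h : C →ₐ[A] C') (c : C) :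
    dualMap h (TrivSqZeroExt.inr c) = TrivSqZeroExt.inr (h c) := by
  unfold dualMap
  rw [TrivSqZeroExt.lift_apply_inr]
  rfl

theorem snd_dualMap (h : C →ₐ[A] C') (z : TrivSqZeroExt C C) :
    (dualMap h z).snd = h z.snd := by
  induction z using TrivSqZeroExt.ind with
  | inl_add_inr r m =>
    rw [map_add, dualMap_inl, dualMap_inr]
    simp

theorem dualMap_comp_fbV (h : C →ₐ[A] C') (l : Qm →ₗ[A] C) :
    (dualMap h).comp (fbV C l) = fbV C' (h.toLinearMap ∘ₗ l) := by
  apply TrivSqZeroExt.algHom_ext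
  intro x
  rw [AlgHom.comp_apply, fbV_inr, fbV_inr, dualMap_inr]
  rfl

end dual

section lam

variable {P : Type v} [AddCommGroup P] [Module A P]
  {P' : Type v} [AddCommGroup P'] [Module A P'] {n m : ℕ}
  (e : Module.Basis (Fin n) A P) (e' : Module.Basis (Fin m) A P') (φ₀ : P →ₗ[A] P')
  {B : Type u} [CommRing B] [Algebra A B] {B' : Type u} [CommRing B'] [Algebra A B']

theorem Q_hom_ext {X : Type w} [AddCommGroup X] [Module A X] (l l' : Q e e' φ₀ →ₗ[A] X)
    (h : ∀ j, l (q e e' φ₀ j) = l' (q e e' φ₀ j)) : l = l' := by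
  apply Submodule.linearMap_qext
  apply LinearMap.pi_ext'
  intro j
  apply LinearMap.ext_ring
  exact h j

theorem coord_add (y y' : B ⊗[A] P) (j : Fin n) :
    coord e B (y + y') j = coord e B y j + coord e B y' j := by
  unfold coord
  rw [map_add]
  rfl

theorem coord_smul (c : B) (y : B ⊗[A] P) (j : Fin n) :
    coord e B (c • y) j = c * coord e B y j := by
  unfold coord
  rw [map_smul]
  rfl

theorem coord_map (h : B →ₐ[A] B') (y : B ⊗[A] P) (j : Fin n) :
    coord e B' (h.toLinearMap.rTensor P y) j = h (coord e B y j) := by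
  conv_lhs => rw [eq_sum_coord e B y, map_sum]
  simp_rw [LinearMap.rTensor_tmul, AlgHom.toLinearMap_apply]
  rw [coord_sum e B' (fun k => h (coord e B y k)) j]

theorem lam_add (y y' : B ⊗[A] P) (hy : φ₀.baseChange B y = 0) (hy' : φ₀.baseChange B y' = 0)
    (hyy' : φ₀.baseChange B (y + y') = 0) :
    lam e e' φ₀ (y + y') hyy' = lam e e' φ₀ y hy + lam e e' φ₀ y' hy' := by
  apply Q_hom_ext
  intro j
  rw [LinearMap.add_apply, lam_q, lam_q, lam_q, coord_add]

theorem lam_smul (c : B) (y : B ⊗[A] P) (hy : φ₀.baseChange B y = 0)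
    (hcy : φ₀.baseChange B (c • y) = 0) :
    lam e e' φ₀ (c • y) hcy = ((LinearMap.lsmul B B c).restrictScalars A) ∘ₗ lam e e' φ₀ y hy := by
  apply Q_hom_ext
  intro j
  rw [LinearMap.comp_apply, lam_q, lam_q, coord_smul]
  rfl

theorem lam_map (h : B →ₐ[A] B') (y : B ⊗[A] P) (hy : φ₀.baseChange B y = 0)
    (hy' : φ₀.baseChange B' (h.toLinearMap.rTensor P y) = 0) :
    lam e e' φ₀ (h.toLinearMap.rTensor P y) hy' = h.toLinearMap ∘ₗ lam e e' φ₀ y hy := by
  apply Q_hom_ext
  intro j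
  rw [LinearMap.comp_apply, lam_q, lam_q, coord_map]
  rfl

/-- `fb` in terms of `fbV` -/
theorem fb_eq_fbV (y : B ⊗[A] P) (hy : φ₀.baseChange B y = 0) :
    fb e e' φ₀ y hy = fbV B (lam e e' φ₀ y hy) := rfl

end lam

end

end Groth.Agent.Lib.Helper14.AdeqSplit
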