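import Groth.Agent.Lib.Helper14.Adeq14
import Groth.Agent.Lib.Helper14.Adeq2
import Groth.Agent.Lib.Helper14.AdeqSplit

set_option autoImplicit false
open CategoryTheory Limits Opposite TensorProduct ChangeOfRings
universe u
namespace Groth.Agent.Lib.Helper14.AdeqLib
variable {A : Type u} [CommRing A]

theorem extendScalars_map_surjective {R S : Type u} [CommRing R] [CommRing S] (f : R →+* S)
    {M N : ModuleCat.{u + 1} R} (g : M ⟶ N) (hg : Function.Surjective g) :
    Function.Surjective ((ModuleCat.extendScalars.{u, u, u + 1} f).map g) := by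
  algebraize [f]
  change Function.Surjective (LinearMap.lTensor S g.hom)
  exact LinearMap.lTensor_surjective S hg

theorem bc_bijective_of_adequate_flat (F : Adeq.MVF A) (hF : Adeq.adequate A F)
    {B B' : Adeq.Alg A} (f : B ⟶ B') (hf : f.hom.toRingHom.Flat) : Function.Bijective (F.bc f) := by
  have := isIso_bc_of_adequate_flat F hF f hf
  exact (ConcreteCategory.isIso_iff_bijective _).mp this

/-- five lemma for the base change maps -/
theorem bc_bijective_of_shortExact {X₁ G H : Adeq.MVF A} (j : X₁ ⟶ G) (p : G ⟶ H)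
    (hj : ∀ X, Function.Injective (j.app X)) (hp : ∀ X, Function.Surjective (p.app X))
    (w : j ≫ p = 0)
    (hex : ∀ (X : (Adeq.Alg A)ᵒᵖᵒᵖ) (y : G.obj X), p.app X y = 0 → ∃ x : X₁.obj X, j.app X x = y)
    {C W : Adeq.Alg A} (f : C ⟶ W) (hf : f.hom.toRingHom.Flat)
    (h1 : Function.Bijective (X₁.bc f)) (h3 : Function.Bijective (H.bc f)) :
    Function.Bijective (G.bc f) := by
  have hexact : Function.Exact (j.app (Adeq.pt C)) (p.app (Adeq.pt C)) := by
    intro y
    constructor
    · intro hy
      exact hex _ y hy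
    · rintro ⟨x, rfl⟩
      rw [← comp_app_apply, w]
      rfl
  have hE := extendScalars_map_exact f.hom.toRingHom hf _ _ hexact
  have hEs := extendScalars_map_surjective f.hom.toRingHom _ (hp (Adeq.pt C))
  constructor
  · rw [injective_iff_map_eq_zero]
    intro t ht
    have h0 : (ModuleCat.extendScalars.{u, u, u + 1} f.hom.toRingHom).map (p.app (Adeq.pt C)) t = 0 := by
      apply h3.1
      rw [← bc_naturality_apply, ht, map_zero, map_zero]
    obtain ⟨t₁, rfl⟩ := (hE t).mp h0
    have h2 : X₁.bc f t₁ = 0 := by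
      apply hj (Adeq.pt W)
      rw [bc_naturality_apply, ht, map_zero]
    have h3' : t₁ = 0 := by
      apply h1.1
      rw [h2, map_zero]
    rw [h3', map_zero]
  · intro g
    obtain ⟨t₃, ht₃⟩ := h3.2 (p.app (Adeq.pt W) g)
    obtain ⟨t₂, rfl⟩ := hEs t₃
    have h0 : p.app (Adeq.pt W) (g - G.bc f t₂) = 0 := by
      rw [map_sub, bc_naturality_apply, ht₃, sub_self]
    obtain ⟨x₁, hx₁⟩ := hex _ _ h0
    obtain ⟨t₁, rfl⟩ := h1.2 x₁
    refine ⟨t₂ + (ModuleCat.extendScalars.{u, u, u + 1} f.hom.toRingHom).map (j.app (Adeq.pt C)) t₁, ?_⟩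
    rw [map_add, ← bc_naturality_apply, hx₁]
    abel

end Groth.Agent.Lib.Helper14.AdeqLib
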