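import Groth.Agent.Lib.Helper14.Adeq15

set_option autoImplicit false
open CategoryTheory Limits Opposite TensorProduct ChangeOfRings
universe u
namespace Groth.Agent.Lib.Helper14.AdeqLib
variable {A : Type u} [CommRing A]

/-- the transition map of a module-valued functor, as an additive map with clean types -/
noncomputable def mvfMap (G : Adeq.MVF A) {B B' : Adeq.Alg A} (f : B ⟶ B') :
    G.obj (Adeq.pt B) →+ G.obj (Adeq.pt B') :=
  AddMonoidHom.mk' (fun x => G.map (Adeq.ptHom f) x) (fun x y => (G.map (Adeq.ptHom f)).hom.map_add x y)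

theorem mvfMap_apply (G : Adeq.MVF A) {B B' : Adeq.Alg A} (f : B ⟶ B') (x : G.obj (Adeq.pt B)) :
    mvfMap G f x = G.map (Adeq.ptHom f) x := rfl

theorem mvfMap_comp (G : Adeq.MVF A) {B B' B'' : Adeq.Alg A} (f : B ⟶ B') (g : B' ⟶ B'')
    (x : G.obj (Adeq.pt B)) :
    mvfMap G (f ≫ g) x = mvfMap G g (mvfMap G f x) :=
  PresheafOfModules.map_comp_apply G (Adeq.ptHom f) (Adeq.ptHom g) x

theorem mvfMap_smul (G : Adeq.MVF A) {B B' : Adeq.Alg A} (f : B ⟶ B') (c : B)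
    (x : G.obj (Adeq.pt B)) :
    mvfMap G f (c • x) = (f.hom c : B') • mvfMap G f x :=
  G.map_smul (Adeq.ptHom f) c x

theorem mvfMap_congr (G : Adeq.MVF A) {B B' : Adeq.Alg A} {f g : B ⟶ B'} (h : f = g)
    (x : G.obj (Adeq.pt B)) : mvfMap G f x = mvfMap G g x := by
  rw [h]

theorem mvfMap_naturality {G H : Adeq.MVF A} (p : G ⟶ H) {B B' : Adeq.Alg A} (f : B ⟶ B')
    (x : G.obj (Adeq.pt B)) :
    p.app (Adeq.pt B') (mvfMap G f x) = mvfMap H f (p.app (Adeq.pt B) x) :=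
  PresheafOfModules.naturality_apply p (Adeq.ptHom f) x

section coef

variable (G : Adeq.MVF A) {C W : Adeq.Alg A} (f : C ⟶ W)

/-- induction principle for the target of a surjective base change map -/
theorem bc_induction (hbc : Function.Surjective (G.bc f)) {motive : G.obj (Adeq.pt W) → Prop}
    (h0 : motive 0) (hs : ∀ (z : W) (g : G.obj (Adeq.pt C)), motive (z • mvfMap G f g))
    (ha : ∀ a b, motive a → motive b → motive (a + b)) (θ : G.obj (Adeq.pt W)) : motive θ := by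
  obtain ⟨t, rfl⟩ := hbc θ
  let _ : Algebra C W := f.hom.toRingHom.toAlgebra
  let bcm : W ⊗[C] G.obj (Adeq.pt C) →+ G.obj (Adeq.pt W) :=
    AddMonoidHom.mk' (fun t => (G.bc f).hom t) (fun t t' => (G.bc f).hom.map_add t t')
  have key : ∀ t : W ⊗[C] G.obj (Adeq.pt C), motive (bcm t) := by
    intro t
    induction t using TensorProduct.induction_on with
    | zero => rw [map_zero]; exact h0
    | tmul z g =>
      have : bcm (z ⊗ₜ[C] g) = z • mvfMap G f g := bc_tmul G f z g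
      rw [this]
      exact hs z g
    | add t t' ht ht' => rw [map_add]; exact ha _ _ ht ht'
  exact key t

variable (ℓ : W →+ C) (hℓ : ∀ (c : C) (z : W), ℓ (f.hom c * z) = c * ℓ z)

/-- auxiliary: `z ⊗ g ↦ ℓ z • g` on the plain tensor product -/
noncomputable def coefAux' :
    letI : Algebra C W := f.hom.toRingHom.toAlgebra
    W ⊗[C] G.obj (Adeq.pt C) →+ G.obj (Adeq.pt C) :=
  letI : Algebra C W := f.hom.toRingHom.toAlgebra
  let ℓ' : W →ₗ[C] C :=
    { toFun := ℓ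
      map_add' := ℓ.map_add
      map_smul' := fun c z => by
        rw [Algebra.smul_def]
        exact hℓ c z }
  ((TensorProduct.lid C (G.obj (Adeq.pt C))).toLinearMap ∘ₗ
    (ℓ'.rTensor (G.obj (Adeq.pt C)))).toAddMonoidHom

theorem coefAux'_tmul (z : W) (g : G.obj (Adeq.pt C)) :
    letI : Algebra C W := f.hom.toRingHom.toAlgebra
    coefAux' G f ℓ hℓ (z ⊗ₜ[C] g) = ℓ z • g := by
  unfold coefAux'
  simp only [LinearMap.toAddMonoidHom_coe, LinearMap.coe_comp, LinearEquiv.coe_coe,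
    Function.comp_apply, LinearMap.rTensor_tmul, TensorProduct.lid_tmul]
  rfl

/-- auxiliary: `z ⊗ g ↦ ℓ z • g` -/
noncomputable def coefAux :
    ((ModuleCat.extendScalars.{u, u, u + 1} f.hom.toRingHom).obj (G.obj (Adeq.pt C))) →+
      G.obj (Adeq.pt C) :=
  AddMonoidHom.mk' (fun t => coefAux' G f ℓ hℓ t) (fun t t' => (coefAux' G f ℓ hℓ).map_add t t')

theorem coefAux_tmul (z : W) (g : G.obj (Adeq.pt C)) :
    coefAux G f ℓ hℓ (z ⊗ₜ[C, f.hom.toRingHom] g) = ℓ z • g :=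
  coefAux'_tmul G f ℓ hℓ z g

variable (hbc : Function.Bijective (G.bc f))

/-- the base change map as an additive equivalence -/
noncomputable def bcEquiv :
    ((ModuleCat.extendScalars.{u, u, u + 1} f.hom.toRingHom).obj (G.obj (Adeq.pt C))) ≃+
      G.obj (Adeq.pt W) :=
  AddEquiv.ofBijective (AddMonoidHom.mk' (fun t => (G.bc f).hom t)
    (fun t t' => (G.bc f).hom.map_add t t')) hbc

theorem bcEquiv_apply (t : (ModuleCat.extendScalars.{u, u, u + 1} f.hom.toRingHom).obj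
    (G.obj (Adeq.pt C))) : bcEquiv G f hbc t = G.bc f t := rfl

/-- the "coefficient" map `G(W) → G(C)` attached to a `C`-linear functional on `W` -/
noncomputable def coef : G.obj (Adeq.pt W) →+ G.obj (Adeq.pt C) :=
  (coefAux G f ℓ hℓ).comp (bcEquiv G f hbc).symm.toAddMonoidHom

theorem coef_smul_map (z : W) (g : G.obj (Adeq.pt C)) :
    coef G f ℓ hℓ hbc (z • mvfMap G f g) = ℓ z • g := by
  unfold coef
  have hb : z • mvfMap G f g = bcEquiv G f hbc (z ⊗ₜ[C, f.hom.toRingHom] g) :=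
    (bc_tmul G f z g).symm
  rw [hb]
  simp only [AddMonoidHom.coe_comp, AddEquiv.coe_toAddMonoidHom, Function.comp_apply,
    AddEquiv.symm_apply_apply]
  exact coefAux_tmul G f ℓ hℓ z g

/-- `coef` composed with a map of `C`-algebras -/
theorem coef_map {W' : Adeq.Alg A} (f' : C ⟶ W') (ψ : W ⟶ W') (hψ : f ≫ ψ = f')
    (ℓ' : W' →+ C) (hℓ' : ∀ (c : C) (z : W'), ℓ' (f'.hom c * z) = c * ℓ' z)
    (hbc' : Function.Bijective (G.bc f')) (hℓψ : ∀ z, ℓ' (ψ.hom z) = ℓ z)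
    (θ : G.obj (Adeq.pt W)) :
    coef G f' ℓ' hℓ' hbc' (mvfMap G ψ θ) = coef G f ℓ hℓ hbc θ := by
  refine bc_induction G f hbc.2 (motive := fun θ =>
    coef G f' ℓ' hℓ' hbc' (mvfMap G ψ θ) = coef G f ℓ hℓ hbc θ) ?_ ?_ ?_ θ
  · rw [map_zero, map_zero, map_zero]
  · intro z g
    rw [mvfMap_smul, ← mvfMap_comp, mvfMap_congr G hψ, coef_smul_map, coef_smul_map, hℓψ]
  · intro a b ha hb
    rw [map_add, map_add, map_add, ha, hb]

/-- `coef` is additive in the functional -/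
theorem coef_add (ℓ₁ ℓ₂ : W →+ C) (hℓ₁ : ∀ (c : C) (z : W), ℓ₁ (f.hom c * z) = c * ℓ₁ z)
    (hℓ₂ : ∀ (c : C) (z : W), ℓ₂ (f.hom c * z) = c * ℓ₂ z)
    (hsum : ∀ z, ℓ z = ℓ₁ z + ℓ₂ z) (θ : G.obj (Adeq.pt W)) :
    coef G f ℓ hℓ hbc θ = coef G f ℓ₁ hℓ₁ hbc θ + coef G f ℓ₂ hℓ₂ hbc θ := by
  refine bc_induction G f hbc.2 (motive := fun θ =>
    coef G f ℓ hℓ hbc θ = coef G f ℓ₁ hℓ₁ hbc θ + coef G f ℓ₂ hℓ₂ hbc θ) ?_ ?_ ?_ θ
  · rw [map_zero, map_zero, map_zero, add_zero]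
  · intro z g
    rw [coef_smul_map, coef_smul_map, coef_smul_map, hsum, add_smul]
  · intro a b ha hb
    rw [map_add, map_add, map_add, ha, hb]
    abel

/-- `coef` is homogeneous in the functional -/
theorem coef_smul (c : C) (ℓ₁ : W →+ C) (hℓ₁ : ∀ (c : C) (z : W), ℓ₁ (f.hom c * z) = c * ℓ₁ z)
    (hc : ∀ z, ℓ z = c * ℓ₁ z) (θ : G.obj (Adeq.pt W)) :
    coef G f ℓ hℓ hbc θ = c • coef G f ℓ₁ hℓ₁ hbc θ := by
  refine bc_induction G f hbc.2 (motive := fun θ =>
    coef G f ℓ hℓ hbc θ = c • coef G f ℓ₁ hℓ₁ hbc θ) ?_ ?_ ?_ θ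
  · rw [map_zero, map_zero, smul_zero]
  · intro z g
    rw [coef_smul_map, coef_smul_map, hc, mul_smul]
  · intro a b ha hb
    rw [map_add, map_add, ha, hb, smul_add]

/-- naturality of `coef` in the base algebra -/
theorem coef_natural {C' W' : Adeq.Alg A} (f' : C' ⟶ W') (h : C ⟶ C') (k : W ⟶ W')
    (hsq : f ≫ k = h ≫ f')
    (ℓ' : W' →+ C') (hℓ' : ∀ (c : C') (z : W'), ℓ' (f'.hom c * z) = c * ℓ' z)
    (hbc' : Function.Bijective (G.bc f')) (hℓk : ∀ z, ℓ' (k.hom z) = h.hom (ℓ z))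
    (θ : G.obj (Adeq.pt W)) :
    coef G f' ℓ' hℓ' hbc' (mvfMap G k θ) = mvfMap G h (coef G f ℓ hℓ hbc θ) := by
  refine bc_induction G f hbc.2 (motive := fun θ =>
    coef G f' ℓ' hℓ' hbc' (mvfMap G k θ) =
      mvfMap G h (coef G f ℓ hℓ hbc θ)) ?_ ?_ ?_ θ
  · rw [map_zero, map_zero, map_zero, map_zero]
  · intro z g
    rw [mvfMap_smul, ← mvfMap_comp, mvfMap_congr G hsq, mvfMap_comp, coef_smul_map,
      coef_smul_map, hℓk, mvfMap_smul]
  · intro a b ha hb
    rw [map_add, map_add, map_add, map_add, ha, hb]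

/-- compatibility of `coef` with morphisms of module-valued functors -/
theorem coef_hom {H : Adeq.MVF A} (p : G ⟶ H) (hbcH : Function.Bijective (H.bc f))
    (θ : G.obj (Adeq.pt W)) :
    coef H f ℓ hℓ hbcH (p.app (Adeq.pt W) θ) = p.app (Adeq.pt C) (coef G f ℓ hℓ hbc θ) := by
  refine bc_induction G f hbc.2 (motive := fun θ =>
    coef H f ℓ hℓ hbcH (p.app (Adeq.pt W) θ) = p.app (Adeq.pt C) (coef G f ℓ hℓ hbc θ)) ?_ ?_ ?_ θ
  · rw [map_zero, map_zero, map_zero, map_zero]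
  · intro z g
    have e1 : p.app (Adeq.pt W) (z • mvfMap G f g) =
        z • mvfMap H f (p.app (Adeq.pt C) g) := by
      refine ((p.app (Adeq.pt W)).hom.map_smul z _).trans ?_
      congr 1
      exact mvfMap_naturality p f g
    rw [e1, coef_smul_map, coef_smul_map]
    exact ((p.app (Adeq.pt C)).hom.map_smul (ℓ z) g).symm
  · intro a b ha hb
    rw [map_add, map_add, map_add, map_add, ha, hb]

end coef

end Groth.Agent.Lib.Helper14.AdeqLib
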