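import Groth.Agent.Lib.Helper14.Adeq16

set_option autoImplicit false
open CategoryTheory Limits Opposite TensorProduct
universe u
namespace Groth.Agent.Lib.Helper14.AdeqLib
open Groth.Agent.Lib.Helper14.AdeqLift Groth.Agent.Lib.Helper14.AdeqSplit
variable {A : Type u} [CommRing A]

section split

variable (C : Adeq.Alg A) (V : Type u) [AddCommGroup V] [Module C V] [Module Cᵐᵒᵖ V]
  [IsCentralScalar C V] [Module A V] [IsScalarTower A C V] [IsScalarTower A Cᵐᵒᵖ V]
  (V' : Type u) [AddCommGroup V'] [Module C V'] [Module Cᵐᵒᵖ V']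
  [IsCentralScalar C V'] [Module A V'] [IsScalarTower A C V'] [IsScalarTower A Cᵐᵒᵖ V']

/-- the square-zero extension `C ⊕ V` as an object of `Alg A` -/
noncomputable abbrev VA : Adeq.Alg A := Adeq.algOf A (TrivSqZeroExt C V)

/-- the inclusion `C → C ⊕ V` -/
noncomputable abbrev inlV : C ⟶ VA C V := CommAlgCat.ofHom (TrivSqZeroExt.inlAlgHom A C V)

theorem flat_inlV [Module.Free C V] : (inlV C V).hom.toRingHom.Flat := flat_inl A C V

/-- functionals on `C ⊕ V` -/
noncomputable def sndV (u : V →ₗ[C] C) : VA C V →+ C :=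
  (u ∘ₗ TrivSqZeroExt.sndHom C V).toAddMonoidHom

variable {V} in
theorem sndV_apply (u : V →ₗ[C] C) (z : VA C V) :
    sndV C V u z = u (TrivSqZeroExt.snd (z : TrivSqZeroExt C V)) := rfl

variable {V} in
theorem sndV_lin (u : V →ₗ[C] C) (c : C) (z : VA C V) :
    sndV C V u ((inlV C V).hom c * z) = c * sndV C V u z := by
  change u (TrivSqZeroExt.snd ((TrivSqZeroExt.inl c : TrivSqZeroExt C V) * z)) =
    c * u (TrivSqZeroExt.snd z)
  simp

variable {V V'} in
/-- functoriality in `V` -/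
noncomputable abbrev mV (u : V →ₗ[C] V') : VA C V ⟶ VA C V' := CommAlgCat.ofHom (mapV u)

variable {V V'} in
theorem inlV_comp_mV (u : V →ₗ[C] V') : inlV C V ≫ mV C u = inlV C V' := by
  apply CommAlgCat.hom_ext
  apply AlgHom.ext
  intro c
  change mapV (A := A) u (TrivSqZeroExt.inl c) = TrivSqZeroExt.inl c
  rw [mapV_apply, TrivSqZeroExt.map_inl]

variable {V V'} in
theorem sndV_mV (u : V →ₗ[C] V') (w : V' →ₗ[C] C) (z : VA C V) :
    sndV C V' w ((mV C u).hom z) = sndV C V (w ∘ₗ u) z := by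
  change w (TrivSqZeroExt.snd (mapV (A := A) u z)) = w (u (TrivSqZeroExt.snd z))
  rw [mapV_apply, TrivSqZeroExt.snd_map]

/-- dual numbers as an object of `Alg A` -/
noncomputable abbrev DA : Adeq.Alg A := VA C C

/-- the inclusion `C → C[ε]` -/
noncomputable abbrev inlD : C ⟶ DA C := inlV C C

end split

section core

variable {P P' : ModuleCat.{u + 1} A} {n m : ℕ} (e : Module.Basis (Fin n) A P)
  (e' : Module.Basis (Fin m) A P') (φ₀ : P ⟶ P')

/-- the element of `C ⊗ P` underlying a section of the kernel -/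
noncomputable def yOf (C : Adeq.Alg A) (k : (kernel ((Adeq.underline A).map φ₀)).obj (Adeq.pt C)) :
    C ⊗[A] P :=
  ofU P C ((kernel.ι ((Adeq.underline A).map φ₀)).app (Adeq.pt C) k)

theorem yOf_zero (C : Adeq.Alg A) (k : (kernel ((Adeq.underline A).map φ₀)).obj (Adeq.pt C)) :
    φ₀.hom.baseChange C (yOf φ₀ C k) = 0 :=
  ker_ι_app_comp ((Adeq.underline A).map φ₀) (Adeq.pt C) k

theorem yOf_add (C : Adeq.Alg A) (k k' : (kernel ((Adeq.underline A).map φ₀)).obj (Adeq.pt C)) :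
    yOf φ₀ C (k + k') = yOf φ₀ C k + yOf φ₀ C k' := by
  unfold yOf
  rw [map_add]
  rfl

theorem yOf_smul (C : Adeq.Alg A) (c : C) (k : (kernel ((Adeq.underline A).map φ₀)).obj (Adeq.pt C)) :
    yOf φ₀ C (c • k) = c • yOf φ₀ C k := by
  unfold yOf
  have := ((kernel.ι ((Adeq.underline A).map φ₀)).app (Adeq.pt C)).hom.map_smul c k
  exact congrArg (ofU P C) this

theorem yOf_map {C C' : Adeq.Alg A} (h : C ⟶ C')
    (k : (kernel ((Adeq.underline A).map φ₀)).obj (Adeq.pt C)) :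
    yOf φ₀ C' (mvfMap _ h k) = h.hom.toLinearMap.rTensor P (yOf φ₀ C k) := by
  unfold yOf
  have := mvfMap_naturality (kernel.ι ((Adeq.underline A).map φ₀)) h k
  exact congrArg (ofU P C') this

/-- the linear map `Q → C` classifying a section of the kernel -/
noncomputable def lamK (C : Adeq.Alg A) (k : (kernel ((Adeq.underline A).map φ₀)).obj (Adeq.pt C)) :
    Q e e' φ₀.hom →ₗ[A] C :=
  lam e e' φ₀.hom (yOf φ₀ C k) (yOf_zero φ₀ C k)

theorem lamK_add (C : Adeq.Alg A) (k k' : (kernel ((Adeq.underline A).map φ₀)).obj (Adeq.pt C)) :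
    lamK e e' φ₀ C (k + k') = lamK e e' φ₀ C k + lamK e e' φ₀ C k' := by
  unfold lamK
  have h := yOf_add φ₀ C k k'
  have h0 : φ₀.hom.baseChange C (yOf φ₀ C k + yOf φ₀ C k') = 0 := by
    rw [← h]; exact yOf_zero φ₀ C (k + k')
  rw [← lam_add e e' φ₀.hom _ _ (yOf_zero φ₀ C k) (yOf_zero φ₀ C k') h0]
  congr 1

theorem lamK_smul (C : Adeq.Alg A) (c : C) (k : (kernel ((Adeq.underline A).map φ₀)).obj (Adeq.pt C)) :
    lamK e e' φ₀ C (c • k) = ((LinearMap.lsmul C C c).restrictScalars A) ∘ₗ lamK e e' φ₀ C k := by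
  unfold lamK
  have h := yOf_smul φ₀ C c k
  have h0 : φ₀.hom.baseChange C (c • yOf φ₀ C k) = 0 := by
    rw [← h]; exact yOf_zero φ₀ C (c • k)
  rw [← lam_smul e e' φ₀.hom c _ (yOf_zero φ₀ C k) h0]
  congr 1

theorem lamK_map {C C' : Adeq.Alg A} (h : C ⟶ C')
    (k : (kernel ((Adeq.underline A).map φ₀)).obj (Adeq.pt C)) :
    lamK e e' φ₀ C' (mvfMap _ h k) = h.hom.toLinearMap ∘ₗ lamK e e' φ₀ C k := by
  unfold lamK
  have h1 := yOf_map φ₀ h k
  have h0 : φ₀.hom.baseChange C' (h.hom.toLinearMap.rTensor P (yOf φ₀ C k)) = 0 := by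
    rw [← h1]; exact yOf_zero φ₀ C' _
  rw [← lam_map e e' φ₀.hom h.hom _ (yOf_zero φ₀ C k) h0]
  congr 1

/-- the universal square-zero algebra as an object of `Alg A` -/
noncomputable abbrev TAo : Adeq.Alg A := Adeq.algOf A (T e e' φ₀.hom)

/-- the classifying map of `ε k` -/
noncomputable def fK (C : Adeq.Alg A) (k : (kernel ((Adeq.underline A).map φ₀)).obj (Adeq.pt C)) :
    TAo e e' φ₀ ⟶ DA C :=
  CommAlgCat.ofHom (fbV C (lamK e e' φ₀ C k))

/-- `ε` -/
noncomputable def epsD (C : Adeq.Alg A) : DA C := (TrivSqZeroExt.inr 1 : TrivSqZeroExt C C)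

theorem claim1 (τ : (kernel ((Adeq.underline A).map φ₀)).obj (Adeq.pt (TAo e e' φ₀)))
    (hτ : (kernel.ι ((Adeq.underline A).map φ₀)).app (Adeq.pt (TAo e e' φ₀)) τ =
      toU P (TAo e e' φ₀) (yτ e e' φ₀.hom))
    (C : Adeq.Alg A) (k : (kernel ((Adeq.underline A).map φ₀)).obj (Adeq.pt C)) :
    mvfMap _ (fK e e' φ₀ C k) τ = epsD C • mvfMap _ (inlD C) k := by
  apply ker_ι_injective ((Adeq.underline A).map φ₀) (Adeq.pt (DA C))
  rw [mvfMap_naturality]
  have e2 : (kernel.ι ((Adeq.underline A).map φ₀)).app (Adeq.pt (DA C))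
      (epsD C • mvfMap _ (inlD C) k) =
      epsD C • mvfMap ((Adeq.underline A).obj P) (inlD C)
        ((kernel.ι ((Adeq.underline A).map φ₀)).app (Adeq.pt C) k) := by
    have := ((kernel.ι ((Adeq.underline A).map φ₀)).app (Adeq.pt (DA C))).hom.map_smul (epsD C)
      (mvfMap _ (inlD C) k)
    refine this.trans ?_
    congr 1
    exact mvfMap_naturality _ (inlD C) k
  refine Eq.trans ?_ e2.symm
  rw [hτ]
  change toU P (DA C) ((fb e e' φ₀.hom (yOf φ₀ C k) (yOf_zero φ₀ C k)).toLinearMap.rTensor P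
      (yτ e e' φ₀.hom)) =
    toU P (DA C) ((DualNumber.eps : DualNumber C) • ((inlL C).rTensor P (yOf φ₀ C k)))
  rw [fb_rTensor_yτ, eps_smul_inlL]

end core

section sigma

variable {P P' : ModuleCat.{u + 1} A} {n m : ℕ} (e : Module.Basis (Fin n) A P)
  (e' : Module.Basis (Fin m) A P') (φ₀ : P ⟶ P')
  (G : Adeq.MVF A)
  (hG : ∀ {C W : Adeq.Alg A} (f : C ⟶ W), f.hom.toRingHom.Flat → Function.Bijective (G.bc f))
  (η : G.obj (Adeq.pt (TAo e e' φ₀)))
  (C : Adeq.Alg A) (V : Type u) [AddCommGroup V] [Module C V] [Module Cᵐᵒᵖ V]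
  [IsCentralScalar C V] [Module A V] [IsScalarTower A C V] [IsScalarTower A Cᵐᵒᵖ V]
  [Module.Free C V]
  (V' : Type u) [AddCommGroup V'] [Module C V'] [Module Cᵐᵒᵖ V']
  [IsCentralScalar C V'] [Module A V'] [IsScalarTower A C V'] [IsScalarTower A Cᵐᵒᵖ V']
  [Module.Free C V']

/-- classifying map for a linear map `Q → V` -/
noncomputable def FV (l : Q e e' φ₀.hom →ₗ[A] V) : TAo e e' φ₀ ⟶ VA C V :=
  CommAlgCat.ofHom (fbV C l)

omit [Module.Free C V] [Module.Free C V'] in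
variable {V V'} in
theorem FV_comp_mV (l : Q e e' φ₀.hom →ₗ[A] V) (u : V →ₗ[C] V') :
    FV e e' φ₀ C V l ≫ mV C u = FV e e' φ₀ C V' ((u.restrictScalars A) ∘ₗ l) := by
  apply CommAlgCat.hom_ext
  exact mapV_comp_fbV u l

variable {V} in
/-- the coefficient of `θ_l` with respect to the functional `w` -/
noncomputable def cf (l : Q e e' φ₀.hom →ₗ[A] V) (w : V →ₗ[C] C) : G.obj (Adeq.pt C) :=
  coef G (inlV C V) (sndV C V w) (sndV_lin C w) (hG _ (flat_inlV C V))
    (mvfMap G (FV e e' φ₀ C V l) η)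

variable {V V'} in
theorem cf_comp (l : Q e e' φ₀.hom →ₗ[A] V) (u : V →ₗ[C] V') (w : V' →ₗ[C] C) :
    cf e e' φ₀ G hG η C ((u.restrictScalars A) ∘ₗ l) w = cf e e' φ₀ G hG η C l (w ∘ₗ u) := by
  unfold cf
  rw [← mvfMap_congr G (FV_comp_mV e e' φ₀ C l u), mvfMap_comp]
  exact coef_map G (inlV C V) (sndV C V (w ∘ₗ u)) (sndV_lin C (w ∘ₗ u)) (hG _ (flat_inlV C V))
    (inlV C V') (mV C u) (inlV_comp_mV C u) (sndV C V' w) (sndV_lin C w) (hG _ (flat_inlV C V'))
    (sndV_mV C u w) _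

variable {V} in
theorem cf_add (l : Q e e' φ₀.hom →ₗ[A] V) (w w' : V →ₗ[C] C) :
    cf e e' φ₀ G hG η C l (w + w') = cf e e' φ₀ G hG η C l w + cf e e' φ₀ G hG η C l w' := by
  unfold cf
  exact coef_add G (inlV C V) _ _ _ _ _ _ _ (fun z => rfl) _

variable {V} in
theorem cf_smul (l : Q e e' φ₀.hom →ₗ[A] V) (c : C) (w : V →ₗ[C] C) :
    cf e e' φ₀ G hG η C l (c • w) = c • cf e e' φ₀ G hG η C l w := by
  unfold cf
  exact coef_smul G (inlV C V) _ _ _ c _ _ (fun z => rfl) _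

/-- the candidate section, value at `k` -/
noncomputable def sig (k : (kernel ((Adeq.underline A).map φ₀)).obj (Adeq.pt C)) :
    G.obj (Adeq.pt C) :=
  cf e e' φ₀ G hG η C (lamK e e' φ₀ C k) LinearMap.id

theorem sig_add (k k' : (kernel ((Adeq.underline A).map φ₀)).obj (Adeq.pt C)) :
    sig e e' φ₀ G hG η C (k + k') = sig e e' φ₀ G hG η C k + sig e e' φ₀ G hG η C k' := by
  unfold sig
  rw [lamK_add]
  let l := lamK e e' φ₀ C k
  let l' := lamK e e' φ₀ C k'
  let l2 : Q e e' φ₀.hom →ₗ[A] (C × C) := l.prod l'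
  have h1 : l = ((LinearMap.fst C C C).restrictScalars A) ∘ₗ l2 := by
    ext x; rfl
  have h2 : l' = ((LinearMap.snd C C C).restrictScalars A) ∘ₗ l2 := by
    ext x; rfl
  have h3 : l + l' = ((LinearMap.fst C C C + LinearMap.snd C C C).restrictScalars A) ∘ₗ l2 := by
    ext x; rfl
  change cf e e' φ₀ G hG η C (l + l') LinearMap.id =
    cf e e' φ₀ G hG η C l LinearMap.id + cf e e' φ₀ G hG η C l' LinearMap.id
  rw [h3, cf_comp, LinearMap.id_comp, cf_add]
  conv_rhs => rw [h1, h2, cf_comp, cf_comp, LinearMap.id_comp, LinearMap.id_comp]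

theorem sig_smul (c : C) (k : (kernel ((Adeq.underline A).map φ₀)).obj (Adeq.pt C)) :
    sig e e' φ₀ G hG η C (c • k) = c • sig e e' φ₀ G hG η C k := by
  unfold sig
  rw [lamK_smul, cf_comp, ← cf_smul]
  congr 1

end sigma

section sigma2

variable {P P' : ModuleCat.{u + 1} A} {n m : ℕ} (e : Module.Basis (Fin n) A P)
  (e' : Module.Basis (Fin m) A P') (φ₀ : P ⟶ P')
  (G : Adeq.MVF A)
  (hG : ∀ {C W : Adeq.Alg A} (f : C ⟶ W), f.hom.toRingHom.Flat → Function.Bijective (G.bc f))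
  (η : G.obj (Adeq.pt (TAo e e' φ₀)))

/-- base change of dual numbers, in `Alg A` -/
noncomputable abbrev Dmap {C C' : Adeq.Alg A} (h : C ⟶ C') : DA C ⟶ DA C' :=
  CommAlgCat.ofHom (dualMap h.hom)

theorem inlD_comp_Dmap {C C' : Adeq.Alg A} (h : C ⟶ C') : inlD C ≫ Dmap h = h ≫ inlD C' := by
  apply CommAlgCat.hom_ext
  apply AlgHom.ext
  intro c
  exact dualMap_inl h.hom c

theorem FV_comp_Dmap {C C' : Adeq.Alg A} (h : C ⟶ C') (l : Q e e' φ₀.hom →ₗ[A] C) :
    FV e e' φ₀ C C l ≫ Dmap h = FV e e' φ₀ C' C' (h.hom.toLinearMap ∘ₗ l) := by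
  apply CommAlgCat.hom_ext
  exact dualMap_comp_fbV h.hom l

theorem sig_map {C C' : Adeq.Alg A} (h : C ⟶ C')
    (k : (kernel ((Adeq.underline A).map φ₀)).obj (Adeq.pt C)) :
    sig e e' φ₀ G hG η C' (mvfMap _ h k) = mvfMap G h (sig e e' φ₀ G hG η C k) := by
  unfold sig cf
  rw [lamK_map, ← mvfMap_congr G (FV_comp_Dmap e e' φ₀ h _), mvfMap_comp]
  exact coef_natural G (inlD C) _ _ _ (inlD C') h (Dmap h) (inlD_comp_Dmap h) _ _ _
    (fun z => snd_dualMap h.hom z) _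

theorem sig_proj {H : Adeq.MVF A}
    (hH : ∀ {C W : Adeq.Alg A} (f : C ⟶ W), f.hom.toRingHom.Flat → Function.Bijective (H.bc f))
    (p : G ⟶ H) (π : kernel ((Adeq.underline A).map φ₀) ⟶ H)
    (τ : (kernel ((Adeq.underline A).map φ₀)).obj (Adeq.pt (TAo e e' φ₀)))
    (hτ : (kernel.ι ((Adeq.underline A).map φ₀)).app (Adeq.pt (TAo e e' φ₀)) τ =
      toU P (TAo e e' φ₀) (yτ e e' φ₀.hom))
    (hη : p.app (Adeq.pt (TAo e e' φ₀)) η = π.app (Adeq.pt (TAo e e' φ₀)) τ)
    (C : Adeq.Alg A) (k : (kernel ((Adeq.underline A).map φ₀)).obj (Adeq.pt C)) :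
    p.app (Adeq.pt C) (sig e e' φ₀ G hG η C k) = π.app (Adeq.pt C) k := by
  unfold sig cf
  rw [← coef_hom G (inlD C) _ _ (hG _ (flat_inlV C C)) p (hH _ (flat_inlV C C)),
    mvfMap_naturality, hη, ← mvfMap_naturality π]
  have h1 : mvfMap _ (FV e e' φ₀ C C (lamK e e' φ₀ C k)) τ = epsD C • mvfMap _ (inlD C) k :=
    claim1 e e' φ₀ τ hτ C k
  rw [h1]
  have h2 : π.app (Adeq.pt (DA C)) (epsD C • mvfMap _ (inlD C) k) =
      epsD C • mvfMap H (inlD C) (π.app (Adeq.pt C) k) := by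
    refine ((π.app (Adeq.pt (DA C))).hom.map_smul (epsD C) _).trans ?_
    congr 1
    exact mvfMap_naturality π (inlD C) k
  rw [h2, coef_smul_map]
  have h3 : sndV C C LinearMap.id (epsD C) = 1 := by
    change TrivSqZeroExt.snd (TrivSqZeroExt.inr 1 : TrivSqZeroExt C C) = 1
    rw [TrivSqZeroExt.snd_inr]
  rw [h3, one_smul]

/-- the section as a morphism of module-valued functors -/
noncomputable def sigHom : kernel ((Adeq.underline A).map φ₀) ⟶ G where
  app X := ModuleCat.ofHom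
    { toFun := fun k => sig e e' φ₀ G hG η X.unop.unop k
      map_add' := fun k k' => sig_add e e' φ₀ G hG η X.unop.unop k k'
      map_smul' := fun c k => sig_smul e e' φ₀ G hG η X.unop.unop c k }
  naturality {X Y} f := by
    apply ModuleCat.hom_ext
    apply LinearMap.ext
    intro k
    exact sig_map e e' φ₀ G hG η f.unop.unop k

theorem sigHom_app (C : Adeq.Alg A) (k : (kernel ((Adeq.underline A).map φ₀)).obj (Adeq.pt C)) :
    (sigHom e e' φ₀ G hG η).app (Adeq.pt C) k = sig e e' φ₀ G hG η C k := rfl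

end sigma2

section main

theorem subsingleton_obj_of_subsingleton (hA : Subsingleton A) (F : Adeq.MVF A)
    (X : (Adeq.Alg A)ᵒᵖᵒᵖ) : Subsingleton (F.obj X) := by
  have : Subsingleton (X.unop.unop : Type u) := by
    refine ⟨fun a b => ?_⟩
    rw [← one_mul a, ← one_mul b, ← map_one (algebraMap A X.unop.unop), Subsingleton.elim (1 : A) 0,
      map_zero, zero_mul, zero_mul]
  exact Module.subsingleton (X.unop.unop : Type u) (F.obj X)

theorem hom_subsingleton_of_subsingleton (hA : Subsingleton A) {F G : Adeq.MVF A} (f g : F ⟶ G) :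
    f = g := by
  apply PresheafOfModules.hom_ext
  intro X
  apply ModuleCat.hom_ext
  apply LinearMap.ext
  intro k
  have := subsingleton_obj_of_subsingleton hA G X
  exact Subsingleton.elim _ _

/-- lifting lemma, standard form -/
theorem exists_lift_of_kernel_basis {P P' : ModuleCat.{u + 1} A} {n m : ℕ}
    (e : Module.Basis (Fin n) A P) (e' : Module.Basis (Fin m) A P') (φ₀ : P ⟶ P')
    {G H : Adeq.MVF A}
    (hG : ∀ {C W : Adeq.Alg A} (f : C ⟶ W), f.hom.toRingHom.Flat → Function.Bijective (G.bc f))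
    (hH : ∀ {C W : Adeq.Alg A} (f : C ⟶ W), f.hom.toRingHom.Flat → Function.Bijective (H.bc f))
    (p : G ⟶ H) (hp : ∀ X, Function.Surjective (p.app X))
    (π : kernel ((Adeq.underline A).map φ₀) ⟶ H) :
    ∃ s : kernel ((Adeq.underline A).map φ₀) ⟶ G, s ≫ p = π := by
  obtain ⟨τ, hτ⟩ := exists_ker_of_app_eq_zero ((Adeq.underline A).map φ₀) (Adeq.pt (TAo e e' φ₀))
    (toU P (TAo e e' φ₀) (yτ e e' φ₀.hom)) (baseChange_yτ e e' φ₀.hom)
  obtain ⟨η, hη⟩ := hp (Adeq.pt (TAo e e' φ₀)) (π.app (Adeq.pt (TAo e e' φ₀)) τ)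
  refine ⟨sigHom e e' φ₀ G hG η, ?_⟩
  apply PresheafOfModules.hom_ext
  intro X
  apply ModuleCat.hom_ext
  apply LinearMap.ext
  intro k
  exact sig_proj e e' φ₀ G hG η hH p π τ hτ hη X.unop.unop k

/-- lifting lemma: maps from a linearly adequate functor lift along an epimorphism whose source
and target have bijective base change maps along flat ring maps. -/
theorem exists_lift_of_linAdequate {L G H : Adeq.MVF A} (hL : Adeq.linAdequate A L)
    (hG : ∀ {C W : Adeq.Alg A} (f : C ⟶ W), f.hom.toRingHom.Flat → Function.Bijective (G.bc f))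
    (hH : ∀ {C W : Adeq.Alg A} (f : C ⟶ W), f.hom.toRingHom.Flat → Function.Bijective (H.bc f))
    (p : G ⟶ H) (hp : ∀ X, Function.Surjective (p.app X)) (π : L ⟶ H) :
    ∃ s : L ⟶ G, s ≫ p = π := by
  rcases subsingleton_or_nontrivial A with hA | hA
  · exact ⟨0, hom_subsingleton_of_subsingleton hA _ _⟩
  obtain ⟨P, P', φ₀, hP, hP', hPf, hPf', ⟨iso⟩⟩ := hL
  obtain ⟨s, hs⟩ := exists_lift_of_kernel_basis (Module.finBasis A P) (Module.finBasis A P') φ₀
    hG hH p hp (iso.inv ≫ π)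
  exact ⟨iso.hom ≫ s, by rw [Category.assoc, hs, Iso.hom_inv_id_assoc]⟩

end main

end Groth.Agent.Lib.Helper14.AdeqLib
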