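import Groth.Agent.Lib.Helper14.Adeq17

set_option autoImplicit false
open CategoryTheory Limits Opposite TensorProduct
universe u
namespace Groth.Agent.Lib.Helper14.AdeqLib
variable {A : Type u} [CommRing A]

theorem adequate_underline (M : ModuleCat.{u + 1} A) : Adeq.adequate A ((Adeq.underline A).obj M) := by
  refine adequate_of_exact (0 : M ⟶ ModuleCat.of A PUnit.{u + 2}) (𝟙 _) ?_ ?_ ?_
  · intro X x y h
    exact h
  · rw [Functor.map_zero, comp_zero]
  · intro X y _
    exact ⟨y, rfl⟩

theorem adequate_of_linAdequate {L : Adeq.MVF A} (hL : Adeq.linAdequate A L) : Adeq.adequate A L := by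
  obtain ⟨P, P', φ₀, _, _, _, _, h⟩ := hL
  exact ⟨P, P', φ₀, h⟩

/-- bijectivity of base change along flat maps for the middle term of a short exact sequence with
adequate ends -/
theorem bc_bijective_of_shortExact_adequate (S : ShortComplex (Adeq.MVF A)) (hS : S.ShortExact)
    (h₁ : Adeq.adequate A S.X₁) (h₃ : Adeq.adequate A S.X₃)
    {C W : Adeq.Alg A} (f : C ⟶ W) (hf : f.hom.toRingHom.Flat) :
    Function.Bijective (S.X₂.bc f) := by
  have := hS.mono_f
  have := hS.epi_g
  exact bc_bijective_of_shortExact S.f S.g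
    (fun X => PresheafOfModules.injective_of_mono _ X)
    (fun X => PresheafOfModules.surjective_of_epi _ X) S.zero
    (fun X y hy => exists_of_exact S hS.exact X y hy) f hf
    (bc_bijective_of_adequate_flat _ h₁ f hf) (bc_bijective_of_adequate_flat _ h₃ f hf)

/-- S8747 -/
theorem splitting_of_underline_linAdequate
    (S : ShortComplex (Adeq.MVF A)) (hS : S.ShortExact) (M : ModuleCat.{u + 1} A)
    (e : S.X₁ ≅ (Adeq.underline A).obj M) (hL : Adeq.linAdequate A S.X₃) :
    Nonempty S.Splitting ∧ Adeq.adequate A S.X₂ := by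
  have h₁ : Adeq.adequate A S.X₁ := (Adeq.adequate A).prop_of_iso e.symm (adequate_underline M)
  have h₃ : Adeq.adequate A S.X₃ := adequate_of_linAdequate hL
  have := hS.mono_f
  have := hS.epi_g
  obtain ⟨s, hs⟩ := exists_lift_of_linAdequate hL
    (fun f hf => bc_bijective_of_shortExact_adequate S hS h₁ h₃ f hf)
    (fun f hf => bc_bijective_of_adequate_flat _ h₃ f hf) S.g
    (fun X => PresheafOfModules.surjective_of_epi _ X) (𝟙 S.X₃)
  let spl : S.Splitting := ShortComplex.Splitting.ofExactOfSection S hS.exact s hs hS.mono_f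
  refine ⟨⟨spl⟩, ?_⟩
  exact (Adeq.adequate A).prop_of_iso spl.isoBinaryBiproduct.symm (adequate_biprod h₁ h₃)

end Groth.Agent.Lib.Helper14.AdeqLib
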