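import Groth.Agent.Lib.Helper14.Adeq18

set_option autoImplicit false
open CategoryTheory Limits Opposite TensorProduct
universe u
namespace Groth.Agent.Lib.Helper14.AdeqLib
variable {A : Type u} [CommRing A]

theorem adequate_of_isColimit_cofan {ι : Type (u + 1)} {L : ι → Adeq.MVF A} (c : Cofan L)
    (hc : IsColimit c) (hL : ∀ i, Adeq.adequate A (L i)) : Adeq.adequate A c.pt := by
  have h := adequate_sigma L hL
  exact (Adeq.adequate A).prop_of_iso
    (IsColimit.coconePointUniqueUpToIso (colimit.isColimit _) hc) h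

/-- S8748: adequate functors are closed under extensions. -/
theorem adequate_of_shortExact (S : ShortComplex (Adeq.MVF A)) (hS : S.ShortExact)
    (h₁ : Adeq.adequate A S.X₁) (h₃ : Adeq.adequate A S.X₃) : Adeq.adequate A S.X₂ := by
  have := hS.mono_f
  have := hS.epi_g
  have hG : ∀ {C W : Adeq.Alg A} (f : C ⟶ W), f.hom.toRingHom.Flat →
      Function.Bijective (S.X₂.bc f) :=
    fun f hf => bc_bijective_of_shortExact_adequate S hS h₁ h₃ f hf
  have hH : ∀ {C W : Adeq.Alg A} (f : C ⟶ W), f.hom.toRingHom.Flat →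
      Function.Bijective (S.X₃.bc f) :=
    fun f hf => bc_bijective_of_adequate_flat _ h₃ f hf
  have hgsurj : ∀ X, Function.Surjective (S.g.app X) :=
    fun X => PresheafOfModules.surjective_of_epi _ X
  have hfinj : ∀ X, Function.Injective (S.f.app X) :=
    fun X => PresheafOfModules.injective_of_mono _ X
  obtain ⟨ι, L, hL, c, hc, π, hπ⟩ := exists_epi_cofan_linAdequate S.X₃ h₃
  have hlift : ∀ i, ∃ s : L i ⟶ S.X₂, s ≫ S.g = c.inj i ≫ π :=
    fun i => exists_lift_of_linAdequate (hL i) hG hH S.g hgsurj (c.inj i ≫ π)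
  choose s hs using hlift
  let sL : c.pt ⟶ S.X₂ := Cofan.IsColimit.desc hc s
  have hsL : sL ≫ S.g = π := by
    apply Cofan.IsColimit.hom_ext hc
    intro i
    rw [← Category.assoc, Cofan.IsColimit.fac, hs]
  have hcpt : Adeq.adequate A c.pt :=
    adequate_of_isColimit_cofan c hc (fun i => adequate_of_linAdequate (hL i))
  have hE : Adeq.adequate A (S.X₁ ⊞ c.pt) := adequate_biprod h₁ hcpt
  let q : S.X₁ ⊞ c.pt ⟶ S.X₂ := biprod.desc S.f sL
  have hπsurj : ∀ X, Function.Surjective (π.app X) :=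
    fun X => PresheafOfModules.surjective_of_epi _ X
  have hq : ∀ X, Function.Surjective (q.app X) := by
    intro X g
    obtain ⟨l, hl⟩ := hπsurj X (S.g.app X g)
    have h0 : S.g.app X (g - sL.app X l) = 0 := by
      rw [map_sub, ← comp_app_apply, hsL, hl, sub_self]
    obtain ⟨x, hx⟩ := exists_of_exact S hS.exact X _ h0
    refine ⟨(biprod.inl : S.X₁ ⟶ S.X₁ ⊞ c.pt).app X x + (biprod.inr : c.pt ⟶ S.X₁ ⊞ c.pt).app X l, ?_⟩
    rw [map_add, ← comp_app_apply, ← comp_app_apply, biprod.inl_desc, biprod.inr_desc, hx]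
    abel
  have hqepi : Epi q := PresheafOfModules.epi_of_surjective hq
  have hK' : Adeq.adequate A (kernel (q ≫ S.g)) := adequate_kernel_of_adequate _ hE h₃
  let u : kernel (q ≫ S.g) ⟶ S.X₁ := hS.exact.lift (kernel.ι (q ≫ S.g) ≫ q) (by
    rw [Category.assoc, kernel.condition])
  have hu : u ≫ S.f = kernel.ι (q ≫ S.g) ≫ q := hS.exact.lift_f _ _
  have hK : Adeq.adequate A (kernel u) := adequate_kernel_of_adequate u hK' h₁
  let κ : kernel u ⟶ S.X₁ ⊞ c.pt := kernel.ι u ≫ kernel.ι (q ≫ S.g)
  have hκ : κ ≫ q = 0 := by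
    rw [Category.assoc, ← hu, ← Category.assoc, kernel.condition, zero_comp]
  have hex : (ShortComplex.mk κ q hκ).Exact := by
    apply exact_of_pointwise
    intro X z hz
    have hz' : (q ≫ S.g).app X z = 0 := by
      rw [comp_app_apply]
      rw [hz, map_zero]
    obtain ⟨k', hk'⟩ := exists_ker_of_app_eq_zero (q ≫ S.g) X z hz'
    have hu0 : u.app X k' = 0 := by
      apply hfinj X
      rw [← comp_app_apply, hu, comp_app_apply, hk', map_zero]
      exact hz
    obtain ⟨k, hk⟩ := exists_ker_of_app_eq_zero u X k' hu0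
    refine ⟨k, ?_⟩
    change κ.app X k = z
    rw [comp_app_apply, hk, hk']
  have hcok : IsColimit (CokernelCofork.ofπ q hκ) := hex.gIsCokernel
  have hadq := adequate_cokernel_of_adequate κ hK hE
  exact (Adeq.adequate A).prop_of_iso
    (IsColimit.coconePointUniqueUpToIso (cokernelIsCokernel κ) hcok) hadq

end Groth.Agent.Lib.Helper14.AdeqLib
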