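import Groth.Agent.Lib.Helper14.Adeq16
import Groth.Agent.S8754
import Groth.Prelude.Def_W4stkadequateTF

set_option autoImplicit false
open CategoryTheory Limits Opposite TensorProduct
universe u
namespace Groth.Agent.Lib.Helper14.AdeqLib
open Groth.Agent.S8754
variable {A : Type u} [CommRing A]

/-- the free module-valued functor on the functor represented by `D` -/
noncomputable abbrev hD (D : Adeq.Alg A) : Adeq.MVF A := hX (Adeq.ringOf A) (Adeq.pt D)

/-- the generator of `hD D` at `D` -/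
noncomputable def hgen (D : Adeq.Alg A) : (hD D).obj (Adeq.pt D) :=
  Finsupp.single (⟨𝟙 (Adeq.pt D)⟩ : ULift.{u + 1} (Adeq.pt D ⟶ Adeq.pt D)) (1 : (D : Type u))

/-- precomposition -/
noncomputable def hmap {D D' : Adeq.Alg A} (ψ : D ⟶ D') : hD D' ⟶ hD D :=
  evHom (Adeq.pt D') (hD D)
    (Finsupp.single (⟨Adeq.ptHom ψ⟩ : ULift.{u + 1} (Adeq.pt D ⟶ Adeq.pt D')) (1 : (D' : Type u)))

theorem hmap_app_eq {D D' : Adeq.Alg A} (ψ : D ⟶ D') (Y : (Adeq.Alg A)ᵒᵖᵒᵖ)
    (x : ULift.{u + 1} (Adeq.pt D' ⟶ Y) →₀ ((Adeq.ringOf A).obj Y)) :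
    (hmap ψ).app Y x =
      Finsupp.mapDomain (fun g : ULift.{u + 1} (Adeq.pt D' ⟶ Y) =>
        (⟨Adeq.ptHom ψ ≫ g.down⟩ : ULift.{u + 1} (Adeq.pt D ⟶ Y))) x := by
  change Groth.Agent.S8754.ev (Adeq.pt D') (hD D) _ Y x = _
  induction x using Finsupp.induction_linear with
  | zero => rw [map_zero, Finsupp.mapDomain_zero]; rfl
  | add a b ha hb => rw [map_add, ha, hb, Finsupp.mapDomain_add]; rfl
  | single g r =>
    rw [ev_single, Finsupp.mapDomain_single]
    change r • tr (Adeq.ringOf A) (Adeq.pt D) g.down (Finsupp.single _ _) = _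
    rw [tr_single, Finsupp.smul_single, map_one, smul_eq_mul, mul_one]

theorem hmap_mono_of_surjective {D D' : Adeq.Alg A} (ψ : D ⟶ D')
    (hψ : Function.Surjective ψ.hom) : Mono (hmap ψ) := by
  apply PresheafOfModules.mono_of_injective
  intro Y
  have hinj : Function.Injective (fun g : ULift.{u + 1} (Adeq.pt D' ⟶ Y) =>
      (⟨Adeq.ptHom ψ ≫ g.down⟩ : ULift.{u + 1} (Adeq.pt D ⟶ Y))) := by
    intro g g' h
    have h1 : Adeq.ptHom ψ ≫ g.down = Adeq.ptHom ψ ≫ g'.down := congrArg ULift.down h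
    have h2 : ψ ≫ g.down.unop.unop = ψ ≫ g'.down.unop.unop :=
      congrArg (fun k => k.unop.unop) h1
    have h3 : g.down.unop.unop = g'.down.unop.unop := by
      apply CommAlgCat.hom_ext
      apply AlgHom.ext
      intro d'
      obtain ⟨d, rfl⟩ := hψ d'
      exact congrArg (fun k => k.hom d) h2
    apply ULift.ext
    exact congrArg (fun k : D' ⟶ Y.unop.unop => k.op.op) h3
  intro x x' h
  rw [hmap_app_eq, hmap_app_eq] at h
  exact Finsupp.mapDomain_injective hinj h

/-- for an injective module-valued functor `I`, a surjection of algebras induces a surjection on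
values -/
theorem injective_map_surjective (I : Adeq.MVF A) [Injective I] {D D' : Adeq.Alg A} (ψ : D ⟶ D')
    (hψ : Function.Surjective ψ.hom) : Function.Surjective (mvfMap I ψ) := by
  intro t₀
  have := hmap_mono_of_surjective ψ hψ
  let t : hD D' ⟶ I := evHom (Adeq.pt D') I t₀
  let e : hD D ⟶ I := Injective.factorThru t (hmap ψ)
  have he : hmap ψ ≫ e = t := Injective.comp_factorThru t (hmap ψ)
  refine ⟨e.app (Adeq.pt D) (hgen D), ?_⟩
  rw [← mvfMap_naturality]
  have h1 : mvfMap (hD D) ψ (hgen D) = (hmap ψ).app (Adeq.pt D') (hgen D') := by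
    rw [hmap_app_eq]
    change tr (Adeq.ringOf A) (Adeq.pt D) (Adeq.ptHom ψ) (Finsupp.single _ _) = _
    unfold hgen
    rw [tr_single, Finsupp.mapDomain_single, map_one, Category.id_comp, Category.comp_id]
  rw [h1, ← comp_app_apply, he]
  exact evHom_app (Adeq.pt D') I t₀

theorem tf_inl_fst (B : Adeq.Alg A) (N : ModuleCat.{u} B) :
    AdeqTF.inl B N ≫ AdeqTF.fst B N = 𝟙 B := by
  apply CommAlgCat.hom_ext
  apply AlgHom.ext
  intro b
  rfl

theorem tf_inl_map (B : Adeq.Alg A) {N N' : ModuleCat.{u} B} (g : N ⟶ N') :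
    AdeqTF.inl B N ≫ AdeqTF.map B g = AdeqTF.inl B N' := by
  apply CommAlgCat.hom_ext
  apply AlgHom.ext
  intro b
  change TrivSqZeroExt.map g.hom (TrivSqZeroExt.inl b) = TrivSqZeroExt.inl b
  rw [TrivSqZeroExt.map_inl]

theorem tf_map_surjective (B : Adeq.Alg A) {N N' : ModuleCat.{u} B} (g : N ⟶ N')
    (hg : Function.Surjective g.hom) : Function.Surjective (AdeqTF.map B g).hom := by
  intro z
  obtain ⟨n, hn⟩ := hg (TrivSqZeroExt.snd (z : TrivSqZeroExt (B : Type u) N'))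
  refine ⟨TrivSqZeroExt.inl (TrivSqZeroExt.fst (z : TrivSqZeroExt (B : Type u) N')) +
    TrivSqZeroExt.inr n, ?_⟩
  change TrivSqZeroExt.map g.hom _ = z
  rw [map_add, TrivSqZeroExt.map_inl, TrivSqZeroExt.map_inr, hn, TrivSqZeroExt.inl_fst_add_inr_snd_eq]

/-- S8780 -/
theorem tangentMap_surjective_of_injective (I : Adeq.MVF A) [Injective I]
    (B : Adeq.Alg A) (S : ShortComplex (ModuleCat.{u} B)) (hS : S.ShortExact) :
    Function.Surjective (AdeqTF.tangentMap B I S.g) := by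
  have := hS.epi_g
  have hg : Function.Surjective S.g.hom := (ModuleCat.epi_iff_surjective S.g).mp inferInstance
  rintro ⟨t, ht⟩
  have ht0 : mvfMap I (AdeqTF.fst B S.X₃) t = 0 := ht
  obtain ⟨x, hx⟩ := injective_map_surjective I (AdeqTF.map B S.g) (tf_map_surjective B S.g hg) t
  let x' := x - mvfMap I (AdeqTF.inl B S.X₂) (mvfMap I (AdeqTF.fst B S.X₂) x)
  have hfx : mvfMap I (AdeqTF.fst B S.X₂) x = 0 := by
    rw [← mvfMap_congr I (AdeqTF.map_fst B S.g), mvfMap_comp, hx, ht0]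
  have hx'mem : mvfMap I (AdeqTF.fst B S.X₂) x' = 0 := by
    change mvfMap I (AdeqTF.fst B S.X₂) (x - _) = 0
    rw [hfx, map_zero, sub_zero, hfx]
  refine ⟨⟨x', hx'mem⟩, ?_⟩
  apply Subtype.ext
  change mvfMap I (AdeqTF.map B S.g) x' = t
  change mvfMap I (AdeqTF.map B S.g) (x - _) = t
  rw [hfx, map_zero, sub_zero, hx]

end Groth.Agent.Lib.Helper14.AdeqLib
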