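import Groth.Agent.Lib.Helper14.Adeq19

set_option autoImplicit false
open CategoryTheory Limits Opposite TensorProduct
universe u
namespace Groth.Agent.Lib.Helper14.AdeqLib
variable (A A' : Type u) [CommRing A] [CommRing A'] [Algebra A A']

/-- base change of a module, one universe up -/
noncomputable abbrev bcMod (M : ModuleCat.{u + 1} A) : ModuleCat.{u + 1} A' :=
  ModuleCat.of A' (A' ⊗[A] M)

/-- base change of a linear map -/
noncomputable abbrev bcModMap {M N : ModuleCat.{u + 1} A} (φ : M ⟶ N) : bcMod A A' M ⟶ bcMod A A' N :=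
  ModuleCat.ofHom (φ.hom.baseChange A')

variable {A A'}

/-- an `A'`-algebra as an `A`-algebra -/
noncomputable abbrev rB (B' : Adeq.Alg A') : Adeq.Alg A := (Adeq.Alg.restr A A').obj B'

example (F : Adeq.MVF A) (B' : Adeq.Alg A') :
    (((Adeq.restr A A').obj F).obj (Adeq.pt B') : Type (u + 1)) = F.obj (Adeq.pt (rB B')) := rfl

/-- the comparison equivalence -/
noncomputable def thetaEquiv (M : ModuleCat.{u + 1} A) (B' : Adeq.Alg A') :
    (rB B' : Adeq.Alg A) ⊗[A] M ≃+ B' ⊗[A'] (A' ⊗[A] M) :=
  letI : Algebra A B' := ((algebraMap A' B').comp (algebraMap A A')).toAlgebra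
  haveI : IsScalarTower A A' B' := IsScalarTower.of_algebraMap_eq (fun _ => rfl)
  (TensorProduct.AlgebraTensorModule.cancelBaseChange A A' B' B' M).symm.toAddEquiv

theorem thetaEquiv_tmul (M : ModuleCat.{u + 1} A) (B' : Adeq.Alg A') (b : B') (m : M) :
    thetaEquiv M B' (b ⊗ₜ[A] m) = b ⊗ₜ[A'] ((1 : A') ⊗ₜ[A] m) := by
  let _ : Algebra A B' := ((algebraMap A' B').comp (algebraMap A A')).toAlgebra
  have : IsScalarTower A A' B' := IsScalarTower.of_algebraMap_eq (fun _ => rfl)
  change (TensorProduct.AlgebraTensorModule.cancelBaseChange A A' B' B' M).symm (b ⊗ₜ[A] m) = _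
  rw [TensorProduct.AlgebraTensorModule.cancelBaseChange_symm_tmul]

theorem thetaEquiv_smul (M : ModuleCat.{u + 1} A) (B' : Adeq.Alg A') (b : B')
    (x : (rB B' : Adeq.Alg A) ⊗[A] M) :
    thetaEquiv M B' (b • x) = b • thetaEquiv M B' x := by
  induction x using TensorProduct.induction_on with
  | zero => rw [smul_zero, map_zero, smul_zero]
  | tmul c m =>
    rw [TensorProduct.smul_tmul', thetaEquiv_tmul, thetaEquiv_tmul, TensorProduct.smul_tmul']
  | add x y hx hy => rw [smul_add, map_add, map_add, smul_add, hx, hy]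

theorem thetaEquiv_natural (M : ModuleCat.{u + 1} A) {B' B'' : Adeq.Alg A'} (h : B' ⟶ B'')
    (x : (rB B' : Adeq.Alg A) ⊗[A] M) :
    thetaEquiv M B'' ((((Adeq.Alg.restr A A').map h).hom.toLinearMap.rTensor M) x) =
      (h.hom.toLinearMap.rTensor (A' ⊗[A] M)) (thetaEquiv M B' x) := by
  induction x using TensorProduct.induction_on with
  | zero => rw [map_zero, map_zero, map_zero, map_zero]
  | tmul c m =>
    rw [LinearMap.rTensor_tmul, thetaEquiv_tmul, thetaEquiv_tmul, LinearMap.rTensor_tmul]
    rfl
  | add x y hx hy => rw [map_add, map_add, map_add, map_add, hx, hy]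

theorem thetaEquiv_map {M N : ModuleCat.{u + 1} A} (φ : M ⟶ N) (B' : Adeq.Alg A')
    (x : (rB B' : Adeq.Alg A) ⊗[A] M) :
    thetaEquiv N B' (φ.hom.baseChange (rB B' : Adeq.Alg A) x) =
      (φ.hom.baseChange A').baseChange B' (thetaEquiv M B' x) := by
  induction x using TensorProduct.induction_on with
  | zero => rw [map_zero, map_zero, map_zero, map_zero]
  | tmul c m =>
    rw [LinearMap.baseChange_tmul, thetaEquiv_tmul, thetaEquiv_tmul, LinearMap.baseChange_tmul,
      LinearMap.baseChange_tmul]
  | add x y hx hy => rw [map_add, map_add, map_add, map_add, hx, hy]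

/-- the comparison morphism `restr (underline M) ⟶ underline (A' ⊗ M)` -/
noncomputable def thetaR (M : ModuleCat.{u + 1} A) :
    (Adeq.restr A A').obj ((Adeq.underline A).obj M) ⟶ (Adeq.underline A').obj (bcMod A A' M) where
  app X := ModuleCat.ofHom
    { toFun := fun x => thetaEquiv M X.unop.unop x
      map_add' := fun x y => (thetaEquiv M X.unop.unop).map_add x y
      map_smul' := fun b x => thetaEquiv_smul M X.unop.unop b x }
  naturality {X Y} f := by
    apply ModuleCat.hom_ext
    apply LinearMap.ext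
    intro x
    exact thetaEquiv_natural M f.unop.unop x

theorem thetaR_app (M : ModuleCat.{u + 1} A) (B' : Adeq.Alg A')
    (x : ((Adeq.underline A).obj M).obj (Adeq.pt (rB B'))) :
    (thetaR M).app (Adeq.pt B') x = thetaEquiv M B' x := rfl

instance restr_additive : (Adeq.restr A A').Additive where
  map_add := by
    intros
    ext X x
    rfl

instance push_additive : (Adeq.push A A').Additive where
  map_add := by
    intros
    ext X x
    rfl

/-- S8749: restriction along `A → A'` preserves adequate functors. -/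
theorem adequate_restr (F : Adeq.MVF A) (hF : Adeq.adequate A F) :
    Adeq.adequate A' ((Adeq.restr A A').obj F) := by
  obtain ⟨M, N, φ, i, hi, w, hex⟩ := exists_exact_of_adequate hF
  have hsq : thetaR M ≫ (Adeq.underline A').map (bcModMap A A' φ) =
      (Adeq.restr A A').map ((Adeq.underline A).map φ) ≫ thetaR N := by
    apply PresheafOfModules.hom_ext
    intro X
    apply ModuleCat.hom_ext
    apply LinearMap.ext
    intro x
    exact (thetaEquiv_map φ X.unop.unop x).symm
  refine adequate_of_exact (bcModMap A A' φ) ((Adeq.restr A A').map i ≫ thetaR M) ?_ ?_ ?_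
  · intro X x y h
    have h1 : thetaEquiv M X.unop.unop (i.app (Adeq.pt (rB X.unop.unop)) x) =
        thetaEquiv M X.unop.unop (i.app (Adeq.pt (rB X.unop.unop)) y) := h
    exact hi _ ((thetaEquiv M X.unop.unop).injective h1)
  · rw [Category.assoc, hsq, ← Category.assoc, ← Functor.map_comp, w, Functor.map_zero, zero_comp]
  · intro X y hy
    obtain ⟨z0, hz0⟩ := (thetaEquiv M X.unop.unop).surjective y
    let z : ((Adeq.underline A).obj M).obj (Adeq.pt (rB X.unop.unop)) := toU M (rB X.unop.unop) z0
    have hz : thetaEquiv M X.unop.unop z = y := hz0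
    have h0 : ((Adeq.underline A).map φ).app (Adeq.pt (rB X.unop.unop)) z = 0 := by
      apply (thetaEquiv N X.unop.unop).injective
      refine Eq.trans ?_ ((map_zero (thetaEquiv N X.unop.unop)).symm)
      refine Eq.trans ?_ hy
      rw [← hz]
      exact thetaEquiv_map φ X.unop.unop z
    obtain ⟨x, hx⟩ := hex (Adeq.pt (rB X.unop.unop)) z h0
    refine ⟨x, ?_⟩
    change thetaEquiv M X.unop.unop (i.app (Adeq.pt (rB X.unop.unop)) x) = y
    rw [hx, hz]

end Groth.Agent.Lib.Helper14.AdeqLib
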