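import Groth.Agent.Lib.Helper14.Adeq21

set_option autoImplicit false
open CategoryTheory Limits Opposite TensorProduct
universe u
namespace Groth.Agent.Lib.Helper14.AdeqLib
variable (A A' : Type u) [CommRing A] [CommRing A'] [Algebra A A']

/-- restriction of scalars of a module, one universe up -/
noncomputable abbrev rsMod (M' : ModuleCat.{u + 1} A') : ModuleCat.{u + 1} A :=
  (ModuleCat.restrictScalars (algebraMap A A')).obj M'

/-- restriction of scalars of a linear map -/
noncomputable abbrev rsModMap {M' N' : ModuleCat.{u + 1} A'} (φ : M' ⟶ N') :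
    rsMod A A' M' ⟶ rsMod A A' N' :=
  (ModuleCat.restrictScalars (algebraMap A A')).map φ

variable {A A'}

/-- the base change of an `A`-algebra -/
noncomputable abbrev bB (B : Adeq.Alg A) : Adeq.Alg A' := (Adeq.Alg.baseChange A A').obj B

example (F : Adeq.MVF A') (B : Adeq.Alg A) :
    (((Adeq.push A A').obj F).obj (Adeq.pt B) : Type (u + 1)) = F.obj (Adeq.pt (bB B)) := rfl

/-- the comparison map `(A' ⊗ B) ⊗_{A'} M' → B ⊗_A M'` -/
noncomputable def rhoEquiv (M' : ModuleCat.{u + 1} A') (B : Adeq.Alg A) :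
    (bB B : Adeq.Alg A') ⊗[A'] M' ≃+ B ⊗[A] (rsMod A A' M') :=
  letI : Module A M' := Module.compHom M' (algebraMap A A')
  haveI : IsScalarTower A A' M' := ⟨fun a a' m => by
    change (a • a') • m = algebraMap A A' a • (a' • m)
    rw [Algebra.smul_def, mul_smul]⟩
  ((TensorProduct.comm A' (A' ⊗[A] B) M').toAddEquiv.trans
    (TensorProduct.AlgebraTensorModule.cancelBaseChange A A' A' M' B).toAddEquiv).trans
    (TensorProduct.comm A M' B).toAddEquiv

theorem rhoEquiv_tmul (M' : ModuleCat.{u + 1} A') (B : Adeq.Alg A) (a' : A') (b : B) (m : M') :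
    rhoEquiv M' B ((a' ⊗ₜ[A] b : A' ⊗[A] B) ⊗ₜ[A'] m) =
      @TensorProduct.tmul A _ B (rsMod A A' M') _ _ _ _ b (a' • m : M') := by
  let _ : Module A M' := Module.compHom M' (algebraMap A A')
  have : IsScalarTower A A' M' := ⟨fun a a' m => by
    change (a • a') • m = algebraMap A A' a • (a' • m)
    rw [Algebra.smul_def, mul_smul]⟩
  change (TensorProduct.comm A M' B)
    ((TensorProduct.AlgebraTensorModule.cancelBaseChange A A' A' M' B)
      ((TensorProduct.comm A' (A' ⊗[A] B) M') ((a' ⊗ₜ[A] b : A' ⊗[A] B) ⊗ₜ[A'] m))) = _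
  rw [TensorProduct.comm_tmul, TensorProduct.AlgebraTensorModule.cancelBaseChange_tmul,
    TensorProduct.comm_tmul]
  rfl

/-- `B`-linearity of `rhoEquiv` (where `B` acts through `b ↦ 1 ⊗ b`). -/
theorem rhoEquiv_smul (M' : ModuleCat.{u + 1} A') (B : Adeq.Alg A) (b : B)
    (x : (bB B : Adeq.Alg A') ⊗[A'] M') :
    rhoEquiv M' B ((((1 : A') ⊗ₜ[A] b : A' ⊗[A] B) : (bB B : Adeq.Alg A')) • x) =
      b • rhoEquiv M' B x := by
  induction x using TensorProduct.induction_on with
  | zero => rw [smul_zero, map_zero, smul_zero]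
  | tmul z m =>
    rw [TensorProduct.smul_tmul']
    induction z using TensorProduct.induction_on with
    | zero =>
      rw [smul_zero, TensorProduct.zero_tmul, map_zero, smul_zero]
    | tmul a' c =>
      have h1 : (((1 : A') ⊗ₜ[A] b : A' ⊗[A] B) : (bB B : Adeq.Alg A')) •
          ((a' ⊗ₜ[A] c : A' ⊗[A] B) : (bB B : Adeq.Alg A')) = (a' ⊗ₜ[A] (b * c) : A' ⊗[A] B) := by
        change ((1 : A') ⊗ₜ[A] b : A' ⊗[A] B) * (a' ⊗ₜ[A] c : A' ⊗[A] B) = _
        rw [Algebra.TensorProduct.tmul_mul_tmul, one_mul]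
      rw [h1, rhoEquiv_tmul, rhoEquiv_tmul, TensorProduct.smul_tmul', smul_eq_mul]
    | add z₁ z₂ h₁ h₂ =>
      rw [smul_add, TensorProduct.add_tmul, map_add, h₁, h₂, TensorProduct.add_tmul, map_add,
        smul_add]
  | add x y hx hy => rw [smul_add, map_add, map_add, smul_add, hx, hy]

theorem rhoEquiv_natural (M' : ModuleCat.{u + 1} A') {B C : Adeq.Alg A} (h : B ⟶ C)
    (x : (bB B : Adeq.Alg A') ⊗[A'] M') :
    rhoEquiv M' C ((((Adeq.Alg.baseChange A A').map h).hom.toLinearMap.rTensor M') x) =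
      (h.hom.toLinearMap.rTensor (rsMod A A' M')) (rhoEquiv M' B x) := by
  induction x using TensorProduct.induction_on with
  | zero => rw [map_zero, map_zero, map_zero, map_zero]
  | tmul z m =>
    induction z using TensorProduct.induction_on with
    | zero => rw [TensorProduct.zero_tmul, map_zero, map_zero, map_zero, map_zero]
    | tmul a' c =>
      rw [LinearMap.rTensor_tmul, rhoEquiv_tmul]
      have h1 : ((Adeq.Alg.baseChange A A').map h).hom.toLinearMap (a' ⊗ₜ[A] c : A' ⊗[A] B) =
          (a' ⊗ₜ[A] (h.hom c) : A' ⊗[A] C) := by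
        change Algebra.TensorProduct.map (AlgHom.id A' A') h.hom (a' ⊗ₜ[A] c) = _
        rw [Algebra.TensorProduct.map_tmul]
        rfl
      rw [h1, rhoEquiv_tmul, LinearMap.rTensor_tmul]
      rfl
    | add z₁ z₂ h₁ h₂ =>
      rw [TensorProduct.add_tmul, map_add, map_add, h₁, h₂, map_add, map_add]
  | add x y hx hy => rw [map_add, map_add, map_add, map_add, hx, hy]

theorem rhoEquiv_map {M' N' : ModuleCat.{u + 1} A'} (φ : M' ⟶ N') (B : Adeq.Alg A)
    (x : (bB B : Adeq.Alg A') ⊗[A'] M') :
    rhoEquiv N' B (φ.hom.baseChange (bB B : Adeq.Alg A') x) =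
      (rsModMap A A' φ).hom.baseChange B (rhoEquiv M' B x) := by
  induction x using TensorProduct.induction_on with
  | zero => rw [map_zero, map_zero, map_zero, map_zero]
  | tmul z m =>
    induction z using TensorProduct.induction_on with
    | zero => rw [TensorProduct.zero_tmul, map_zero, map_zero, map_zero, map_zero]
    | tmul a' c =>
      rw [LinearMap.baseChange_tmul, rhoEquiv_tmul, rhoEquiv_tmul, LinearMap.baseChange_tmul]
      congr 1
      exact (φ.hom.map_smul a' m).symm
    | add z₁ z₂ h₁ h₂ =>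
      rw [TensorProduct.add_tmul, map_add, map_add, h₁, h₂, map_add, map_add]
  | add x y hx hy => rw [map_add, map_add, map_add, map_add, hx, hy]

/-- the comparison map as a linear map -/
noncomputable def rhoLin (M' : ModuleCat.{u + 1} A') (B : Adeq.Alg A) :
    ((Adeq.push A A').obj ((Adeq.underline A').obj M')).obj (Adeq.pt B) →ₗ[B]
      ((Adeq.underline A).obj (rsMod A A' M')).obj (Adeq.pt B) :=
  { toFun := fun x => rhoEquiv M' B x
    map_add' := fun x y => (rhoEquiv M' B).map_add x y
    map_smul' := fun b x => rhoEquiv_smul M' B b x }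

/-- the comparison morphism `push (underline M') ⟶ underline (M' as A-module)` -/
noncomputable def rhoP (M' : ModuleCat.{u + 1} A') :
    (Adeq.push A A').obj ((Adeq.underline A').obj M') ⟶ (Adeq.underline A).obj (rsMod A A' M') where
  app X := (ModuleCat.ofHom (rhoLin M' X.unop.unop) :)
  naturality {X Y} f := by
    apply ModuleCat.hom_ext
    apply LinearMap.ext
    intro x
    exact rhoEquiv_natural M' f.unop.unop x

theorem rhoP_app (M' : ModuleCat.{u + 1} A') (B : Adeq.Alg A)
    (x : ((Adeq.underline A').obj M').obj (Adeq.pt (bB B))) :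
    (rhoP M').app (Adeq.pt B) x = rhoEquiv M' B x := rfl

/-- S8750: `push` along `A → A'` preserves adequate functors. -/
theorem adequate_push (F' : Adeq.MVF A') (hF' : Adeq.adequate A' F') :
    Adeq.adequate A ((Adeq.push A A').obj F') := by
  obtain ⟨M', N', φ, i, hi, w, hex⟩ := exists_exact_of_adequate hF'
  have hsq : rhoP M' ≫ (Adeq.underline A).map (rsModMap A A' φ) =
      (Adeq.push A A').map ((Adeq.underline A').map φ) ≫ rhoP N' := by
    apply PresheafOfModules.hom_ext
    intro X
    apply ModuleCat.hom_ext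
    apply LinearMap.ext
    intro x
    exact (rhoEquiv_map φ X.unop.unop x).symm
  refine adequate_of_exact (rsModMap A A' φ) ((Adeq.push A A').map i ≫ rhoP M') ?_ ?_ ?_
  · intro X x y h
    have h1 : rhoEquiv M' X.unop.unop (i.app (Adeq.pt (bB X.unop.unop)) x) =
        rhoEquiv M' X.unop.unop (i.app (Adeq.pt (bB X.unop.unop)) y) := h
    exact hi _ ((rhoEquiv M' X.unop.unop).injective h1)
  · rw [Category.assoc, hsq, ← Category.assoc, ← Functor.map_comp, w, Functor.map_zero, zero_comp]
  · intro X y hy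
    obtain ⟨z0, hz0⟩ := (rhoEquiv M' X.unop.unop).surjective y
    let z : ((Adeq.underline A').obj M').obj (Adeq.pt (bB X.unop.unop)) :=
      toU M' (bB X.unop.unop) z0
    have hz : rhoEquiv M' X.unop.unop z = y := hz0
    have h0 : ((Adeq.underline A').map φ).app (Adeq.pt (bB X.unop.unop)) z = 0 := by
      apply (rhoEquiv N' X.unop.unop).injective
      refine Eq.trans ?_ ((map_zero (rhoEquiv N' X.unop.unop)).symm)
      refine Eq.trans ?_ hy
      rw [← hz]
      exact rhoEquiv_map φ X.unop.unop z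
    obtain ⟨x, hx⟩ := hex (Adeq.pt (bB X.unop.unop)) z h0
    refine ⟨x, ?_⟩
    change rhoEquiv M' X.unop.unop (i.app (Adeq.pt (bB X.unop.unop)) x) = y
    rw [hx, hz]

end Groth.Agent.Lib.Helper14.AdeqLib
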