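import Groth.Agent.Lib.Helper14.Adeq22

set_option autoImplicit false
open CategoryTheory Limits Opposite TensorProduct
universe u
namespace Groth.Agent.Lib.Helper14.AdeqLib
variable {A : Type u} (A' : Type u) [CommRing A] [CommRing A'] [Algebra A A']

/-- naturality of the algebra unit `B → A' ⊗ B` -/
theorem unit_natural {B C : Adeq.Alg A} (h : B ⟶ C) :
    h ≫ Adeq.Alg.unit A A' C =
      Adeq.Alg.unit A A' B ≫ (Adeq.Alg.restr A A').map ((Adeq.Alg.baseChange A A').map h) := by
  apply CommAlgCat.hom_ext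
  refine DFunLike.ext _ _ (fun c => ?_)
  change (1 : A') ⊗ₜ[A] h.hom c = Algebra.TensorProduct.map (AlgHom.id A' A') h.hom ((1 : A') ⊗ₜ[A] c)
  rw [Algebra.TensorProduct.map_tmul]
  rfl

/-- the unit `F(B) → F(A' ⊗ B)` as a `B`-linear map -/
noncomputable def etaLin (F : Adeq.MVF A) (B : Adeq.Alg A) :
    F.obj (Adeq.pt B) →ₗ[B] ((Adeq.push A A').obj ((Adeq.restr A A').obj F)).obj (Adeq.pt B) :=
  { toFun := fun x => mvfMap F (Adeq.Alg.unit A A' B) x
    map_add' := fun x y => map_add (mvfMap F (Adeq.Alg.unit A A' B)) x y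
    map_smul' := fun b x => mvfMap_smul F (Adeq.Alg.unit A A' B) b x }

/-- the unit `F ⟶ push (restr F)` -/
noncomputable def etaU (F : Adeq.MVF A) : F ⟶ (Adeq.push A A').obj ((Adeq.restr A A').obj F) where
  app X := (ModuleCat.ofHom (etaLin A' F X.unop.unop) :)
  naturality {X Y} f := by
    apply ModuleCat.hom_ext
    apply LinearMap.ext
    intro x
    change mvfMap F (Adeq.Alg.unit A A' Y.unop.unop) (mvfMap F f.unop.unop x) =
      mvfMap F ((Adeq.Alg.restr A A').map ((Adeq.Alg.baseChange A A').map f.unop.unop))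
        (mvfMap F (Adeq.Alg.unit A A' X.unop.unop) x)
    rw [← mvfMap_comp, ← mvfMap_comp]
    exact mvfMap_congr F (unit_natural A' f.unop.unop) x

theorem etaU_app (F : Adeq.MVF A) (B : Adeq.Alg A) (x : F.obj (Adeq.pt B)) :
    (etaU A' F).app (Adeq.pt B) x = mvfMap F (Adeq.Alg.unit A A' B) x := rfl

theorem etaU_natural {F G : Adeq.MVF A} (φ : F ⟶ G) :
    etaU A' F ≫ (Adeq.push A A').map ((Adeq.restr A A').map φ) = φ ≫ etaU A' G := by
  apply PresheafOfModules.hom_ext
  intro X
  apply ModuleCat.hom_ext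
  apply LinearMap.ext
  intro x
  exact mvfMap_naturality φ (Adeq.Alg.unit A A' X.unop.unop) x

/-- S8751: descent of adequacy along `A → A'`. -/
theorem adequate_of_descent (F : Adeq.MVF A) (h₁ : Adeq.adequate A' ((Adeq.restr A A').obj F))
    (h₂ : ∀ B : Adeq.Alg A, Function.Injective (F.map (Adeq.ptHom (Adeq.Alg.unit A A' B))) ∧
      ∀ y : F.obj (Adeq.pt ((Adeq.Alg.restr A A').obj ((Adeq.Alg.baseChange A A').obj B))),
        F.map (Adeq.ptHom (Adeq.Alg.unit A A' ((Adeq.Alg.restr A A').obj ((Adeq.Alg.baseChange A A').obj B)))) y =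
          F.map (Adeq.ptHom ((Adeq.Alg.restr A A').map ((Adeq.Alg.baseChange A A').map (Adeq.Alg.unit A A' B)))) y →
        y ∈ Set.range (F.map (Adeq.ptHom (Adeq.Alg.unit A A' B)))) :
    Adeq.adequate A F := by
  let TF : Adeq.MVF A := (Adeq.push A A').obj ((Adeq.restr A A').obj F)
  have hTF : Adeq.adequate A TF := adequate_push _ h₁
  let TTF : Adeq.MVF A := (Adeq.push A A').obj ((Adeq.restr A A').obj TF)
  have hTTF : Adeq.adequate A TTF := adequate_push _ (adequate_restr _ hTF)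
  let d : TF ⟶ TTF := etaU A' TF - (Adeq.push A A').map ((Adeq.restr A A').map (etaU A' F))
  have w : etaU A' F ≫ d = 0 := by
    rw [Preadditive.comp_sub, etaU_natural, sub_self]
  have hj : ∀ Z, Function.Injective ((etaU A' F).app Z) := by
    intro X
    exact (h₂ X.unop.unop).1
  have hex : ∀ (Z : (Adeq.Alg A)ᵒᵖᵒᵖ) (y : TF.obj Z), d.app Z y = 0 →
      ∃ x : F.obj Z, (etaU A' F).app Z x = y := by
    intro X y hy
    have h1 : (etaU A' TF).app X y -
        ((Adeq.push A A').map ((Adeq.restr A A').map (etaU A' F))).app X y = 0 := hy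
    rw [sub_eq_zero] at h1
    obtain ⟨x, hx⟩ := (h₂ X.unop.unop).2 y h1.symm
    exact ⟨x, hx⟩
  obtain ⟨e⟩ := nonempty_iso_kernel_of_exact (etaU A' F) d hj w hex
  exact (Adeq.adequate A).prop_of_iso e.symm (adequate_kernel_of_adequate d hTF hTTF)

end Groth.Agent.Lib.Helper14.AdeqLib
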