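import Groth.Agent.Lib.Helper14.Adeq2
import Mathlib.RingTheory.AdjoinRoot

set_option autoImplicit false
open CategoryTheory Limits Opposite TensorProduct ChangeOfRings
universe u
namespace Groth.Agent.Lib.Helper14.AdeqLib
variable {A : Type u} [CommRing A]

theorem map_injective_of_retraction (G : Adeq.MVF A) {B B' : Adeq.Alg A} (f : B ⟶ B')
    (hbc : IsIso (G.bc f)) (r : B' →+ B) (hr : ∀ (b : B) (c : B'), r (f.hom b * c) = b * r c)
    (hr1 : r 1 = 1) : Function.Injective (G.map (Adeq.ptHom f)) := by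
  intro y y' h
  rw [← bc_one_tmul, ← bc_one_tmul] at h
  have hb := (ConcreteCategory.isIso_iff_bijective _).mp hbc
  have h2 := hb.1 h
  let _ : Algebra B B' := f.hom.toRingHom.toAlgebra
  let rL : B' →ₗ[B] B :=
    { toFun := r
      map_add' := r.map_add
      map_smul' := fun b c => by
        change r (f.hom b * c) = b * r c
        exact hr b c }
  let ψ : B' ⊗[B] (G.obj (Adeq.pt B)) →ₗ[B] G.obj (Adeq.pt B) :=
    (TensorProduct.lid B _).toLinearMap ∘ₗ (rL.rTensor _)
  have h3 : ψ ((1 : B') ⊗ₜ[B] y) = ψ ((1 : B') ⊗ₜ[B] y') := congrArg ψ h2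
  simpa [ψ, rL, hr1] using h3


open Polynomial in
theorem smul_comm_of_additive_units_flat (F G : Adeq.MVF A)
    (φ : ∀ B : Adeq.Alg A, F.obj (Adeq.pt B) → G.obj (Adeq.pt B))
    (hnat : ∀ ⦃B B' : Adeq.Alg A⦄ (f : B ⟶ B') (x : F.obj (Adeq.pt B)),
      φ B' (F.map (Adeq.ptHom f) x) = G.map (Adeq.ptHom f) (φ B x))
    (hadd : ∀ (B : Adeq.Alg A) (x y : F.obj (Adeq.pt B)), φ B (x + y) = φ B x + φ B y)
    (hunit : ∀ (B : Adeq.Alg A) (v : (B : Type u)ˣ) (x : F.obj (Adeq.pt B)), φ B ((v : B) • x) = (v : B) • φ B x)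
    (hG : ∀ ⦃B B' : Adeq.Alg A⦄ (f : B ⟶ B'), f.hom.toRingHom.Flat → IsIso (G.bc f))
    (B : Adeq.Alg A) (b : B) (x : F.obj (Adeq.pt B)) : φ B (b • x) = b • φ B x := by
  rcases subsingleton_or_nontrivial B with hB | hB
  · have := Module.subsingleton B (G.obj (Adeq.pt B))
    exact Subsingleton.elim _ _
  let g : Polynomial B := X ^ 2 + C b * X - 1
  have hg : g.Monic := by
    have : g = X ^ 2 + (C b * X - 1) := by ring
    rw [this]
    apply Polynomial.monic_X_pow_add
    refine lt_of_le_of_lt (Polynomial.degree_sub_le _ _) ?_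
    refine max_lt ?_ ?_
    · refine lt_of_le_of_lt (Polynomial.degree_C_mul_X_le b) ?_
      norm_num
    · rw [Polynomial.degree_one]
      norm_num
  let B' : Adeq.Alg A := Adeq.algOf A (AdjoinRoot g)
  let f : B ⟶ B' := CommAlgCat.ofHom (IsScalarTower.toAlgHom A B (AdjoinRoot g))
  have hfb : ∀ c : B, f.hom c = AdjoinRoot.of g c := fun c => rfl
  -- flatness
  have hfree : Module.Free B (AdjoinRoot g) := hg.free_adjoinRoot
  have hflat : f.hom.toRingHom.Flat := by
    have : f.hom.toRingHom = algebraMap B (AdjoinRoot g) := rfl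
    rw [this, RingHom.flat_algebraMap_iff]
    infer_instance
  have hbc := hG f hflat
  -- retraction
  have hpos : 0 < g.natDegree := by
    have : g.degree = ((2 : ℕ) : WithBot ℕ) := by
      have h2 : g = X ^ 2 + (C b * X - 1) := by ring
      have hlt : (C b * X - 1 : Polynomial B).degree < (X ^ 2 : Polynomial B).degree := by
        rw [Polynomial.degree_X_pow]
        refine lt_of_le_of_lt (Polynomial.degree_sub_le _ _) ?_
        refine max_lt ?_ ?_
        · refine lt_of_le_of_lt (Polynomial.degree_C_mul_X_le b) ?_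
          norm_num
        · rw [Polynomial.degree_one]
          norm_num
      rw [h2, Polynomial.degree_add_eq_left_of_degree_lt hlt, Polynomial.degree_X_pow]
    have := Polynomial.natDegree_eq_of_degree_eq_some this
    omega
  let pb := AdjoinRoot.powerBasis' hg
  let i0 : Fin pb.dim := ⟨0, hpos⟩
  let rL : AdjoinRoot g →ₗ[B] B := pb.basis.coord i0
  have h1 : (1 : AdjoinRoot g) = pb.basis i0 := by
    rw [pb.basis_eq_pow]
    simp [i0]
  have hr1 : rL 1 = 1 := by
    rw [h1]
    change pb.basis.coord i0 (pb.basis i0) = 1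
    rw [Module.Basis.coord_apply, Module.Basis.repr_self, Finsupp.single_eq_same]
  have hinj : Function.Injective (G.map (Adeq.ptHom f)) := by
    refine map_injective_of_retraction G f hbc rL.toAddMonoidHom ?_ hr1
    intro c d
    have : f.hom c * d = c • d := by
      rw [hfb, Algebra.smul_def]
      rfl
    change rL (f.hom c * d) = c * rL d
    rw [this, map_smul, smul_eq_mul]
  have hsemi : ∀ (H : Adeq.MVF A) (c : B) (y : H.obj (Adeq.pt B)),
      H.map (Adeq.ptHom f) (c • y) = (f.hom c : B') • H.map (Adeq.ptHom f) y :=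
    fun H c y => H.map_smul (Adeq.ptHom f) c y
  let ρ : AdjoinRoot g := AdjoinRoot.root g
  have hρ : ρ * (ρ + AdjoinRoot.of g b) = 1 := by
    have h := AdjoinRoot.eval₂_root g
    simp only [g, Polynomial.eval₂_sub, Polynomial.eval₂_add, Polynomial.eval₂_pow,
      Polynomial.eval₂_X, Polynomial.eval₂_mul, Polynomial.eval₂_C, Polynomial.eval₂_one] at h
    linear_combination h
  let uu : (B' : Type u)ˣ := Units.mkOfMulEqOne ρ (ρ + AdjoinRoot.of g b) hρ
  let vv : (B' : Type u)ˣ := Units.mkOfMulEqOne (ρ + AdjoinRoot.of g b) ρ (by rw [mul_comm]; exact hρ)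
  have hb : (f.hom b : B') = (vv : B') - (uu : B') := by
    rw [hfb]
    change _ = (ρ + AdjoinRoot.of g b) - ρ
    ring
  have hsub : ∀ (C : Adeq.Alg A) (y z : F.obj (Adeq.pt C)), φ C (y - z) = φ C y - φ C z := by
    intro C y z
    have := hadd C (y - z) z
    rw [sub_add_cancel] at this
    rw [this, add_sub_cancel_right]
  have key : ∀ x' : F.obj (Adeq.pt B'), φ B' ((f.hom b : B') • x') = (f.hom b : B') • φ B' x' := by
    intro x'
    rw [hb, sub_smul, hsub, hunit, hunit, sub_smul]
  apply hinj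
  refine (hnat f _).symm.trans ?_
  refine (congrArg (φ B') (hsemi F b x)).trans ?_
  refine (key _).trans ?_
  refine Eq.trans ?_ (hsemi G b _).symm
  exact congrArg (fun t => (f.hom b : B') • t) (hnat f x)

end Groth.Agent.Lib.Helper14.AdeqLib
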