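import Mathlib.Algebra.TrivSqZeroExt.Basic
import Mathlib.Algebra.DualNumber
import Mathlib.LinearAlgebra.Quotient.Basic
import Mathlib.RingTheory.TensorProduct.Free
import Mathlib.LinearAlgebra.TensorProduct.RightExactness

/-! Pure algebra for the lifting lemma (Stacks, adequate modules): universal square-zero algebra. -/

set_option autoImplicit false
open TensorProduct
universe u v w
namespace Groth.Agent.Lib.Helper14.AdeqLift

noncomputable section

variable {A : Type u} [CommRing A] {P : Type v} [AddCommGroup P] [Module A P]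
  {P' : Type v} [AddCommGroup P'] [Module A P'] {n m : ℕ}
  (e : Module.Basis (Fin n) A P) (e' : Module.Basis (Fin m) A P') (φ₀ : P →ₗ[A] P')

/-- the matrix -/
def mat (i : Fin m) (j : Fin n) : A := e'.repr (φ₀ (e j)) i

theorem phi_e (j : Fin n) : φ₀ (e j) = ∑ i, mat e e' φ₀ i j • e' i := by
  unfold mat
  exact (e'.sum_repr (φ₀ (e j))).symm

/-- span of the rows -/
def rows : Submodule A (Fin n → A) := Submodule.span A (Set.range fun i => (fun j => mat e e' φ₀ i j))

/-- the cokernel of the transpose -/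
abbrev Q : Type u := (Fin n → A) ⧸ rows e e' φ₀

/-- universal square-zero algebra -/
abbrev T : Type u := TrivSqZeroExt A (Q e e' φ₀)

/-- generators of `Q` -/
def q (j : Fin n) : Q e e' φ₀ := (rows e e' φ₀).mkQ (Pi.single j 1)

theorem sum_smul_single (c : Fin n → A) : ∑ j, c j • (Pi.single j (1 : A) : Fin n → A) = c := by
  funext k
  simp [Finset.sum_apply, Pi.single_apply]

theorem sum_mat_smul_q (i : Fin m) : ∑ j, mat e e' φ₀ i j • q e e' φ₀ j = 0 := by
  unfold q
  simp_rw [← map_smul]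
  rw [← map_sum, sum_smul_single, Submodule.mkQ_apply, Submodule.Quotient.mk_eq_zero]
  exact Submodule.subset_span ⟨i, rfl⟩

/-- the universal element of `T ⊗ P` -/
def yτ : T e e' φ₀ ⊗[A] P := ∑ j, (TrivSqZeroExt.inr (q e e' φ₀ j) : T e e' φ₀) ⊗ₜ[A] e j

theorem baseChange_yτ : φ₀.baseChange (T e e' φ₀) (yτ e e' φ₀) = 0 := by
  unfold yτ
  rw [map_sum]
  have h1 : ∀ j, φ₀.baseChange (T e e' φ₀) ((TrivSqZeroExt.inr (q e e' φ₀ j) : T e e' φ₀) ⊗ₜ[A] e j)
      = ∑ i, (TrivSqZeroExt.inr (mat e e' φ₀ i j • q e e' φ₀ j) : T e e' φ₀) ⊗ₜ[A] e' i := by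
    intro j
    rw [LinearMap.baseChange_tmul, phi_e e e' φ₀, TensorProduct.tmul_sum]
    refine Finset.sum_congr rfl (fun i _ => ?_)
    rw [TensorProduct.tmul_smul, TensorProduct.smul_tmul', TrivSqZeroExt.inr_smul]
  simp_rw [h1]
  rw [Finset.sum_comm]
  refine Finset.sum_eq_zero (fun i _ => ?_)
  rw [← TensorProduct.sum_tmul, ← TrivSqZeroExt.inr_sum, sum_mat_smul_q, TrivSqZeroExt.inr_zero,
    TensorProduct.zero_tmul]

section coords

variable (B : Type u) [CommRing B] [Algebra A B]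

/-- coordinates of an element of `B ⊗ P` -/
def coord (y : B ⊗[A] P) (j : Fin n) : B := (Algebra.TensorProduct.basis B e).repr y j

theorem eq_sum_coord (y : B ⊗[A] P) : y = ∑ j, coord e B y j ⊗ₜ[A] e j := by
  conv_lhs => rw [← (Algebra.TensorProduct.basis B e).sum_repr y]
  refine Finset.sum_congr rfl fun j _ => ?_
  rw [Algebra.TensorProduct.basis_repr_symm_apply']
  rfl

theorem coord_sum (c : Fin n → B) (j : Fin n) : coord e B (∑ k, c k ⊗ₜ[A] e k) j = c j := by
  unfold coord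
  have : ∑ k, c k ⊗ₜ[A] e k = ∑ k, c k • (Algebra.TensorProduct.basis B e) k := by
    refine Finset.sum_congr rfl fun k _ => ?_
    rw [Algebra.TensorProduct.basis_repr_symm_apply']
  rw [this, Module.Basis.repr_sum_self]

theorem coord_zero (j : Fin n) : coord e B (0 : B ⊗[A] P) j = 0 := by
  unfold coord
  simp

theorem baseChange_eq_sum (y : B ⊗[A] P) :
    φ₀.baseChange B y = ∑ i, (∑ j, mat e e' φ₀ i j • coord e B y j) ⊗ₜ[A] e' i := by
  conv_lhs => rw [eq_sum_coord e B y, map_sum]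
  have h1 : ∀ j, φ₀.baseChange B (coord e B y j ⊗ₜ[A] e j)
      = ∑ i, (mat e e' φ₀ i j • coord e B y j) ⊗ₜ[A] e' i := by
    intro j
    rw [LinearMap.baseChange_tmul, phi_e e e' φ₀, TensorProduct.tmul_sum]
    refine Finset.sum_congr rfl (fun i _ => ?_)
    rw [TensorProduct.tmul_smul, TensorProduct.smul_tmul']
  simp_rw [h1]
  rw [Finset.sum_comm]
  refine Finset.sum_congr rfl (fun i _ => ?_)
  rw [TensorProduct.sum_tmul]

theorem coord_rel (y : B ⊗[A] P) (hy : φ₀.baseChange B y = 0) (i : Fin m) :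
    ∑ j, mat e e' φ₀ i j • coord e B y j = 0 := by
  have h := congrArg (fun z => coord e' B z i) (baseChange_eq_sum e e' φ₀ B y)
  simp only [coord_sum] at h
  rw [← h, hy, coord_zero]

/-- the linear form `c ↦ ∑ c_j b_j` -/
def dotL (b : Fin n → B) : (Fin n → A) →ₗ[A] B :=
  ∑ j, (LinearMap.proj j : (Fin n → A) →ₗ[A] A).smulRight (b j)

theorem dotL_apply (b : Fin n → B) (c : Fin n → A) : dotL B b c = ∑ j, c j • b j := by
  simp [dotL, LinearMap.sum_apply]

theorem dotL_single (b : Fin n → B) (j : Fin n) : dotL (A := A) B b (Pi.single j (1 : A)) = b j := by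
  rw [dotL_apply]
  simp [Pi.single_apply]

variable {B}

/-- the linear map `Q → B` attached to `y` with `φ₀ y = 0` -/
def lam (y : B ⊗[A] P) (hy : φ₀.baseChange B y = 0) : Q e e' φ₀ →ₗ[A] B :=
  (rows e e' φ₀).liftQ (dotL B (coord e B y)) (by
    rw [rows, Submodule.span_le]
    rintro _ ⟨i, rfl⟩
    rw [SetLike.mem_coe, LinearMap.mem_ker, dotL_apply]
    exact coord_rel e e' φ₀ B y hy i)

theorem lam_comp_mkQ (y : B ⊗[A] P) (hy : φ₀.baseChange B y = 0) :
    lam e e' φ₀ y hy ∘ₗ (rows e e' φ₀).mkQ = dotL B (coord e B y) :=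
  Submodule.liftQ_mkQ _ _ _

theorem lam_q (y : B ⊗[A] P) (hy : φ₀.baseChange B y = 0) (j : Fin n) :
    lam e e' φ₀ y hy (q e e' φ₀ j) = coord e B y j := by
  unfold q
  rw [← LinearMap.comp_apply, lam_comp_mkQ, dotL_single]

variable (B) in
/-- `b ↦ b ε` as an `A`-linear map -/
def inrL : B →ₗ[A] DualNumber B := (TrivSqZeroExt.inrHom B B).restrictScalars A

variable (B) in
/-- `b ↦ b` as an `A`-linear map into the dual numbers -/
def inlL : B →ₗ[A] DualNumber B := (TrivSqZeroExt.inlAlgHom A B B).toLinearMap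

variable (B) in
/-- the `ε`-coefficient -/
def sndL : DualNumber B →ₗ[A] B := (TrivSqZeroExt.sndHom B B).restrictScalars A

theorem sndL_comp_inrL : sndL (A := A) B ∘ₗ inrL B = LinearMap.id := by
  ext b
  simp [sndL, inrL]

/-- the classifying map of `ε y` -/
def fb (y : B ⊗[A] P) (hy : φ₀.baseChange B y = 0) : T e e' φ₀ →ₐ[A] DualNumber B :=
  TrivSqZeroExt.liftEquivOfComm ⟨inrL B ∘ₗ lam e e' φ₀ y hy,
    fun _ _ => TrivSqZeroExt.inr_mul_inr _ _ _⟩

theorem fb_inr (y : B ⊗[A] P) (hy : φ₀.baseChange B y = 0) (x : Q e e' φ₀) :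
    fb e e' φ₀ y hy (TrivSqZeroExt.inr x) = TrivSqZeroExt.inr (lam e e' φ₀ y hy x) := by
  unfold fb
  rw [TrivSqZeroExt.liftEquivOfComm_apply, TrivSqZeroExt.lift_apply_inr]
  rfl

theorem fb_inl (y : B ⊗[A] P) (hy : φ₀.baseChange B y = 0) (a : A) :
    fb e e' φ₀ y hy (TrivSqZeroExt.inl a) = algebraMap A (DualNumber B) a := by
  unfold fb
  rw [TrivSqZeroExt.liftEquivOfComm_apply, TrivSqZeroExt.lift_apply_inl]
  rfl

theorem sndL_comp_fb (y : B ⊗[A] P) (hy : φ₀.baseChange B y = 0) :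
    sndL B ∘ₗ (fb e e' φ₀ y hy).toLinearMap =
      lam e e' φ₀ y hy ∘ₗ (TrivSqZeroExt.sndHom A (Q e e' φ₀)) := by
  apply TrivSqZeroExt.linearMap_ext
  · intro a
    simp only [sndL, LinearMap.coe_comp, LinearMap.coe_restrictScalars, AlgHom.coe_toLinearMap,
      Function.comp_apply, fb_inl, TrivSqZeroExt.sndHom_apply, TrivSqZeroExt.snd_inl, map_zero]
    rw [TrivSqZeroExt.algebraMap_eq_inl']
    simp
  · intro x
    simp [sndL, fb_inr]

theorem fb_rTensor_yτ (y : B ⊗[A] P) (hy : φ₀.baseChange B y = 0) :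
    (fb e e' φ₀ y hy).toLinearMap.rTensor P (yτ e e' φ₀) = (inrL B).rTensor P y := by
  conv_rhs => rw [eq_sum_coord e B y]
  unfold yτ
  rw [map_sum, map_sum]
  refine Finset.sum_congr rfl fun j _ => ?_
  rw [LinearMap.rTensor_tmul, LinearMap.rTensor_tmul, AlgHom.toLinearMap_apply, fb_inr, lam_q]
  rfl

theorem eps_smul_inlL {M : Type w} [AddCommGroup M] [Module A M] (z : B ⊗[A] M) :
    (DualNumber.eps : DualNumber B) • ((inlL B).rTensor M z) = (inrL B).rTensor M z := by
  induction z using TensorProduct.induction_on with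
  | zero => simp
  | tmul b x =>
    rw [LinearMap.rTensor_tmul, LinearMap.rTensor_tmul, TensorProduct.smul_tmul']
    congr 1
    change (DualNumber.eps : DualNumber B) * TrivSqZeroExt.inl b = TrivSqZeroExt.inr b
    rw [DualNumber.eps, TrivSqZeroExt.inr_mul_inl]
    simp
  | add z z' hz hz' => rw [map_add, smul_add, hz, hz', map_add]

section theta

variable {M : Type w} [AddCommGroup M] [Module A M]

/-- components of an element of `A^n ⊗ M` -/
def comp (θ : (Fin n → A) ⊗[A] M) (j : Fin n) : M :=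
  TensorProduct.lid A M ((LinearMap.proj j : (Fin n → A) →ₗ[A] A).rTensor M θ)

theorem dotL_rTensor (b : Fin n → B) (θ : (Fin n → A) ⊗[A] M) :
    (dotL B b).rTensor M θ = ∑ j, b j ⊗ₜ[A] comp θ j := by
  induction θ using TensorProduct.induction_on with
  | zero => simp [comp]
  | tmul c x =>
    rw [LinearMap.rTensor_tmul, dotL_apply, TensorProduct.sum_tmul]
    refine Finset.sum_congr rfl fun j _ => ?_
    simp only [comp, LinearMap.rTensor_tmul, LinearMap.proj_apply, TensorProduct.lid_tmul]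
    rw [TensorProduct.smul_tmul]
  | add θ θ' h h' =>
    rw [map_add, h, h', ← Finset.sum_add_distrib]
    refine Finset.sum_congr rfl fun j _ => ?_
    simp only [comp, map_add, TensorProduct.tmul_add]

/-- the linear map `P → M` attached to `θ` -/
def gOf (θ : (Fin n → A) ⊗[A] M) : P →ₗ[A] M := e.constr A (comp θ)

theorem gOf_baseChange (θ : (Fin n → A) ⊗[A] M) (y : B ⊗[A] P) :
    (gOf e θ).baseChange B y = ∑ j, coord e B y j ⊗ₜ[A] comp θ j := by
  conv_lhs => rw [eq_sum_coord e B y, map_sum]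
  refine Finset.sum_congr rfl fun j _ => ?_
  rw [LinearMap.baseChange_tmul, gOf, Module.Basis.constr_basis]

/-- the main algebraic identity -/
theorem key_identity (y : B ⊗[A] P) (hy : φ₀.baseChange B y = 0) (μ : T e e' φ₀ ⊗[A] M)
    (θ : (Fin n → A) ⊗[A] M)
    (hθ : (rows e e' φ₀).mkQ.rTensor M θ = (TrivSqZeroExt.sndHom A (Q e e' φ₀)).rTensor M μ)
    (z : B ⊗[A] M)
    (hz : (fb e e' φ₀ y hy).toLinearMap.rTensor M μ =
      (DualNumber.eps : DualNumber B) • ((inlL B).rTensor M z)) :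
    z = (gOf e θ).baseChange B y := by
  rw [eps_smul_inlL] at hz
  have h1 := congrArg ((sndL B).rTensor M) hz
  rw [← LinearMap.comp_apply, ← LinearMap.comp_apply, ← LinearMap.rTensor_comp,
    ← LinearMap.rTensor_comp, sndL_comp_inrL, sndL_comp_fb, LinearMap.rTensor_id,
    LinearMap.id_apply, LinearMap.rTensor_comp, LinearMap.comp_apply, ← hθ,
    ← LinearMap.comp_apply, ← LinearMap.rTensor_comp, lam_comp_mkQ, dotL_rTensor] at h1
  rw [← h1, gOf_baseChange]

end theta

end coords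

end

end Groth.Agent.Lib.Helper14.AdeqLift
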