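import Groth.Agent.Lib.Helper14.Adeq1
import Groth.Agent.Lib.Helper14.AdeqLift
import Mathlib.LinearAlgebra.Dimension.Free
import Mathlib.LinearAlgebra.FreeModule.StrongRankCondition

set_option autoImplicit false
open CategoryTheory Limits Opposite TensorProduct
universe u
namespace Groth.Agent.Lib.Helper14.AdeqLib
open Groth.Agent.Lib.Helper14.AdeqLift
variable {A : Type u} [CommRing A]

theorem exists_underline_map_lift_of_kernel (P P' M : ModuleCat.{u + 1} A)
    [Module.Finite A P] [Module.Free A P] [Module.Finite A P'] [Module.Free A P'] (φ₀ : P ⟶ P')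
    (φ : kernel ((Adeq.underline A).map φ₀) ⟶ (Adeq.underline A).obj M) :
    ∃ g : P ⟶ M, kernel.ι ((Adeq.underline A).map φ₀) ≫ (Adeq.underline A).map g = φ := by
  rcases subsingleton_or_nontrivial A with hA | hA
  · refine ⟨0, ?_⟩
    apply PresheafOfModules.hom_ext
    intro X
    apply ModuleCat.hom_ext
    apply LinearMap.ext
    intro k
    have : Subsingleton (X.unop.unop : Type u) := by
      refine ⟨fun a b => ?_⟩
      rw [← one_mul a, ← one_mul b, ← map_one (algebraMap A X.unop.unop), Subsingleton.elim (1 : A) 0, map_zero,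
        zero_mul, zero_mul]
    have := Module.subsingleton (X.unop.unop : Type u) (((Adeq.underline A).obj M).obj X)
    exact Subsingleton.elim _ _
  let e := Module.finBasis A P
  let e' := Module.finBasis A P'
  let TA : Adeq.Alg A := Adeq.algOf A (T e e' φ₀.hom)
  obtain ⟨τ, hτ⟩ := exists_ker_of_app_eq_zero ((Adeq.underline A).map φ₀) (Adeq.pt TA)
    (toU P TA (yτ e e' φ₀.hom)) (baseChange_yτ e e' φ₀.hom)
  let μ : T e e' φ₀.hom ⊗[A] M := ofU M TA (φ.app (Adeq.pt TA) τ)
  obtain ⟨θ, hθ⟩ := LinearMap.rTensor_surjective M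
    (Submodule.mkQ_surjective (rows e e' φ₀.hom))
    ((TrivSqZeroExt.sndHom A (Q e e' φ₀.hom)).rTensor M μ)
  refine ⟨ModuleCat.ofHom (gOf e θ), ?_⟩
  apply PresheafOfModules.hom_ext
  intro X
  apply ModuleCat.hom_ext
  apply LinearMap.ext
  intro k
  let B : Adeq.Alg A := X.unop.unop
  let L := kernel ((Adeq.underline A).map φ₀)
  let ι := kernel.ι ((Adeq.underline A).map φ₀)
  let y : B ⊗[A] P := ofU P B (ι.app (Adeq.pt B) k)
  have hy : φ₀.hom.baseChange B y = 0 := ker_ι_app_comp ((Adeq.underline A).map φ₀) (Adeq.pt B) k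
  let z : B ⊗[A] M := ofU M B (φ.app (Adeq.pt B) k)
  let BεA : Adeq.Alg A := Adeq.algOf A (DualNumber B)
  let h' : TA ⟶ BεA := CommAlgCat.ofHom (fb e e' φ₀.hom y hy)
  let inl' : B ⟶ BεA := CommAlgCat.ofHom (TrivSqZeroExt.inlAlgHom A B B)
  let ε : BεA := (DualNumber.eps : DualNumber B)
  -- Claim 1
  have c1 : L.map (Adeq.ptHom h') τ = ε • L.map (Adeq.ptHom inl') k := by
    apply ker_ι_injective ((Adeq.underline A).map φ₀) (Adeq.pt BεA)
    have e1 : ι.app (Adeq.pt BεA) (L.map (Adeq.ptHom h') τ) =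
        ((Adeq.underline A).obj P).map (Adeq.ptHom h') (ι.app (Adeq.pt TA) τ) :=
      PresheafOfModules.naturality_apply ι (Adeq.ptHom h') τ
    have e2 : ι.app (Adeq.pt BεA) (ε • L.map (Adeq.ptHom inl') k) =
        ε • ((Adeq.underline A).obj P).map (Adeq.ptHom inl') (ι.app (Adeq.pt B) k) := by
      have := (ι.app (Adeq.pt BεA)).hom.map_smul ε (L.map (Adeq.ptHom inl') k)
      refine this.trans ?_
      congr 1
      exact PresheafOfModules.naturality_apply ι (Adeq.ptHom inl') k
    refine e1.trans (Eq.trans ?_ e2.symm)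
    rw [hτ]
    change toU P BεA ((fb e e' φ₀.hom y hy).toLinearMap.rTensor P (yτ e e' φ₀.hom)) =
      toU P BεA ((DualNumber.eps : DualNumber B) • ((inlL B).rTensor P y))
    rw [fb_rTensor_yτ, eps_smul_inlL]
  -- Claim 2
  have c2 : (fb e e' φ₀.hom y hy).toLinearMap.rTensor M μ =
      (DualNumber.eps : DualNumber B) • ((inlL B).rTensor M z) := by
    have e1 : φ.app (Adeq.pt BεA) (L.map (Adeq.ptHom h') τ) =
        ((Adeq.underline A).obj M).map (Adeq.ptHom h') (φ.app (Adeq.pt TA) τ) :=
      PresheafOfModules.naturality_apply φ (Adeq.ptHom h') τ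
    have e2 : φ.app (Adeq.pt BεA) (ε • L.map (Adeq.ptHom inl') k) =
        ε • ((Adeq.underline A).obj M).map (Adeq.ptHom inl') (φ.app (Adeq.pt B) k) := by
      have := (φ.app (Adeq.pt BεA)).hom.map_smul ε (L.map (Adeq.ptHom inl') k)
      refine this.trans ?_
      congr 1
      exact PresheafOfModules.naturality_apply φ (Adeq.ptHom inl') k
    have e3 := e1.symm.trans ((congrArg (φ.app (Adeq.pt BεA)) c1).trans e2)
    exact congrArg (ofU M BεA) e3
  have key := key_identity e e' φ₀.hom y hy μ θ hθ z c2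
  exact (congrArg (toU M B) key).symm


end Groth.Agent.Lib.Helper14.AdeqLib
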