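import Mathlib.LinearAlgebra.TensorProduct.Vanishing
import Mathlib.LinearAlgebra.TensorProduct.RightExactness
import Mathlib.LinearAlgebra.TensorProduct.Finiteness
import Mathlib.RingTheory.Flat.Basic
import Mathlib.RingTheory.TensorProduct.Basic

/-! Pure algebra for the surjection from a sum of linearly adequate functors. -/

set_option autoImplicit false
open TensorProduct
universe u v
namespace Groth.Agent.Lib.Helper14.AdeqCover

variable {A : Type u} [CommRing A] {B : Type u} [CommRing B] [Algebra A B]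

/-- an expression vanishing in `B ⊗ N` vanishes trivially after adding terms `c_t ⊗ 0`. -/
theorem exists_trivial_vanishing {N : Type v} [AddCommGroup N] [Module A N] {n : ℕ}
    (b : Fin n → B) (ν : Fin n → N) (h : ∑ j, b j ⊗ₜ[A] ν j = 0) :
    ∃ (l k : ℕ) (c : Fin l → B) (a : Fin n → Fin k → A) (a' : Fin l → Fin k → A) (ρ : Fin k → N),
      (∀ j, ν j = ∑ s, a j s • ρ s) ∧ (∀ t, ∑ s, a' t s • ρ s = 0) ∧
        ∀ s, ∑ j, a j s • b j + ∑ t, a' t s • c t = 0 := by
  classical
  obtain ⟨π, hπ⟩ : ∃ π : (N →₀ A) →ₗ[A] N, ∀ x : N, π (Finsupp.single x 1) = x :=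
    ⟨Finsupp.linearCombination A (id : N → N), fun x => by
      rw [Finsupp.linearCombination_single, one_smul, id]⟩
  let w : B ⊗[A] (N →₀ A) := ∑ j, b j ⊗ₜ[A] (Finsupp.single (ν j) (1 : A))
  have hw : π.lTensor B w = 0 := by
    simp only [w, map_sum, LinearMap.lTensor_tmul, hπ]
    exact h
  have hex : Function.Exact (LinearMap.ker π).subtype π := LinearMap.exact_subtype_ker_map π
  have hsurj : Function.Surjective π := fun x => ⟨Finsupp.single x 1, hπ x⟩
  have hex2 := _root_.lTensor_exact (R := A) (M := LinearMap.ker π) (f := (LinearMap.ker π).subtype) (g := π) B hex hsurj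
  obtain ⟨w', hw'⟩ := (hex2 w).mp hw
  obtain ⟨S, hS⟩ := TensorProduct.exists_finset w'
  let l := S.card
  let eS : Fin l ≃ S := S.equivFin.symm
  let c : Fin l → B := fun t => - (eS t).1.1
  let r : Fin l → (N →₀ A) := fun t => ((eS t).1.2 : (N →₀ A))
  have hr : ∀ t, π (r t) = 0 := fun t => (eS t).1.2.2
  have hw2 : w = ∑ t, (- c t) ⊗ₜ[A] r t := by
    rw [← hw', hS, map_sum]
    rw [← Finset.sum_coe_sort S, ← eS.sum_comp]
    refine Finset.sum_congr rfl fun t _ => ?_
    simp [c, r]
  let mm : Fin n ⊕ Fin l → B := Sum.elim b c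
  let nn : Fin n ⊕ Fin l → (N →₀ A) := Sum.elim (fun j => Finsupp.single (ν j) (1 : A)) r
  have hsum : ∑ i, mm i ⊗ₜ[A] nn i = 0 := by
    rw [Fintype.sum_sum_type]
    simp only [mm, nn, Sum.elim_inl, Sum.elim_inr]
    change w + _ = 0
    rw [hw2, ← Finset.sum_add_distrib]
    refine Finset.sum_eq_zero fun t _ => ?_
    rw [TensorProduct.neg_tmul, neg_add_cancel]
  have hflat : Function.Injective
      (LinearMap.rTensor (N →₀ A) (Submodule.span A (Set.range mm)).subtype) :=
    Module.Flat.rTensor_preserves_injective_linearMap _ (Submodule.injective_subtype _)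
  obtain ⟨k, a₀, y, hy1, hy2⟩ :=
    TensorProduct.vanishesTrivially_of_sum_tmul_eq_zero_of_rTensor_injective A hflat hsum
  refine ⟨l, k, c, fun j s => a₀ (Sum.inl j) s, fun t s => a₀ (Sum.inr t) s, fun s => π (y s),
    ?_, ?_, ?_⟩
  · intro j
    have := congrArg π (hy1 (Sum.inl j))
    simp only [nn, Sum.elim_inl, hπ, map_sum, map_smul] at this
    exact this
  · intro t
    have := congrArg π (hy1 (Sum.inr t))
    simp only [nn, Sum.elim_inr, hr, map_sum, map_smul] at this
    exact this.symm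
  · intro s
    have := hy2 s
    rw [Fintype.sum_sum_type] at this
    exact this


/-- finite free cover adapted to an element of the kernel of `B ⊗ M → B ⊗ N`. -/
theorem exists_linear_cover {M N : Type v} [AddCommGroup M] [Module A M] [AddCommGroup N]
    [Module A N] (φ : M →ₗ[A] N) (x : B ⊗[A] M) (hx : φ.baseChange B x = 0) :
    ∃ (ι₁ ι₂ : Type v) (_ : Fintype ι₁) (_ : Fintype ι₂) (_ : DecidableEq ι₁) (_ : DecidableEq ι₂)
      (α : (ι₁ → A) →ₗ[A] (ι₂ → A)) (g₁ : (ι₁ → A) →ₗ[A] M) (ρ : (ι₂ → A) →ₗ[A] N)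
      (β₁ : B ⊗[A] (ι₁ → A)),
      ρ ∘ₗ α = φ ∘ₗ g₁ ∧ α.baseChange B β₁ = 0 ∧ g₁.baseChange B β₁ = x := by
  classical
  obtain ⟨S, hS⟩ := TensorProduct.exists_finset x
  let n := S.card
  let eS : Fin n ≃ S := S.equivFin.symm
  let b : Fin n → B := fun j => (eS j).1.1
  let mj : Fin n → M := fun j => (eS j).1.2
  have hx2 : x = ∑ j, b j ⊗ₜ[A] mj j := by
    rw [hS, ← Finset.sum_coe_sort S, ← eS.sum_comp]
  have h0 : ∑ j, b j ⊗ₜ[A] φ (mj j) = 0 := by
    rw [← hx, hx2, map_sum]
    refine Finset.sum_congr rfl fun j _ => ?_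
    rw [LinearMap.baseChange_tmul]
  obtain ⟨l, k, c, a, a', ρ₀, h1, h2, h3⟩ := exists_trivial_vanishing b (fun j => φ (mj j)) h0
  let ι₁ := ULift.{v} (Fin n ⊕ Fin l)
  let ι₂ := ULift.{v} (Fin k)
  let aa : ι₁ → ι₂ → A := fun i s => Sum.elim (fun j => a j s.down) (fun t => a' t s.down) i.down
  let mm : ι₁ → B := fun i => Sum.elim b c i.down
  let α : (ι₁ → A) →ₗ[A] (ι₂ → A) := Fintype.linearCombination A (fun i => aa i)
  let g₁ : (ι₁ → A) →ₗ[A] M :=
    Fintype.linearCombination A (fun i => Sum.elim mj (fun _ => 0) i.down)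
  let ρ : (ι₂ → A) →ₗ[A] N := Fintype.linearCombination A (fun s => ρ₀ s.down)
  let β₁ : B ⊗[A] (ι₁ → A) := ∑ i, mm i ⊗ₜ[A] Pi.single i (1 : A)
  refine ⟨ι₁, ι₂, inferInstance, inferInstance, inferInstance, inferInstance, α, g₁, ρ, β₁, ?_, ?_, ?_⟩
  · apply LinearMap.pi_ext'
    intro i
    ext
    simp only [LinearMap.coe_comp, LinearMap.coe_single, Function.comp_apply, α, g₁, ρ,
      Fintype.linearCombination_apply_single, one_smul]
    rw [Fintype.linearCombination_apply]
    obtain ⟨i | i⟩ := i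
    · simp only [aa, Sum.elim_inl]
      rw [h1 i, ← Equiv.ulift.symm.sum_comp]
      rfl
    · simp only [aa, Sum.elim_inr, map_zero]
      rw [← h2 i, ← Equiv.ulift.symm.sum_comp]
      rfl
  · simp only [β₁, map_sum, LinearMap.baseChange_tmul, α, Fintype.linearCombination_apply_single,
      one_smul]
    have hexp : ∀ i : ι₁, (aa i : ι₂ → A) = ∑ s, aa i s • Pi.single s (1 : A) := by
      intro i
      funext s
      simp only [Finset.sum_apply, Pi.smul_apply, Pi.single_apply, smul_eq_mul, mul_ite, mul_one,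
        mul_zero]
      rw [Finset.sum_ite_eq]
      simp
    have : ∀ i : ι₁, mm i ⊗ₜ[A] (aa i : ι₂ → A) =
        ∑ s, (aa i s • mm i) ⊗ₜ[A] (Pi.single s (1 : A) : ι₂ → A) := by
      intro i
      conv_lhs => rw [hexp i, TensorProduct.tmul_sum]
      refine Finset.sum_congr rfl fun s _ => ?_
      rw [TensorProduct.tmul_smul, TensorProduct.smul_tmul']
    simp_rw [this]
    rw [Finset.sum_comm]
    refine Finset.sum_eq_zero fun s _ => ?_
    rw [← TensorProduct.sum_tmul]
    have : ∑ i : ι₁, aa i s • mm i = 0 := by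
      rw [← Equiv.ulift.symm.sum_comp, Fintype.sum_sum_type]
      exact h3 s.down
    rw [this, TensorProduct.zero_tmul]
  · simp only [β₁, map_sum, LinearMap.baseChange_tmul, g₁, Fintype.linearCombination_apply_single,
      one_smul]
    rw [← Equiv.ulift.symm.sum_comp, Fintype.sum_sum_type, hx2]
    simp [mm]

end Groth.Agent.Lib.Helper14.AdeqCover
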