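import Groth.Agent.Lib.Helper14.Adeq1
import Groth.Agent.Lib.Helper14.AdeqCover
import Mathlib.LinearAlgebra.FreeModule.Finite.Basic

set_option autoImplicit false
open CategoryTheory Limits Opposite TensorProduct
universe u
namespace Groth.Agent.Lib.Helper14.AdeqLib
open Groth.Agent.Lib.Helper14.AdeqCover
variable {A : Type u} [CommRing A]

/-- lifting through a pointwise-exact `0 → F → G → H`. -/
theorem exists_lift_of_exact {F G H K : Adeq.MVF A} (i : F ⟶ G)
    (hi : ∀ X, Function.Injective (i.app X)) (f : G ⟶ H) (w : i ≫ f = 0)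
    (hex : ∀ (X : (Adeq.Alg A)ᵒᵖᵒᵖ) (y : G.obj X), f.app X y = 0 → ∃ x : F.obj X, i.app X x = y)
    (t : K ⟶ G) (ht : t ≫ f = 0) : ∃ s : K ⟶ F, s ≫ i = t := by
  have : Mono i := PresheafOfModules.mono_of_injective (fun X => hi X)
  have hS : (ShortComplex.mk i f w).Exact := exact_of_pointwise _ hex
  have hk := hS.fIsKernel
  exact ⟨hk.lift (KernelFork.ofι t ht), hk.fac _ WalkingParallelPair.zero⟩

/-- for an adequate `F` and `ξ ∈ F(B)`, a linearly adequate `L` with `L → F` hitting `ξ`. -/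
theorem exists_linAdequate_hitting {F : Adeq.MVF A} (hF : Adeq.adequate A F) (B : Adeq.Alg A)
    (ξ : F.obj (Adeq.pt B)) :
    ∃ (L : Adeq.MVF A) (_ : Adeq.linAdequate A L) (ψ : L ⟶ F) (l : L.obj (Adeq.pt B)),
      ψ.app (Adeq.pt B) l = ξ := by
  obtain ⟨M, N, φ, i, hi, w, hex⟩ := exists_exact_of_adequate hF
  let x : B ⊗[A] M := ofU M B (i.app (Adeq.pt B) ξ)
  have hx : φ.hom.baseChange B x = 0 := by
    change ofU N B (((Adeq.underline A).map φ).app (Adeq.pt B) (i.app (Adeq.pt B) ξ)) = 0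
    rw [← comp_app_apply, w]
    rfl
  obtain ⟨ι₁, ι₂, _, _, _, _, α, g₁, ρ, β₁, h1, h2, h3⟩ := exists_linear_cover φ.hom x hx
  let P₁ : ModuleCat.{u + 1} A := ModuleCat.of A (ι₁ → A)
  let P₂ : ModuleCat.{u + 1} A := ModuleCat.of A (ι₂ → A)
  let αc : P₁ ⟶ P₂ := ModuleCat.ofHom α
  let gc : P₁ ⟶ M := ModuleCat.ofHom g₁
  let ρc : P₂ ⟶ N := ModuleCat.ofHom ρ
  have hc : αc ≫ ρc = gc ≫ φ := by
    apply ModuleCat.hom_ext
    exact h1
  let L := kernel ((Adeq.underline A).map αc)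
  have hL : Adeq.linAdequate A L :=
    ⟨P₁, P₂, αc, inferInstanceAs (Module.Finite A (ι₁ → A)), inferInstanceAs (Module.Free A (ι₁ → A)),
      inferInstanceAs (Module.Finite A (ι₂ → A)), inferInstanceAs (Module.Free A (ι₂ → A)),
      ⟨Iso.refl _⟩⟩
  have ht : (kernel.ι ((Adeq.underline A).map αc) ≫ (Adeq.underline A).map gc) ≫
      (Adeq.underline A).map φ = 0 := by
    rw [Category.assoc, ← Functor.map_comp, ← hc, Functor.map_comp, ← Category.assoc,
      kernel.condition, zero_comp]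
  obtain ⟨ψ, hψ⟩ := exists_lift_of_exact i hi _ w hex _ ht
  obtain ⟨l, hl⟩ := exists_ker_of_app_eq_zero ((Adeq.underline A).map αc) (Adeq.pt B)
    (toU P₁ B β₁) h2
  refine ⟨L, hL, ψ, l, ?_⟩
  apply hi (Adeq.pt B)
  rw [← comp_app_apply, hψ, comp_app_apply, hl]
  exact congrArg (toU M B) h3


theorem exists_epi_cofan_linAdequate (F : Adeq.MVF A) (hF : Adeq.adequate A F) :
    ∃ (ι : Type (u + 1)) (L : ι → Adeq.MVF A), (∀ i, Adeq.linAdequate A (L i)) ∧
      ∃ (c : Cofan L) (_ : IsColimit c) (π : c.pt ⟶ F), Epi π := by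
  let ι : Type (u + 1) := Σ B : Adeq.Alg A, F.obj (Adeq.pt B)
  choose L hL ψ l hl using fun (i : ι) => exists_linAdequate_hitting hF i.1 i.2
  refine ⟨ι, L, hL, Cofan.mk (∐ L) (Sigma.ι L), coproductIsCoproduct L, Sigma.desc ψ, ?_⟩
  apply PresheafOfModules.epi_of_surjective
  intro X ξ
  let i : ι := ⟨X.unop.unop, ξ⟩
  refine ⟨(Sigma.ι L i).app X (l i), ?_⟩
  rw [← comp_app_apply, Sigma.ι_desc]
  exact hl i

end Groth.Agent.Lib.Helper14.AdeqLib
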