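import Mathlib.LinearAlgebra.DirectSum.TensorProduct
import Mathlib.LinearAlgebra.TensorProduct.RightExactness
import Mathlib.Algebra.Exact.Basic
import Mathlib.RingTheory.TensorProduct.Basic

/-! Pure algebra for the cokernel lemma (Stacks adequate modules 46.3.6). -/

set_option autoImplicit false
open TensorProduct DirectSum
universe u v w
namespace Groth.Agent.Lib.Helper14.AdeqCoker

noncomputable section

variable {A : Type u} [CommRing A] {ι : Type w} [DecidableEq ι]
  {P P' : ι → Type v} [∀ i, AddCommGroup (P i)] [∀ i, Module A (P i)]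
  [∀ i, AddCommGroup (P' i)] [∀ i, Module A (P' i)]
  {M : Type v} [AddCommGroup M] [Module A M]
  (α : ∀ i, P i →ₗ[A] P' i) (g : ∀ i, P i →ₗ[A] M)
  (B : Type u) [AddCommGroup B] [Module A B]

/-- `⊕ P_i → ⊕ P'_i` -/
abbrev aMap : (⨁ i, P i) →ₗ[A] (⨁ i, P' i) := DirectSum.lmap α

/-- `⊕ P_i → M` -/
abbrev gMap : (⨁ i, P i) →ₗ[A] M := DirectSum.toModule A ι M g

theorem directSumRight_lTensor_lmap :
    (TensorProduct.directSumRight A A B P').toLinearMap ∘ₗ (aMap α).lTensor B =
      DirectSum.lmap (fun i => (α i).lTensor B) ∘ₗ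
        (TensorProduct.directSumRight A A B P).toLinearMap := by
  apply TensorProduct.ext'
  intro b x
  induction x using DirectSum.induction_on with
  | zero => simp
  | of i p =>
    simp only [LinearMap.coe_comp, LinearEquiv.coe_coe, Function.comp_apply,
      LinearMap.lTensor_tmul]
    rw [← DirectSum.lof_eq_of A, DirectSum.lmap_lof, TensorProduct.directSumRight_tmul_lof,
      TensorProduct.directSumRight_tmul_lof, DirectSum.lmap_lof, LinearMap.lTensor_tmul]
  | add x y hx hy =>
    simp only [TensorProduct.tmul_add, map_add, hx, hy]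

theorem lTensor_gMap :
    (gMap g).lTensor B =
      DirectSum.toModule A ι (B ⊗[A] M) (fun i => (g i).lTensor B) ∘ₗ
        (TensorProduct.directSumRight A A B P).toLinearMap := by
  apply TensorProduct.ext'
  intro b x
  induction x using DirectSum.induction_on with
  | zero => simp
  | of i p =>
    simp only [LinearMap.coe_comp, LinearEquiv.coe_coe, Function.comp_apply,
      LinearMap.lTensor_tmul]
    rw [← DirectSum.lof_eq_of A, DirectSum.toModule_lof, TensorProduct.directSumRight_tmul_lof,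
      DirectSum.toModule_lof, LinearMap.lTensor_tmul]
  | add x y hx hy =>
    simp only [TensorProduct.tmul_add, map_add, hx, hy]

/-- the subgroup generated by the images of the kernels -/
def imSub : Submodule A (B ⊗[A] M) :=
  ⨆ i, Submodule.map ((g i).lTensor B) (LinearMap.ker ((α i).lTensor B))

theorem gMap_mem_imSub (x : B ⊗[A] (⨁ i, P i)) (hx : (aMap α).lTensor B x = 0) :
    (gMap g).lTensor B x ∈ imSub α g B := by
  classical
  let y := TensorProduct.directSumRight A A B P x
  have hy : ∀ i, (α i).lTensor B (y i) = 0 := by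
    intro i
    have h := LinearMap.congr_fun (directSumRight_lTensor_lmap α B) x
    simp only [LinearMap.coe_comp, LinearEquiv.coe_coe, Function.comp_apply] at h
    rw [hx, map_zero] at h
    have h2 := congrArg (fun z => z i) h
    simpa [DirectSum.lmap_apply] using h2.symm
  have h3 := LinearMap.congr_fun (lTensor_gMap g B) x
  simp only [LinearMap.coe_comp, LinearEquiv.coe_coe, Function.comp_apply] at h3
  rw [h3]
  change DirectSum.toModule A ι (B ⊗[A] M) (fun i => (g i).lTensor B) y ∈ _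
  rw [← DirectSum.sum_support_of y, map_sum]
  refine Submodule.sum_mem _ fun i _ => ?_
  rw [← DirectSum.lof_eq_of A, DirectSum.toModule_lof]
  exact Submodule.mem_iSup_of_mem i ⟨y i, hy i, rfl⟩

/-- `(g, a) : ⊕ P_i → M × ⊕ P'_i` -/
abbrev gaMap : (⨁ i, P i) →ₗ[A] (M × (⨁ i, P' i)) := (gMap g).prod (aMap α)

/-- the module `Q` -/
abbrev QMod : Type (max v w) := (M × (⨁ i, P' i)) ⧸ LinearMap.range (gaMap α g)

/-- the module `P` -/
abbrev PMod : Type (max v w) := (⨁ i, P' i) ⧸ LinearMap.range (aMap α)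

/-- `M → Q` -/
def jMap : M →ₗ[A] QMod α g := (LinearMap.range (gaMap α g)).mkQ ∘ₗ LinearMap.inl A M (⨁ i, P' i)

/-- `Q → P` -/
def qMap : QMod α g →ₗ[A] PMod α :=
  (LinearMap.range (gaMap α g)).liftQ
    ((LinearMap.range (aMap α)).mkQ ∘ₗ LinearMap.snd A M (⨁ i, P' i)) (by
      rintro _ ⟨x, rfl⟩
      rw [LinearMap.mem_ker, LinearMap.comp_apply]
      change (LinearMap.range (aMap α)).mkQ (aMap α x) = 0
      rw [Submodule.mkQ_apply, Submodule.Quotient.mk_eq_zero]
      exact ⟨x, rfl⟩)

theorem qMap_comp_mkQ : qMap α g ∘ₗ (LinearMap.range (gaMap α g)).mkQ =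
    (LinearMap.range (aMap α)).mkQ ∘ₗ LinearMap.snd A M (⨁ i, P' i) :=
  Submodule.liftQ_mkQ _ _ _

theorem qMap_comp_jMap : qMap α g ∘ₗ jMap α g = 0 := by
  unfold jMap
  rw [← LinearMap.comp_assoc, qMap_comp_mkQ, LinearMap.comp_assoc, LinearMap.snd_comp_inl,
    LinearMap.comp_zero]

theorem gaMap_eq : gaMap α g =
    LinearMap.inl A M (⨁ i, P' i) ∘ₗ gMap g + LinearMap.inr A M (⨁ i, P' i) ∘ₗ aMap α := by
  ext x <;> simp

theorem id_eq_inl_fst_add : (LinearMap.id : (M × (⨁ i, P' i)) →ₗ[A] _) =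
    LinearMap.inl A M (⨁ i, P' i) ∘ₗ LinearMap.fst A M (⨁ i, P' i) +
      LinearMap.inr A M (⨁ i, P' i) ∘ₗ LinearMap.snd A M (⨁ i, P' i) := by
  ext x <;> simp

/-- (2') -/
theorem mem_imSub_of_jMap_eq_zero (m : B ⊗[A] M) (hm : (jMap α g).lTensor B m = 0) :
    m ∈ imSub α g B := by
  unfold jMap at hm
  rw [LinearMap.lTensor_comp, LinearMap.comp_apply] at hm
  have hex := _root_.lTensor_exact (R := A) (M := ⨁ i, P i) (f := gaMap α g)
    (g := (LinearMap.range (gaMap α g)).mkQ) B (LinearMap.exact_map_mkQ_range _)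
    (Submodule.mkQ_surjective _)
  obtain ⟨x, hx⟩ := (hex _).mp hm
  have h1 := congrArg ((LinearMap.fst A M (⨁ i, P' i)).lTensor B) hx
  have h2 := congrArg ((LinearMap.snd A M (⨁ i, P' i)).lTensor B) hx
  rw [← LinearMap.comp_apply, ← LinearMap.comp_apply, ← LinearMap.lTensor_comp,
    ← LinearMap.lTensor_comp] at h1 h2
  rw [LinearMap.fst_prod, LinearMap.fst_comp_inl, LinearMap.lTensor_id, LinearMap.id_apply] at h1
  rw [LinearMap.snd_prod, LinearMap.snd_comp_inl, LinearMap.lTensor_zero, LinearMap.zero_apply] at h2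
  rw [← h1]
  exact gMap_mem_imSub α g B x h2

/-- (3) -/
theorem mem_range_jMap_of_qMap_eq_zero (z : B ⊗[A] QMod α g) (hz : (qMap α g).lTensor B z = 0) :
    ∃ m : B ⊗[A] M, (jMap α g).lTensor B m = z := by
  obtain ⟨w, rfl⟩ := LinearMap.lTensor_surjective B (Submodule.mkQ_surjective (LinearMap.range (gaMap α g))) z
  rw [← LinearMap.comp_apply, ← LinearMap.lTensor_comp, qMap_comp_mkQ, LinearMap.lTensor_comp,
    LinearMap.comp_apply] at hz
  have hex := _root_.lTensor_exact (R := A) (M := ⨁ i, P i) (f := aMap α)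
    (g := (LinearMap.range (aMap α)).mkQ) B (LinearMap.exact_map_mkQ_range _)
    (Submodule.mkQ_surjective _)
  obtain ⟨x, hx⟩ := (hex _).mp hz
  refine ⟨(LinearMap.fst A M (⨁ i, P' i)).lTensor B w - (gMap g).lTensor B x, ?_⟩
  unfold jMap
  rw [LinearMap.lTensor_comp, LinearMap.comp_apply]
  have hw : w = (LinearMap.inl A M (⨁ i, P' i)).lTensor B
        ((LinearMap.fst A M (⨁ i, P' i)).lTensor B w - (gMap g).lTensor B x) +
      (gaMap α g).lTensor B x := by
    rw [gaMap_eq, LinearMap.lTensor_add, LinearMap.add_apply, LinearMap.lTensor_comp,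
      LinearMap.lTensor_comp, LinearMap.comp_apply, LinearMap.comp_apply, hx, map_sub]
    have h0 := LinearMap.congr_fun (congrArg (LinearMap.lTensor B) (id_eq_inl_fst_add (A := A) (M := M) (P' := P'))) w
    rw [LinearMap.lTensor_id, LinearMap.id_apply, LinearMap.lTensor_add, LinearMap.add_apply,
      LinearMap.lTensor_comp, LinearMap.lTensor_comp, LinearMap.comp_apply,
      LinearMap.comp_apply] at h0
    conv_lhs => rw [h0]
    abel
  conv_rhs => rw [hw, map_add]
  rw [← LinearMap.comp_apply (f := LinearMap.lTensor B (LinearMap.range (gaMap α g)).mkQ)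
      (g := LinearMap.lTensor B (gaMap α g)), ← LinearMap.lTensor_comp,
    LinearMap.range_mkQ_comp, LinearMap.lTensor_zero, LinearMap.zero_apply, add_zero]

/-- (a') -/
theorem jMap_lTensor_g_eq_zero (i : ι) (x : B ⊗[A] P i) (hx : (α i).lTensor B x = 0) :
    (jMap α g).lTensor B ((g i).lTensor B x) = 0 := by
  unfold jMap
  rw [LinearMap.lTensor_comp, LinearMap.comp_apply]
  have h : (LinearMap.inl A M (⨁ i, P' i)).lTensor B ((g i).lTensor B x) =
      (gaMap α g).lTensor B ((DirectSum.lof A ι P i).lTensor B x) := by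
    rw [gaMap_eq, LinearMap.lTensor_add, LinearMap.add_apply]
    simp only [← LinearMap.comp_apply, ← LinearMap.lTensor_comp]
    have e1 : (LinearMap.inl A M (⨁ i, P' i) ∘ₗ gMap g) ∘ₗ DirectSum.lof A ι P i =
        LinearMap.inl A M (⨁ i, P' i) ∘ₗ g i := by
      ext p <;> simp [gMap]
    have e2 : (LinearMap.inr A M (⨁ i, P' i) ∘ₗ aMap α) ∘ₗ DirectSum.lof A ι P i =
        (LinearMap.inr A M (⨁ i, P' i) ∘ₗ DirectSum.lof A ι P' i) ∘ₗ α i := by
      ext p <;> simp [aMap]
    rw [e1, e2]
    simp only [LinearMap.lTensor_comp, LinearMap.comp_apply, hx, map_zero, add_zero]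
  rw [h, ← LinearMap.comp_apply, ← LinearMap.lTensor_comp, LinearMap.range_mkQ_comp,
    LinearMap.lTensor_zero, LinearMap.zero_apply]

end

end Groth.Agent.Lib.Helper14.AdeqCoker
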