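import Groth.Agent.Lib.Helper14.Adeq4
import Groth.Agent.Lib.Helper14.Adeq5
import Groth.Agent.Lib.Helper14.AdeqCoker

set_option autoImplicit false
open CategoryTheory Limits Opposite TensorProduct
universe u
namespace Groth.Agent.Lib.Helper14.AdeqLib
open Groth.Agent.Lib.Helper14.AdeqCoker
variable {A : Type u} [CommRing A]

theorem cokernel_π_surjective {F G : Adeq.MVF A} (f : F ⟶ G) (X : (Adeq.Alg A)ᵒᵖᵒᵖ) :
    Function.Surjective ((cokernel.π f).app X) :=
  PresheafOfModules.surjective_of_epi _ X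

theorem cokernel_π_app_comp {F G : Adeq.MVF A} (f : F ⟶ G) (X : (Adeq.Alg A)ᵒᵖᵒᵖ)
    (x : F.obj X) : (cokernel.π f).app X (f.app X x) = 0 := by
  rw [← comp_app_apply, cokernel.condition]
  rfl

/-- Stacks 46.3.6: the cokernel of a map from an adequate functor to `underline M` is adequate. -/
theorem adequate_cokernel_to_underline {F : Adeq.MVF A} (hF : Adeq.adequate A F)
    (M : ModuleCat.{u + 1} A) (φ : F ⟶ (Adeq.underline A).obj M) :
    Adeq.adequate A (cokernel φ) := by
  classical
  obtain ⟨ι, L, hL, c, hc, π, hπ⟩ := exists_epi_cofan_linAdequate F hF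
  choose Pc Pc' αc hfin hfree hfin' hfree' hiso using hL
  let e : ∀ i, L i ≅ kernel ((Adeq.underline A).map (αc i)) := fun i => (hiso i).some
  let ψ : ∀ i, L i ⟶ (Adeq.underline A).obj M := fun i => c.inj i ≫ π ≫ φ
  have hlift : ∀ i, ∃ g : Pc i ⟶ M,
      kernel.ι ((Adeq.underline A).map (αc i)) ≫ (Adeq.underline A).map g = (e i).inv ≫ ψ i := by
    intro i
    have := hfin i; have := hfree i; have := hfin' i; have := hfree' i
    exact exists_underline_map_lift_of_kernel (Pc i) (Pc' i) M (αc i) ((e i).inv ≫ ψ i)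
  choose gc hgc using hlift
  let α : ∀ i, Pc i →ₗ[A] Pc' i := fun i => (αc i).hom
  let g : ∀ i, Pc i →ₗ[A] M := fun i => (gc i).hom
  let Q : ModuleCat.{u + 1} A := ModuleCat.of A (QMod α g)
  let Pm : ModuleCat.{u + 1} A := ModuleCat.of A (PMod α)
  let jc : M ⟶ Q := ModuleCat.ofHom (jMap α g)
  let qc : Q ⟶ Pm := ModuleCat.ofHom (qMap α g)
  -- key pointwise fact (a')
  have ha : ∀ i, kernel.ι ((Adeq.underline A).map (αc i)) ≫ (Adeq.underline A).map (gc i) ≫
      (Adeq.underline A).map jc = 0 := by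
    intro i
    apply PresheafOfModules.hom_ext
    intro X
    apply ModuleCat.hom_ext
    apply LinearMap.ext
    intro k
    let B : Adeq.Alg A := X.unop.unop
    let x : B ⊗[A] Pc i := ofU (Pc i) B ((kernel.ι ((Adeq.underline A).map (αc i))).app (Adeq.pt B) k)
    have hx : (α i).lTensor B x = 0 := ker_ι_app_comp ((Adeq.underline A).map (αc i)) (Adeq.pt B) k
    exact congrArg (toU Q B) (jMap_lTensor_g_eq_zero α g B i x hx)
  have hφj : φ ≫ (Adeq.underline A).map jc = 0 := by
    rw [← cancel_epi π]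
    apply Cofan.IsColimit.hom_ext hc
    intro i
    rw [comp_zero, comp_zero]
    have h1 : c.inj i ≫ π ≫ φ = (e i).hom ≫ kernel.ι ((Adeq.underline A).map (αc i)) ≫
        (Adeq.underline A).map (gc i) := by
      rw [hgc i, Iso.hom_inv_id_assoc]
    rw [← Category.assoc, ← Category.assoc, Category.assoc (c.inj i), h1, Category.assoc,
      Category.assoc, ha i, comp_zero]
  let i' : cokernel φ ⟶ (Adeq.underline A).obj Q := cokernel.desc φ ((Adeq.underline A).map jc) hφj
  have hi'π : ∀ (X : (Adeq.Alg A)ᵒᵖᵒᵖ) (m : ((Adeq.underline A).obj M).obj X),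
      i'.app X ((cokernel.π φ).app X m) = ((Adeq.underline A).map jc).app X m := by
    intro X m
    rw [← comp_app_apply, cokernel.π_desc]
  refine adequate_of_exact qc i' ?_ ?_ ?_
  · -- injectivity
    intro X
    rw [injective_iff_map_eq_zero]
    intro cc hcc
    let B : Adeq.Alg A := X.unop.unop
    obtain ⟨m, rfl⟩ := cokernel_π_surjective φ X cc
    rw [hi'π] at hcc
    have hm : ofU M B m ∈ imSub α g B :=
      mem_imSub_of_jMap_eq_zero α g B (ofU M B m) (congrArg (ofU Q B) hcc)
    have hrange : ∀ m' ∈ imSub α g B, ∃ f : F.obj (Adeq.pt B), ofU M B (φ.app (Adeq.pt B) f) = m' := by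
      intro m' hm'
      refine Submodule.iSup_induction _ (motive := fun m' => ∃ f : F.obj (Adeq.pt B),
        ofU M B (φ.app (Adeq.pt B) f) = m') hm' ?_ ?_ ?_
      · rintro i _ ⟨x, hx, rfl⟩
        obtain ⟨k, hk⟩ := exists_ker_of_app_eq_zero ((Adeq.underline A).map (αc i)) (Adeq.pt B)
          (toU (Pc i) B x) hx
        refine ⟨(c.inj i ≫ π).app (Adeq.pt B) ((e i).inv.app (Adeq.pt B) k), ?_⟩
        rw [← comp_app_apply, ← comp_app_apply]
        have h2 : (e i).inv ≫ (c.inj i ≫ π) ≫ φ =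
            kernel.ι ((Adeq.underline A).map (αc i)) ≫ (Adeq.underline A).map (gc i) := by
          rw [hgc i, Category.assoc]
        rw [h2, comp_app_apply, hk]
        rfl
      · exact ⟨0, by rw [map_zero]; rfl⟩
      · rintro _ _ ⟨f, rfl⟩ ⟨f', rfl⟩
        exact ⟨f + f', by rw [map_add]; rfl⟩
    obtain ⟨f, hf⟩ := hrange _ hm
    have : m = φ.app (Adeq.pt B) f := (congrArg (toU M B) hf).symm
    rw [this]
    exact cokernel_π_app_comp φ (Adeq.pt B) f
  · -- composite zero
    rw [← cancel_epi (cokernel.π φ), comp_zero, ← Category.assoc, cokernel.π_desc,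
      ← Functor.map_comp]
    have : jc ≫ qc = 0 := by
      apply ModuleCat.hom_ext
      exact qMap_comp_jMap α g
    rw [this, Functor.map_zero]
  · -- exactness
    intro X y hy
    let B : Adeq.Alg A := X.unop.unop
    obtain ⟨m, hm⟩ := mem_range_jMap_of_qMap_eq_zero α g B (ofU Q B y) (congrArg (ofU Pm B) hy)
    refine ⟨(cokernel.π φ).app X (toU M B m), ?_⟩
    rw [hi'π]
    exact congrArg (toU Q B) hm

end Groth.Agent.Lib.Helper14.AdeqLib
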