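import Groth.Agent.Lib.Helper14.Adeq6

set_option autoImplicit false
open CategoryTheory Limits Opposite TensorProduct
universe u
namespace Groth.Agent.Lib.Helper14.AdeqLib
variable {A : Type u} [CommRing A]

/-- `A` as an `A`-algebra -/
abbrev A₀ (A : Type u) [CommRing A] : Adeq.Alg A := Adeq.algOf A A

/-- the structure map `A → B` -/
abbrev strMap (B : Adeq.Alg A) : A₀ A ⟶ B := CommAlgCat.ofHom (Algebra.ofId A B)

/-- `underline` is full. -/
theorem exists_underline_map_eq (M K : ModuleCat.{u + 1} A)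
    (ψ : (Adeq.underline A).obj M ⟶ (Adeq.underline A).obj K) :
    ∃ h : M ⟶ K, (Adeq.underline A).map h = ψ := by
  let ψA : A ⊗[A] M →ₗ[A] A ⊗[A] K := (ψ.app (Adeq.pt (A₀ A))).hom
  let h : M →ₗ[A] K := (TensorProduct.lid A K).toLinearMap ∘ₗ ψA ∘ₗ (TensorProduct.mk A A M 1)
  have hψA : ∀ m : M, ψA ((1 : A) ⊗ₜ[A] m) = (1 : A) ⊗ₜ[A] h m := by
    intro m
    have : ∀ z : A ⊗[A] K, z = (1 : A) ⊗ₜ[A] (TensorProduct.lid A K z) := by
      intro z
      induction z using TensorProduct.induction_on with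
      | zero => simp
      | tmul a k => rw [TensorProduct.lid_tmul, TensorProduct.tmul_smul, TensorProduct.smul_tmul', smul_eq_mul, mul_one]
      | add z z' hz hz' => rw [map_add, TensorProduct.tmul_add, ← hz, ← hz']
    exact this _
  refine ⟨ModuleCat.ofHom h, ?_⟩
  apply PresheafOfModules.hom_ext
  intro X
  apply ModuleCat.hom_ext
  apply LinearMap.ext
  intro y
  let B : Adeq.Alg A := X.unop.unop
  change toU K B (h.baseChange B (ofU M B y)) = ψ.app (Adeq.pt B) y
  have key : ∀ y' : B ⊗[A] M, toU K B (h.baseChange B y') = ψ.app (Adeq.pt B) (toU M B y') := by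
    intro y'
    induction y' using TensorProduct.induction_on with
    | zero => rw [map_zero]; exact (map_zero _).symm
    | tmul b m =>
      have e1 : toU M B (b ⊗ₜ[A] m) =
          b • ((Adeq.underline A).obj M).map (Adeq.ptHom (strMap B)) (toU M (A₀ A) ((1 : A) ⊗ₜ[A] m)) := by
        change b ⊗ₜ[A] m = b • ((Algebra.ofId A B).toLinearMap.rTensor M ((1 : A) ⊗ₜ[A] m))
        rw [LinearMap.rTensor_tmul, AlgHom.toLinearMap_apply, map_one, TensorProduct.smul_tmul',
          smul_eq_mul, mul_one]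
      rw [e1]
      have e2 := (ψ.app (Adeq.pt B)).hom.map_smul b
        (((Adeq.underline A).obj M).map (Adeq.ptHom (strMap B)) (toU M (A₀ A) ((1 : A) ⊗ₜ[A] m)))
      refine Eq.trans ?_ e2.symm
      have e3 := PresheafOfModules.naturality_apply ψ (Adeq.ptHom (strMap B))
        (toU M (A₀ A) ((1 : A) ⊗ₜ[A] m))
      have e4 : ψ.app (Adeq.pt (A₀ A)) (toU M (A₀ A) ((1 : A) ⊗ₜ[A] m)) =
          toU K (A₀ A) ((1 : A) ⊗ₜ[A] h m) := hψA m
      rw [e4] at e3
      refine Eq.trans ?_ (congrArg (fun t => b • t) e3.symm)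
      change (b ⊗ₜ[A] h m : B ⊗[A] K) = b • ((Algebra.ofId A B).toLinearMap.rTensor K ((1 : A) ⊗ₜ[A] h m))
      rw [LinearMap.rTensor_tmul, AlgHom.toLinearMap_apply, map_one, TensorProduct.smul_tmul',
        smul_eq_mul, mul_one]
    | add y₁ y₂ h₁ h₂ =>
      rw [map_add]
      change toU K B (h.baseChange B y₁) + toU K B (h.baseChange B y₂) = _
      rw [h₁, h₂]
      exact (map_add _ _ _).symm
  exact key (ofU M B y)


theorem exists_of_cokernel_π_eq_zero {F G : Adeq.MVF A} (f : F ⟶ G) (X : (Adeq.Alg A)ᵒᵖᵒᵖ)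
    (y : G.obj X) (hy : (cokernel.π f).app X y = 0) : ∃ x : F.obj X, f.app X x = y := by
  have hS : (ShortComplex.mk f (cokernel.π f) (cokernel.condition f)).Exact :=
    ShortComplex.exact_of_g_is_cokernel _ (cokernelIsCokernel f)
  exact exists_of_exact _ hS X y hy

theorem baseChange_comp_apply {M N K : ModuleCat.{u + 1} A} (f : M ⟶ N) (g : N ⟶ K)
    (X : (Adeq.Alg A)ᵒᵖᵒᵖ) (y : ((Adeq.underline A).obj M).obj X) :
    ((Adeq.underline A).map (f ≫ g)).app X y =
      ((Adeq.underline A).map g).app X (((Adeq.underline A).map f).app X y) := by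
  rw [Functor.map_comp]
  rfl

/-- S8744: the kernel of a morphism of adequate functors is adequate. -/
theorem adequate_kernel_of_adequate {F G : Adeq.MVF A} (φ : F ⟶ G)
    (hF : Adeq.adequate A F) (hG : Adeq.adequate A G) : Adeq.adequate A (kernel φ) := by
  obtain ⟨M, _, _, i, hi, _, _⟩ := exists_exact_of_adequate hF
  obtain ⟨N, _, _, i', hi', _, _⟩ := exists_exact_of_adequate hG
  let W : ModuleCat.{u + 1} A := ModuleCat.of A (M × N)
  let inlc : M ⟶ W := ModuleCat.ofHom (LinearMap.inl A M N)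
  let inrc : N ⟶ W := ModuleCat.ofHom (LinearMap.inr A M N)
  let fstc : W ⟶ M := ModuleCat.ofHom (LinearMap.fst A M N)
  let sndc : W ⟶ N := ModuleCat.ofHom (LinearMap.snd A M N)
  have h11 : inlc ≫ fstc = 𝟙 M := by apply ModuleCat.hom_ext; exact LinearMap.fst_comp_inl A M N
  have h12 : inlc ≫ sndc = 0 := by apply ModuleCat.hom_ext; exact LinearMap.snd_comp_inl A M N
  have h21 : inrc ≫ fstc = 0 := by apply ModuleCat.hom_ext; exact LinearMap.fst_comp_inr A M N
  have h22 : inrc ≫ sndc = 𝟙 N := by apply ModuleCat.hom_ext; exact LinearMap.snd_comp_inr A M N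
  let ψ : F ⟶ (Adeq.underline A).obj W :=
    i ≫ (Adeq.underline A).map inlc + (φ ≫ i') ≫ (Adeq.underline A).map inrc
  have hψ1 : ψ ≫ (Adeq.underline A).map fstc = i := by
    simp only [ψ, Preadditive.add_comp, Category.assoc, ← Functor.map_comp, h11, h21,
      CategoryTheory.Functor.map_id, Functor.map_zero, Category.comp_id, comp_zero, add_zero]
  have hψ2 : ψ ≫ (Adeq.underline A).map sndc = φ ≫ i' := by
    simp only [ψ, Preadditive.add_comp, Category.assoc, ← Functor.map_comp, h12, h22,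
      CategoryTheory.Functor.map_id, Functor.map_zero, Category.comp_id, comp_zero, zero_add]
  have hψinj : ∀ X, Function.Injective (ψ.app X) := by
    intro X x x' hxx
    apply hi X
    rw [← hψ1, comp_app_apply, comp_app_apply, hxx]
  have hH := adequate_cokernel_to_underline hF W ψ
  obtain ⟨K, _, _, k, hk, _, _⟩ := exists_exact_of_adequate hH
  obtain ⟨h, hh⟩ := exists_underline_map_eq W K (cokernel.π ψ ≫ k)
  let V : ModuleCat.{u + 1} A := ModuleCat.of A (K × N)
  let hs : W ⟶ V := ModuleCat.ofHom (LinearMap.prod h.hom sndc.hom)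
  let fstV : V ⟶ K := ModuleCat.ofHom (LinearMap.fst A K N)
  let sndV : V ⟶ N := ModuleCat.ofHom (LinearMap.snd A K N)
  let inlV : K ⟶ V := ModuleCat.ofHom (LinearMap.inl A K N)
  let inrV : N ⟶ V := ModuleCat.ofHom (LinearMap.inr A K N)
  have hs1 : hs ≫ fstV = h := by apply ModuleCat.hom_ext; exact LinearMap.fst_prod _ _
  have hs2 : hs ≫ sndV = sndc := by apply ModuleCat.hom_ext; exact LinearMap.snd_prod _ _
  have hs3 : hs = h ≫ inlV + sndc ≫ inrV := by
    apply ModuleCat.hom_ext
    apply LinearMap.ext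
    intro w
    apply Prod.ext
    · change h.hom w = h.hom w + 0
      rw [add_zero]
    · change w.2 = 0 + w.2
      rw [zero_add]
  refine adequate_of_exact hs (kernel.ι φ ≫ ψ) ?_ ?_ ?_
  · intro X x x' hxx
    apply ker_ι_injective φ X
    apply hψinj X
    exact hxx
  · rw [hs3, Functor.map_add, Preadditive.comp_add, Functor.map_comp, Functor.map_comp, hh]
    have e1 : (kernel.ι φ ≫ ψ) ≫ (cokernel.π ψ ≫ k) ≫ (Adeq.underline A).map inlV = 0 := by
      rw [Category.assoc, ← Category.assoc ψ, ← Category.assoc ψ, cokernel.condition, zero_comp,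
        zero_comp, comp_zero]
    have e2 : (kernel.ι φ ≫ ψ) ≫ (Adeq.underline A).map sndc ≫ (Adeq.underline A).map inrV = 0 := by
      rw [Category.assoc, ← Category.assoc ψ, hψ2, ← Category.assoc, ← Category.assoc,
        kernel.condition, zero_comp, zero_comp]
    rw [e1, e2, add_zero]
  · intro X w hw
    have hw1 : ((Adeq.underline A).map h).app X w = 0 := by
      rw [← hs1, baseChange_comp_apply, hw, map_zero]
    have hw2 : ((Adeq.underline A).map sndc).app X w = 0 := by
      rw [← hs2, baseChange_comp_apply, hw, map_zero]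
    rw [hh, comp_app_apply] at hw1
    have hw3 : (cokernel.π ψ).app X w = 0 := by
      apply hk X
      rw [hw1, map_zero]
    obtain ⟨f, hf⟩ := exists_of_cokernel_π_eq_zero ψ X w hw3
    have hφf : φ.app X f = 0 := by
      apply hi' X
      rw [map_zero, ← comp_app_apply, ← hψ2, comp_app_apply, hf, hw2]
    obtain ⟨f', hf'⟩ := exists_ker_of_app_eq_zero φ X f hφf
    exact ⟨f', by rw [comp_app_apply, hf', hf]⟩

end Groth.Agent.Lib.Helper14.AdeqLib
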