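import Groth.Agent.Lib.Helper14.Adeq7

set_option autoImplicit false
open CategoryTheory Limits Opposite TensorProduct
universe u
namespace Groth.Agent.Lib.Helper14.AdeqLib
variable {A : Type u} [CommRing A]

theorem nonempty_iso_kernel_of_exact {K X Y : Adeq.MVF A} (j : K ⟶ X) (p : X ⟶ Y)
    (hj : ∀ Z, Function.Injective (j.app Z)) (w : j ≫ p = 0)
    (hex : ∀ (Z : (Adeq.Alg A)ᵒᵖᵒᵖ) (y : X.obj Z), p.app Z y = 0 → ∃ x : K.obj Z, j.app Z x = y) :
    Nonempty (K ≅ kernel p) := by
  have : Mono j := PresheafOfModules.mono_of_injective (fun Z => hj Z)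
  have hS : (ShortComplex.mk j p w).Exact := exact_of_pointwise _ hex
  exact ⟨IsLimit.conePointUniqueUpToIso hS.fIsKernel (limit.isLimit _)⟩

/-- S8743: the cokernel of a morphism of adequate functors is adequate. -/
theorem adequate_cokernel_of_adequate {F G : Adeq.MVF A} (φ : F ⟶ G)
    (hF : Adeq.adequate A F) (hG : Adeq.adequate A G) : Adeq.adequate A (cokernel φ) := by
  obtain ⟨N, _, _, i', hi', _, _⟩ := exists_exact_of_adequate hG
  let φ' := φ ≫ i'
  have hX : Adeq.adequate A (cokernel φ') := adequate_cokernel_to_underline hF N φ'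
  have hY : Adeq.adequate A (cokernel i') := adequate_cokernel_to_underline hG N i'
  let p : cokernel φ' ⟶ cokernel i' := cokernel.desc φ' (cokernel.π i') (by
    rw [Category.assoc, cokernel.condition, comp_zero])
  let j : cokernel φ ⟶ cokernel φ' := cokernel.desc φ (i' ≫ cokernel.π φ') (by
    rw [← Category.assoc, cokernel.condition])
  have hjπ : ∀ (Z : (Adeq.Alg A)ᵒᵖᵒᵖ) (g : G.obj Z),
      j.app Z ((cokernel.π φ).app Z g) = (cokernel.π φ').app Z (i'.app Z g) := by
    intro Z g
    rw [← comp_app_apply, cokernel.π_desc]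
    rfl
  have hpπ : ∀ (Z : (Adeq.Alg A)ᵒᵖᵒᵖ) (n : ((Adeq.underline A).obj N).obj Z),
      p.app Z ((cokernel.π φ').app Z n) = (cokernel.π i').app Z n := by
    intro Z n
    rw [← comp_app_apply, cokernel.π_desc]
  have hiso : Nonempty (cokernel φ ≅ kernel p) := by
    refine nonempty_iso_kernel_of_exact j p ?_ ?_ ?_
    · intro Z
      rw [injective_iff_map_eq_zero]
      intro c hc
      obtain ⟨g, rfl⟩ := cokernel_π_surjective φ Z c
      rw [hjπ] at hc
      obtain ⟨f, hf⟩ := exists_of_cokernel_π_eq_zero φ' Z _ hc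
      have : φ.app Z f = g := hi' Z hf
      rw [← this]
      exact cokernel_π_app_comp φ Z f
    · rw [← cancel_epi (cokernel.π φ), comp_zero, ← Category.assoc, cokernel.π_desc, Category.assoc,
        cokernel.π_desc, cokernel.condition]
    · intro Z x hx
      obtain ⟨n, rfl⟩ := cokernel_π_surjective φ' Z x
      rw [hpπ] at hx
      obtain ⟨g, hg⟩ := exists_of_cokernel_π_eq_zero i' Z n hx
      exact ⟨(cokernel.π φ).app Z g, by rw [hjπ, hg]⟩
  obtain ⟨e⟩ := hiso
  exact ObjectProperty.prop_of_iso _ e.symm (adequate_kernel_of_adequate p hX hY)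

end Groth.Agent.Lib.Helper14.AdeqLib
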