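import Mathlib.LinearAlgebra.DirectSum.TensorProduct
import Mathlib.RingTheory.TensorProduct.Basic

/-! Pure algebra for direct sums of adequate functors. -/

set_option autoImplicit false
open TensorProduct DirectSum
universe u v w
namespace Groth.Agent.Lib.Helper14.AdeqSum

noncomputable section

variable {A : Type u} [CommRing A] {ι : Type w} [DecidableEq ι]
  {P P' : ι → Type v} [∀ i, AddCommGroup (P i)] [∀ i, Module A (P i)]
  [∀ i, AddCommGroup (P' i)] [∀ i, Module A (P' i)]
  (α : ∀ i, P i →ₗ[A] P' i)
  (B : Type u) [AddCommGroup B] [Module A B]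

theorem directSumRight_lTensor_lof (i : ι) (z : B ⊗[A] P i) :
    TensorProduct.directSumRight A A B P ((DirectSum.lof A ι P i).lTensor B z) =
      DirectSum.lof A ι (fun i => B ⊗[A] P i) i z := by
  induction z using TensorProduct.induction_on with
  | zero => simp
  | tmul b p => rw [LinearMap.lTensor_tmul, TensorProduct.directSumRight_tmul_lof]
  | add x y hx hy => simp only [map_add, hx, hy]

theorem directSumRight_lTensor_lmap :
    (TensorProduct.directSumRight A A B P').toLinearMap ∘ₗ (DirectSum.lmap α).lTensor B =
      DirectSum.lmap (fun i => (α i).lTensor B) ∘ₗ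
        (TensorProduct.directSumRight A A B P).toLinearMap := by
  apply TensorProduct.ext'
  intro b x
  induction x using DirectSum.induction_on with
  | zero => simp
  | of i p =>
    simp only [LinearMap.coe_comp, LinearEquiv.coe_coe, Function.comp_apply,
      LinearMap.lTensor_tmul]
    rw [← DirectSum.lof_eq_of A, DirectSum.lmap_lof, TensorProduct.directSumRight_tmul_lof,
      TensorProduct.directSumRight_tmul_lof, DirectSum.lmap_lof, LinearMap.lTensor_tmul]
  | add x y hx hy =>
    simp only [TensorProduct.tmul_add, map_add, hx, hy]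

theorem exists_decomp (y : B ⊗[A] (⨁ i, P i)) (hy : (DirectSum.lmap α).lTensor B y = 0) :
    ∃ (s : Finset ι) (z : ∀ i, B ⊗[A] P i), (∀ i, (α i).lTensor B (z i) = 0) ∧
      y = ∑ i ∈ s, (DirectSum.lof A ι P i).lTensor B (z i) := by
  classical
  let y' := TensorProduct.directSumRight A A B P y
  have hy' : ∀ i, (α i).lTensor B (y' i) = 0 := by
    intro i
    have h := LinearMap.congr_fun (directSumRight_lTensor_lmap α B) y
    simp only [LinearMap.coe_comp, LinearEquiv.coe_coe, Function.comp_apply] at h
    rw [hy, map_zero] at h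
    have h2 := congrArg (fun z => z i) h
    simpa [DirectSum.lmap_apply] using h2.symm
  refine ⟨DFinsupp.support y', fun i => y' i, hy', ?_⟩
  apply (TensorProduct.directSumRight A A B P).injective
  rw [map_sum]
  simp_rw [directSumRight_lTensor_lof]
  simp_rw [DirectSum.lof_eq_of A]
  exact (DirectSum.sum_support_of y').symm

theorem eq_zero_of_sum_lof (s : Finset ι) (z : ∀ i, B ⊗[A] P i)
    (h : ∑ i ∈ s, (DirectSum.lof A ι P i).lTensor B (z i) = 0) (i : ι) (hi : i ∈ s) :
    z i = 0 := by
  have h1 := congrArg (TensorProduct.directSumRight A A B P) h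
  rw [map_sum, map_zero] at h1
  simp_rw [directSumRight_lTensor_lof] at h1
  have h2 := congrArg (DirectSum.component A ι (fun i => B ⊗[A] P i) i) h1
  rw [map_sum, map_zero, Finset.sum_eq_single i] at h2
  · rwa [DirectSum.component.lof_self] at h2
  · intro k _ hki
    rw [DirectSum.component.of, dif_neg hki]
  · intro hi'
    exact absurd hi hi'

end

end Groth.Agent.Lib.Helper14.AdeqSum
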