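import Groth.Agent.Lib.Helper14.Adeq8
import Groth.Agent.Lib.Helper14.AdeqSum
import Mathlib.CategoryTheory.Limits.Preserves.Shapes.Products
import Mathlib.CategoryTheory.Limits.Constructions.LimitsOfProductsAndEqualizers

set_option autoImplicit false
open CategoryTheory Limits Opposite TensorProduct
universe u u₁ v w
namespace Groth.Agent.Lib.Helper14.AdeqLib
open Groth.Agent.Lib.Helper14.AdeqSum
variable {A : Type u} [CommRing A]

/-- in a module category, the point of a colimit cofan is spanned by the images of the injections -/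
theorem moduleCat_cofan_mem_iSup {R : Type u₁} [Ring R] {ι : Type w} {Z : ι → ModuleCat.{v} R}
    (c : Cofan Z) (hc : IsColimit c) (x : c.pt) :
    x ∈ ⨆ j, LinearMap.range (c.inj j).hom := by
  let S : Submodule R c.pt := ⨆ j, LinearMap.range (c.inj j).hom
  let q : c.pt ⟶ ModuleCat.of R (c.pt ⧸ S) := ModuleCat.ofHom S.mkQ
  have hq : q = 0 := by
    apply Cofan.IsColimit.hom_ext hc
    intro j
    rw [comp_zero]
    ext y
    change S.mkQ ((c.inj j).hom y) = 0
    rw [Submodule.mkQ_apply, Submodule.Quotient.mk_eq_zero]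
    exact Submodule.mem_iSup_of_mem j ⟨y, rfl⟩
  have := congrArg (fun f => f.hom x) hq
  change S.mkQ x = 0 at this
  rwa [Submodule.mkQ_apply, Submodule.Quotient.mk_eq_zero] at this

theorem exists_sum_of_sigma {ι : Type (u + 1)} (F : ι → Adeq.MVF A) (X : (Adeq.Alg A)ᵒᵖᵒᵖ)
    (x : (∐ F).obj X) :
    ∃ (s : Finset ι) (xs : ∀ j, (F j).obj X), x = ∑ j ∈ s, (Sigma.ι F j).app X (xs j) := by
  classical
  have hc := isColimitOfHasCoproductOfPreservesColimit (ev X) F
  have hx := moduleCat_cofan_mem_iSup _ hc x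
  rw [Submodule.mem_iSup_iff_exists_finsupp] at hx
  obtain ⟨f, hf, hfx⟩ := hx
  choose xs hxs using hf
  refine ⟨f.support, xs, ?_⟩
  rw [← hfx]
  unfold Finsupp.sum
  refine Finset.sum_congr rfl fun j _ => ?_
  exact (hxs j).symm

/-- a coproduct of adequate functors is adequate -/
theorem adequate_sigma {ι : Type (u + 1)} (F : ι → Adeq.MVF A)
    (hF : ∀ j, Adeq.adequate A (F j)) : Adeq.adequate A (∐ F) := by
  classical
  choose M N φ i hi hw hex using fun j => exists_exact_of_adequate (hF j)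
  let Mt : ModuleCat.{u + 1} A := ModuleCat.of A (DirectSum ι (fun j => M j))
  let Nt : ModuleCat.{u + 1} A := ModuleCat.of A (DirectSum ι (fun j => N j))
  let α : ∀ j, M j →ₗ[A] N j := fun j => (φ j).hom
  let Φ : Mt ⟶ Nt := ModuleCat.ofHom (DirectSum.lmap α)
  let lo : ∀ j, M j ⟶ Mt := fun j => ModuleCat.ofHom (DirectSum.lof A ι (fun j => M j) j)
  let lo' : ∀ j, N j ⟶ Nt := fun j => ModuleCat.ofHom (DirectSum.lof A ι (fun j => N j) j)
  have hlo : ∀ j, lo j ≫ Φ = φ j ≫ lo' j := by
    intro j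
    apply ModuleCat.hom_ext
    apply LinearMap.ext
    intro m
    exact DirectSum.lmap_lof α j m
  let I : ∐ F ⟶ (Adeq.underline A).obj Mt :=
    Sigma.desc (fun j => i j ≫ (Adeq.underline A).map (lo j))
  have hI : ∀ (j : ι) (X : (Adeq.Alg A)ᵒᵖᵒᵖ) (x : (F j).obj X),
      I.app X ((Sigma.ι F j).app X x) = ((Adeq.underline A).map (lo j)).app X ((i j).app X x) := by
    intro j X x
    rw [← comp_app_apply, Sigma.ι_desc]
    rfl
  refine adequate_of_exact Φ I ?_ ?_ ?_
  · intro X
    rw [injective_iff_map_eq_zero]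
    intro x hx
    let B : Adeq.Alg A := X.unop.unop
    obtain ⟨s, xs, rfl⟩ := exists_sum_of_sigma F X x
    rw [map_sum] at hx
    simp_rw [hI] at hx
    have h0 : ∀ j ∈ s, ofU (M j) B ((i j).app (Adeq.pt B) (xs j)) = 0 :=
      eq_zero_of_sum_lof (P := fun j => M j) B s
        (fun j => ofU (M j) B ((i j).app (Adeq.pt B) (xs j))) hx
    refine Finset.sum_eq_zero fun j hj => ?_
    have : xs j = 0 := by
      apply hi j X
      rw [map_zero]
      exact h0 j hj
    rw [this, map_zero]
  · apply Sigma.hom_ext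
    intro j
    rw [comp_zero, Sigma.ι_desc_assoc, Category.assoc, ← Functor.map_comp, hlo j,
      Functor.map_comp, ← Category.assoc, hw j, zero_comp]
  · intro X y hy
    let B : Adeq.Alg A := X.unop.unop
    obtain ⟨s, z, hz, hyz⟩ := exists_decomp α B (ofU Mt B y) hy
    have hx : ∀ j, ∃ x : (F j).obj X, (i j).app X x = toU (M j) B (z j) := fun j =>
      hex j X (toU (M j) B (z j)) (hz j)
    choose xs hxs using hx
    refine ⟨∑ j ∈ s, (Sigma.ι F j).app X (xs j), ?_⟩
    rw [map_sum]
    simp_rw [hI, hxs]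
    exact hyz.symm

end Groth.Agent.Lib.Helper14.AdeqLib
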