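import Groth.Agent.Lib.Helper14.Adeq23

set_option autoImplicit false
open CategoryTheory Limits Opposite TensorProduct
universe u
namespace Groth.Agent.Lib.Helper14.AdeqLib

section pi
variable {R : Type u} [CommRing R] {ι : Type (u + 1)} (G : ι → Adeq.MVF R)

example : HasProduct G := inferInstance

theorem pi_ext (X : (Adeq.Alg R)ᵒᵖᵒᵖ) (y y' : (∏ᶜ G).obj X)
    (h : ∀ j, (Pi.π G j).app X y = (Pi.π G j).app X y') : y = y' := by
  have hc : IsLimit ((PresheafOfModules.evaluation (Adeq.ringOf R) X).mapCone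
      (limit.cone (Discrete.functor G))) :=
    isLimitOfPreserves _ (limit.isLimit _)
  refine Concrete.isLimit_ext _ hc y y' ?_
  rintro ⟨j⟩
  exact h j

theorem pi_exists (X : (Adeq.Alg R)ᵒᵖᵒᵖ) (f : ∀ j, (G j).obj X) :
    ∃ y : (∏ᶜ G).obj X, ∀ j, (Pi.π G j).app X y = f j := by
  have hc : IsLimit ((PresheafOfModules.evaluation (Adeq.ringOf R) X).mapCone
      (limit.cone (Discrete.functor G))) :=
    isLimitOfPreserves _ (limit.isLimit _)
  have hc' := isLimitOfPreserves (forget (ModuleCat (X.unop.unop : Type u))) hc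
  let s : ((Discrete.functor G ⋙ PresheafOfModules.evaluation (Adeq.ringOf R) X) ⋙
      forget (ModuleCat (X.unop.unop : Type u))).sections :=
    ⟨fun j => f j.as, by
      rintro ⟨j⟩ ⟨k⟩ ⟨⟨h⟩⟩
      cases h
      simp⟩
  refine ⟨(Types.isLimitEquivSections hc').symm s, fun j => ?_⟩
  exact Types.isLimitEquivSections_symm_apply hc' s ⟨j⟩

end pi

section family
variable {R : Type u} [CommRing R] {ι : Type (u + 1)} [Finite ι] (A : ι → Type u)
  [∀ j, CommRing (A j)] [∀ j, Algebra R (A j)]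

/-- `T_j F = push (restr F)` along `R → A j` -/
noncomputable abbrev TT (j : ι) (F : Adeq.MVF R) : Adeq.MVF R :=
  (Adeq.push R (A j)).obj ((Adeq.restr R (A j)).obj F)

/-- descent of adequacy along a finite family of algebras -/
theorem adequate_of_family_descent (F : Adeq.MVF R)
    (h₁ : ∀ j, Adeq.adequate (A j) ((Adeq.restr R (A j)).obj F))
    (h₂ : ∀ B : Adeq.Alg R,
      (∀ x x' : F.obj (Adeq.pt B),
        (∀ j, F.map (Adeq.ptHom (Adeq.Alg.unit R (A j) B)) x =
          F.map (Adeq.ptHom (Adeq.Alg.unit R (A j) B)) x') → x = x') ∧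
      (∀ y : ∀ j, F.obj (Adeq.pt ((Adeq.Alg.restr R (A j)).obj ((Adeq.Alg.baseChange R (A j)).obj B))),
        (∀ j k, F.map (Adeq.ptHom (Adeq.Alg.unit R (A k)
              ((Adeq.Alg.restr R (A j)).obj ((Adeq.Alg.baseChange R (A j)).obj B)))) (y j) =
            F.map (Adeq.ptHom ((Adeq.Alg.restr R (A k)).map ((Adeq.Alg.baseChange R (A k)).map
              (Adeq.Alg.unit R (A j) B)))) (y k)) →
        ∃ x : F.obj (Adeq.pt B), ∀ j, F.map (Adeq.ptHom (Adeq.Alg.unit R (A j) B)) x = y j)) :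
    Adeq.adequate R F := by
  let P1 : Adeq.MVF R := ∏ᶜ (fun j => TT A j F)
  let P2 : Adeq.MVF R := ∏ᶜ (fun p : ι × ι => TT A p.1 (TT A p.2 F))
  have hT : ∀ j, Adeq.adequate R (TT A j F) := fun j => adequate_push _ (h₁ j)
  have hP1 : Adeq.adequate R P1 := (Adeq.adequate R).prop_product hT
  have hP2 : Adeq.adequate R P2 :=
    (Adeq.adequate R).prop_product (fun p => adequate_push _ (adequate_restr _ (hT p.2)))
  let e : F ⟶ P1 := Pi.lift (fun j => etaU (A j) F)
  let d : P1 ⟶ P2 := Pi.lift (fun p : ι × ι =>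
    Pi.π (fun j => TT A j F) p.2 ≫ etaU (A p.1) (TT A p.2 F) -
      Pi.π (fun j => TT A j F) p.1 ≫
        (Adeq.push R (A p.1)).map ((Adeq.restr R (A p.1)).map (etaU (A p.2) F)))
  have w : e ≫ d = 0 := by
    apply Pi.hom_ext
    intro p
    rw [Category.assoc, Pi.lift_π, zero_comp, Preadditive.comp_sub, ← Category.assoc,
      ← Category.assoc, Pi.lift_π, Pi.lift_π, etaU_natural, sub_self]
  have hj : ∀ Z, Function.Injective (e.app Z) := by
    intro X x x' hxx
    refine (h₂ X.unop.unop).1 x x' (fun j => ?_)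
    have h1 : (Pi.π (fun j => TT A j F) j).app X (e.app X x) =
        (Pi.π (fun j => TT A j F) j).app X (e.app X x') := by rw [hxx]
    rw [← comp_app_apply, ← comp_app_apply, Pi.lift_π] at h1
    exact h1
  have hex : ∀ (Z : (Adeq.Alg R)ᵒᵖᵒᵖ) (y : P1.obj Z), d.app Z y = 0 →
      ∃ x : F.obj Z, e.app Z x = y := by
    intro X y hy
    obtain ⟨x, hx⟩ := (h₂ X.unop.unop).2 (fun j => (Pi.π (fun j => TT A j F) j).app X y) (by
      intro j k
      have h1 : (Pi.π (fun p : ι × ι => TT A p.1 (TT A p.2 F)) (j, k)).app X (d.app X y) = 0 := by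
        rw [hy, map_zero]
      rw [← comp_app_apply, Pi.lift_π] at h1
      have h2 : (etaU (A j) (TT A k F)).app X ((Pi.π (fun j => TT A j F) k).app X y) -
          ((Adeq.push R (A j)).map ((Adeq.restr R (A j)).map (etaU (A k) F))).app X
            ((Pi.π (fun j => TT A j F) j).app X y) = 0 := h1
      rw [sub_eq_zero] at h2
      exact h2.symm)
    refine ⟨x, ?_⟩
    apply pi_ext
    intro j
    rw [← comp_app_apply, Pi.lift_π]
    exact hx j
  obtain ⟨i⟩ := nonempty_iso_kernel_of_exact e d hj w hex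
  exact (Adeq.adequate R).prop_of_iso i.symm (adequate_kernel_of_adequate d hP1 hP2)

end family

end Groth.Agent.Lib.Helper14.AdeqLib
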