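import Groth.Prelude.Def_Adeq2
import Groth.Agent.Lib.Helper14.AdeqBig1

set_option autoImplicit false
open CategoryTheory Limits Opposite TensorProduct AlgebraicGeometry
universe u
namespace Groth.Agent.Lib.Helper14.AdeqBig

open Groth.Agent.Lib.Helper14.AdeqLib

section pushout
variable {R : Type u} [CommRing R] (A₂ : Type u) [CommRing A₂] [Algebra R A₂]

/-- underlying ring map of a map of algebras, in `CommRingCat` -/
abbrev rh {B B' : Adeq.Alg R} (f : B ⟶ B') : CommRingCat.of B ⟶ CommRingCat.of B' :=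
  CommRingCat.ofHom f.hom.toRingHom

theorem rh_comp {B B' B'' : Adeq.Alg R} (f : B ⟶ B') (g : B' ⟶ B'') : rh (f ≫ g) = rh f ≫ rh g := rfl

theorem isPushout_unit {B C : Adeq.Alg R} (f : B ⟶ C) :
    IsPushout (rh f) (rh (Adeq.Alg.unit R A₂ B)) (rh (Adeq.Alg.unit R A₂ C))
      (rh ((Adeq.Alg.restr R A₂).map ((Adeq.Alg.baseChange R A₂).map f))) := by
  have t := (CommRingCat.isPushout_tensorProduct R A₂ B).flip
  have s' := (CommRingCat.isPushout_tensorProduct R A₂ C).flip
  have e1 : CommRingCat.ofHom (algebraMap R B) ≫ rh f = CommRingCat.ofHom (algebraMap R C) := by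
    ext r
    exact f.hom.commutes r
  have e2 : CommRingCat.ofHom (S := A₂ ⊗[R] B) Algebra.TensorProduct.includeLeftRingHom ≫
      rh ((Adeq.Alg.restr R A₂).map ((Adeq.Alg.baseChange R A₂).map f)) =
      CommRingCat.ofHom (S := A₂ ⊗[R] C) Algebra.TensorProduct.includeLeftRingHom := by
    ext x
    change Algebra.TensorProduct.map (AlgHom.id A₂ A₂) f.hom (x ⊗ₜ[R] (1 : B)) = _
    rw [Algebra.TensorProduct.map_tmul, map_one]
    rfl
  have p : rh f ≫ rh (Adeq.Alg.unit R A₂ C) =
      rh (Adeq.Alg.unit R A₂ B) ≫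
        rh ((Adeq.Alg.restr R A₂).map ((Adeq.Alg.baseChange R A₂).map f)) := by
    rw [← rh_comp, ← rh_comp, unit_natural]
  refine IsPushout.of_left ?_ p t
  rw [e1, e2]
  exact s'

end pushout

section sheaf
variable (K : Precoverage Scheme.{u}) [BigSite.OSh K] {S : Scheme.{u}} {R : CommRingCat.{u}}
  (a : Spec R ⟶ S) (M : BigSite.Mod K S)
variable {ι : Type (u + 1)} (A : ι → Type u) [∀ j, CommRing (A j)] [∀ j, Algebra R (A j)]

/-- the object `Spec B → Spec R → S` -/
noncomputable abbrev UB (B : Adeq.Alg R) : Over S := (Adeq.specOver a).obj (op B)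

/-- the base change algebra `A_j ⊗ B` as an `R`-algebra -/
noncomputable abbrev CB (j : ι) (B : Adeq.Alg R) : Adeq.Alg R :=
  (Adeq.Alg.restr R (A j)).obj ((Adeq.Alg.baseChange R (A j)).obj B)

/-- the arrow `Spec(A_j ⊗ B) → Spec B` -/
noncomputable abbrev piB (j : ι) (B : Adeq.Alg R) : UB a (CB A j B) ⟶ UB a B :=
  (Adeq.specOver a).map (Adeq.Alg.unit R (A j) B).op

theorem specOver_map_left {B B' : Adeq.Alg R} (f : B ⟶ B') :
    ((Adeq.specOver a).map f.op).left = Spec.map (rh f) := rfl

/-- the compatibility condition in terms of the two coface maps implies compatibility of the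
family of sections -/
theorem compatible_of_coface (B : Adeq.Alg R)
    (y : ∀ j, ((Adeq.toMVF K a).obj M).obj (Adeq.pt (CB A j B)))
    (hy : ∀ j k, ((Adeq.toMVF K a).obj M).map (Adeq.ptHom (Adeq.Alg.unit R (A k) (CB A j B))) (y j) =
      ((Adeq.toMVF K a).obj M).map (Adeq.ptHom ((Adeq.Alg.restr R (A k)).map
        ((Adeq.Alg.baseChange R (A k)).map (Adeq.Alg.unit R (A j) B)))) (y k)) :
    Presieve.Arrows.Compatible (M.val.presheaf ⋙ forget AddCommGrpCat)
      (fun j => piB a A j B) y := by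
  intro j k Z gj gk hg
  have hpo := isPushout_unit (A k) (Adeq.Alg.unit R (A j) B)
  have hpb := isPullback_SpecMap_of_isPushout _ _ _ _ hpo
  have hg' : gj.left ≫ Spec.map (rh (Adeq.Alg.unit R (A j) B)) =
      gk.left ≫ Spec.map (rh (Adeq.Alg.unit R (A k) B)) := congrArg CommaMorphism.left hg
  let δj : UB a (CB A k (CB A j B)) ⟶ UB a (CB A j B) :=
    (Adeq.specOver a).map (Adeq.Alg.unit R (A k) (CB A j B)).op
  let δk : UB a (CB A k (CB A j B)) ⟶ UB a (CB A k B) :=
    (Adeq.specOver a).map ((Adeq.Alg.restr R (A k)).map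
      ((Adeq.Alg.baseChange R (A k)).map (Adeq.Alg.unit R (A j) B))).op
  let hl : Z.left ⟶ (UB a (CB A k (CB A j B))).left := hpb.lift gj.left gk.left hg'
  have hl1 : hl ≫ δj.left = gj.left := hpb.lift_fst _ _ _
  have hl2 : hl ≫ δk.left = gk.left := hpb.lift_snd _ _ _
  have e1 : δj.left ≫ (UB a (CB A j B)).hom = (UB a (CB A k (CB A j B))).hom := Over.w δj
  have e2 : gj.left ≫ (UB a (CB A j B)).hom = Z.hom := Over.w gj
  have hw : hl ≫ (UB a (CB A k (CB A j B))).hom = Z.hom :=
    (congrArg (fun t => hl ≫ t) e1.symm).trans ((Category.assoc _ _ _).symm.trans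
      ((congrArg (fun t => t ≫ (UB a (CB A j B)).hom) hl1).trans e2))
  let h : Z ⟶ UB a (CB A k (CB A j B)) := Over.homMk hl hw
  have h1 : h ≫ δj = gj := by
    apply Over.OverMorphism.ext
    exact hl1
  have h2 : h ≫ δk = gk := by
    apply Over.OverMorphism.ext
    exact hl2
  rw [← h1, ← h2]
  change (M.val.presheaf ⋙ forget AddCommGrpCat).map (h ≫ δj).op (y j) =
    (M.val.presheaf ⋙ forget AddCommGrpCat).map (h ≫ δk).op (y k)
  rw [op_comp, op_comp, Functor.map_comp, Functor.map_comp]
  change (M.val.presheaf ⋙ forget AddCommGrpCat).map h.op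
      ((M.val.presheaf ⋙ forget AddCommGrpCat).map δj.op (y j)) =
    (M.val.presheaf ⋙ forget AddCommGrpCat).map h.op
      ((M.val.presheaf ⋙ forget AddCommGrpCat).map δk.op (y k))
  congr 1
  exact hy j k

/-- the sheaf condition for a covering family `Spec (A_j ⊗ B) → Spec B` gives the hypothesis of
the family descent lemma -/
theorem descent_data_of_cover (B : Adeq.Alg R)
    (hcov : Sieve.generate (Presieve.ofArrows (fun j => UB a (CB A j B)) (fun j => piB a A j B)) ∈
      QuotSh.J K S (UB a B)) :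
    (∀ x x' : ((Adeq.toMVF K a).obj M).obj (Adeq.pt B),
      (∀ j, ((Adeq.toMVF K a).obj M).map (Adeq.ptHom (Adeq.Alg.unit R (A j) B)) x =
        ((Adeq.toMVF K a).obj M).map (Adeq.ptHom (Adeq.Alg.unit R (A j) B)) x') → x = x') ∧
    (∀ y : ∀ j, ((Adeq.toMVF K a).obj M).obj (Adeq.pt (CB A j B)),
      (∀ j k, ((Adeq.toMVF K a).obj M).map (Adeq.ptHom (Adeq.Alg.unit R (A k) (CB A j B))) (y j) =
        ((Adeq.toMVF K a).obj M).map (Adeq.ptHom ((Adeq.Alg.restr R (A k)).map
          ((Adeq.Alg.baseChange R (A k)).map (Adeq.Alg.unit R (A j) B)))) (y k)) →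
      ∃ x : ((Adeq.toMVF K a).obj M).obj (Adeq.pt B),
        ∀ j, ((Adeq.toMVF K a).obj M).map (Adeq.ptHom (Adeq.Alg.unit R (A j) B)) x = y j) := by
  have hs : Presieve.IsSheaf (QuotSh.J K S) (M.val.presheaf ⋙ forget AddCommGrpCat) :=
    (isSheaf_iff_isSheaf_of_type _ _).mp
      ((Presheaf.isSheaf_iff_isSheaf_forget _ _ (forget AddCommGrpCat)).mp M.isSheaf)
  have h1 := hs _ hcov
  rw [← Presieve.isSheafFor_iff_generate, Presieve.isSheafFor_arrows_iff] at h1
  constructor
  · intro x x' hxx
    obtain ⟨t, _, ht⟩ := h1 _ (Presieve.Arrows.toCompatible (M.val.presheaf ⋙ forget AddCommGrpCat)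
      (fun j => piB a A j B) x).property
    rw [ht x (fun j => rfl), ht x' (fun j => (hxx j).symm)]
  · intro y hy
    obtain ⟨t, ht, _⟩ := h1 y (compatible_of_coface K a M A B y hy)
    exact ⟨t, ht⟩

omit [BigSite.OSh K] in
/-- base change of a covering family of `Spec R` by affines is a covering of `Spec B → S` -/
theorem cover_of_cover [K.IsStableUnderBaseChange]
    (hR : Presieve.ofArrows (fun j => Spec (CommRingCat.of (A j)))
      (fun j => Spec.map (CommRingCat.ofHom (algebraMap R (A j)))) ∈ K.coverings (Spec R))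
    (B : Adeq.Alg R) :
    Sieve.generate (Presieve.ofArrows (fun j => UB a (CB A j B)) (fun j => piB a A j B)) ∈
      QuotSh.J K S (UB a B) := by
  rw [GrothendieckTopology.mem_over_iff]
  change Sieve.overEquiv _ (Sieve.ofArrows _ _) ∈ _
  rw [Sieve.overEquiv_ofArrows]
  apply Precoverage.generate_mem_toGrothendieck
  refine Precoverage.mem_coverings_of_isPullback _ hR
    (Spec.map (CommRingCat.ofHom (algebraMap R B))) _
    (fun j => Spec.map (CommRingCat.ofHom (S := A j ⊗[R] B)
      Algebra.TensorProduct.includeLeftRingHom)) (fun j => ?_)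
  exact (isPullback_SpecMap_of_isPushout _ _ _ _
    (CommRingCat.isPushout_tensorProduct R (A j) B)).flip

/-- descent of adequacy of `F_{M,R}` along a finite covering family of `Spec R` by affines -/
theorem adequate_toMVF_of_cover [K.IsStableUnderBaseChange] [Finite ι]
    (hR : Presieve.ofArrows (fun j => Spec (CommRingCat.of (A j)))
      (fun j => Spec.map (CommRingCat.ofHom (algebraMap R (A j)))) ∈ K.coverings (Spec R))
    (h : ∀ j, Adeq.adequate (A j) ((Adeq.restr R (A j)).obj ((Adeq.toMVF K a).obj M))) :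
    Adeq.adequate R ((Adeq.toMVF K a).obj M) :=
  adequate_of_family_descent A _ h
    (fun B => descent_data_of_cover K a M A B (cover_of_cover K a A hR B))

end sheaf

section general
variable {R : Type u} [CommRing R]

theorem isIso_of_bijective {F G : Adeq.MVF R} (θ : F ⟶ G)
    (h : ∀ X, Function.Bijective (θ.app X)) : IsIso θ := by
  have : Mono θ := PresheafOfModules.mono_of_injective (fun X => (h X).1)
  have : Epi θ := PresheafOfModules.epi_of_surjective (fun X => (h X).2)
  exact isIso_of_mono_of_epi θ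

theorem adequate_iff_of_bijective {F G : Adeq.MVF R} (θ : F ⟶ G)
    (h : ∀ X, Function.Bijective (θ.app X)) : Adeq.adequate R F ↔ Adeq.adequate R G := by
  have := isIso_of_bijective θ h
  exact (Adeq.adequate R).prop_iff_of_iso (asIso θ)

end general

end Groth.Agent.Lib.Helper14.AdeqBig
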