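import Groth.Agent.Lib.Helper14.AdeqBig2

set_option autoImplicit false
open CategoryTheory Limits Opposite TensorProduct AlgebraicGeometry
universe u
namespace Groth.Agent.Lib.Helper14.AdeqBig

open Groth.Agent.Lib.Helper14.AdeqLib

section chart
variable (K : Precoverage Scheme.{u}) [BigSite.OSh K] {S : Scheme.{u}} {R : CommRingCat.{u}}
  (a : Spec R ⟶ S) (M : BigSite.Mod K S) (R' : Type u) [CommRing R'] [Algebra R R']

/-- the composite chart `Spec R' → Spec R → S` -/
noncomputable abbrev chartMap : Spec (CommRingCat.of R') ⟶ S :=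
  Spec.map (CommRingCat.ofHom (algebraMap R R')) ≫ a

set_option profiler true in
theorem chart_w (B' : Adeq.Alg R') :
    Spec.map (CommRingCat.ofHom (algebraMap R ((Adeq.Alg.restr R R').obj B'))) ≫ a =
      Spec.map (CommRingCat.ofHom (algebraMap R' B')) ≫ chartMap a R' := by
  have h : CommRingCat.ofHom (algebraMap R ((Adeq.Alg.restr R R').obj B')) =
      CommRingCat.ofHom (algebraMap R R') ≫ CommRingCat.ofHom (algebraMap R' B') := rfl
  rw [h, Spec.map_comp, Category.assoc]

theorem chart_w' (B' : Adeq.Alg R') :
    (Iso.refl (Spec (CommRingCat.of B'))).hom ≫ ((Adeq.specOver a).obj (op ((Adeq.Alg.restr R R').obj B'))).hom =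
      ((Adeq.specOver (chartMap a R')).obj (op B')).hom := 
  (Category.id_comp _).trans (chart_w a R' B')

/-- the comparison of the two objects of the big site attached to an `R'`-algebra -/
noncomputable def chartIso (B' : Adeq.Alg R') :
    (Adeq.specOver (chartMap a R')).obj (op B') ≅
      (Adeq.specOver a).obj (op ((Adeq.Alg.restr R R').obj B')) :=
  Over.isoMk (Iso.refl (Spec (CommRingCat.of B'))) (chart_w' a R' B')

theorem chartIso_hom_left (B' : Adeq.Alg R') :
    (chartIso a R' B').hom.left = 𝟙 (Spec (CommRingCat.of B')) := rfl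

theorem ORing_map_chartIso (B' : Adeq.Alg R') (b : B') :
    (BigSite.ORing K S).obj.map (chartIso a R' B').hom.op
        (Adeq.toSect K a ((Adeq.Alg.restr R R').obj B') b) =
      Adeq.toSect K (chartMap a R') B' b := by
  apply ULift.ext
  change (Scheme.Hom.appTop (𝟙 (Spec (CommRingCat.of B'))))
    ((Scheme.ΓSpecIso (CommRingCat.of B')).inv b) = (Scheme.ΓSpecIso (CommRingCat.of B')).inv b
  rw [Scheme.Hom.id_appTop]
  rfl

set_option maxHeartbeats 400000 in
theorem chart_smul (B' : Adeq.Alg R') (b : B')
    (m : ((Adeq.restr R R').obj ((Adeq.toMVF K a).obj M)).obj (Adeq.pt B')) :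
    (show ((Adeq.toMVF K (chartMap a R')).obj M).obj (Adeq.pt B') from
      M.val.presheaf.map (chartIso a R' B').hom.op (b • m)) =
    b • (show ((Adeq.toMVF K (chartMap a R')).obj M).obj (Adeq.pt B') from
      M.val.presheaf.map (chartIso a R' B').hom.op m) := by
  have h := M.val.map_smul (chartIso a R' B').hom.op
    (Adeq.toSect K a ((Adeq.Alg.restr R R').obj B') b) m
  rw [ORing_map_chartIso] at h
  exact h

theorem chart_natural_left {B' B'' : Adeq.Alg R'} (f : B' ⟶ B'') :
    (chartIso a R' B'').hom.left ≫ ((Adeq.specOver a).map ((Adeq.Alg.restr R R').map f).op).left =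
      ((Adeq.specOver (chartMap a R')).map f.op).left ≫ (chartIso a R' B').hom.left := by
  change 𝟙 (Spec (CommRingCat.of B'')) ≫ Spec.map (CommRingCat.ofHom f.hom.toRingHom) =
    Spec.map (CommRingCat.ofHom f.hom.toRingHom) ≫ 𝟙 (Spec (CommRingCat.of B'))
  rw [Category.id_comp, Category.comp_id]

set_option maxHeartbeats 400000 in
theorem chart_natural {B' B'' : Adeq.Alg R'} (f : B' ⟶ B'') :
    (chartIso a R' B'').hom ≫ (Adeq.specOver a).map ((Adeq.Alg.restr R R').map f).op =
      (Adeq.specOver (chartMap a R')).map f.op ≫ (chartIso a R' B').hom := by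
  apply Over.OverMorphism.ext
  exact chart_natural_left a R' f

/-- the comparison map on sections, as a linear map -/
noncomputable def chartLin (B' : Adeq.Alg R') :
    ((Adeq.restr R R').obj ((Adeq.toMVF K a).obj M)).obj (Adeq.pt B') →ₗ[B']
      ((Adeq.toMVF K (chartMap a R')).obj M).obj (Adeq.pt B') :=
  { toFun := fun m => M.val.presheaf.map (chartIso a R' B').hom.op m
    map_add' := fun m m' => (M.val.presheaf.map (chartIso a R' B').hom.op).hom.map_add m m'
    map_smul' := fun b m => chart_smul K a M R' B' b m }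

theorem chartLin_bijective (B' : Adeq.Alg R') : Function.Bijective (chartLin K a M R' B') := by
  have : IsIso (M.val.presheaf.map (chartIso a R' B').hom.op) := inferInstance
  have h2 : Function.Bijective (M.val.presheaf.map (chartIso a R' B').hom.op) :=
    (ConcreteCategory.isIso_iff_bijective _).mp this
  exact h2

theorem presheaf_map_comp_apply {X Y Z : Over S} (f : X ⟶ Y) (g : Y ⟶ Z) (m : M.val.presheaf.obj (op Z)) :
    M.val.presheaf.map f.op (M.val.presheaf.map g.op m) = M.val.presheaf.map (f ≫ g).op m := by
  rw [op_comp, Functor.map_comp]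
  rfl

/-- the comparison morphism `restr F_{M,R} ⟶ F_{M,R'}` -/
noncomputable def chartHom :
    (Adeq.restr R R').obj ((Adeq.toMVF K a).obj M) ⟶ (Adeq.toMVF K (chartMap a R')).obj M where
  app X := (ModuleCat.ofHom (chartLin K a M R' X.unop.unop) :)
  naturality {X Y} f := by
    apply ModuleCat.hom_ext
    apply LinearMap.ext
    intro m
    change M.val.presheaf.map (chartIso a R' Y.unop.unop).hom.op
        (M.val.presheaf.map ((Adeq.specOver a).map ((Adeq.Alg.restr R R').map f.unop.unop).op).op m) =
      M.val.presheaf.map ((Adeq.specOver (chartMap a R')).map f.unop.unop.op).op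
        (M.val.presheaf.map (chartIso a R' X.unop.unop).hom.op m)
    rw [presheaf_map_comp_apply, presheaf_map_comp_apply, chart_natural]

/-- `F_{M,R'}` is adequate iff the restriction of `F_{M,R}` to `R'`-algebras is. -/
theorem adequate_chart_iff :
    Adeq.adequate R' ((Adeq.restr R R').obj ((Adeq.toMVF K a).obj M)) ↔
      Adeq.adequate R' ((Adeq.toMVF K (chartMap a R')).obj M) :=
  adequate_iff_of_bijective (chartHom K a M R') (fun X => chartLin_bijective K a M R' X.unop.unop)

end chart
end Groth.Agent.Lib.Helper14.AdeqBig
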