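import Groth.Agent.Lib.Helper14.AdeqBig3

set_option autoImplicit false
open CategoryTheory Limits Opposite TensorProduct AlgebraicGeometry
universe u
namespace Groth.Agent.Lib.Helper14.AdeqBig

open Groth.Agent.Lib.Helper14.AdeqLib

section main
variable (K : Precoverage Scheme.{u}) [BigSite.OSh K] {S : Scheme.{u}} (M : BigSite.Mod K S)

/-- transport of adequacy along a ring map `ψ : R₁ ⟶ R₂`: if `F_{M,R₁}` (w.r.t. `a₁`) is adequate
then so is `F_{M,R₂}` w.r.t. `Spec ψ ≫ a₁`. -/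
theorem adequate_toMVF_comp {R₁ R₂ : CommRingCat.{u}} (a₁ : Spec R₁ ⟶ S) (ψ : R₁ ⟶ R₂)
    (h : Adeq.adequate R₁ ((Adeq.toMVF K a₁).obj M)) :
    Adeq.adequate R₂ ((Adeq.toMVF K (Spec.map ψ ≫ a₁)).obj M) := by
  letI : Algebra R₁ R₂ := ψ.hom.toAlgebra
  exact (adequate_chart_iff K a₁ M R₂).mp (adequate_restr _ h)

/-- conversely: adequacy of the restriction follows from adequacy w.r.t. the composite chart -/
theorem adequate_restr_of_toMVF_comp {R₁ R₂ : CommRingCat.{u}} (a₁ : Spec R₁ ⟶ S) (ψ : R₁ ⟶ R₂)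
    (h : Adeq.adequate R₂ ((Adeq.toMVF K (Spec.map ψ ≫ a₁)).obj M)) :
    letI : Algebra R₁ R₂ := ψ.hom.toAlgebra
    Adeq.adequate R₂ ((Adeq.restr R₁ R₂).obj ((Adeq.toMVF K a₁).obj M)) := by
  letI : Algebra R₁ R₂ := ψ.hom.toAlgebra
  exact (adequate_chart_iff K a₁ M R₂).mpr h

set_option maxHeartbeats 1600000 in
/-- Stacks 06VH-type: for an adequate module on the big site, `F_{M,R}` is adequate for every
affine scheme over `S`. -/
theorem adequate_toMVF_of_adequateMod (P : MorphismProperty Scheme.{u})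
    (hK : K = Scheme.precoverage P)
    [K.IsStableUnderBaseChange] [P.RespectsLeft @IsOpenImmersion]
    (hopen : ∀ {X Y : Scheme.{u}} (f : X ⟶ Y), P f → IsOpenMap f)
    (hM : Adeq.adequateMod K S M) (R : CommRingCat.{u}) (a : Spec R ⟶ S) :
    Adeq.adequate R ((Adeq.toMVF K a).obj M) := by
  subst hK
  obtain ⟨ι, Ri, ai, hcov, hadq⟩ := hM
  let 𝒰 : S.Cover (Scheme.precoverage P) :=
    { I₀ := ι, X := fun i => Spec (Ri i), f := ai, mem₀ := hcov }
  let 𝒰' : (Spec R).Cover (Scheme.precoverage P) := Precoverage.ZeroHypercover.pullback₁ a 𝒰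
  have hqc : QuasiCompactCover 𝒰'.toPreZeroHypercover :=
    QuasiCompactCover.of_isOpenMap (fun i => hopen _ (𝒰'.map_prop i))
  obtain ⟨𝒱, f, hfin, _⟩ := QuasiCompactCover.exists_hom.{u, u} 𝒰'
  -- the ring maps
  let φ : ∀ j : 𝒱.I₀, R ⟶ 𝒱.X j := fun j => Spec.preimage (𝒱.f j)
  have hφ : ∀ j, Spec.map (φ j) = 𝒱.f j := fun j => Spec.map_preimage _
  let ψ : ∀ j : 𝒱.I₀, Ri (f.s₀ j) ⟶ 𝒱.X j :=
    fun j => Spec.preimage (f.h₀ j ≫ pullback.snd a (ai (f.s₀ j)))
  have hψ : ∀ j, Spec.map (ψ j) = f.h₀ j ≫ pullback.snd a (ai (f.s₀ j)) :=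
    fun j => Spec.map_preimage _
  have hcomm : ∀ j, Spec.map (ψ j) ≫ ai (f.s₀ j) = Spec.map (φ j) ≫ a := by
    intro j
    have e1 : f.h₀ j ≫ pullback.fst a (ai (f.s₀ j)) = 𝒱.f j := f.w₀ j
    have e2 : pullback.snd a (ai (f.s₀ j)) ≫ ai (f.s₀ j) = pullback.fst a (ai (f.s₀ j)) ≫ a :=
      pullback.condition.symm
    exact (congrArg (fun t => t ≫ ai (f.s₀ j)) (hψ j)).trans ((Category.assoc _ _ _).trans
      ((congrArg (fun t => f.h₀ j ≫ t) e2).trans ((Category.assoc _ _ _).symm.trans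
        ((congrArg (fun t => t ≫ a) e1).trans (congrArg (fun t => t ≫ a) (hφ j).symm)))))
  -- adequacy on the members of the refined cover
  have hadq' : ∀ j, Adeq.adequate (𝒱.X j)
      ((Adeq.toMVF (Scheme.precoverage P) (Spec.map (φ j) ≫ a)).obj M) := by
    intro j
    rw [← hcomm j]
    exact adequate_toMVF_comp _ M (ai (f.s₀ j)) (ψ j) (hadq (f.s₀ j))
  -- the algebra structures
  letI : ∀ j : ULift.{u + 1} 𝒱.I₀, Algebra R (𝒱.X j.down) := fun j => (φ j.down).hom.toAlgebra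
  have hfin' : Finite (ULift.{u + 1} 𝒱.I₀) := inferInstance
  refine adequate_toMVF_of_cover (Scheme.precoverage P) a M
    (fun j : ULift.{u + 1} 𝒱.I₀ => (𝒱.X j.down : Type u)) ?_ ?_
  · have h0 := 𝒱.cover.mem₀
    change Presieve.ofArrows (fun j => Spec (𝒱.X j)) 𝒱.f ∈ Scheme.precoverage P (Spec R) at h0
    rw [Scheme.ofArrows_mem_precoverage_iff] at h0
    change Presieve.ofArrows (fun j : ULift.{u + 1} 𝒱.I₀ => Spec (𝒱.X j.down))
      (fun j => Spec.map (φ j.down)) ∈ Scheme.precoverage P (Spec R)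
    rw [Scheme.ofArrows_mem_precoverage_iff]
    refine ⟨fun x => ?_, fun j => ?_⟩
    · obtain ⟨i, hi⟩ := h0.1 x
      refine ⟨⟨i⟩, ?_⟩
      rw [hφ]
      exact hi
    · rw [hφ]
      exact h0.2 j.down
  · intro j
    exact adequate_restr_of_toMVF_comp _ M a (φ j.down) (hadq' j.down)

end main

end Groth.Agent.Lib.Helper14.AdeqBig
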