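import Groth.Agent.Lib.Helper14.AdeqBig4

set_option autoImplicit false
open CategoryTheory Limits Opposite TensorProduct AlgebraicGeometry
universe u
namespace Groth.Agent.Lib.Helper14.AdeqBig

open Groth.Agent.Lib.Helper14.AdeqLib

section sections
variable (K : Precoverage Scheme.{u}) [BigSite.OSh K] {S : Scheme.{u}}

theorem mod_mono_sections {M N : BigSite.Mod K S} (f : M ⟶ N) [Mono f] (U : (Over S)ᵒᵖ) :
    Function.Injective (f.val.app U) := by
  have h : Mono ((SheafOfModules.evaluation (BigSite.ORing K S) U).map f) := inferInstance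
  exact (ModuleCat.mono_iff_injective _).mp h

theorem mod_exact_sections (C : ShortComplex (BigSite.Mod K S)) (hC : C.Exact) [Mono C.f]
    (U : (Over S)ᵒᵖ) (y : C.X₂.val.obj U) (hy : C.g.val.app U y = 0) :
    ∃ x : C.X₁.val.obj U, C.f.val.app U x = y := by
  have h := hC.map_of_mono_of_preservesKernel (SheafOfModules.evaluation (BigSite.ORing K S) U)
    inferInstance inferInstance
  exact (ShortComplex.moduleCat_exact_iff _).mp h y hy

theorem toMVF_map_app {R : CommRingCat.{u}} (a : Spec R ⟶ S) {M N : BigSite.Mod K S} (f : M ⟶ N)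
    (X : (Adeq.Alg R)ᵒᵖᵒᵖ) (x : ((Adeq.toMVF K a).obj M).obj X) :
    ((Adeq.toMVF K a).map f).app X x =
      f.val.app (op ((Adeq.specOver a).obj (op X.unop.unop))) x := rfl

/-- `F_{-,R}` commutes with kernels -/
theorem nonempty_toMVF_kernel_iso {R : CommRingCat.{u}} (a : Spec R ⟶ S) {M N : BigSite.Mod K S}
    (φ : M ⟶ N) :
    Nonempty ((Adeq.toMVF K a).obj (kernel φ) ≅ kernel ((Adeq.toMVF K a).map φ)) := by
  refine nonempty_iso_kernel_of_exact ((Adeq.toMVF K a).map (kernel.ι φ)) ((Adeq.toMVF K a).map φ)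
    ?_ ?_ ?_
  · intro Z
    exact mod_mono_sections K (kernel.ι φ) _
  · rw [← Functor.map_comp, kernel.condition, Functor.map_zero]
  · intro Z y hy
    have hC : (ShortComplex.mk (kernel.ι φ) φ (kernel.condition φ)).Exact :=
      ShortComplex.exact_of_f_is_kernel _ (kernelIsKernel φ)
    exact mod_exact_sections K _ hC _ y hy

end sections

section fppf
variable {S : Scheme.{u}}

/-- S8755 -/
theorem adequate_toMVF_fppf (M : BigSite.Mod Scheme.fppfPrecoverage S)
    (hM : Adeq.adequateMod Scheme.fppfPrecoverage S M) (R : CommRingCat.{u}) (a : Spec R ⟶ S) :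
    Adeq.adequate R ((Adeq.toMVF Scheme.fppfPrecoverage a).obj M) :=
  adequate_toMVF_of_adequateMod Scheme.fppfPrecoverage M
    (@Flat ⊓ @LocallyOfFinitePresentation) rfl
    (fun f h => by
      have := h.1
      have := h.2
      exact f.isOpenMap) hM R a

/-- S8761: kernels of maps of adequate modules are adequate -/
theorem adequateMod_kernel_fppf {M N : BigSite.Mod Scheme.fppfPrecoverage S} (φ : M ⟶ N)
    (hM : Adeq.adequateMod Scheme.fppfPrecoverage S M)
    (hN : Adeq.adequateMod Scheme.fppfPrecoverage S N) :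
    Adeq.adequateMod Scheme.fppfPrecoverage S (kernel φ) := by
  obtain ⟨ι, R, a, hcov, hadq⟩ := hM
  refine ⟨ι, R, a, hcov, fun i => ?_⟩
  obtain ⟨e⟩ := nonempty_toMVF_kernel_iso Scheme.fppfPrecoverage (a i) φ
  exact (Adeq.adequate (R i)).prop_of_iso e.symm
    (adequate_kernel_of_adequate _ (hadq i) (adequate_toMVF_fppf N hN (R i) (a i)))

end fppf

end Groth.Agent.Lib.Helper14.AdeqBig
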