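import Groth.Agent.Lib.Helper14.AdeqBig5

set_option autoImplicit false
open CategoryTheory Limits Opposite TensorProduct AlgebraicGeometry
universe u
namespace Groth.Agent.Lib.Helper14.AdeqBig

open Groth.Agent.Lib.Helper14.AdeqLib

section pull
variable (K : Precoverage Scheme.{u}) [BigSite.OSh K] {S T : Scheme.{u}} (f : T ⟶ S)
  {R : CommRingCat.{u}} (g : Spec R ⟶ T) (M : BigSite.Mod K S)

theorem pull_w (B : Adeq.Alg R) :
    (Iso.refl (Spec (CommRingCat.of B))).hom ≫
        ((Over.map f).obj ((Adeq.specOver g).obj (op B))).hom =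
      ((Adeq.specOver (g ≫ f)).obj (op B)).hom := by
  change 𝟙 _ ≫ (Spec.map (CommRingCat.ofHom (algebraMap R B)) ≫ g) ≫ f =
    Spec.map (CommRingCat.ofHom (algebraMap R B)) ≫ g ≫ f
  rw [Category.id_comp, Category.assoc]

/-- comparison of the two objects of the big site of `S` attached to an `R`-algebra -/
noncomputable def pullIso (B : Adeq.Alg R) :
    (Adeq.specOver (g ≫ f)).obj (op B) ≅ (Over.map f).obj ((Adeq.specOver g).obj (op B)) :=
  Over.isoMk (Iso.refl (Spec (CommRingCat.of B))) (pull_w f g B)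

example (B : Adeq.Alg R) :
    (((Adeq.toMVF K g).obj ((BigSite.pullMod K f).obj M)).obj (Adeq.pt B) : Type (u + 1)) =
      M.val.obj (op ((Over.map f).obj ((Adeq.specOver g).obj (op B)))) := rfl

theorem ORing_map_pullIso (B : Adeq.Alg R) (b : B) :
    (BigSite.ORing K S).obj.map (pullIso f g B).hom.op
        (show (BigSite.ORing K S).obj.obj (op ((Over.map f).obj ((Adeq.specOver g).obj (op B)))) from
          Adeq.toSect K g B b) =
      Adeq.toSect K (g ≫ f) B b := by
  apply ULift.ext
  change (Scheme.Hom.appTop (𝟙 (Spec (CommRingCat.of B))))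
    ((Scheme.ΓSpecIso (CommRingCat.of B)).inv b) = (Scheme.ΓSpecIso (CommRingCat.of B)).inv b
  rw [Scheme.Hom.id_appTop]
  rfl

set_option maxHeartbeats 400000 in
theorem pull_smul (B : Adeq.Alg R) (b : B)
    (m : ((Adeq.toMVF K g).obj ((BigSite.pullMod K f).obj M)).obj (Adeq.pt B)) :
    (show ((Adeq.toMVF K (g ≫ f)).obj M).obj (Adeq.pt B) from
      M.val.presheaf.map (pullIso f g B).hom.op (b • m)) =
    b • (show ((Adeq.toMVF K (g ≫ f)).obj M).obj (Adeq.pt B) from
      M.val.presheaf.map (pullIso f g B).hom.op m) := by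
  have h := M.val.map_smul (pullIso f g B).hom.op
    (show (BigSite.ORing K S).obj.obj (op ((Over.map f).obj ((Adeq.specOver g).obj (op B)))) from
      Adeq.toSect K g B b) m
  rw [ORing_map_pullIso] at h
  exact h

theorem pull_natural_left {B B' : Adeq.Alg R} (h : B ⟶ B') :
    (pullIso f g B').hom.left ≫ ((Over.map f).map ((Adeq.specOver g).map h.op)).left =
      ((Adeq.specOver (g ≫ f)).map h.op).left ≫ (pullIso f g B).hom.left := by
  change 𝟙 (Spec (CommRingCat.of B')) ≫ Spec.map (CommRingCat.ofHom h.hom.toRingHom) =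
    Spec.map (CommRingCat.ofHom h.hom.toRingHom) ≫ 𝟙 (Spec (CommRingCat.of B))
  rw [Category.id_comp, Category.comp_id]

set_option maxHeartbeats 400000 in
theorem pull_natural {B B' : Adeq.Alg R} (h : B ⟶ B') :
    (pullIso f g B').hom ≫ (Over.map f).map ((Adeq.specOver g).map h.op) =
      (Adeq.specOver (g ≫ f)).map h.op ≫ (pullIso f g B).hom := by
  apply Over.OverMorphism.ext
  exact pull_natural_left f g h

/-- the comparison map on sections, as a linear map -/
noncomputable def pullLin (B : Adeq.Alg R) :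
    ((Adeq.toMVF K g).obj ((BigSite.pullMod K f).obj M)).obj (Adeq.pt B) →ₗ[B]
      ((Adeq.toMVF K (g ≫ f)).obj M).obj (Adeq.pt B) :=
  { toFun := fun m => M.val.presheaf.map (pullIso f g B).hom.op m
    map_add' := fun m m' => (M.val.presheaf.map (pullIso f g B).hom.op).hom.map_add m m'
    map_smul' := fun b m => pull_smul K f g M B b m }

theorem pullLin_bijective (B : Adeq.Alg R) : Function.Bijective (pullLin K f g M B) := by
  have : IsIso (M.val.presheaf.map (pullIso f g B).hom.op) := inferInstance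
  have h2 : Function.Bijective (M.val.presheaf.map (pullIso f g B).hom.op) :=
    (ConcreteCategory.isIso_iff_bijective _).mp this
  exact h2

/-- the comparison morphism `F_{f^*M,R} ⟶ F_{M,R}` -/
noncomputable def pullHom :
    (Adeq.toMVF K g).obj ((BigSite.pullMod K f).obj M) ⟶ (Adeq.toMVF K (g ≫ f)).obj M where
  app X := (ModuleCat.ofHom (pullLin K f g M X.unop.unop) :)
  naturality {X Y} h := by
    apply ModuleCat.hom_ext
    apply LinearMap.ext
    intro m
    change M.val.presheaf.map (pullIso f g Y.unop.unop).hom.op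
        (M.val.presheaf.map ((Over.map f).map ((Adeq.specOver g).map h.unop.unop.op)).op m) =
      M.val.presheaf.map ((Adeq.specOver (g ≫ f)).map h.unop.unop.op).op
        (M.val.presheaf.map (pullIso f g X.unop.unop).hom.op m)
    rw [presheaf_map_comp_apply, presheaf_map_comp_apply, pull_natural]

/-- `F_{f^*M,R}` is adequate iff `F_{M,R}` (w.r.t. the composite chart) is. -/
theorem adequate_pull_iff :
    Adeq.adequate R ((Adeq.toMVF K g).obj ((BigSite.pullMod K f).obj M)) ↔
      Adeq.adequate R ((Adeq.toMVF K (g ≫ f)).obj M) :=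
  adequate_iff_of_bijective (pullHom K f g M) (fun X => pullLin_bijective K f g M X.unop.unop)

end pull

section fppf2
variable {S T : Scheme.{u}}

/-- S8757: pullback of an adequate module is adequate -/
theorem adequateMod_pull_fppf (f : T ⟶ S) (M : BigSite.Mod Scheme.fppfPrecoverage S)
    (hM : Adeq.adequateMod Scheme.fppfPrecoverage S M) :
    Adeq.adequateMod Scheme.fppfPrecoverage T ((BigSite.pullMod Scheme.fppfPrecoverage f).obj M) := by
  let 𝒱 := T.affineOpenCover
  refine ⟨𝒱.I₀, 𝒱.X, 𝒱.f, Scheme.zariskiPrecoverage_le_fppfPrecoverage _ 𝒱.cover.mem₀, fun j => ?_⟩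
  exact (adequate_pull_iff Scheme.fppfPrecoverage f (𝒱.f j) M).mpr
    (adequate_toMVF_fppf M hM _ (𝒱.f j ≫ f))

/-- S8758: adequacy is local for the fppf topology -/
theorem adequateMod_of_cover_fppf (M : BigSite.Mod Scheme.fppfPrecoverage S) (ι : Type u)
    (T : ι → Scheme.{u}) (f : ∀ i, T i ⟶ S)
    (hcov : Presieve.ofArrows T f ∈ Scheme.fppfPrecoverage.coverings S)
    (h : ∀ i, Adeq.adequateMod Scheme.fppfPrecoverage (T i)
      ((BigSite.pullMod Scheme.fppfPrecoverage (f i)).obj M)) :
    Adeq.adequateMod Scheme.fppfPrecoverage S M := by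
  choose κ R g cov adq using h
  refine ⟨Σ i, κ i, fun p => R p.1 p.2, fun p => g p.1 p.2 ≫ f p.1, ?_, fun p => ?_⟩
  · exact Precoverage.comp_mem_coverings f hcov (fun i j => g i j) (fun i => cov i)
  · exact (adequate_pull_iff Scheme.fppfPrecoverage (f p.1) (g p.1 p.2) M).mp (adq p.1 p.2)

end fppf2

end Groth.Agent.Lib.Helper14.AdeqBig
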