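import Groth.Agent.Lib.Helper14.AdeqBig6

set_option autoImplicit false
open CategoryTheory Limits Opposite TensorProduct AlgebraicGeometry
universe u v
namespace Groth.Agent.Lib.Helper14.AdeqLib

section amitsur
variable {R : Type u} [CommRing R] (B : Type u) [CommRing B] [Algebra R B]
  (M : Type v) [AddCommGroup M] [Module R M]

/-- the two coface maps `B ⊗ M → (B ⊗ B) ⊗ M` -/
noncomputable abbrev dL : B ⊗[R] M →ₗ[R] (B ⊗[R] B) ⊗[R] M :=
  (Algebra.TensorProduct.includeLeft (R := R) (S := R) (A := B) (B := B)).toLinearMap.rTensor M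

noncomputable abbrev dR : B ⊗[R] M →ₗ[R] (B ⊗[R] B) ⊗[R] M :=
  (Algebra.TensorProduct.includeRight (R := R) (A := B) (B := B)).toLinearMap.rTensor M

theorem assoc_dR (t : B ⊗[R] M) :
    TensorProduct.assoc R B B M (dR B M t) = (1 : B) ⊗ₜ[R] t := by
  induction t using TensorProduct.induction_on with
  | zero => rw [map_zero, map_zero, TensorProduct.tmul_zero]
  | tmul b m =>
    change TensorProduct.assoc R B B M (((1 : B) ⊗ₜ[R] b) ⊗ₜ[R] m) = _
    rw [TensorProduct.assoc_tmul]
  | add x y hx hy => rw [map_add, map_add, hx, hy, TensorProduct.tmul_add]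

theorem assoc_dL (t : B ⊗[R] M) :
    TensorProduct.assoc R B B M (dL B M t) = (TensorProduct.mk R B M 1).lTensor B t := by
  induction t using TensorProduct.induction_on with
  | zero => rw [map_zero, map_zero, map_zero]
  | tmul b m =>
    change TensorProduct.assoc R B B M ((b ⊗ₜ[R] (1 : B)) ⊗ₜ[R] m) = _
    rw [TensorProduct.assoc_tmul, LinearMap.lTensor_tmul]
    rfl
  | add x y hx hy => rw [map_add, map_add, hx, hy, map_add]

/-- faithfully flat descent for modules, in degree zero: the equalizer of the two coface maps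
is the image of `M`. -/
theorem amitsur_module [Module.FaithfullyFlat R B] (t : B ⊗[R] M) (ht : dL B M t = dR B M t) :
    ∃ m : M, (1 : B) ⊗ₜ[R] m = t := by
  let ι : M →ₗ[R] B ⊗[R] M := TensorProduct.mk R B M 1
  let q := (LinearMap.range ι).mkQ
  have hqι : q ∘ₗ ι = 0 := LinearMap.range_mkQ_comp ι
  have h1 : (q.lTensor B) ((1 : B) ⊗ₜ[R] t) = 0 := by
    rw [← assoc_dR, ← ht, assoc_dL, ← LinearMap.comp_apply, ← LinearMap.lTensor_comp, hqι,
      LinearMap.lTensor_zero, LinearMap.zero_apply]
  rw [LinearMap.lTensor_tmul] at h1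
  have h2 : q t = 0 := by
    apply Module.FaithfullyFlat.tensorProduct_mk_injective (A := R) (B := B)
    rw [map_zero]
    exact h1
  have h3 : t ∈ LinearMap.range ι := by
    rwa [Submodule.mkQ_apply, Submodule.Quotient.mk_eq_zero] at h2
  obtain ⟨m, hm⟩ := h3
  exact ⟨m, hm⟩

end amitsur

section ffdescent
variable {R : Type u} [CommRing R] (B : Type u) [CommRing B] [Algebra R B]

/-- `R` as an `R`-algebra -/
noncomputable abbrev oR : Adeq.Alg R := Adeq.algOf R R
/-- `B` as an `R`-algebra -/
noncomputable abbrev oB : Adeq.Alg R := Adeq.algOf R B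
/-- `B ⊗ B` as an `R`-algebra -/
noncomputable abbrev oBB : Adeq.Alg R := Adeq.algOf R (B ⊗[R] B)
/-- structure map -/
noncomputable abbrev uB : oR (R := R) ⟶ oB B := CommAlgCat.ofHom (Algebra.ofId R B)
noncomputable abbrev lB : oB (R := R) B ⟶ oBB B :=
  CommAlgCat.ofHom (Algebra.TensorProduct.includeLeft : B →ₐ[R] B ⊗[R] B)
noncomputable abbrev rB' : oB (R := R) B ⟶ oBB B :=
  CommAlgCat.ofHom (Algebra.TensorProduct.includeRight : B →ₐ[R] B ⊗[R] B)

theorem rTensor_uB_eq (M : ModuleCat.{u + 1} R) (z : R ⊗[R] M) :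
    ((uB B).hom.toLinearMap.rTensor M) z = (TensorProduct.mk R B M 1) (TensorProduct.lid R M z) := by
  induction z using TensorProduct.induction_on with
  | zero => rw [map_zero, map_zero, map_zero]
  | tmul r m =>
    rw [LinearMap.rTensor_tmul, TensorProduct.lid_tmul, TensorProduct.mk_apply]
    change (algebraMap R B r) ⊗ₜ[R] m = _
    rw [Algebra.algebraMap_eq_smul_one, TensorProduct.smul_tmul]
  | add x y hx hy => rw [map_add, map_add, map_add, hx, hy]

theorem rTensor_uB_injective [Module.FaithfullyFlat R B] (M : ModuleCat.{u + 1} R) :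
    Function.Injective ((uB (R := R) B).hom.toLinearMap.rTensor M) := by
  intro z z' h
  rw [rTensor_uB_eq, rTensor_uB_eq] at h
  have hinj : Function.Injective (TensorProduct.mk R B M 1) :=
    Module.FaithfullyFlat.tensorProduct_mk_injective (A := R) (B := B) (M := M)
  exact (TensorProduct.lid R M).injective (hinj h)

/-- faithfully flat descent for adequate functors (first two degrees) -/
theorem adequate_ff_descent [Module.FaithfullyFlat R B] (F : Adeq.MVF R) (hF : Adeq.adequate R F) :
    Function.Injective (F.map (Adeq.ptHom (uB B))) ∧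
      ∀ y : F.obj (Adeq.pt (oB B)),
        F.map (Adeq.ptHom (lB B)) y = F.map (Adeq.ptHom (rB' B)) y →
          y ∈ Set.range (F.map (Adeq.ptHom (uB B))) := by
  obtain ⟨M, N, φ, i, hi, w, hex⟩ := exists_exact_of_adequate hF
  have hnat : ∀ {C C' : Adeq.Alg R} (f : C ⟶ C') (x : F.obj (Adeq.pt C)),
      ofU M C' (i.app (Adeq.pt C') (mvfMap F f x)) =
        (f.hom.toLinearMap.rTensor M) (ofU M C (i.app (Adeq.pt C) x)) := by
    intro C C' f x
    rw [mvfMap_naturality]
    rfl
  constructor
  · intro x x' hxx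
    have h1 : mvfMap F (uB B) x = mvfMap F (uB B) x' := hxx
    have h2 := congrArg (fun t => ofU M (oB B) (i.app (Adeq.pt (oB B)) t)) h1
    simp only [hnat] at h2
    exact hi _ (rTensor_uB_injective B M h2)
  · intro y hy
    have h1 : mvfMap F (lB B) y = mvfMap F (rB' B) y := hy
    have h2 := congrArg (fun t => ofU M (oBB B) (i.app (Adeq.pt (oBB B)) t)) h1
    simp only [hnat] at h2
    obtain ⟨m, hm⟩ := amitsur_module B M (ofU M (oB B) (i.app (Adeq.pt (oB B)) y)) h2
    let z : ((Adeq.underline R).obj M).obj (Adeq.pt (oR (R := R))) :=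
      toU M (oR (R := R)) ((1 : R) ⊗ₜ[R] m)
    have hz : ((uB B).hom.toLinearMap.rTensor M) (ofU M oR z) =
        ofU M (oB B) (i.app (Adeq.pt (oB B)) y) := by
      rw [rTensor_uB_eq]
      change (TensorProduct.mk R B M 1) (TensorProduct.lid R M ((1 : R) ⊗ₜ[R] m)) = _
      rw [TensorProduct.lid_tmul, one_smul]
      exact hm
    have hφz : ((Adeq.underline R).map φ).app (Adeq.pt oR) z = 0 := by
      have h3 : ofU N (oB B) (mvfMap ((Adeq.underline R).obj N) (uB B)
          (((Adeq.underline R).map φ).app (Adeq.pt oR) z)) = 0 := by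
        rw [← mvfMap_naturality]
        have h4 : mvfMap ((Adeq.underline R).obj M) (uB B) z = i.app (Adeq.pt (oB B)) y := hz
        rw [h4, ← comp_app_apply, w]
        rfl
      have h5 : ((uB B).hom.toLinearMap.rTensor N)
          (ofU N oR (((Adeq.underline R).map φ).app (Adeq.pt oR) z)) = 0 := h3
      have h6 := rTensor_uB_injective B N (h5.trans (map_zero _).symm)
      exact h6
    obtain ⟨x, hx⟩ := hex _ z hφz
    refine ⟨x, hi (Adeq.pt (oB B)) ?_⟩
    have h7 : ofU M (oB B) (i.app (Adeq.pt (oB B)) (mvfMap F (uB B) x)) =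
        ofU M (oB B) (i.app (Adeq.pt (oB B)) y) := by
      rw [hnat, hx]
      exact hz
    exact h7

end ffdescent

end Groth.Agent.Lib.Helper14.AdeqLib
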