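import Groth.Agent.Lib.Helper14.AdeqBig7
import Groth.Agent.S8784

set_option autoImplicit false
open CategoryTheory Limits Opposite TensorProduct AlgebraicGeometry
universe u
namespace Groth.Agent.Lib.Helper14.AdeqBig

section para
variable (K : Precoverage Scheme.{u}) [BigSite.OSh K] {S : Scheme.{u}}

/-- vanishing of sections transfers along isomorphisms of objects of the big site -/
theorem subsingleton_sectMod_of_objIso (M : BigSite.Mod K S) {U V : Over S} (e : U ≅ V)
    (h : Subsingleton (BigSite.sectMod K M U)) : Subsingleton (BigSite.sectMod K M V) := by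
  have h3 : ∀ z : M.val.presheaf.obj (op V),
      M.val.presheaf.map e.inv.op (M.val.presheaf.map e.hom.op z) = z := by
    intro z
    rw [← ConcreteCategory.comp_apply, ← Functor.map_comp, ← op_comp, e.inv_hom_id, op_id,
      CategoryTheory.Functor.map_id]
    rfl
  have key : ∀ x y : M.val.presheaf.obj (op V), x = y := by
    intro x y
    have h1 : M.val.presheaf.map e.hom.op x = M.val.presheaf.map e.hom.op y :=
      Subsingleton.elim (α := BigSite.sectMod K M U) _ _
    have h2 := congrArg (M.val.presheaf.map e.inv.op) h1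
    rw [h3, h3] at h2
    exact h2
  exact ⟨key⟩

end para

section flat
variable {R : Type u} [CommRing R]

/-- an adequate functor vanishing at `B` vanishes at every flat `B`-algebra -/
theorem subsingleton_of_adequate_flat (F : Adeq.MVF R) (hF : Adeq.adequate R F)
    {B B' : Adeq.Alg R} (f : B ⟶ B') (hf : f.hom.toRingHom.Flat)
    (h : Subsingleton (F.obj (Adeq.pt B))) : Subsingleton (F.obj (Adeq.pt B')) := by
  have hb := (AdeqLib.bc_bijective_of_adequate_flat F hF f hf).2
  have h0 : ∀ z : (ModuleCat.extendScalars.{u, u, u + 1} f.hom.toRingHom).obj (F.obj (Adeq.pt B)),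
      z = 0 := by
    intro z
    algebraize [f.hom.toRingHom]
    change (B' : Type u) ⊗[(B : Type u)] (F.obj (Adeq.pt B)) at z
    induction z using TensorProduct.induction_on with
    | zero => rfl
    | tmul b x =>
      rw [Subsingleton.elim x 0, TensorProduct.tmul_zero]
      rfl
    | add x y hx hy =>
      rw [hx, hy]
      exact add_zero _
  refine ⟨fun x y => ?_⟩
  obtain ⟨x', rfl⟩ := hb x
  obtain ⟨y', rfl⟩ := hb y
  rw [h0 x', h0 y']

end flat

section loc
variable {S : Scheme.{u}} (M : BigSite.Mod Scheme.fppfPrecoverage S)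

theorem specOver_unit_w {U : S.Opens} (hU : IsAffineOpen U) :
    hU.isoSpec.hom ≫ (Spec.map (CommRingCat.ofHom (algebraMap Γ(S, U) Γ(S, U))) ≫ hU.fromSpec) =
      U.ι := by
  have h1 : CommRingCat.ofHom (algebraMap Γ(S, U) Γ(S, U)) = 𝟙 _ := rfl
  rw [h1, Spec.map_id]
  erw [Category.id_comp]
  rw [← IsAffineOpen.isoSpec_inv_ι, Iso.hom_inv_id_assoc]

theorem specOver_flat_w {U : S.Opens} (hU : IsAffineOpen U) (V : Over S) {W : V.left.Opens}
    (hW : IsAffineOpen W) (hle : W ≤ V.hom ⁻¹ᵁ U) :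
    hW.isoSpec.inv ≫ (W.ι ≫ V.hom) = Spec.map (V.hom.appLE U W hle) ≫ hU.fromSpec := by
  rw [IsAffineOpen.SpecMap_appLE_fromSpec V.hom hU hW hle, ← Category.assoc,
    IsAffineOpen.isoSpec_inv_ι]

theorem subsingleton_of_affine_flat (hM : Adeq.adequateMod Scheme.fppfPrecoverage S M)
    {U : S.Opens} (hU : IsAffineOpen U)
    (h0 : Subsingleton (BigSite.sectMod Scheme.fppfPrecoverage M ((BigSite.zarIncl S).obj U)))
    (V : Over S) (hV : Flat V.hom) {W : V.left.Opens} (hW : IsAffineOpen W)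
    (hle : W ≤ V.hom ⁻¹ᵁ U) :
    Subsingleton (BigSite.sectMod Scheme.fppfPrecoverage M (Over.mk (W.ι ≫ V.hom))) := by
  let R : CommRingCat.{u} := Γ(S, U)
  let a : Spec R ⟶ S := hU.fromSpec
  let φ : R ⟶ Γ(V.left, W) := V.hom.appLE U W hle
  letI : Algebra R Γ(V.left, W) := φ.hom.toAlgebra
  have hflat : φ.hom.Flat := Flat.flat_appLE V.hom hU hW hle
  let F := (Adeq.toMVF Scheme.fppfPrecoverage a).obj M
  have hF : Adeq.adequate R F := adequate_toMVF_fppf M hM R a
  let e0 : (BigSite.zarIncl S).obj U ≅ (Adeq.specOver a).obj (op (Adeq.algOf R R)) :=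
    Over.isoMk hU.isoSpec (specOver_unit_w hU)
  have hR : Subsingleton (F.obj (Adeq.pt (Adeq.algOf R R))) :=
    subsingleton_sectMod_of_objIso _ M e0 h0
  have hB : Subsingleton (F.obj (Adeq.pt (Adeq.algOf R Γ(V.left, W)))) :=
    subsingleton_of_adequate_flat F hF
      (CommAlgCat.ofHom (Algebra.ofId R Γ(V.left, W)) : Adeq.algOf R R ⟶ Adeq.algOf R Γ(V.left, W))
      hflat hR
  let e1 : (Adeq.specOver a).obj (op (Adeq.algOf R Γ(V.left, W))) ≅ Over.mk (W.ι ≫ V.hom) :=
    Over.isoMk hW.isoSpec.symm (specOver_flat_w hU V hW hle)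
  exact subsingleton_sectMod_of_objIso _ M e1 hB

end loc

section glob
variable {S : Scheme.{u}} (M : BigSite.Mod Scheme.fppfPrecoverage S)

theorem parasitic_of_affine_cover (hM : Adeq.adequateMod Scheme.fppfPrecoverage S M)
    {ι : Type u} (U : ι → S.Opens) (hU : ∀ i, IsAffineOpen (U i)) (hcov : (⨆ i, U i) = ⊤)
    (h0 : ∀ i, Subsingleton
      (BigSite.sectMod Scheme.fppfPrecoverage M ((BigSite.zarIncl S).obj (U i)))) :
    Adeq.parasitic Scheme.fppfPrecoverage S M := by
  intro V hV
  have hpt : ∀ v : V.left, ∃ W : V.left.Opens, IsAffineOpen W ∧ v ∈ W ∧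
      ∃ i, W ≤ V.hom ⁻¹ᵁ (U i) := by
    intro v
    have hv : V.hom.base v ∈ (⨆ i, U i) := by rw [hcov]; trivial
    obtain ⟨i, hi⟩ := TopologicalSpace.Opens.mem_iSup.mp hv
    have hmem : v ∈ V.hom ⁻¹ᵁ (U i) := hi
    obtain ⟨W, hW, hvW, hWle⟩ :=
      (TopologicalSpace.Opens.isBasis_iff_nbhd.mp V.left.isBasis_affineOpens) hmem
    exact ⟨W, hW, hvW, i, hWle⟩
  choose W hW hvW i hWle using hpt
  have hoc : TopologicalSpace.IsOpenCover W := by
    refine top_unique ?_
    intro v _
    exact TopologicalSpace.Opens.mem_iSup.mpr ⟨v, hvW v⟩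
  let 𝒰 : V.left.OpenCover := V.left.openCoverOfIsOpenCover W hoc
  have hpiece : ∀ v, Subsingleton
      (BigSite.sectMod Scheme.fppfPrecoverage M (Over.mk ((W v).ι ≫ V.hom))) :=
    fun v => subsingleton_of_affine_flat M hM (hU (i v)) (h0 (i v)) V hV (hW v) (hWle v)
  let F := SheafOfModules.toSheaf (BigSite.ORing Scheme.fppfPrecoverage S)
  suffices key : ∀ x y : (F.obj M).obj.obj (op V), x = y from ⟨key⟩
  intro x y
  let T : Sieve V := Presheaf.equalizerSieve (F := (F.obj M).obj) (X := op V) x y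
  have hT : T ∈ QuotSh.J Scheme.fppfPrecoverage S V := by
    rw [GrothendieckTopology.mem_over_iff]
    haveI : Scheme.fppfPrecoverage.{u}.HasIsos := Groth.Agent.S8784.fppf_hasIsos
    haveI : Scheme.fppfPrecoverage.{u}.HasPullbacks := Groth.Agent.S8784.fppf_hasPullbacks
    rw [Precoverage.mem_toGrothendieck_iff_of_isStableUnderComposition]
    refine ⟨Presieve.ofArrows 𝒰.X 𝒰.f, Scheme.zariskiPrecoverage_le_fppfPrecoverage _ 𝒰.mem₀, ?_⟩
    rintro _ _ ⟨v⟩
    rw [Sieve.overEquiv_iff]
    haveI := hpiece v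
    exact Subsingleton.elim
      (α := BigSite.sectMod Scheme.fppfPrecoverage M (Over.mk ((W v).ι ≫ V.hom))) _ _
  exact (F.obj M).property.isSeparated V T hT x y (fun W g hg => hg)

end glob

section tfae
variable {S : Scheme.{u}} (M : BigSite.Mod Scheme.fppfPrecoverage S)

theorem parasiticFor_of_parasitic (h : Adeq.parasitic Scheme.fppfPrecoverage S M) :
    Adeq.parasiticFor Scheme.fppfPrecoverage S M := by
  intro P hP V g hg
  exact h (Over.mk g) (hP.2 hg).1

theorem subsingleton_opens_of_parasiticFor (h : Adeq.parasiticFor Scheme.fppfPrecoverage S M)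
    (U : S.Opens) :
    Subsingleton (BigSite.sectMod Scheme.fppfPrecoverage M ((BigSite.zarIncl S).obj U)) := by
  have hoc : TopologicalSpace.IsOpenCover (fun b : Bool => cond b U ⊤) :=
    top_unique (le_iSup_of_le false le_rfl)
  let 𝒰 : S.OpenCover := S.openCoverOfIsOpenCover (fun b : Bool => cond b U ⊤) hoc
  have hmem : Presieve.ofArrows 𝒰.X 𝒰.f ∈ Scheme.fppfPrecoverage.coverings S :=
    Scheme.zariskiPrecoverage_le_fppfPrecoverage _ 𝒰.mem₀
  exact h hmem (𝒰.f true) (Presieve.ofArrows.mk true)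

theorem exists_affine_cover_of_opens
    (h : ∀ U : S.Opens,
      Subsingleton (BigSite.sectMod Scheme.fppfPrecoverage M ((BigSite.zarIncl S).obj U))) :
    ∃ (ι : Type u) (U : ι → S.Opens), (∀ i, IsAffineOpen (U i)) ∧ (⨆ i, U i) = ⊤ ∧
      ∀ i, Subsingleton
        (BigSite.sectMod Scheme.fppfPrecoverage M ((BigSite.zarIncl S).obj (U i))) :=
  ⟨S.affineCover.I₀, fun i => (S.affineCover.f i).opensRange,
    fun i => isAffineOpen_opensRange _, S.affineCover.iSup_opensRange, fun i => h _⟩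

theorem parasitic_tfae (hM : Adeq.adequateMod Scheme.fppfPrecoverage S M) :
    List.TFAE [Adeq.parasitic Scheme.fppfPrecoverage S M,
      Adeq.parasiticFor Scheme.fppfPrecoverage S M,
      ∀ U : S.Opens,
        Subsingleton (BigSite.sectMod Scheme.fppfPrecoverage M ((BigSite.zarIncl S).obj U)),
      ∃ (ι : Type u) (U : ι → S.Opens), (∀ i, IsAffineOpen (U i)) ∧ (⨆ i, U i) = ⊤ ∧
        ∀ i, Subsingleton
          (BigSite.sectMod Scheme.fppfPrecoverage M ((BigSite.zarIncl S).obj (U i)))] := by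
  tfae_have 1 → 2 := parasiticFor_of_parasitic M
  tfae_have 2 → 3 := subsingleton_opens_of_parasiticFor M
  tfae_have 3 → 4 := exists_affine_cover_of_opens M
  tfae_have 4 → 1 := fun ⟨_, U, hU, hcov, h0⟩ => parasitic_of_affine_cover M hM U hU hcov h0
  tfae_finish

end tfae

end Groth.Agent.Lib.Helper14.AdeqBig
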