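import Mathlib
import Groth.Prelude.Def_Adeq
import Groth.Agent.Lib.Helper14.Adeq1

/-!
# helper14: adequate functors commute with filtered colimits — elementwise facts on filtered
colimits of commutative algebras
-/

set_option autoImplicit false
universe u
open CategoryTheory Limits TensorProduct

namespace Groth.Agent.Lib.Helper14.AdeqFilt

variable {A : Type u} [CommRing A]

/-- the forgetful functor of commutative algebras through rings -/
noncomputable def forgetIso : forget (CommAlgCat.{u} A) ≅
    (commAlgCatEquivUnder (CommRingCat.of A)).functor ⋙ Under.forget _ ⋙ forget CommRingCat.{u} :=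
  NatIso.ofComponents (fun B => Iso.refl _) (fun f => rfl)

instance (J : Type u) [SmallCategory J] [IsFiltered J] :
    PreservesColimitsOfShape J (forget (CommAlgCat.{u} A)) := by
  haveI : IsConnected J := IsFiltered.isConnected J
  haveI : PreservesColimitsOfShape J
      ((commAlgCatEquivUnder (CommRingCat.of A)).functor ⋙ Under.forget _ ⋙
        forget CommRingCat.{u}) := inferInstance
  exact preservesColimitsOfShape_of_natIso forgetIso.symm

variable {J : Type u} [SmallCategory J] [IsFiltered J] {D : J ⥤ Adeq.Alg A} {c : Cocone D}
  (hc : IsColimit c)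

include hc in
theorem exists_rep (b : c.pt) : ∃ (j : J) (d : D.obj j), c.ι.app j d = b := by
  have h := isColimitOfPreserves (forget (CommAlgCat.{u} A)) hc
  obtain ⟨j, d, hd⟩ := Types.jointly_surjective_of_isColimit h b
  exact ⟨j, d, hd⟩

include hc in
theorem exists_eq_of_eq {j j' : J} (d : D.obj j) (d' : D.obj j')
    (h : c.ι.app j d = c.ι.app j' d') :
    ∃ (k : J) (f : j ⟶ k) (f' : j' ⟶ k), D.map f d = D.map f' d' := by
  have h' := isColimitOfPreserves (forget (CommAlgCat.{u} A)) hc
  exact (Types.FilteredColimit.isColimit_eq_iff _ h').mp h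

end Groth.Agent.Lib.Helper14.AdeqFilt
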