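import Mathlib
import Groth.Prelude.Def_Adeq
import Groth.Agent.Lib.Helper14.AdeqFilt1

/-!
# helper14: tensor products commute with filtered colimits of commutative algebras, elementwise
-/

set_option autoImplicit false
universe u v
open CategoryTheory Limits TensorProduct

namespace Groth.Agent.Lib.Helper14.AdeqFilt

variable {A : Type u} [CommRing A]
variable {J : Type u} [SmallCategory J] [IsFiltered J] {D : J ⥤ Adeq.Alg A} {c : Cocone D}
  (hc : IsColimit c)

theorem w_apply {j k : J} (f : j ⟶ k) (d : D.obj j) : c.ι.app k (D.map f d) = c.ι.app j d := by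
  rw [← CommAlgCat.comp_apply, c.w]

include hc in
/-- the universal property of a filtered colimit of algebras for linear maps into a module of any
universe -/
theorem exists_desc {Q : Type v} [AddCommGroup Q] [Module A Q] (g : ∀ j, D.obj j →ₗ[A] Q)
    (hg : ∀ {j k : J} (f : j ⟶ k) (d : D.obj j), g k (D.map f d) = g j d) :
    ∃ G : c.pt →ₗ[A] Q, ∀ j (d : D.obj j), G (c.ι.app j d) = g j d := by
  classical
  choose jb db hdb using exists_rep hc
  have key : ∀ (j : J) (d : D.obj j), g (jb (c.ι.app j d)) (db (c.ι.app j d)) = g j d := by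
    intro j d
    obtain ⟨k, f, f', h⟩ := exists_eq_of_eq hc (db (c.ι.app j d)) d (hdb _)
    rw [← hg f, h, hg f']
  refine ⟨{ toFun := fun b => g (jb b) (db b), map_add' := ?_, map_smul' := ?_ }, key⟩
  · intro b b'
    obtain ⟨j, d, rfl⟩ := exists_rep hc b
    obtain ⟨j', d', rfl⟩ := exists_rep hc b'
    let k := IsFiltered.max j j'
    have e1 : c.ι.app j d = c.ι.app k (D.map (IsFiltered.leftToMax j j') d) :=
      (w_apply (c := c) (IsFiltered.leftToMax j j') d).symm
    have e2 : c.ι.app j' d' = c.ι.app k (D.map (IsFiltered.rightToMax j j') d') :=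
      (w_apply (c := c) (IsFiltered.rightToMax j j') d').symm
    rw [e1, e2, ← map_add, key, key, key, map_add, hg, hg]
  · intro a b
    obtain ⟨j, d, rfl⟩ := exists_rep hc b
    rw [← map_smul, key, key, map_smul, RingHom.id_apply]

/-- the transition maps on tensor products -/
noncomputable def tmap (M : Type v) [AddCommGroup M] [Module A M] {B B' : Adeq.Alg A}
    (f : B ⟶ B') : B ⊗[A] M →ₗ[A] B' ⊗[A] M :=
  f.hom.toLinearMap.rTensor M

theorem tmap_tmul (M : Type v) [AddCommGroup M] [Module A M] {B B' : Adeq.Alg A}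
    (f : B ⟶ B') (b : B) (m : M) : tmap M f (b ⊗ₜ m) = f b ⊗ₜ m := rfl

theorem tmap_comp (M : Type v) [AddCommGroup M] [Module A M] {B B' B'' : Adeq.Alg A}
    (f : B ⟶ B') (g : B' ⟶ B'') (y : B ⊗[A] M) : tmap M (f ≫ g) y = tmap M g (tmap M f y) := by
  induction y using TensorProduct.induction_on with
  | zero => simp
  | tmul b m => rfl
  | add x y hx hy => rw [map_add, hx, hy, map_add, map_add]

include hc in
/-- every element of the tensor product over the colimit comes from a finite stage -/
theorem tensor_exists_rep (M : Type v) [AddCommGroup M] [Module A M] (y : c.pt ⊗[A] M) :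
    ∃ (j : J) (z : D.obj j ⊗[A] M), tmap M (c.ι.app j) z = y := by
  induction y using TensorProduct.induction_on with
  | zero => exact ⟨IsFiltered.nonempty.some, 0, map_zero _⟩
  | tmul b m =>
    obtain ⟨j, d, rfl⟩ := exists_rep hc b
    exact ⟨j, d ⊗ₜ m, rfl⟩
  | add x y hx hy =>
    obtain ⟨j, z, rfl⟩ := hx
    obtain ⟨j', z', rfl⟩ := hy
    refine ⟨IsFiltered.max j j', tmap M (D.map (IsFiltered.leftToMax j j')) z +
      tmap M (D.map (IsFiltered.rightToMax j j')) z', ?_⟩
    rw [map_add, ← tmap_comp, ← tmap_comp, c.w, c.w]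

end Groth.Agent.Lib.Helper14.AdeqFilt
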