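import Mathlib
import Groth.Prelude.Def_Adeq
import Groth.Agent.Lib.Helper14.AdeqFilt2

/-!
# helper14: tensor products commute with filtered colimits of commutative algebras (injectivity
part), via the colimit of abelian groups
-/

set_option autoImplicit false
set_option linter.style.haveILetI false
universe u v
open CategoryTheory Limits TensorProduct

namespace Groth.Agent.Lib.Helper14.AdeqFilt

/-- the forgetful functor of abelian groups in the next universe preserves small filtered
colimits -/
noncomputable instance presForgetAb {J : Type u} [SmallCategory J] [IsFiltered J] :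
    PreservesColimitsOfShape J (forget AddCommGrpCat.{u + 1}) := by
  let e : J ≌ AsSmall.{u + 1} J := AsSmall.equiv
  haveI : IsFiltered (AsSmall.{u + 1} J) := IsFiltered.of_equivalence e
  exact preservesColimitsOfShape_of_equiv e.symm (forget AddCommGrpCat.{u + 1})

variable {A : Type u} [CommRing A]
variable {J : Type u} [SmallCategory J] [IsFiltered J] {D : J ⥤ Adeq.Alg A} {c : Cocone D}
  (hc : IsColimit c)

include hc in
/-- the universal property of a filtered colimit of algebras for additive maps into an abelian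
group of any universe -/
theorem exists_desc_add {Q : Type v} [AddCommGroup Q] (g : ∀ j, D.obj j →+ Q)
    (hg : ∀ {j k : J} (f : j ⟶ k) (d : D.obj j), g k (D.map f d) = g j d) :
    ∃ G : c.pt →+ Q, ∀ j (d : D.obj j), G (c.ι.app j d) = g j d := by
  classical
  choose jb db hdb using exists_rep hc
  have key : ∀ (j : J) (d : D.obj j), g (jb (c.ι.app j d)) (db (c.ι.app j d)) = g j d := by
    intro j d
    obtain ⟨k, f, f', h⟩ := exists_eq_of_eq hc (db (c.ι.app j d)) d (hdb _)
    rw [← hg f, h, hg f']
  refine ⟨AddMonoidHom.mk' (fun b => g (jb b) (db b)) ?_, key⟩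
  intro b b'
  obtain ⟨j, d, rfl⟩ := exists_rep hc b
  obtain ⟨j', d', rfl⟩ := exists_rep hc b'
  let k := IsFiltered.max j j'
  have e1 : c.ι.app j d = c.ι.app k (D.map (IsFiltered.leftToMax j j') d) :=
    (w_apply (c := c) (IsFiltered.leftToMax j j') d).symm
  have e2 : c.ι.app j' d' = c.ι.app k (D.map (IsFiltered.rightToMax j j') d') :=
    (w_apply (c := c) (IsFiltered.rightToMax j j') d').symm
  rw [e1, e2, ← map_add, key, key, key, map_add, hg, hg]

section T2

variable (D) (M : Type (u + 1)) [AddCommGroup M] [Module A M]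

theorem tmap_id (B : Adeq.Alg A) (y : B ⊗[A] M) : tmap M (𝟙 B) y = y := by
  induction y using TensorProduct.induction_on with
  | zero => simp
  | tmul b m => rfl
  | add x y hx hy => rw [map_add, hx, hy]

/-- the diagram `j ↦ D j ⊗ M` of abelian groups -/
noncomputable def FM : J ⥤ AddCommGrpCat.{u + 1} where
  obj j := AddCommGrpCat.of (D.obj j ⊗[A] M)
  map f := AddCommGrpCat.ofHom (tmap M (D.map f)).toAddMonoidHom
  map_id j := by
    ext y
    change tmap M (D.map (𝟙 j)) y = y
    rw [D.map_id, tmap_id]
  map_comp f g := by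
    ext y
    change tmap M (D.map (f ≫ g)) y = tmap M (D.map g) (tmap M (D.map f) y)
    rw [D.map_comp, tmap_comp]

variable {D}

include hc in
theorem tensor_exists_eq_of_eq {j j' : J} (z : D.obj j ⊗[A] M) (z' : D.obj j' ⊗[A] M)
    (h : tmap M (c.ι.app j) z = tmap M (c.ι.app j') z') :
    ∃ (k : J) (f : j ⟶ k) (f' : j' ⟶ k), tmap M (D.map f) z = tmap M (D.map f') z' := by
  let L := colimit (FM D M)
  let ι : ∀ j, D.obj j ⊗[A] M →+ L := fun j => (colimit.ι (FM D M) j).hom
  have hι : ∀ {j k : J} (f : j ⟶ k) (y : D.obj j ⊗[A] M), ι k (tmap M (D.map f) y) = ι j y := by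
    intro j k f y
    have := colimit.w (FM D M) f
    exact congrArg (fun (q : (FM D M).obj j ⟶ L) => q.hom y) this
  let g : ∀ j, D.obj j →+ (M →+ L) := fun j =>
    AddMonoidHom.mk' (fun d => (ι j).comp (TensorProduct.mk A (D.obj j) M d).toAddMonoidHom)
      (by
        intro d d'
        ext m
        change ι j ((d + d') ⊗ₜ m) = ι j (d ⊗ₜ m) + ι j (d' ⊗ₜ m)
        rw [TensorProduct.add_tmul, map_add])
  have hgapp : ∀ j (d : D.obj j) (m : M), g j d m = ι j (d ⊗ₜ m) := fun _ _ _ => rfl
  have hg : ∀ {j k : J} (f : j ⟶ k) (d : D.obj j), g k (D.map f d) = g j d := by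
    intro j k f d
    ext m
    rw [hgapp, hgapp, ← hι f]
    rfl
  obtain ⟨β, hβ⟩ := exists_desc_add hc g hg
  have hbal : ∀ (a : A) (b : c.pt) (m : M), β (a • b) m = β b (a • m) := by
    intro a b m
    obtain ⟨j, d, rfl⟩ := exists_rep hc b
    rw [← map_smul, hβ, hβ, hgapp, hgapp, TensorProduct.smul_tmul]
  let Θ : c.pt ⊗[A] M →+ L := TensorProduct.liftAddHom β hbal
  have hΘ : ∀ j (y : D.obj j ⊗[A] M), Θ (tmap M (c.ι.app j) y) = ι j y := by
    intro j y
    induction y using TensorProduct.induction_on with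
    | zero => rw [map_zero, map_zero, map_zero]
    | tmul d m =>
      rw [tmap_tmul]
      change β (c.ι.app j d) m = ι j (d ⊗ₜ m)
      rw [hβ, hgapp]
    | add x y hx hy => rw [map_add, map_add, hx, hy, map_add]
  have hz : ι j z = ι j' z' := by rw [← hΘ, ← hΘ, h]
  obtain ⟨k, f, f', hk⟩ := (Concrete.colimit_rep_eq_iff_exists (FM D M) z z').mp hz
  exact ⟨k, f, f', hk⟩

end T2

end Groth.Agent.Lib.Helper14.AdeqFilt
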