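import Mathlib
import Groth.Prelude.Def_Adeq
import Groth.Agent.Lib.Helper14.AdeqFilt3

/-!
# helper14: adequate functors commute with filtered colimits
-/

set_option autoImplicit false
set_option linter.style.haveILetI false
universe u
open CategoryTheory Limits TensorProduct

namespace Groth.Agent.Lib.Helper14.AdeqFilt

open Groth.Agent.Lib.Helper14.AdeqLib

variable {A : Type u} [CommRing A]

theorem baseChange_tmap {M N : ModuleCat.{u + 1} A} (φ : M ⟶ N) {B B' : Adeq.Alg A} (f : B ⟶ B')
    (y : B ⊗[A] M) :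
    φ.hom.baseChange B' (tmap M f y) = tmap N f (φ.hom.baseChange B y) := by
  induction y using TensorProduct.induction_on with
  | zero => simp
  | tmul b m => rfl
  | add x y hx hy => rw [map_add, map_add, hx, hy, map_add, map_add]

variable {J : Type u} [SmallCategory J] [IsFiltered J] {D : J ⥤ Adeq.Alg A} {c : Cocone D}
  (hc : IsColimit c)

include hc in
theorem isColimit_toAb (F : Adeq.MVF A) (hF : Adeq.adequate A F) :
    Nonempty (IsColimit (F.toAb.mapCocone c)) := by
  obtain ⟨M, N, φ, i, hinj, hzero, hex⟩ := exists_exact_of_adequate hF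
  have hnat : ∀ {B B' : Adeq.Alg A} (f : B ⟶ B') (x : F.obj (Adeq.pt B)),
      ofU M B' (i.app (Adeq.pt B') (F.map (Adeq.ptHom f) x)) =
        tmap M f (ofU M B (i.app (Adeq.pt B) x)) := by
    intro B B' f x
    rw [PresheafOfModules.naturality_apply]
    rfl
  have hz0 : ∀ (B : Adeq.Alg A) (x : F.obj (Adeq.pt B)),
      φ.hom.baseChange B (ofU M B (i.app (Adeq.pt B) x)) = 0 := by
    intro B x
    have := congrArg (fun (q : F ⟶ (Adeq.underline A).obj N) => q.app (Adeq.pt B) x) hzero
    exact this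
  haveI := reflectsColimit_of_reflectsIsomorphisms (D ⋙ F.toAb) (forget AddCommGrpCat.{u + 1})
  refine ⟨isColimitOfReflects (forget AddCommGrpCat.{u + 1})
    (Types.FilteredColimit.isColimitOf _ _ ?_ ?_)⟩
  · intro x
    change F.obj (Adeq.pt c.pt) at x
    obtain ⟨j, z, hz⟩ := tensor_exists_rep hc M (ofU M c.pt (i.app (Adeq.pt c.pt) x))
    have h1 : tmap N (c.ι.app j) (φ.hom.baseChange (D.obj j) z) =
        tmap N (c.ι.app j) (0 : D.obj j ⊗[A] N) := by
      have e0 : φ.hom.baseChange c.pt (tmap M (c.ι.app j) z) = 0 := by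
        rw [hz]; exact hz0 c.pt x
      have e3 := baseChange_tmap φ (c.ι.app j) z
      rw [map_zero]
      exact e3.symm.trans e0
    obtain ⟨k, f, f', hk⟩ := tensor_exists_eq_of_eq hc N _ _ h1
    rw [map_zero, ← baseChange_tmap] at hk
    obtain ⟨xk, hxk⟩ := hex (Adeq.pt (D.obj k)) (toU M (D.obj k) (tmap M (D.map f) z)) hk
    refine ⟨k, xk, ?_⟩
    apply hinj (Adeq.pt c.pt)
    change i.app (Adeq.pt c.pt) x =
      i.app (Adeq.pt c.pt) (F.map (Adeq.ptHom (c.ι.app k)) xk)
    have e1 := hnat (c.ι.app k) xk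
    rw [hxk] at e1
    change ofU M c.pt _ = tmap M (c.ι.app k) (tmap M (D.map f) z) at e1
    rw [← tmap_comp, c.w, hz] at e1
    exact e1.symm
  · intro j j' xj xj' h
    change F.obj (Adeq.pt (D.obj j)) at xj
    change F.obj (Adeq.pt (D.obj j')) at xj'
    change F.map (Adeq.ptHom (c.ι.app j)) xj = F.map (Adeq.ptHom (c.ι.app j')) xj' at h
    have h2 : tmap M (c.ι.app j) (ofU M _ (i.app (Adeq.pt (D.obj j)) xj)) =
        tmap M (c.ι.app j') (ofU M _ (i.app (Adeq.pt (D.obj j')) xj')) := by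
      have e1 := hnat (c.ι.app j) xj
      have e2 := hnat (c.ι.app j') xj'
      have e3 := congrArg (fun t => ofU M c.pt (i.app (Adeq.pt c.pt) t)) h
      exact e1.symm.trans (e3.trans e2)
    obtain ⟨k, f, f', hk⟩ := tensor_exists_eq_of_eq hc M _ _ h2
    refine ⟨k, f, f', ?_⟩
    change F.map (Adeq.ptHom (D.map f)) xj = F.map (Adeq.ptHom (D.map f')) xj'
    apply hinj (Adeq.pt (D.obj k))
    have e1 := hnat (D.map f) xj
    have e2 := hnat (D.map f') xj'
    rw [← e1, ← e2] at hk
    exact hk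

end Groth.Agent.Lib.Helper14.AdeqFilt
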