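import Groth.Agent.Lib.Helper14.AdeqH1d
import Groth.Agent.Lib.Helper14.SigSheaf
import Mathlib.AlgebraicGeometry.Sites.SheafQuasiCompact
import Mathlib.AlgebraicGeometry.Sites.Fpqc

set_option autoImplicit false
open CategoryTheory Limits Opposite TensorProduct AlgebraicGeometry
universe u
namespace Groth.Agent.Lib.Helper14.AdeqBig

open Groth.Agent.Lib.Helper14.AdeqLib
open Groth.Agent.Lib.Helper14

section descent
variable (K : Precoverage Scheme.{u}) [BigSite.OSh K] {S : Scheme.{u}} {R : CommRingCat.{u}}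
  (a : Spec R ⟶ S) (M : BigSite.Mod K S)
variable (A : Type u) [CommRing A] [Algebra R A]

/-- the underlying presheaf of types of a module on the big site -/
noncomputable abbrev GT : (Over S)ᵒᵖ ⥤ Type (u + 1) := M.val.presheaf ⋙ forget AddCommGrpCat

theorem piA_lB_eq : (Adeq.specOver a).map (lB (R := R) A).op ≫ piA a A =
    (Adeq.specOver a).map (rB' (R := R) A).op ≫ piA a A := by
  change (Adeq.specOver a).map (lB (R := R) A).op ≫ (Adeq.specOver a).map (uB (R := R) A).op =
    (Adeq.specOver a).map (rB' (R := R) A).op ≫ (Adeq.specOver a).map (uB (R := R) A).op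
  rw [← CategoryTheory.Functor.map_comp, ← CategoryTheory.Functor.map_comp, ← op_comp, ← op_comp,
    uB_lB_eq]

/-- the sheaf condition for the single map `Spec A → Spec R` with `A` faithfully flat over `R`,
for a module whose functor on `R`-algebras is adequate -/
theorem ff_single [Module.FaithfullyFlat R A] (hF : Adeq.adequate R ((Adeq.toMVF K a).obj M)) :
    Presieve.IsSheafFor (GT K M) (Presieve.singleton (piA a A)) := by
  rw [Presieve.isSheafFor_singleton]
  intro x hx
  obtain ⟨hinj, hsurj⟩ := adequate_ff_descent A _ hF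
  have hx' := hx _ _ (piA_lB_eq a A)
  obtain ⟨y, hy⟩ := hsurj x hx'
  exact ⟨y, hy, fun y' hy' => hinj (hy'.trans hy.symm)⟩

end descent

section transport
variable {S : Scheme.{u}} (G : (Over S)ᵒᵖ ⥤ Type (u + 1))

theorem isSheafFor_singleton_of_eq {X Y : Scheme.{u}} (φ : Y ⟶ X) (g g' : X ⟶ S) (h : g' = g)
    (k : Y ⟶ S) (w : φ ≫ g' = k) (w' : φ ≫ g = k)
    (H : Presieve.IsSheafFor G
      (Presieve.singleton (Over.homMk φ w : Over.mk k ⟶ Over.mk g'))) :
    Presieve.IsSheafFor G (Presieve.singleton (Over.homMk φ w' : Over.mk k ⟶ Over.mk g)) := by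
  subst h
  exact H

end transport

section T2
variable (K : Precoverage Scheme.{u}) [BigSite.OSh K] {S : Scheme.{u}} (M : BigSite.Mod K S)

theorem unit_w {R : CommRingCat.{u}} (g : Spec R ⟶ S) :
    Spec.map (CommRingCat.ofHom (algebraMap R R)) ≫ g = g := by
  have h1 : CommRingCat.ofHom (algebraMap R R) = 𝟙 _ := rfl
  rw [h1, Spec.map_id]
  erw [Category.id_comp]

theorem isSheafFor_over_singleton
    (hK : ∀ (R : CommRingCat.{u}) (g : Spec R ⟶ S), Adeq.adequate R ((Adeq.toMVF K g).obj M))
    {R R' : CommRingCat.{u}} (f : R ⟶ R') (hf : Flat (Spec.map f)) (hs : Surjective (Spec.map f))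
    (g : Spec R ⟶ S) :
    Presieve.IsSheafFor (GT K M) (Presieve.singleton
      (Over.homMk (Spec.map f) rfl : Over.mk (Spec.map f ≫ g) ⟶ Over.mk g)) := by
  let _ : Algebra R R' := f.hom.toAlgebra
  have : Module.FaithfullyFlat R R' := (flat_and_surjective_SpecMap_iff f).mp ⟨hf, hs⟩
  have H := ff_single K g M R' (hK R g)
  exact isSheafFor_singleton_of_eq (GT K M) (Spec.map f) g _ (unit_w g) _
    (congrArg (fun t => Spec.map f ≫ t) (unit_w g)) rfl H

end T2

section main
variable (K : Precoverage Scheme.{u}) [BigSite.OSh K] {S : Scheme.{u}} (M : BigSite.Mod K S)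

theorem isSheafFor_sig_singleton
    (hK : ∀ (R : CommRingCat.{u}) (g : Spec R ⟶ S), Adeq.adequate R ((Adeq.toMVF K g).obj M))
    {R R' : CommRingCat.{u}} (f : R ⟶ R') (hf : Flat (Spec.map f)) (hs : Surjective (Spec.map f)) :
    Presieve.IsSheafFor (SigSheaf.sig (GT K M)) (Presieve.singleton (Spec.map f)) := by
  rw [Presieve.isSheafFor_iff_generate]
  apply SigSheaf.isSheafFor_sig
  · have hmem : Sieve.generate (Presieve.singleton (Spec.map f)) ∈
        Scheme.fpqcTopology (Spec R) := by
      apply Precoverage.generate_mem_toGrothendieck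
      exact Scheme.Hom.singleton_mem_fpqcPrecoverage _
    exact GrothendieckTopology.Subcanonical.isSheaf_of_isRepresentable
      (J := Scheme.fpqcTopology) (yoneda.obj S) _ hmem
  · intro g
    rw [SigSheaf.overEquiv_symm_generate_singleton, ← Presieve.isSheafFor_iff_generate]
    exact isSheafFor_over_singleton K M hK f hf hs g

theorem isSheaf_zariski_sig (hle : Scheme.zariskiTopology ≤ K.toGrothendieck) :
    Presieve.IsSheaf Scheme.zariskiTopology (SigSheaf.sig (GT K M)) := by
  intro X R hR
  apply SigSheaf.isSheafFor_sig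
  · exact GrothendieckTopology.Subcanonical.isSheaf_of_isRepresentable
      (J := Scheme.zariskiTopology) (yoneda.obj S) _ hR
  · intro g
    have hs : Presieve.IsSheaf (QuotSh.J K S) (GT K M) :=
      (isSheaf_iff_isSheaf_of_type _ _).mp
        ((Presheaf.isSheaf_iff_isSheaf_forget _ _ (forget AddCommGrpCat)).mp M.isSheaf)
    apply hs
    exact GrothendieckTopology.overEquiv_symm_mem_over _ (Over.mk g) R (hle _ hR)

theorem isSheaf_fpqc_sig (hle : Scheme.zariskiTopology ≤ K.toGrothendieck)
    (hK : ∀ (R : CommRingCat.{u}) (g : Spec R ⟶ S), Adeq.adequate R ((Adeq.toMVF K g).obj M)) :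
    Presieve.IsSheaf Scheme.fpqcTopology (SigSheaf.sig (GT K M)) := by
  rw [Scheme.fpqcTopology_eq_propQCTopology, isSheaf_type_propQCTopology_iff]
  exact ⟨isSheaf_zariski_sig K M hle, fun f hf hs => isSheafFor_sig_singleton K M hK f hf hs⟩

theorem isSheaf_fpqc (hle : Scheme.zariskiTopology ≤ K.toGrothendieck)
    (hK : ∀ (R : CommRingCat.{u}) (g : Spec R ⟶ S), Adeq.adequate R ((Adeq.toMVF K g).obj M)) :
    Presheaf.IsSheaf (QuotSh.J Scheme.fpqcPrecoverage S) M.val.presheaf := by
  rw [Presheaf.isSheaf_iff_isSheaf_forget _ _ (forget AddCommGrpCat), isSheaf_iff_isSheaf_of_type]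
  intro Y T hT
  rw [GrothendieckTopology.mem_over_iff] at hT
  apply SigSheaf.isSheafFor_of_sig
  · exact isSheaf_fpqc_sig K M hle hK _ hT
  · intro g g' hgg
    have hsep := (GrothendieckTopology.Subcanonical.isSheaf_of_isRepresentable
      (J := Scheme.fpqcTopology) (yoneda.obj S) _ hT).isSeparatedFor
    exact hsep.ext (fun W h hh => hgg h hh)

end main

end Groth.Agent.Lib.Helper14.AdeqBig
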