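import Groth.Agent.Lib.Helper14.AdeqBig7

set_option autoImplicit false
open CategoryTheory Limits Opposite TensorProduct AlgebraicGeometry
universe u v w
namespace Groth.Agent.Lib.Helper14.AdeqLib

section monad
variable (R : Type u) [CommRing R] (A : Type u) [CommRing A] [Algebra R A]
variable (X : Type v) [AddCommGroup X] [Module R X] {Y : Type w} [AddCommGroup Y] [Module R Y]

/-- the multiplication of the monad `T = A ⊗ -` -/
noncomputable def muT : A ⊗[R] (A ⊗[R] X) →ₗ[R] A ⊗[R] X :=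
  (LinearMap.mul' R A).rTensor X ∘ₗ (TensorProduct.assoc R A A X).symm.toLinearMap

theorem muT_tmul (a b : A) (x : X) : muT R A X (a ⊗ₜ[R] (b ⊗ₜ[R] x)) = (a * b) ⊗ₜ[R] x := by
  simp only [muT, LinearMap.coe_comp, LinearEquiv.coe_coe, Function.comp_apply,
    TensorProduct.assoc_symm_tmul, LinearMap.rTensor_tmul, LinearMap.mul'_apply]

variable {X}

theorem muT_natural (f : X →ₗ[R] Y) (z : A ⊗[R] (A ⊗[R] X)) :
    muT R A Y (((f.lTensor A).lTensor A) z) = (f.lTensor A) (muT R A X z) := by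
  induction z using TensorProduct.induction_on with
  | zero => simp only [map_zero]
  | tmul a w =>
    induction w using TensorProduct.induction_on with
    | zero => simp only [TensorProduct.tmul_zero, map_zero]
    | tmul b x =>
      simp only [LinearMap.lTensor_tmul, muT_tmul]
    | add w w' hw hw' => simp only [TensorProduct.tmul_add, map_add, hw, hw']
  | add z z' hz hz' => simp only [map_add, hz, hz']

theorem muT_unit (w : A ⊗[R] X) :
    muT R A X (((TensorProduct.mk R A X 1).lTensor A) w) = w := by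
  induction w using TensorProduct.induction_on with
  | zero => simp only [map_zero]
  | tmul a x =>
    simp only [LinearMap.lTensor_tmul, TensorProduct.mk_apply, muT_tmul, mul_one]
  | add w w' hw hw' => simp only [map_add, hw, hw']

/-- the homotopy identity: on the kernel of `T(η - T d)`, `T d ∘ μ` is the identity -/
theorem amitsur_homotopy (d : X →ₗ[R] A ⊗[R] X) (z : A ⊗[R] (A ⊗[R] X))
    (hz : ((TensorProduct.mk R A (A ⊗[R] X) 1 - d.lTensor A).lTensor A) z = 0) :
    z = (d.lTensor A) (muT R A X z) := by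
  have h1 := congrArg (muT R A (A ⊗[R] X)) hz
  rw [LinearMap.lTensor_sub, LinearMap.sub_apply, map_sub, muT_unit, muT_natural, map_zero,
    sub_eq_zero] at h1
  exact h1

/-- Amitsur exactness, general step: for any `R`-linear `d : X → A ⊗ X`, the kernel of
`η - A ⊗ d : A ⊗ X → A ⊗ (A ⊗ X)` is contained in the range of `d`, if `A` is faithfully flat. -/
theorem amitsur_step [Module.FaithfullyFlat R A] (d : X →ₗ[R] A ⊗[R] X) (y : A ⊗[R] X)
    (hy : (TensorProduct.mk R A (A ⊗[R] X) 1 - d.lTensor A) y = 0) : ∃ x : X, d x = y := by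
  let q := (LinearMap.range d).mkQ
  have hqd : q ∘ₗ d = 0 := LinearMap.range_mkQ_comp d
  have hz : ((TensorProduct.mk R A (A ⊗[R] X) 1 - d.lTensor A).lTensor A) ((1 : A) ⊗ₜ[R] y) = 0 := by
    rw [LinearMap.lTensor_tmul, hy, TensorProduct.tmul_zero]
  have h1 := amitsur_homotopy R A d _ hz
  have h2 : (q.lTensor A) ((1 : A) ⊗ₜ[R] y) = 0 := by
    rw [h1, ← LinearMap.comp_apply, ← LinearMap.lTensor_comp, hqd, LinearMap.lTensor_zero,
      LinearMap.zero_apply]
  rw [LinearMap.lTensor_tmul] at h2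
  have h3 : q y = 0 := by
    apply Module.FaithfullyFlat.tensorProduct_mk_injective (A := R) (B := A)
    rw [map_zero]
    exact h2
  have h4 : y ∈ LinearMap.range d := by
    rwa [Submodule.mkQ_apply, Submodule.Quotient.mk_eq_zero] at h3
  exact h4

end monad

section degone
variable (R : Type u) [CommRing R] (A : Type u) [CommRing A] [Algebra R A]

/-- `x ↦ x ⊗ 1` -/
noncomputable abbrev p12 : A ⊗[R] A →ₐ[R] (A ⊗[R] A) ⊗[R] A :=
  Algebra.TensorProduct.includeLeft
/-- `a ⊗ b ↦ (a ⊗ 1) ⊗ b` -/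
noncomputable abbrev p13 : A ⊗[R] A →ₐ[R] (A ⊗[R] A) ⊗[R] A :=
  Algebra.TensorProduct.map (Algebra.TensorProduct.includeLeft : A →ₐ[R] A ⊗[R] A) (AlgHom.id R A)
/-- `a ⊗ b ↦ (1 ⊗ a) ⊗ b` -/
noncomputable abbrev p23 : A ⊗[R] A →ₐ[R] (A ⊗[R] A) ⊗[R] A :=
  Algebra.TensorProduct.map (Algebra.TensorProduct.includeRight : A →ₐ[R] A ⊗[R] A) (AlgHom.id R A)

variable {R} (M : Type v) [AddCommGroup M] [Module R M]

/-- reassociation `((A ⊗ A) ⊗ A) ⊗ M ≃ A ⊗ (A ⊗ (A ⊗ M))` -/
noncomputable def e3 : ((A ⊗[R] A) ⊗[R] A) ⊗[R] M ≃ₗ[R] A ⊗[R] (A ⊗[R] (A ⊗[R] M)) :=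
  (TensorProduct.assoc R (A ⊗[R] A) A M).trans (TensorProduct.assoc R A A (A ⊗[R] M))

theorem e3_tmul (a b c : A) (m : M) :
    e3 A M (((a ⊗ₜ[R] b) ⊗ₜ[R] c) ⊗ₜ[R] m) = a ⊗ₜ[R] (b ⊗ₜ[R] (c ⊗ₜ[R] m)) := by
  simp only [e3, LinearEquiv.trans_apply, TensorProduct.assoc_tmul]

theorem e3_p23 (w : (A ⊗[R] A) ⊗[R] M) :
    e3 A M (((p23 R A).toLinearMap.rTensor M) w) =
      (TensorProduct.mk R A (A ⊗[R] (A ⊗[R] M)) 1) (TensorProduct.assoc R A A M w) := by
  induction w using TensorProduct.induction_on with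
  | zero => simp only [map_zero]
  | tmul x m =>
    induction x using TensorProduct.induction_on with
    | zero => simp only [TensorProduct.zero_tmul, map_zero]
    | tmul a b =>
      rw [LinearMap.rTensor_tmul, AlgHom.toLinearMap_apply, Algebra.TensorProduct.map_tmul,
        Algebra.TensorProduct.includeRight_apply, AlgHom.id_apply, e3_tmul,
        TensorProduct.assoc_tmul, TensorProduct.mk_apply]
    | add x x' hx hx' => simp only [TensorProduct.add_tmul, map_add, hx, hx']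
  | add w w' hw hw' => simp only [map_add, hw, hw']

theorem e3_p13 (w : (A ⊗[R] A) ⊗[R] M) :
    e3 A M (((p13 R A).toLinearMap.rTensor M) w) =
      ((TensorProduct.mk R A (A ⊗[R] M) 1).lTensor A) (TensorProduct.assoc R A A M w) := by
  induction w using TensorProduct.induction_on with
  | zero => simp only [map_zero]
  | tmul x m =>
    induction x using TensorProduct.induction_on with
    | zero => simp only [TensorProduct.zero_tmul, map_zero]
    | tmul a b =>
      rw [LinearMap.rTensor_tmul, AlgHom.toLinearMap_apply, Algebra.TensorProduct.map_tmul,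
        Algebra.TensorProduct.includeLeft_apply, AlgHom.id_apply, e3_tmul,
        TensorProduct.assoc_tmul, LinearMap.lTensor_tmul, TensorProduct.mk_apply]
    | add x x' hx hx' => simp only [TensorProduct.add_tmul, map_add, hx, hx']
  | add w w' hw hw' => simp only [map_add, hw, hw']

theorem e3_p12 (w : (A ⊗[R] A) ⊗[R] M) :
    e3 A M (((p12 R A).toLinearMap.rTensor M) w) =
      (((TensorProduct.mk R A M 1).lTensor A).lTensor A) (TensorProduct.assoc R A A M w) := by
  induction w using TensorProduct.induction_on with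
  | zero => simp only [map_zero]
  | tmul x m =>
    induction x using TensorProduct.induction_on with
    | zero => simp only [TensorProduct.zero_tmul, map_zero]
    | tmul a b =>
      rw [LinearMap.rTensor_tmul, AlgHom.toLinearMap_apply,
        Algebra.TensorProduct.includeLeft_apply, e3_tmul,
        TensorProduct.assoc_tmul, LinearMap.lTensor_tmul, LinearMap.lTensor_tmul,
        TensorProduct.mk_apply]
    | add x x' hx hx' => simp only [TensorProduct.add_tmul, map_add, hx, hx']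
  | add w w' hw hw' => simp only [map_add, hw, hw']

/-- Amitsur exactness for modules in degree one -/
theorem amitsur_module_one [Module.FaithfullyFlat R A] (w : (A ⊗[R] A) ⊗[R] M)
    (hw : ((p12 R A).toLinearMap.rTensor M) w - ((p13 R A).toLinearMap.rTensor M) w +
      ((p23 R A).toLinearMap.rTensor M) w = 0) :
    ∃ t : A ⊗[R] M, dR A M t - dL A M t = w := by
  let d0 : A ⊗[R] M →ₗ[R] A ⊗[R] (A ⊗[R] M) :=
    TensorProduct.mk R A (A ⊗[R] M) 1 - (TensorProduct.mk R A M 1).lTensor A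
  have h1 : (TensorProduct.mk R A (A ⊗[R] (A ⊗[R] M)) 1 - d0.lTensor A)
      (TensorProduct.assoc R A A M w) = 0 := by
    have h2 := congrArg (e3 A M) hw
    rw [map_add, map_sub, e3_p12, e3_p13, e3_p23, map_zero] at h2
    rw [LinearMap.sub_apply, LinearMap.lTensor_sub, LinearMap.sub_apply]
    rw [← h2]
    abel
  obtain ⟨t, ht⟩ := amitsur_step R A d0 _ h1
  refine ⟨t, ?_⟩
  apply (TensorProduct.assoc R A A M).injective
  rw [map_sub, assoc_dR, assoc_dL, ← ht]
  rfl

end degone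

section h1
variable {R : Type u} [CommRing R] (A : Type u) [CommRing A] [Algebra R A]

/-- `(A ⊗ A) ⊗ A` as an `R`-algebra -/
noncomputable abbrev oBBB : Adeq.Alg R := Adeq.algOf R ((A ⊗[R] A) ⊗[R] A)
noncomputable abbrev P12 : oBB (R := R) A ⟶ oBBB A := CommAlgCat.ofHom (p12 R A)
noncomputable abbrev P13 : oBB (R := R) A ⟶ oBBB A := CommAlgCat.ofHom (p13 R A)
noncomputable abbrev P23 : oBB (R := R) A ⟶ oBBB A := CommAlgCat.ofHom (p23 R A)

theorem uB_lB_eq : uB (R := R) A ≫ lB A = uB A ≫ rB' A := by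
  apply CommAlgCat.hom_ext
  apply AlgHom.ext
  intro r
  change (Algebra.TensorProduct.includeLeft (R := R) (S := R) (A := A) (B := A)) (algebraMap R A r) =
    (Algebra.TensorProduct.includeRight (R := R) (A := A) (B := A)) (algebraMap R A r)
  rw [AlgHom.commutes, AlgHom.commutes]

theorem lB_P12_eq : lB (R := R) A ≫ P12 A = lB A ≫ P13 A := by
  apply CommAlgCat.hom_ext
  apply AlgHom.ext
  intro a
  change (p12 R A) ((a : A) ⊗ₜ[R] (1 : A)) = (p13 R A) ((a : A) ⊗ₜ[R] (1 : A))
  rw [Algebra.TensorProduct.includeLeft_apply, Algebra.TensorProduct.map_tmul,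
    Algebra.TensorProduct.includeLeft_apply, AlgHom.id_apply]

theorem rB_P12_eq : rB' (R := R) A ≫ P12 A = lB A ≫ P23 A := by
  apply CommAlgCat.hom_ext
  apply AlgHom.ext
  intro a
  change (p12 R A) ((1 : A) ⊗ₜ[R] (a : A)) = (p23 R A) ((a : A) ⊗ₜ[R] (1 : A))
  rw [Algebra.TensorProduct.includeLeft_apply, Algebra.TensorProduct.map_tmul,
    Algebra.TensorProduct.includeRight_apply, AlgHom.id_apply]

theorem rB_P13_eq : rB' (R := R) A ≫ P13 A = rB' A ≫ P23 A := by
  apply CommAlgCat.hom_ext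
  apply AlgHom.ext
  intro a
  change (p13 R A) ((1 : A) ⊗ₜ[R] (a : A)) = (p23 R A) ((1 : A) ⊗ₜ[R] (a : A))
  rw [Algebra.TensorProduct.map_tmul, Algebra.TensorProduct.map_tmul, map_one, map_one]

end h1

section h1van
variable {R : Type u} [CommRing R] (A : Type u) [CommRing A] [Algebra R A]

/-- vanishing of the first Cech cohomology of an adequate functor for a faithfully flat algebra -/
theorem adequate_cech_H1 [Module.FaithfullyFlat R A] (F : Adeq.MVF R) (hF : Adeq.adequate R F)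
    (c : F.obj (Adeq.pt (oBB A)))
    (hc : mvfMap F (P12 A) c - mvfMap F (P13 A) c + mvfMap F (P23 A) c = 0) :
    ∃ g : F.obj (Adeq.pt (oB A)), mvfMap F (rB' A) g - mvfMap F (lB A) g = c := by
  obtain ⟨M, N, φ, i, hi, w, hex⟩ := exists_exact_of_adequate hF
  have hnat : ∀ {C C' : Adeq.Alg R} (f : C ⟶ C') (x : F.obj (Adeq.pt C)),
      ofU M C' (i.app (Adeq.pt C') (mvfMap F f x)) =
        (f.hom.toLinearMap.rTensor M) (ofU M C (i.app (Adeq.pt C) x)) := by
    intro C C' f x
    rw [mvfMap_naturality]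
    rfl
  -- the cocycle in `(A ⊗ A) ⊗ M`
  let wc : (A ⊗[R] A) ⊗[R] M := ofU M (oBB A) (i.app (Adeq.pt (oBB A)) c)
  have hwc : ((p12 R A).toLinearMap.rTensor M) wc - ((p13 R A).toLinearMap.rTensor M) wc +
      ((p23 R A).toLinearMap.rTensor M) wc = 0 := by
    have h1 := congrArg (fun t => ofU M (oBBB A) (i.app (Adeq.pt (oBBB A)) t)) hc
    simp only [map_add, map_sub, map_zero] at h1
    have e12 := hnat (P12 A) c
    have e13 := hnat (P13 A) c
    have e23 := hnat (P23 A) c
    have e12' : ((p12 R A).toLinearMap.rTensor M) wc = _ := e12.symm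
    have e13' : ((p13 R A).toLinearMap.rTensor M) wc = _ := e13.symm
    have e23' : ((p23 R A).toLinearMap.rTensor M) wc = _ := e23.symm
    rw [e12', e13', e23']
    exact h1
  -- solve the module-level cocycle
  obtain ⟨t, ht⟩ := amitsur_module_one A M wc hwc
  let tU : ((Adeq.underline R).obj M).obj (Adeq.pt (oB A)) := toU M (oB A) t
  let nA : ((Adeq.underline R).obj N).obj (Adeq.pt (oB A)) :=
    ((Adeq.underline R).map φ).app (Adeq.pt (oB A)) tU
  -- `φ(t)` descends to `N`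
  have hn1 : dL A N (ofU N (oB A) nA) = dR A N (ofU N (oB A) nA) := by
    have h1 : mvfMap ((Adeq.underline R).obj N) (rB' A) nA -
        mvfMap ((Adeq.underline R).obj N) (lB A) nA = 0 := by
      rw [← mvfMap_naturality, ← mvfMap_naturality, ← map_sub]
      have h2 : mvfMap ((Adeq.underline R).obj M) (rB' A) tU -
          mvfMap ((Adeq.underline R).obj M) (lB A) tU = i.app (Adeq.pt (oBB A)) c := ht
      rw [h2, ← comp_app_apply, w]
      rfl
    have h3 := sub_eq_zero.mp h1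
    exact h3.symm
  obtain ⟨n, hn⟩ := amitsur_module A N (ofU N (oB A) nA) hn1
  have hnA : ofU N (oB A) nA = (φ.hom.lTensor A) t := by
    rw [underline_map_app]
    rfl
  -- `n` lies in the range of `φ`
  let q := (LinearMap.range φ.hom).mkQ
  have hqφ : q ∘ₗ φ.hom = 0 := LinearMap.range_mkQ_comp _
  have h4 : (q.lTensor A) ((1 : A) ⊗ₜ[R] n) = 0 := by
    rw [hn, hnA, ← LinearMap.comp_apply, ← LinearMap.lTensor_comp, hqφ, LinearMap.lTensor_zero,
      LinearMap.zero_apply]
  rw [LinearMap.lTensor_tmul] at h4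
  have h5 : q n = 0 := by
    apply Module.FaithfullyFlat.tensorProduct_mk_injective (A := R) (B := A)
    rw [map_zero]
    exact h4
  have h6 : n ∈ LinearMap.range φ.hom := by
    rwa [Submodule.mkQ_apply, Submodule.Quotient.mk_eq_zero] at h5
  obtain ⟨m₀, hm₀⟩ := h6
  -- correct `t`
  let t' : A ⊗[R] M := t - (1 : A) ⊗ₜ[R] m₀
  have ht' : ((Adeq.underline R).map φ).app (Adeq.pt (oB A)) (toU M (oB A) t') = 0 := by
    have h7 : ofU N (oB A) (((Adeq.underline R).map φ).app (Adeq.pt (oB A)) (toU M (oB A) t')) =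
        0 := by
      rw [underline_map_app, ofU_toU]
      change (φ.hom.lTensor A) (t - (1 : A) ⊗ₜ[R] m₀) = 0
      rw [map_sub, LinearMap.lTensor_tmul, hm₀, ← hnA, hn, sub_self]
    exact h7
  obtain ⟨g, hg⟩ := hex _ (toU M (oB A) t') ht'
  refine ⟨g, hi (Adeq.pt (oBB A)) ?_⟩
  have h8 : ofU M (oBB A) (i.app (Adeq.pt (oBB A)) (mvfMap F (rB' A) g - mvfMap F (lB A) g)) =
      wc := by
    rw [map_sub]
    change ofU M (oBB A) (i.app (Adeq.pt (oBB A)) (mvfMap F (rB' A) g)) -
      ofU M (oBB A) (i.app (Adeq.pt (oBB A)) (mvfMap F (lB A) g)) = wc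
    rw [hnat, hnat, hg, ofU_toU]
    change dR A M t' - dL A M t' = wc
    rw [← ht]
    change dR A M (t - (1 : A) ⊗ₜ[R] m₀) - dL A M (t - (1 : A) ⊗ₜ[R] m₀) = _
    rw [map_sub, map_sub]
    have h9 : dR A M ((1 : A) ⊗ₜ[R] m₀) = dL A M ((1 : A) ⊗ₜ[R] m₀) := by
      rw [LinearMap.rTensor_tmul, LinearMap.rTensor_tmul, AlgHom.toLinearMap_apply,
        AlgHom.toLinearMap_apply, map_one, map_one]
    rw [h9]
    abel
  exact h8

end h1van

section lift
variable {R : Type u} [CommRing R] (A : Type u) [CommRing A] [Algebra R A]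

/-- lifting sections along a pointwise left exact sequence `0 → F₁ → F₂ → F₃` with adequate kernel,
given a lift over a faithfully flat algebra `A` for which `F₂` satisfies the sheaf condition and
`F₃` is separated -/
theorem lift_of_cech [Module.FaithfullyFlat R A] {F₁ F₂ F₃ : Adeq.MVF R} (j : F₁ ⟶ F₂) (p : F₂ ⟶ F₃)
    (hF₁ : Adeq.adequate R F₁) (w : j ≫ p = 0)
    (hj : ∀ X, Function.Injective (j.app X))
    (hex : ∀ (X : (Adeq.Alg R)ᵒᵖᵒᵖ) (y : F₂.obj X), p.app X y = 0 → ∃ x : F₁.obj X, j.app X x = y)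
    (hsh : ∀ y : F₂.obj (Adeq.pt (oB A)), mvfMap F₂ (lB A) y = mvfMap F₂ (rB' A) y →
      ∃ x : F₂.obj (Adeq.pt (oR (R := R))), mvfMap F₂ (uB A) x = y)
    (hinj : Function.Injective (mvfMap F₃ (uB (R := R) A)))
    (s : F₃.obj (Adeq.pt (oR (R := R)))) (t : F₂.obj (Adeq.pt (oB A)))
    (hst : p.app (Adeq.pt (oB A)) t = mvfMap F₃ (uB A) s) :
    ∃ t₀ : F₂.obj (Adeq.pt (oR (R := R))), p.app (Adeq.pt oR) t₀ = s := by
  -- the difference of the two pullbacks of `t`
  let c₂ : F₂.obj (Adeq.pt (oBB A)) := mvfMap F₂ (rB' A) t - mvfMap F₂ (lB A) t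
  have hc₂ : p.app (Adeq.pt (oBB A)) c₂ = 0 := by
    change p.app (Adeq.pt (oBB A)) (mvfMap F₂ (rB' A) t - mvfMap F₂ (lB A) t) = 0
    rw [map_sub, mvfMap_naturality, mvfMap_naturality, hst, ← mvfMap_comp, ← mvfMap_comp,
      mvfMap_congr F₃ (uB_lB_eq A), sub_self]
  obtain ⟨c, hc⟩ := hex _ c₂ hc₂
  -- the cocycle condition
  have hcoc : mvfMap F₁ (P12 A) c - mvfMap F₁ (P13 A) c + mvfMap F₁ (P23 A) c = 0 := by
    apply hj (Adeq.pt (oBBB A))
    rw [map_add, map_sub, map_zero, mvfMap_naturality, mvfMap_naturality, mvfMap_naturality, hc]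
    change mvfMap F₂ (P12 A) (mvfMap F₂ (rB' A) t - mvfMap F₂ (lB A) t) -
      mvfMap F₂ (P13 A) (mvfMap F₂ (rB' A) t - mvfMap F₂ (lB A) t) +
      mvfMap F₂ (P23 A) (mvfMap F₂ (rB' A) t - mvfMap F₂ (lB A) t) = 0
    rw [map_sub, map_sub, map_sub]
    simp only [← mvfMap_comp]
    rw [mvfMap_congr F₂ (lB_P12_eq A), mvfMap_congr F₂ (rB_P12_eq A), mvfMap_congr F₂ (rB_P13_eq A)]
    abel
  obtain ⟨g, hg⟩ := adequate_cech_H1 A F₁ hF₁ c hcoc
  -- correct `t`
  let t' : F₂.obj (Adeq.pt (oB A)) := t - j.app (Adeq.pt (oB A)) g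
  have ht' : mvfMap F₂ (lB A) t' = mvfMap F₂ (rB' A) t' := by
    change mvfMap F₂ (lB A) (t - j.app (Adeq.pt (oB A)) g) =
      mvfMap F₂ (rB' A) (t - j.app (Adeq.pt (oB A)) g)
    rw [map_sub, map_sub, ← mvfMap_naturality, ← mvfMap_naturality]
    have h1 : j.app (Adeq.pt (oBB A)) (mvfMap F₁ (rB' A) g) -
        j.app (Adeq.pt (oBB A)) (mvfMap F₁ (lB A) g) =
        mvfMap F₂ (rB' A) t - mvfMap F₂ (lB A) t := by
      rw [← map_sub, hg, hc]
    have h2 : mvfMap F₂ (rB' A) t = j.app (Adeq.pt (oBB A)) (mvfMap F₁ (rB' A) g) -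
        j.app (Adeq.pt (oBB A)) (mvfMap F₁ (lB A) g) + mvfMap F₂ (lB A) t := by
      rw [h1]
      abel
    rw [h2]
    abel
  obtain ⟨t₀, ht₀⟩ := hsh t' ht'
  refine ⟨t₀, hinj ?_⟩
  rw [← mvfMap_naturality, ht₀]
  change p.app (Adeq.pt (oB A)) (t - j.app (Adeq.pt (oB A)) g) = _
  rw [map_sub, hst, ← comp_app_apply, w]
  change mvfMap F₃ (uB A) s - 0 = _
  rw [sub_zero]

end lift

end Groth.Agent.Lib.Helper14.AdeqLib
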