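import Groth.Agent.Lib.Helper14.AdeqH1a
import Groth.Agent.Lib.Helper14.AdeqBig8

set_option autoImplicit false
open CategoryTheory Limits Opposite TensorProduct AlgebraicGeometry
universe u
namespace Groth.Agent.Lib.Helper14.AdeqBig

open Groth.Agent.Lib.Helper14.AdeqLib

section single
variable (K : Precoverage Scheme.{u}) [BigSite.OSh K] {S : Scheme.{u}} {R : CommRingCat.{u}}
  (a : Spec R ⟶ S) (M : BigSite.Mod K S)
variable (A : Type u) [CommRing A] [Algebra R A]

/-- the arrow `Spec A → Spec R` over `S` -/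
noncomputable abbrev piA : UB a (oB (R := R) A) ⟶ UB a (oR (R := R)) :=
  (Adeq.specOver a).map (uB (R := R) A).op

omit [BigSite.OSh K] in
theorem cover_single
    (hR : Presieve.ofArrows (fun _ : Unit => Spec (CommRingCat.of A))
      (fun _ => Spec.map (CommRingCat.ofHom (algebraMap R A))) ∈ K.coverings (Spec R)) :
    Sieve.generate (Presieve.ofArrows (fun _ : Unit => UB a (oB (R := R) A)) (fun _ => piA a A)) ∈
      QuotSh.J K S (UB a (oR (R := R))) := by
  rw [GrothendieckTopology.mem_over_iff]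
  change Sieve.overEquiv _ (Sieve.ofArrows _ _) ∈ _
  rw [Sieve.overEquiv_ofArrows]
  apply Precoverage.generate_mem_toGrothendieck
  exact hR

theorem compatible_single (y : ((Adeq.toMVF K a).obj M).obj (Adeq.pt (oB (R := R) A)))
    (hy : mvfMap ((Adeq.toMVF K a).obj M) (lB A) y = mvfMap ((Adeq.toMVF K a).obj M) (rB' A) y) :
    Presieve.Arrows.Compatible (M.val.presheaf ⋙ forget AddCommGrpCat)
      (fun _ : Unit => piA a A) (fun _ => y) := by
  intro _ _ Z g₁ g₂ hg
  have hpo := CommRingCat.isPushout_tensorProduct R A A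
  have hpb := isPullback_SpecMap_of_isPushout _ _ _ _ hpo
  have hg' : g₁.left ≫ Spec.map (CommRingCat.ofHom (algebraMap R A)) =
      g₂.left ≫ Spec.map (CommRingCat.ofHom (algebraMap R A)) := congrArg CommaMorphism.left hg
  let δ₁ : UB a (oBB (R := R) A) ⟶ UB a (oB (R := R) A) := (Adeq.specOver a).map (lB A).op
  let δ₂ : UB a (oBB (R := R) A) ⟶ UB a (oB (R := R) A) := (Adeq.specOver a).map (rB' A).op
  let hl : Z.left ⟶ (UB a (oBB (R := R) A)).left := hpb.lift g₁.left g₂.left hg'
  have hl1 : hl ≫ δ₁.left = g₁.left := hpb.lift_fst _ _ _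
  have hl2 : hl ≫ δ₂.left = g₂.left := hpb.lift_snd _ _ _
  have e1 : δ₁.left ≫ (UB a (oB (R := R) A)).hom = (UB a (oBB (R := R) A)).hom := Over.w δ₁
  have e2 : g₁.left ≫ (UB a (oB (R := R) A)).hom = Z.hom := Over.w g₁
  have hw : hl ≫ (UB a (oBB (R := R) A)).hom = Z.hom :=
    (congrArg (fun t => hl ≫ t) e1.symm).trans ((Category.assoc _ _ _).symm.trans
      ((congrArg (fun t => t ≫ (UB a (oB (R := R) A)).hom) hl1).trans e2))
  let h : Z ⟶ UB a (oBB (R := R) A) := Over.homMk hl hw
  have h1 : h ≫ δ₁ = g₁ := by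
    apply Over.OverMorphism.ext
    exact hl1
  have h2 : h ≫ δ₂ = g₂ := by
    apply Over.OverMorphism.ext
    exact hl2
  rw [← h1, ← h2]
  change (M.val.presheaf ⋙ forget AddCommGrpCat).map (h ≫ δ₁).op y =
    (M.val.presheaf ⋙ forget AddCommGrpCat).map (h ≫ δ₂).op y
  rw [op_comp, op_comp, Functor.map_comp, Functor.map_comp]
  change (M.val.presheaf ⋙ forget AddCommGrpCat).map h.op
      ((M.val.presheaf ⋙ forget AddCommGrpCat).map δ₁.op y) =
    (M.val.presheaf ⋙ forget AddCommGrpCat).map h.op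
      ((M.val.presheaf ⋙ forget AddCommGrpCat).map δ₂.op y)
  congr 1

/-- the sheaf condition for a single covering map `Spec A → Spec R` -/
theorem sheaf_single
    (hcov : Sieve.generate (Presieve.ofArrows (fun _ : Unit => UB a (oB (R := R) A))
      (fun _ => piA a A)) ∈ QuotSh.J K S (UB a (oR (R := R)))) :
    Function.Injective (mvfMap ((Adeq.toMVF K a).obj M) (uB (R := R) A)) ∧
    (∀ y : ((Adeq.toMVF K a).obj M).obj (Adeq.pt (oB (R := R) A)),
      mvfMap ((Adeq.toMVF K a).obj M) (lB A) y = mvfMap ((Adeq.toMVF K a).obj M) (rB' A) y →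
      ∃ x : ((Adeq.toMVF K a).obj M).obj (Adeq.pt (oR (R := R))),
        mvfMap ((Adeq.toMVF K a).obj M) (uB A) x = y) := by
  have hs : Presieve.IsSheaf (QuotSh.J K S) (M.val.presheaf ⋙ forget AddCommGrpCat) :=
    (isSheaf_iff_isSheaf_of_type _ _).mp
      ((Presheaf.isSheaf_iff_isSheaf_forget _ _ (forget AddCommGrpCat)).mp M.isSheaf)
  have h1 := hs _ hcov
  rw [← Presieve.isSheafFor_iff_generate, Presieve.isSheafFor_arrows_iff] at h1
  constructor
  · intro x x' hxx
    obtain ⟨t, _, ht⟩ := h1 _ (Presieve.Arrows.toCompatible (M.val.presheaf ⋙ forget AddCommGrpCat)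
      (fun _ : Unit => piA a A) x).property
    rw [ht x (fun _ => rfl), ht x' (fun _ => hxx.symm)]
  · intro y hy
    obtain ⟨t, ht, _⟩ := h1 (fun _ => y) (compatible_single K a M A y hy)
    exact ⟨t, ht ()⟩

end single

section glue
variable {S : Scheme.{u}} (M : BigSite.Mod Scheme.fppfPrecoverage S)

theorem subsingleton_sectMod_of_isEmpty (Z : Over S) [IsEmpty Z.left] :
    Subsingleton (BigSite.sectMod Scheme.fppfPrecoverage M Z) := by
  let F := SheafOfModules.toSheaf (BigSite.ORing Scheme.fppfPrecoverage S)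
  suffices key : ∀ x y : (F.obj M).obj.obj (op Z), x = y from ⟨key⟩
  intro x y
  have hT : (⊥ : Sieve Z) ∈ QuotSh.J Scheme.fppfPrecoverage S Z := by
    rw [GrothendieckTopology.mem_over_iff]
    haveI : Scheme.fppfPrecoverage.{u}.HasIsos := Groth.Agent.S8784.fppf_hasIsos
    haveI : Scheme.fppfPrecoverage.{u}.HasPullbacks := Groth.Agent.S8784.fppf_hasPullbacks
    rw [Precoverage.mem_toGrothendieck_iff_of_isStableUnderComposition]
    exact ⟨⊥, Scheme.bot_mem_precoverage _ Z.left, fun W g hg => hg.elim⟩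
  exact (F.obj M).property.isSeparated Z ⊥ hT x y (fun W g hg => hg.elim)

variable (V : Over S) {ι : Type u} (X : ι → Scheme.{u}) (ρ : ∀ j, X j ⟶ V.left)

/-- the object `X_j → V → S` -/
noncomputable abbrev ovr (j : ι) : Over S := Over.mk (ρ j ≫ V.hom)
/-- the arrow `X_j → V` over `S` -/
noncomputable abbrev ovrHom (j : ι) : ovr V X ρ j ⟶ V := Over.homMk (ρ j)

theorem cover_open [∀ j, IsOpenImmersion (ρ j)] (hsurj : ∀ x : V.left, ∃ j, x ∈ Set.range (ρ j)) :
    Sieve.generate (Presieve.ofArrows (ovr V X ρ) (ovrHom V X ρ)) ∈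
      QuotSh.J Scheme.fppfPrecoverage S V := by
  rw [GrothendieckTopology.mem_over_iff]
  change Sieve.overEquiv _ (Sieve.ofArrows _ _) ∈ _
  rw [Sieve.overEquiv_ofArrows]
  apply Precoverage.generate_mem_toGrothendieck
  apply Scheme.zariskiPrecoverage_le_fppfPrecoverage
  change Presieve.ofArrows X ρ ∈ _
  rw [Scheme.ofArrows_mem_precoverage_iff]
  exact ⟨hsurj, fun j => inferInstance⟩

theorem glue_disjoint [∀ j, IsOpenImmersion (ρ j)]
    (hsurj : ∀ x : V.left, ∃ j, x ∈ Set.range (ρ j))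
    (hdisj : ∀ j k, j ≠ k → Disjoint (Set.range (ρ j)) (Set.range (ρ k))) :
    (∀ t t' : M.val.presheaf.obj (op V),
      (∀ j, M.val.presheaf.map (ovrHom V X ρ j).op t = M.val.presheaf.map (ovrHom V X ρ j).op t') →
        t = t') ∧
    ∀ y : ∀ j, M.val.presheaf.obj (op (ovr V X ρ j)),
      ∃ t : M.val.presheaf.obj (op V), ∀ j, M.val.presheaf.map (ovrHom V X ρ j).op t = y j := by
  have hs : Presieve.IsSheaf (QuotSh.J Scheme.fppfPrecoverage S)
      (M.val.presheaf ⋙ forget AddCommGrpCat) :=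
    (isSheaf_iff_isSheaf_of_type _ _).mp
      ((Presheaf.isSheaf_iff_isSheaf_forget _ _ (forget AddCommGrpCat)).mp M.isSheaf)
  have h1 := hs _ (cover_open V X ρ hsurj)
  rw [← Presieve.isSheafFor_iff_generate, Presieve.isSheafFor_arrows_iff] at h1
  constructor
  · intro t t' htt
    obtain ⟨t₀, _, ht₀⟩ := h1 _ (Presieve.Arrows.toCompatible
      (M.val.presheaf ⋙ forget AddCommGrpCat) (ovrHom V X ρ) t).property
    rw [ht₀ t (fun _ => rfl), ht₀ t' (fun j => (htt j).symm)]
  · intro y
    have hcompat : Presieve.Arrows.Compatible (M.val.presheaf ⋙ forget AddCommGrpCat)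
        (ovrHom V X ρ) y := by
      intro j k Z g₁ g₂ hg
      have hg' : g₁.left ≫ ρ j = g₂.left ≫ ρ k := congrArg CommaMorphism.left hg
      by_cases hjk : j = k
      · subst hjk
        have h2 : g₁ = g₂ := by
          apply Over.OverMorphism.ext
          exact (cancel_mono (ρ j)).mp hg'
        rw [h2]
      · haveI : IsEmpty Z.left := by
          refine ⟨fun z => ?_⟩
          have h3 : ρ j (g₁.left z) = ρ k (g₂.left z) := by
            rw [← Scheme.Hom.comp_apply, ← Scheme.Hom.comp_apply, hg']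
          exact Set.disjoint_left.mp (hdisj j k hjk) ⟨_, rfl⟩ ⟨_, h3.symm⟩
        haveI := subsingleton_sectMod_of_isEmpty M Z
        exact Subsingleton.elim (α := BigSite.sectMod Scheme.fppfPrecoverage M Z) _ _
    obtain ⟨t, ht, _⟩ := h1 y hcompat
    exact ⟨t, ht⟩

end glue

section locallift
variable {S : Scheme.{u}}

/-- local lifting of sections along an epimorphism of modules on the big fppf site -/
theorem local_lift {M N : BigSite.Mod Scheme.fppfPrecoverage S} (φ : M ⟶ N) [Epi φ] (U : Over S)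
    (s : N.val.presheaf.obj (op U)) :
    ∃ R' ∈ Scheme.fppfPrecoverage.coverings U.left, ∀ ⦃Y : Scheme.{u}⦄ (g : Y ⟶ U.left), R' g →
      ∃ t : M.val.presheaf.obj (op (Over.mk (g ≫ U.hom))),
        φ.val.app (op (Over.mk (g ≫ U.hom))) t =
          N.val.presheaf.map (Over.homMk g : Over.mk (g ≫ U.hom) ⟶ U).op s := by
  let Rg := BigSite.ORing Scheme.fppfPrecoverage S
  let F := SheafOfModules.toSheaf Rg
  haveI := Groth.Agent.S8784.toSheaf_preservesFiniteColimits.{u + 1} Rg
  have hepi : Epi (F.map φ) := inferInstance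
  have hls : Sheaf.IsLocallySurjective (F.map φ) :=
    (Sheaf.isLocallySurjective_iff_epi' _ _).2 hepi
  have hT := Presheaf.imageSieve_mem (QuotSh.J Scheme.fppfPrecoverage S) (F.map φ).hom s
  rw [GrothendieckTopology.mem_over_iff] at hT
  haveI : Scheme.fppfPrecoverage.{u}.HasIsos := Groth.Agent.S8784.fppf_hasIsos
  haveI : Scheme.fppfPrecoverage.{u}.HasPullbacks := Groth.Agent.S8784.fppf_hasPullbacks
  rw [Precoverage.mem_toGrothendieck_iff_of_isStableUnderComposition] at hT
  obtain ⟨R', hR', hle⟩ := hT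
  refine ⟨R', hR', fun Y g hg => ?_⟩
  have h1 := hle Y g hg
  rw [Sieve.overEquiv_iff] at h1
  obtain ⟨t, ht⟩ := h1
  exact ⟨t, ht⟩

end locallift

end Groth.Agent.Lib.Helper14.AdeqBig
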