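import Groth.Agent.Lib.Helper14.AdeqH1b

set_option autoImplicit false
open CategoryTheory Limits Opposite TensorProduct AlgebraicGeometry
universe u
namespace Groth.Agent.Lib.Helper14.AdeqBig

open Groth.Agent.Lib.Helper14.AdeqLib

section refine
variable {R : CommRingCat.{u}}

/-- every fppf covering of an affine scheme is refined by a finite family of affine schemes,
flat and of finite presentation, jointly surjective -/
theorem exists_finite_affine_refinement (R' : Presieve (Spec R))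
    (hR' : R' ∈ Scheme.fppfPrecoverage.coverings (Spec R)) :
    ∃ (J : Type u) (_ : Finite J) (B : J → CommRingCat.{u}) (φ : ∀ j, R ⟶ B j),
      (∀ x : Spec R, ∃ j, x ∈ Set.range (Spec.map (φ j))) ∧
      (∀ j, Flat (Spec.map (φ j)) ∧ LocallyOfFinitePresentation (Spec.map (φ j))) ∧
      ∀ j, ∃ (Y : Scheme.{u}) (g : Y ⟶ Spec R) (h : Spec (B j) ⟶ Y), R' g ∧
        h ≫ g = Spec.map (φ j) := by
  let P : MorphismProperty Scheme.{u} := @Flat ⊓ @LocallyOfFinitePresentation
  have hopen : ∀ {X Y : Scheme.{u}} (f : X ⟶ Y), P f → IsOpenMap f := fun f h => by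
    have := h.1
    have := h.2
    exact f.isOpenMap
  let 𝒰 : (Spec R).Cover (Scheme.precoverage P) :=
    { toPreZeroHypercover := R'.preZeroHypercover
      mem₀ := by
        rw [Presieve.presieve₀_preZeroHypercover]
        exact hR' }
  have hqc : QuasiCompactCover 𝒰.toPreZeroHypercover :=
    QuasiCompactCover.of_isOpenMap (fun i => hopen _ (𝒰.map_prop i))
  obtain ⟨𝒱, f, hfin, _⟩ := QuasiCompactCover.exists_hom.{u + 1, u} 𝒰
  let φ : ∀ j : 𝒱.I₀, R ⟶ 𝒱.X j := fun j => Spec.preimage (𝒱.f j)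
  have hφ : ∀ j, Spec.map (φ j) = 𝒱.f j := fun j => Spec.map_preimage _
  have h0 := 𝒱.cover.mem₀
  change Presieve.ofArrows (fun j => Spec (𝒱.X j)) 𝒱.f ∈ Scheme.precoverage P (Spec R) at h0
  rw [Scheme.ofArrows_mem_precoverage_iff] at h0
  obtain ⟨n, ⟨e⟩⟩ := Finite.exists_equiv_fin 𝒱.I₀
  let e' : ULift.{u} (Fin n) ≃ 𝒱.I₀ := Equiv.ulift.trans e.symm
  refine ⟨ULift.{u} (Fin n), inferInstance, fun j => 𝒱.X (e' j), fun j => φ (e' j),
    fun x => ?_, fun j => ?_, fun j => ?_⟩
  · obtain ⟨i, hi⟩ := h0.1 x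
    obtain ⟨j, rfl⟩ := e'.surjective i
    refine ⟨j, ?_⟩
    rw [hφ]
    exact hi
  · rw [hφ]
    exact h0.2 (e' j)
  · refine ⟨_, 𝒰.f (f.s₀ (e' j)), f.h₀ (e' j), (f.s₀ (e' j)).2, ?_⟩
    rw [hφ]
    exact f.w₀ (e' j)

end refine

section prod
variable {R : CommRingCat.{u}} {J : Type u} [Finite J] (B : J → CommRingCat.{u}) (φ : ∀ j, R ⟶ B j)

/-- the product ring -/
abbrev PiB : Type u := ∀ j, B j

/-- the map to the product ring -/
noncomputable def psi : R →+* PiB B := RingHom.pi (fun j => (φ j).hom)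

/-- the projections -/
noncomputable abbrev evB (j : J) : CommRingCat.of (PiB B) ⟶ B j :=
  CommRingCat.ofHom (Pi.evalRingHom (fun j => (B j : Type u)) j)

omit [Finite J] in
theorem psi_evB (j : J) : CommRingCat.ofHom (psi B φ) ≫ evB B j = φ j := by
  ext r
  rfl

omit [Finite J] in
theorem SpecMap_evB_psi (j : J) :
    Spec.map (evB B j) ≫ Spec.map (CommRingCat.ofHom (psi B φ)) = Spec.map (φ j) := by
  rw [← Spec.map_comp, psi_evB]

instance isOpenImmersion_evB (j : J) : IsOpenImmersion (Spec.map (evB B j)) := by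
  have h := @instIsOpenImmersionMapOfHomForallEvalRingHom.{u, u} J j (fun j => (B j : Type u)) _
  exact h

theorem surj_evB (x : Spec (CommRingCat.of (PiB B))) : ∃ j, x ∈ Set.range (Spec.map (evB B j)) := by
  obtain ⟨j, q, hq⟩ := PrimeSpectrum.exists_comap_evalRingHom_eq (R := fun j => (B j : Type u)) x
  exact ⟨j, q, hq⟩

omit [Finite J] in
theorem disj_evB (j k : J) (hjk : j ≠ k) :
    Disjoint (Set.range (Spec.map (evB B j))) (Set.range (Spec.map (evB B k))) := by
  rw [Set.disjoint_left]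
  rintro _ ⟨p, rfl⟩ ⟨q, hq⟩
  have h := PrimeSpectrum.sigmaToPi_injective (fun j => (B j : Type u))
    (a₁ := ⟨k, q⟩) (a₂ := ⟨j, p⟩) hq
  exact hjk (congrArg Sigma.fst h).symm

/-- the open cover of the spectrum of the product by the spectra of the factors -/
noncomputable def piCover : (Spec (CommRingCat.of (PiB B))).OpenCover where
  I₀ := J
  X j := Spec (B j)
  f j := Spec.map (evB B j)
  mem₀ := by
    rw [Scheme.presieve₀_mem_precoverage_iff]
    exact ⟨fun x => surj_evB B x, fun j => inferInstance⟩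

end prod

section prodprops
variable {R : CommRingCat.{u}} {J : Type u} [Finite J] (B : J → CommRingCat.{u}) (φ : ∀ j, R ⟶ B j)

theorem flat_psi (h : ∀ j, Flat (Spec.map (φ j))) :
    Flat (Spec.map (CommRingCat.ofHom (psi B φ))) :=
  IsZariskiLocalAtSource.of_openCover (P := @Flat) (piCover B) (fun j => by
    change Flat (Spec.map (evB B j) ≫ Spec.map (CommRingCat.ofHom (psi B φ)))
    rw [SpecMap_evB_psi]
    exact h j)

theorem lfp_psi (h : ∀ j, LocallyOfFinitePresentation (Spec.map (φ j))) :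
    LocallyOfFinitePresentation (Spec.map (CommRingCat.ofHom (psi B φ))) :=
  IsZariskiLocalAtSource.of_openCover (P := @LocallyOfFinitePresentation) (piCover B) (fun j => by
    change LocallyOfFinitePresentation (Spec.map (evB B j) ≫ Spec.map (CommRingCat.ofHom (psi B φ)))
    rw [SpecMap_evB_psi]
    exact h j)

omit [Finite J] in
theorem surj_psi (hsurj : ∀ x : Spec R, ∃ j, x ∈ Set.range (Spec.map (φ j))) (x : Spec R) :
    x ∈ Set.range (Spec.map (CommRingCat.ofHom (psi B φ))) := by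
  obtain ⟨j, q, hq⟩ := hsurj x
  refine ⟨Spec.map (evB B j) q, ?_⟩
  rw [← Scheme.Hom.comp_apply, SpecMap_evB_psi]
  exact hq

theorem cover_psi (hsurj : ∀ x : Spec R, ∃ j, x ∈ Set.range (Spec.map (φ j)))
    (hP : ∀ j, Flat (Spec.map (φ j)) ∧ LocallyOfFinitePresentation (Spec.map (φ j))) :
    Presieve.ofArrows (fun _ : Unit => Spec (CommRingCat.of (PiB B)))
      (fun _ => Spec.map (CommRingCat.ofHom (psi B φ))) ∈
        Scheme.fppfPrecoverage.coverings (Spec R) := by
  change _ ∈ (Scheme.precoverage (@Flat ⊓ @LocallyOfFinitePresentation)).coverings (Spec R)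
  rw [Scheme.ofArrows_mem_precoverage_iff]
  exact ⟨fun x => ⟨(), surj_psi B φ hsurj x⟩,
    fun _ => ⟨flat_psi B φ (fun j => (hP j).1), lfp_psi B φ (fun j => (hP j).2)⟩⟩

theorem faithfullyFlat_psi (hsurj : ∀ x : Spec R, ∃ j, x ∈ Set.range (Spec.map (φ j)))
    (hP : ∀ j, Flat (Spec.map (φ j))) : (psi B φ).FaithfullyFlat :=
  (flat_and_surjective_SpecMap_iff (CommRingCat.ofHom (psi B φ))).mp
    ⟨flat_psi B φ hP, ⟨fun x => surj_psi B φ hsurj x⟩⟩

end prodprops

section main
variable {S : Scheme.{u}}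

theorem presheaf_map_map (M : BigSite.Mod Scheme.fppfPrecoverage S) {U V W : Over S} (f : U ⟶ V)
    (g : V ⟶ W) (x : M.val.presheaf.obj (op W)) :
    M.val.presheaf.map f.op (M.val.presheaf.map g.op x) = M.val.presheaf.map (f ≫ g).op x := by
  rw [← ConcreteCategory.comp_apply, ← CategoryTheory.Functor.map_comp, ← op_comp]

theorem val_app_naturality {M N : BigSite.Mod Scheme.fppfPrecoverage S} (φ : M ⟶ N) {U V : Over S}
    (f : U ⟶ V) (x : M.val.presheaf.obj (op V)) :
    φ.val.app (op U) (M.val.presheaf.map f.op x) = N.val.presheaf.map f.op (φ.val.app (op V) x) :=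
  PresheafOfModules.naturality_apply φ.val f.op x

theorem lift_precomp {M N : BigSite.Mod Scheme.fppfPrecoverage S} (φ : M ⟶ N) (U : Over S)
    (s : N.val.presheaf.obj (op U)) {Y Y' : Scheme.{u}} (g : Y ⟶ U.left) (h : Y' ⟶ Y)
    (f : Y' ⟶ U.left) (hf : h ≫ g = f)
    (ht : ∃ t : M.val.presheaf.obj (op (Over.mk (g ≫ U.hom))),
      φ.val.app (op (Over.mk (g ≫ U.hom))) t =
        N.val.presheaf.map (Over.homMk g : Over.mk (g ≫ U.hom) ⟶ U).op s) :
    ∃ t : M.val.presheaf.obj (op (Over.mk (f ≫ U.hom))),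
      φ.val.app (op (Over.mk (f ≫ U.hom))) t =
        N.val.presheaf.map (Over.homMk f : Over.mk (f ≫ U.hom) ⟶ U).op s := by
  subst hf
  obtain ⟨t, ht⟩ := ht
  let k : Over.mk ((h ≫ g) ≫ U.hom) ⟶ Over.mk (g ≫ U.hom) :=
    Over.homMk h (Category.assoc _ _ _).symm
  refine ⟨M.val.presheaf.map k.op t, ?_⟩
  rw [val_app_naturality, ht, presheaf_map_map]
  rfl

end main

end Groth.Agent.Lib.Helper14.AdeqBig
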