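import Groth.Agent.Lib.Helper14.AdeqH1c

set_option autoImplicit false
open CategoryTheory Limits Opposite TensorProduct AlgebraicGeometry
universe u
namespace Groth.Agent.Lib.Helper14.AdeqBig

open Groth.Agent.Lib.Helper14.AdeqLib

section main
variable {S : Scheme.{u}}

/-- the morphism between two presentations of the same object of `Over S` -/
noncomputable def homOfEq {X : Scheme.{u}} (f g : X ⟶ S) (h : f = g) : Over.mk f ⟶ Over.mk g :=
  Over.homMk (𝟙 X) (by
    change 𝟙 X ≫ g = f
    rw [Category.id_comp, h])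

theorem homOfEq_left {X : Scheme.{u}} (f g : X ⟶ S) (h : f = g) : (homOfEq f g h).left = 𝟙 X := rfl

set_option maxHeartbeats 1600000 in
/-- sections over affine objects: an epimorphism of modules with adequate kernel is surjective on
sections over every affine object of the big fppf site -/
theorem surjective_sections_affine (C : ShortComplex (BigSite.Mod Scheme.fppfPrecoverage S))
    (hC : C.ShortExact) (h₁ : Adeq.adequateMod Scheme.fppfPrecoverage S C.X₁)
    (R : CommRingCat.{u}) (a : Spec R ⟶ S)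
    (s : ((Adeq.toMVF Scheme.fppfPrecoverage a).obj C.X₃).obj (Adeq.pt (oR (R := R)))) :
    ∃ t₀ : ((Adeq.toMVF Scheme.fppfPrecoverage a).obj C.X₂).obj (Adeq.pt (oR (R := R))),
      ((Adeq.toMVF Scheme.fppfPrecoverage a).map C.g).app (Adeq.pt oR) t₀ = s := by
  haveI := hC.epi_g
  haveI := hC.mono_f
  let U₀ : Over S := UB a (oR (R := R))
  -- local lift
  obtain ⟨R', hR', hlift⟩ := local_lift C.g U₀ s
  obtain ⟨J, hJ, B, φ, hsurj, hP, href⟩ := exists_finite_affine_refinement (R := R) R' hR'
  have hmem : ∀ j, ∃ t : C.X₂.val.presheaf.obj (op (Over.mk (Spec.map (φ j) ≫ U₀.hom))),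
      C.g.val.app (op (Over.mk (Spec.map (φ j) ≫ U₀.hom))) t =
        C.X₃.val.presheaf.map
          (Over.homMk (Spec.map (φ j)) : Over.mk (Spec.map (φ j) ≫ U₀.hom) ⟶ U₀).op s := by
    intro j
    obtain ⟨Y, g, h, hg, hhg⟩ := href j
    exact lift_precomp C.g U₀ s g h (Spec.map (φ j)) hhg (hlift g hg)
  choose tj htj using hmem
  -- the product ring
  let A : Type u := PiB B
  letI : Algebra R A := (psi B φ).toAlgebra
  haveI : Module.FaithfullyFlat R A := faithfullyFlat_psi B φ hsurj (fun j => (hP j).1)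
  have hcov := cover_single Scheme.fppfPrecoverage a A (cover_psi B φ hsurj hP)
  let V : Over S := UB a (oB (R := R) A)
  let ρ : ∀ j, Spec (B j) ⟶ V.left := fun j => Spec.map (evB B j)
  haveI : ∀ j, IsOpenImmersion (ρ j) := fun j => isOpenImmersion_evB B j
  have hρsurj : ∀ x : V.left, ∃ j, x ∈ Set.range (ρ j) := fun x => surj_evB B x
  have hρdisj : ∀ j k, j ≠ k → Disjoint (Set.range (ρ j)) (Set.range (ρ k)) :=
    fun j k hjk => disj_evB B j k hjk
  -- comparison of the two descriptions of `Spec (B j) → S`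
  have hw : ∀ j, ρ j ≫ V.hom = Spec.map (φ j) ≫ U₀.hom := by
    intro j
    change Spec.map (evB B j) ≫ (Spec.map (CommRingCat.ofHom (psi B φ)) ≫ a) =
      Spec.map (φ j) ≫ (Spec.map (CommRingCat.ofHom (algebraMap R R)) ≫ a)
    have h1 : CommRingCat.ofHom (algebraMap R R) = 𝟙 _ := rfl
    rw [← Category.assoc, SpecMap_evB_psi, h1, Spec.map_id]
    erw [Category.id_comp]
  let ej : ∀ j, ovr V (fun j => Spec (B j)) ρ j ⟶ Over.mk (Spec.map (φ j) ≫ U₀.hom) :=
    fun j => homOfEq _ _ (hw j)
  -- glue the lifts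
  obtain ⟨t, ht⟩ := (glue_disjoint C.X₂ V (fun j => Spec (B j)) ρ hρsurj hρdisj).2
    (fun j => C.X₂.val.presheaf.map (ej j).op (tj j))
  -- the glued section lifts `s` over `A`
  have hst : ((Adeq.toMVF Scheme.fppfPrecoverage a).map C.g).app (Adeq.pt (oB (R := R) A)) t =
      mvfMap ((Adeq.toMVF Scheme.fppfPrecoverage a).obj C.X₃) (uB (R := R) A) s := by
    apply (glue_disjoint C.X₃ V (fun j => Spec (B j)) ρ hρsurj hρdisj).1
    intro j
    have e1 : C.X₃.val.presheaf.map (ovrHom V (fun j => Spec (B j)) ρ j).op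
        (C.g.val.app (op V) t) =
        C.X₃.val.presheaf.map (ej j ≫ (Over.homMk (Spec.map (φ j)) :
          Over.mk (Spec.map (φ j) ≫ U₀.hom) ⟶ U₀)).op s := by
      rw [← val_app_naturality, ht j, val_app_naturality, htj j, presheaf_map_map]
    have e2 : C.X₃.val.presheaf.map (ovrHom V (fun j => Spec (B j)) ρ j).op
        (C.X₃.val.presheaf.map (piA a A).op s) =
        C.X₃.val.presheaf.map (ovrHom V (fun j => Spec (B j)) ρ j ≫ piA a A).op s :=
      presheaf_map_map _ _ _ _
    have e3 : ej j ≫ (Over.homMk (Spec.map (φ j)) : Over.mk (Spec.map (φ j) ≫ U₀.hom) ⟶ U₀) =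
        ovrHom V (fun j => Spec (B j)) ρ j ≫ piA a A := by
      apply Over.OverMorphism.ext
      change 𝟙 _ ≫ Spec.map (φ j) = Spec.map (evB B j) ≫ Spec.map (CommRingCat.ofHom (psi B φ))
      rw [Category.id_comp, SpecMap_evB_psi]
    exact e1.trans ((congrArg (fun k => C.X₃.val.presheaf.map k.op s) e3).trans e2.symm)
  obtain ⟨_, hsh₂⟩ := sheaf_single Scheme.fppfPrecoverage a C.X₂ A hcov
  obtain ⟨hinj₃, _⟩ := sheaf_single Scheme.fppfPrecoverage a C.X₃ A hcov
  have w : (Adeq.toMVF Scheme.fppfPrecoverage a).map C.f ≫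
      (Adeq.toMVF Scheme.fppfPrecoverage a).map C.g = 0 := by
    rw [← CategoryTheory.Functor.map_comp, C.zero, CategoryTheory.Functor.map_zero]
  exact lift_of_cech A ((Adeq.toMVF Scheme.fppfPrecoverage a).map C.f)
    ((Adeq.toMVF Scheme.fppfPrecoverage a).map C.g)
    (adequate_toMVF_fppf C.X₁ h₁ R a) w
    (fun X => mod_mono_sections Scheme.fppfPrecoverage C.f _)
    (fun X y hy => mod_exact_sections Scheme.fppfPrecoverage C hC.exact _ y hy)
    hsh₂ hinj₃ s t hst

end main

section ext
variable {S : Scheme.{u}}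

theorem surjective_of_objEq {M N : BigSite.Mod Scheme.fppfPrecoverage S} (φ : M ⟶ N)
    {X : Scheme.{u}} (f g : X ⟶ S) (h : f = g)
    (hs : Function.Surjective (φ.val.app (op (Over.mk g)))) :
    Function.Surjective (φ.val.app (op (Over.mk f))) := by
  subst h
  exact hs

/-- an epimorphism of modules with adequate kernel is surjective on sections over all affine
objects `Spec B → Spec R → S` -/
theorem surjective_toMVF_app (C : ShortComplex (BigSite.Mod Scheme.fppfPrecoverage S))
    (hC : C.ShortExact) (h₁ : Adeq.adequateMod Scheme.fppfPrecoverage S C.X₁)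
    (R : CommRingCat.{u}) (a : Spec R ⟶ S) (X : (Adeq.Alg R)ᵒᵖᵒᵖ) :
    Function.Surjective (((Adeq.toMVF Scheme.fppfPrecoverage a).map C.g).app X) := by
  let B : Adeq.Alg R := X.unop.unop
  let a' : Spec (CommRingCat.of B) ⟶ S := Spec.map (CommRingCat.ofHom (algebraMap R B)) ≫ a
  have h1 : Function.Surjective (C.g.val.app (op ((Adeq.specOver a').obj
      (op (oR (R := CommRingCat.of B)))))) :=
    fun s => surjective_sections_affine C hC h₁ (CommRingCat.of B) a' s
  have h2 : Spec.map (CommRingCat.ofHom (algebraMap R B)) ≫ a =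
      Spec.map (CommRingCat.ofHom (algebraMap (CommRingCat.of B) (CommRingCat.of B))) ≫ a' := by
    have h3 : CommRingCat.ofHom (algebraMap (CommRingCat.of B) (CommRingCat.of B)) = 𝟙 _ := rfl
    rw [h3, Spec.map_id]
    erw [Category.id_comp]
  exact surjective_of_objEq C.g _ _ h2 h1

/-- S8763: extensions of adequate modules are adequate -/
theorem adequateMod_of_shortExact_fppf (C : ShortComplex (BigSite.Mod Scheme.fppfPrecoverage S))
    (hC : C.ShortExact) (h₁ : Adeq.adequateMod Scheme.fppfPrecoverage S C.X₁)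
    (h₃ : Adeq.adequateMod Scheme.fppfPrecoverage S C.X₃) :
    Adeq.adequateMod Scheme.fppfPrecoverage S C.X₂ := by
  have h₁' := h₁
  obtain ⟨ι, R, a, hcov, hadq⟩ := h₁
  refine ⟨ι, R, a, hcov, fun i => ?_⟩
  haveI := hC.mono_f
  let SC : ShortComplex (Adeq.MVF (R i)) := C.map (Adeq.toMVF Scheme.fppfPrecoverage (a i))
  have hex : SC.Exact :=
    exact_of_pointwise SC (fun X y hy => mod_exact_sections Scheme.fppfPrecoverage C hC.exact _ y hy)
  have hmono : Mono SC.f :=
    PresheafOfModules.mono_of_injective (fun X => mod_mono_sections Scheme.fppfPrecoverage C.f _)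
  have hepi : Epi SC.g :=
    PresheafOfModules.epi_of_surjective (fun X => surjective_toMVF_app C hC h₁' (R i) (a i) X)
  have hSC : SC.ShortExact := ShortComplex.ShortExact.mk hex
  exact adequate_of_shortExact SC hSC (hadq i) (adequate_toMVF_fppf C.X₃ h₃ (R i) (a i))

end ext

end Groth.Agent.Lib.Helper14.AdeqBig
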