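import Groth.Agent.Lib.Helper14.AdeqH1d

set_option autoImplicit false
open CategoryTheory Limits Opposite TensorProduct AlgebraicGeometry
universe u
namespace Groth.Agent.Lib.Helper14.AdeqBig

open Groth.Agent.Lib.Helper14.AdeqLib

section coker
variable {S : Scheme.{u}}

/-- the quotient of an adequate module by an adequate submodule is adequate -/
theorem adequateMod_X₃_of_shortExact_fppf (C : ShortComplex (BigSite.Mod Scheme.fppfPrecoverage S))
    (hC : C.ShortExact) (h₁ : Adeq.adequateMod Scheme.fppfPrecoverage S C.X₁)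
    (h₂ : Adeq.adequateMod Scheme.fppfPrecoverage S C.X₂) :
    Adeq.adequateMod Scheme.fppfPrecoverage S C.X₃ := by
  have h₂' := h₂
  obtain ⟨ι, R, a, hcov, hadq⟩ := h₂
  refine ⟨ι, R, a, hcov, fun i => ?_⟩
  haveI := hC.mono_f
  let SC : ShortComplex (Adeq.MVF (R i)) := C.map (Adeq.toMVF Scheme.fppfPrecoverage (a i))
  have hex : SC.Exact :=
    exact_of_pointwise SC (fun X y hy => mod_exact_sections Scheme.fppfPrecoverage C hC.exact _ y hy)
  have hmono : Mono SC.f :=
    PresheafOfModules.mono_of_injective (fun X => mod_mono_sections Scheme.fppfPrecoverage C.f _)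
  have hepi : Epi SC.g :=
    PresheafOfModules.epi_of_surjective (fun X => surjective_toMVF_app C hC h₁ (R i) (a i) X)
  have hSC : SC.ShortExact := ShortComplex.ShortExact.mk hex
  have e : cokernel SC.f ≅ SC.X₃ :=
    IsColimit.coconePointUniqueUpToIso (colimit.isColimit _) hSC.exact.gIsCokernel
  exact (Adeq.adequate (R i)).prop_of_iso e
    (adequate_cokernel_of_adequate SC.f (adequate_toMVF_fppf C.X₁ h₁ (R i) (a i)) (hadq i))

/-- the short exact sequence `0 → ker φ → M → im φ → 0` -/
theorem shortExact_kernel_image {A : Type*} [Category A] [Abelian A] {M N : A} (φ : M ⟶ N) :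
    (ShortComplex.mk (kernel.ι φ) (Abelian.factorThruImage φ) (by
      rw [← cancel_mono (Abelian.image.ι φ), Category.assoc, Abelian.image.fac, kernel.condition,
        zero_comp])).ShortExact := by
  let K : ShortComplex A :=
    ShortComplex.mk (kernel.ι φ) (Abelian.factorThruImage φ) (by
      rw [← cancel_mono (Abelian.image.ι φ), Category.assoc, Abelian.image.fac, kernel.condition,
        zero_comp])
  let ψ : K ⟶ ShortComplex.mk (kernel.ι φ) φ (kernel.condition _) :=
    { τ₁ := 𝟙 _, τ₂ := 𝟙 _, τ₃ := Abelian.image.ι φ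
      comm₁₂ := by simp [K]
      comm₂₃ := by simp [K] }
  haveI : Epi ψ.τ₁ := by dsimp [ψ]; infer_instance
  haveI : IsIso ψ.τ₂ := by dsimp [ψ]; infer_instance
  haveI : Mono ψ.τ₃ := by dsimp [ψ]; infer_instance
  have hex : K.Exact := (ShortComplex.exact_iff_of_epi_of_isIso_of_mono ψ).2
    (ShortComplex.exact_of_f_is_kernel _ (kernelIsKernel φ))
  haveI : Mono K.f := by dsimp [K]; infer_instance
  haveI : Epi K.g := by dsimp [K]; infer_instance
  exact ShortComplex.ShortExact.mk hex

/-- the short exact sequence `0 → im φ → N → coker φ → 0` -/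
theorem shortExact_image_cokernel {A : Type*} [Category A] [Abelian A] {M N : A} (φ : M ⟶ N) :
    (ShortComplex.mk (Abelian.image.ι φ) (cokernel.π φ) (kernel.condition _)).ShortExact := by
  let K : ShortComplex A := ShortComplex.mk (Abelian.image.ι φ) (cokernel.π φ) (kernel.condition _)
  have hex : K.Exact := ShortComplex.exact_of_f_is_kernel _ (kernelIsKernel (cokernel.π φ))
  haveI : Mono K.f := by dsimp [K]; infer_instance
  haveI : Epi K.g := by dsimp [K]; infer_instance
  exact ShortComplex.ShortExact.mk hex

/-- S8762: the cokernel of a morphism of adequate modules is adequate -/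
theorem adequateMod_cokernel_fppf {M N : BigSite.Mod Scheme.fppfPrecoverage S} (φ : M ⟶ N)
    (hM : Adeq.adequateMod Scheme.fppfPrecoverage S M)
    (hN : Adeq.adequateMod Scheme.fppfPrecoverage S N) :
    Adeq.adequateMod Scheme.fppfPrecoverage S (cokernel φ) := by
  have hK : Adeq.adequateMod Scheme.fppfPrecoverage S (kernel φ) := adequateMod_kernel_fppf φ hM hN
  have hI : Adeq.adequateMod Scheme.fppfPrecoverage S (Abelian.image φ) :=
    adequateMod_X₃_of_shortExact_fppf _ (shortExact_kernel_image φ) hK hM
  exact adequateMod_X₃_of_shortExact_fppf _ (shortExact_image_cokernel φ) hI hN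

end coker

end Groth.Agent.Lib.Helper14.AdeqBig
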