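import Groth.Agent.Lib.Helper14.AdeqBig7
import Mathlib.LinearAlgebra.TensorProduct.Pi

set_option autoImplicit false
open CategoryTheory Limits Opposite TensorProduct AlgebraicGeometry
universe u v
namespace Groth.Agent.Lib.Helper14.AdeqLib

section tensorpi
variable {R : Type u} [CommRing R] {J : Type u} [Finite J]
  (P : Type u) [CommRing P] [Algebra R P] (C : J → Type u) [∀ j, CommRing (C j)]
  [∀ j, Algebra R (C j)] (e : ∀ j, P →ₐ[R] C j)
  (M : Type v) [AddCommGroup M] [Module R M]

/-- the comparison map `P ⊗ M → ∏ C_j ⊗ M` -/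
noncomputable def thetaPi : P ⊗[R] M →ₗ[R] ∀ j, C j ⊗[R] M :=
  LinearMap.pi (fun j => (e j).toLinearMap.rTensor M)

theorem thetaPi_apply (z : P ⊗[R] M) (j : J) :
    thetaPi P C e M z j = (e j).toLinearMap.rTensor M z := rfl

theorem thetaPi_bijective (he : Function.Bijective (fun (p : P) (j : J) => e j p)) :
    Function.Bijective (thetaPi P C e M) := by
  classical
  haveI : Fintype J := Fintype.ofFinite J
  let f : P →ₗ[R] (∀ j, C j) := LinearMap.pi (fun j => (e j).toLinearMap)
  have hf : Function.Bijective f := he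
  let fe : P ≃ₗ[R] (∀ j, C j) := LinearEquiv.ofBijective f hf
  have key : thetaPi P C e M =
      (TensorProduct.piLeft R M C).toLinearMap ∘ₗ (fe.rTensor M).toLinearMap := by
    apply TensorProduct.ext'
    intro p m
    funext j
    simp [thetaPi, fe, f]
  rw [key]
  exact (TensorProduct.piLeft R M C).bijective.comp (fe.rTensor M).bijective

end tensorpi

section adeqpi
variable {R : Type u} [CommRing R] {J : Type u} [Finite J]

/-- an adequate functor turns finite products of algebras into products -/
theorem adequate_pi (F : Adeq.MVF R) (hF : Adeq.adequate R F) (P : Adeq.Alg R)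
    (C : J → Adeq.Alg R) (e : ∀ j, P ⟶ C j)
    (he : Function.Bijective (fun (p : P) (j : J) => (e j).hom p)) :
    (∀ x x' : F.obj (Adeq.pt P), (∀ j, mvfMap F (e j) x = mvfMap F (e j) x') → x = x') ∧
    (∀ t : ∀ j, F.obj (Adeq.pt (C j)), ∃ x : F.obj (Adeq.pt P), ∀ j, mvfMap F (e j) x = t j) := by
  obtain ⟨M, N, φ, i, hi, w, hex⟩ := exists_exact_of_adequate hF
  have hnat : ∀ {C C' : Adeq.Alg R} (f : C ⟶ C') (x : F.obj (Adeq.pt C)),
      ofU M C' (i.app (Adeq.pt C') (mvfMap F f x)) =
        (f.hom.toLinearMap.rTensor M) (ofU M C (i.app (Adeq.pt C) x)) := by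
    intro C C' f x
    rw [mvfMap_naturality]
    rfl
  have hbM := thetaPi_bijective (R := R) P (fun j => C j) (fun j => (e j).hom) M he
  have hbN := thetaPi_bijective (R := R) P (fun j => C j) (fun j => (e j).hom) N he
  constructor
  · intro x x' hxx
    apply hi (Adeq.pt P)
    apply hbM.1
    funext j
    rw [thetaPi_apply, thetaPi_apply]
    have h1 := hnat (e j) x
    have h2 := hnat (e j) x'
    rw [hxx j] at h1
    exact h1.symm.trans h2
  · intro t
    obtain ⟨m, hm⟩ := hbM.2 (fun j => ofU M (C j) (i.app (Adeq.pt (C j)) (t j)))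
    let z : ((Adeq.underline R).obj M).obj (Adeq.pt P) := toU M P m
    have hφz : ((Adeq.underline R).map φ).app (Adeq.pt P) z = 0 := by
      have h0 : ofU N P (((Adeq.underline R).map φ).app (Adeq.pt P) z) = 0 := by
        apply hbN.1
        funext j
        rw [thetaPi_apply, thetaPi_apply]
        refine Eq.trans ?_ (map_zero _).symm
        have h3 : ofU N (C j) (mvfMap ((Adeq.underline R).obj N) (e j)
            (((Adeq.underline R).map φ).app (Adeq.pt P) z)) = 0 := by
          rw [← mvfMap_naturality]
          have h4 : mvfMap ((Adeq.underline R).obj M) (e j) z = i.app (Adeq.pt (C j)) (t j) := by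
            have := congrFun hm j
            rw [thetaPi_apply] at this
            exact this
          rw [h4, ← comp_app_apply, w]
          rfl
        exact h3
      exact h0
    obtain ⟨x, hx⟩ := hex _ z hφz
    refine ⟨x, fun j => hi (Adeq.pt (C j)) ?_⟩
    have h7 : ofU M (C j) (i.app (Adeq.pt (C j)) (mvfMap F (e j) x)) =
        ofU M (C j) (i.app (Adeq.pt (C j)) (t j)) := by
      rw [hnat, hx]
      have := congrFun hm j
      rw [thetaPi_apply] at this
      exact this
    exact h7

end adeqpi

end Groth.Agent.Lib.Helper14.AdeqLib
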