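import Groth.Agent.Lib.Helper14.AdeqH1d
import Groth.Agent.Lib.Helper14.AdeqPi
import Mathlib.Algebra.Category.ModuleCat.Presheaf.Sheafification

set_option autoImplicit false
open CategoryTheory Limits Opposite TensorProduct AlgebraicGeometry
universe u
namespace Groth.Agent.Lib.Helper14.AdeqBig

open Groth.Agent.Lib.Helper14.AdeqLib

section pre
variable {S : Scheme.{u}} (Pr : (Over S)ᵒᵖ ⥤ AddCommGrpCat.{u + 1})

theorem pmap_map {U V W : Over S} (f : U ⟶ V) (g : V ⟶ W) (x : Pr.obj (op W)) :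
    Pr.map f.op (Pr.map g.op x) = Pr.map (f ≫ g).op x := by
  rw [← ConcreteCategory.comp_apply, ← CategoryTheory.Functor.map_comp, ← op_comp]

theorem pmap_congr {U V : Over S} {f g : U ⟶ V} (h : f.left = g.left) (x : Pr.obj (op V)) :
    Pr.map f.op x = Pr.map g.op x := by
  have : f = g := Over.OverMorphism.ext h
  rw [this]

theorem eq_precomp (U : Over S) (x x' : Pr.obj (op U)) {Y Y' : Scheme.{u}} (g : Y ⟶ U.left)
    (h : Y' ⟶ Y) (f : Y' ⟶ U.left) (hf : h ≫ g = f)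
    (hx : Pr.map (Over.homMk g : Over.mk (g ≫ U.hom) ⟶ U).op x =
      Pr.map (Over.homMk g : Over.mk (g ≫ U.hom) ⟶ U).op x') :
    Pr.map (Over.homMk f : Over.mk (f ≫ U.hom) ⟶ U).op x =
      Pr.map (Over.homMk f : Over.mk (f ≫ U.hom) ⟶ U).op x' := by
  subst hf
  let k : Over.mk ((h ≫ g) ≫ U.hom) ⟶ Over.mk (g ≫ U.hom) :=
    Over.homMk h (Category.assoc _ _ _).symm
  have e : (Over.homMk (h ≫ g) : Over.mk ((h ≫ g) ≫ U.hom) ⟶ U) =
      k ≫ (Over.homMk g : Over.mk (g ≫ U.hom) ⟶ U) := by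
    apply Over.OverMorphism.ext
    rfl
  rw [e, ← pmap_map, ← pmap_map, hx]

variable {Pr} in
theorem lift_precomp' {Qr : (Over S)ᵒᵖ ⥤ AddCommGrpCat.{u + 1}} (η : Pr ⟶ Qr) (U : Over S)
    (s : Qr.obj (op U)) {Y Y' : Scheme.{u}} (g : Y ⟶ U.left) (h : Y' ⟶ Y)
    (f : Y' ⟶ U.left) (hf : h ≫ g = f)
    (ht : ∃ t : Pr.obj (op (Over.mk (g ≫ U.hom))),
      η.app (op (Over.mk (g ≫ U.hom))) t =
        Qr.map (Over.homMk g : Over.mk (g ≫ U.hom) ⟶ U).op s) :
    ∃ t : Pr.obj (op (Over.mk (f ≫ U.hom))),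
      η.app (op (Over.mk (f ≫ U.hom))) t =
        Qr.map (Over.homMk f : Over.mk (f ≫ U.hom) ⟶ U).op s := by
  subst hf
  obtain ⟨t, ht⟩ := ht
  let k : Over.mk ((h ≫ g) ≫ U.hom) ⟶ Over.mk (g ≫ U.hom) :=
    Over.homMk h (Category.assoc _ _ _).symm
  refine ⟨Pr.map k.op t, ?_⟩
  rw [NatTrans.naturality_apply, ht, pmap_map]
  rfl

end pre

section fam
variable {R : CommRingCat.{u}} {J : Type u} (B : J → CommRingCat.{u}) (φ : ∀ j, R ⟶ B j)

/-- `B j` as an `R`-algebra via `φ j` -/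
noncomputable def CBj (j : J) : Adeq.Alg R :=
  letI : Algebra R (B j) := (φ j).hom.toAlgebra
  Adeq.algOf R (B j)

/-- the product as an `R`-algebra via `psi` -/
noncomputable def PBp : Adeq.Alg R :=
  letI : Algebra R (PiB B) := (psi B φ).toAlgebra
  Adeq.algOf R (PiB B)

/-- the evaluation maps as maps of `R`-algebras -/
noncomputable def evAlg (j : J) : PBp B φ ⟶ CBj B φ j :=
  letI : Algebra R (PiB B) := (psi B φ).toAlgebra
  letI : Algebra R (B j) := (φ j).hom.toAlgebra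
  CommAlgCat.ofHom
    { Pi.evalRingHom (fun j => (B j : Type u)) j with commutes' := fun _ => rfl }

theorem evAlg_bijective :
    Function.Bijective (fun (p : PBp B φ) (j : J) => (evAlg B φ j).hom p) :=
  Function.bijective_id

end fam

end Groth.Agent.Lib.Helper14.AdeqBig
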