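import Groth.Agent.Lib.Helper14.AdeqShf1

set_option autoImplicit false
open CategoryTheory Limits Opposite TensorProduct AlgebraicGeometry
universe u
namespace Groth.Agent.Lib.Helper14.AdeqBig

open Groth.Agent.Lib.Helper14.AdeqLib

section inj
variable {S : Scheme.{u}}
  (P : PresheafOfModules.{u + 1} (BigSite.ORing Scheme.fppfPrecoverage S).obj)

/-- the module-valued functor attached to a presheaf of modules and an affine object -/
noncomputable abbrev FP {R : CommRingCat.{u}} (a : Spec R ⟶ S) : Adeq.MVF R :=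
  (Adeq.toMVFPre Scheme.fppfPrecoverage a).obj P

theorem mvfMap_FP {R : CommRingCat.{u}} (a : Spec R ⟶ S) {C C' : Adeq.Alg R} (f : C ⟶ C')
    (x : (FP P a).obj (Adeq.pt C)) :
    mvfMap (FP P a) f x = P.presheaf.map ((Adeq.specOver a).map f.op).op x := rfl

theorem unit_w' {R : CommRingCat.{u}} (g : Spec R ⟶ S) :
    Spec.map (CommRingCat.ofHom (algebraMap R R)) ≫ g = g := by
  have h1 : CommRingCat.ofHom (algebraMap R R) = 𝟙 _ := rfl
  rw [h1, Spec.map_id]
  erw [Category.id_comp]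

/-- a locally injective map out of a presheaf of modules which is adequate on affines is injective
on sections over the affine object `Spec R` -/
theorem injective_affine_unit {Qr : (Over S)ᵒᵖ ⥤ AddCommGrpCat.{u + 1}} (η : P.presheaf ⟶ Qr)
    [Presheaf.IsLocallyInjective (QuotSh.J Scheme.fppfPrecoverage S) η]
    (R : CommRingCat.{u}) (a : Spec R ⟶ S) (hF : Adeq.adequate R (FP P a)) :
    Function.Injective (η.app (op (UB a (oR (R := R))))) := by
  intro x x' hxx
  let U₀ : Over S := UB a (oR (R := R))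
  have hT := Presheaf.equalizerSieve_mem (QuotSh.J Scheme.fppfPrecoverage S) η x x' hxx
  rw [GrothendieckTopology.mem_over_iff] at hT
  haveI : Scheme.fppfPrecoverage.{u}.HasIsos := Groth.Agent.S8784.fppf_hasIsos
  haveI : Scheme.fppfPrecoverage.{u}.HasPullbacks := Groth.Agent.S8784.fppf_hasPullbacks
  rw [Precoverage.mem_toGrothendieck_iff_of_isStableUnderComposition] at hT
  obtain ⟨R', hR', hle⟩ := hT
  obtain ⟨J, hJ, B, φ, hsurj, hP, href⟩ := exists_finite_affine_refinement (R := R) R' hR'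
  have hmem : ∀ j, P.presheaf.map
      (Over.homMk (Spec.map (φ j)) : Over.mk (Spec.map (φ j) ≫ U₀.hom) ⟶ U₀).op x =
      P.presheaf.map
        (Over.homMk (Spec.map (φ j)) : Over.mk (Spec.map (φ j) ≫ U₀.hom) ⟶ U₀).op x' := by
    intro j
    obtain ⟨Y, g, h, hg, hhg⟩ := href j
    have h1 := hle Y g hg
    rw [Sieve.overEquiv_iff] at h1
    exact eq_precomp P.presheaf U₀ x x' g h (Spec.map (φ j)) hhg h1
  let A : Type u := PiB B
  letI : Algebra R A := (psi B φ).toAlgebra
  haveI : Module.FaithfullyFlat R A := faithfullyFlat_psi B φ hsurj (fun j => (hP j).1)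
  obtain ⟨hpi, _⟩ := adequate_pi (FP P a) hF (PBp B φ) (CBj B φ) (evAlg B φ)
    (evAlg_bijective B φ)
  obtain ⟨hinj, _⟩ := adequate_ff_descent A (FP P a) hF
  apply hinj
  change mvfMap (FP P a) (uB (R := R) A) x = mvfMap (FP P a) (uB (R := R) A) x'
  apply hpi
  intro j
  have hw : Spec.map (CommRingCat.ofHom (algebraMap R (CBj B φ j))) ≫ a =
      Spec.map (φ j) ≫ U₀.hom :=
    (congrArg (fun t => Spec.map (φ j) ≫ t) (unit_w' a)).symm
  let kj : UB a (CBj B φ j) ⟶ Over.mk (Spec.map (φ j) ≫ U₀.hom) := homOfEq _ _ hw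
  have e : (Adeq.specOver a).map (uB (R := R) A ≫ evAlg B φ j).op =
      kj ≫ (Over.homMk (Spec.map (φ j)) : Over.mk (Spec.map (φ j) ≫ U₀.hom) ⟶ U₀) := by
    apply Over.OverMorphism.ext
    change Spec.map (CommRingCat.ofHom (uB (R := R) A ≫ evAlg B φ j).hom.toRingHom) =
      𝟙 _ ≫ Spec.map (φ j)
    rw [Category.id_comp]
    rfl
  let ub : oR (R := R) ⟶ PBp B φ := uB (R := R) A
  have c1 := mvfMap_comp (FP P a) ub (evAlg B φ j) x
  have c2 := mvfMap_comp (FP P a) ub (evAlg B φ j) x'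
  refine c1.symm.trans (Eq.trans ?_ c2)
  rw [mvfMap_FP, mvfMap_FP]
  have e' : (Adeq.specOver a).map (ub ≫ evAlg B φ j).op =
      kj ≫ (Over.homMk (Spec.map (φ j)) : Over.mk (Spec.map (φ j) ≫ U₀.hom) ⟶ U₀) := e
  rw [e', ← pmap_map, ← pmap_map, hmem j]

theorem injective_of_objEq {Pr Qr : (Over S)ᵒᵖ ⥤ AddCommGrpCat.{u + 1}} (η : Pr ⟶ Qr)
    {X : Scheme.{u}} (f g : X ⟶ S) (h : f = g)
    (hs : Function.Injective (η.app (op (Over.mk g)))) :
    Function.Injective (η.app (op (Over.mk f))) := by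
  subst h
  exact hs

theorem bijective_of_objEq {Pr Qr : (Over S)ᵒᵖ ⥤ AddCommGrpCat.{u + 1}} (η : Pr ⟶ Qr)
    {X : Scheme.{u}} (f g : X ⟶ S) (h : f = g)
    (hs : Function.Bijective (η.app (op (Over.mk g)))) :
    Function.Bijective (η.app (op (Over.mk f))) := by
  subst h
  exact hs

/-- injectivity on all affine objects -/
theorem injective_affine {Qr : (Over S)ᵒᵖ ⥤ AddCommGrpCat.{u + 1}} (η : P.presheaf ⟶ Qr)
    [Presheaf.IsLocallyInjective (QuotSh.J Scheme.fppfPrecoverage S) η]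
    (hF : ∀ (R : CommRingCat.{u}) (a : Spec R ⟶ S), Adeq.adequate R (FP P a))
    (R : CommRingCat.{u}) (a : Spec R ⟶ S) (B : Adeq.Alg R) :
    Function.Injective (η.app (op (UB a B))) := by
  let a' : Spec (CommRingCat.of B) ⟶ S := Spec.map (CommRingCat.ofHom (algebraMap R B)) ≫ a
  have h1 := injective_affine_unit P η (CommRingCat.of B) a' (hF _ a')
  exact injective_of_objEq η _ _ (unit_w' a').symm h1

end inj

end Groth.Agent.Lib.Helper14.AdeqBig
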