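import Groth.Agent.Lib.Helper14.AdeqShf2

set_option autoImplicit false
open CategoryTheory Limits Opposite TensorProduct AlgebraicGeometry
universe u
namespace Groth.Agent.Lib.Helper14.AdeqBig

open Groth.Agent.Lib.Helper14.AdeqLib

section surj
variable {S : Scheme.{u}}
  (P : PresheafOfModules.{u + 1} (BigSite.ORing Scheme.fppfPrecoverage S).obj)
  (Q : BigSite.Mod Scheme.fppfPrecoverage S)

theorem piA_lB_eq' {R : CommRingCat.{u}} (a : Spec R ⟶ S) (A : Type u) [CommRing A] [Algebra R A] :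
    (Adeq.specOver a).map (lB (R := R) A).op ≫ piA a A =
      (Adeq.specOver a).map (rB' (R := R) A).op ≫ piA a A := by
  change (Adeq.specOver a).map (lB (R := R) A).op ≫ (Adeq.specOver a).map (uB (R := R) A).op =
    (Adeq.specOver a).map (rB' (R := R) A).op ≫ (Adeq.specOver a).map (uB (R := R) A).op
  rw [← CategoryTheory.Functor.map_comp, ← CategoryTheory.Functor.map_comp, ← op_comp, ← op_comp,
    uB_lB_eq]

/-- local lifting of sections along a locally surjective map of presheaves -/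
theorem local_lift' {Pr Qr : (Over S)ᵒᵖ ⥤ AddCommGrpCat.{u + 1}} (η : Pr ⟶ Qr)
    [Presheaf.IsLocallySurjective (QuotSh.J Scheme.fppfPrecoverage S) η] (U : Over S)
    (s : Qr.obj (op U)) :
    ∃ R' ∈ Scheme.fppfPrecoverage.coverings U.left, ∀ ⦃Y : Scheme.{u}⦄ (g : Y ⟶ U.left), R' g →
      ∃ t : Pr.obj (op (Over.mk (g ≫ U.hom))),
        η.app (op (Over.mk (g ≫ U.hom))) t =
          Qr.map (Over.homMk g : Over.mk (g ≫ U.hom) ⟶ U).op s := by
  have hT := Presheaf.imageSieve_mem (QuotSh.J Scheme.fppfPrecoverage S) η s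
  rw [GrothendieckTopology.mem_over_iff] at hT
  haveI : Scheme.fppfPrecoverage.{u}.HasIsos := Groth.Agent.S8784.fppf_hasIsos
  haveI : Scheme.fppfPrecoverage.{u}.HasPullbacks := Groth.Agent.S8784.fppf_hasPullbacks
  rw [Precoverage.mem_toGrothendieck_iff_of_isStableUnderComposition] at hT
  obtain ⟨R', hR', hle⟩ := hT
  refine ⟨R', hR', fun Y g hg => ?_⟩
  have h1 := hle Y g hg
  rw [Sieve.overEquiv_iff] at h1
  obtain ⟨t, ht⟩ := h1
  exact ⟨t, ht⟩

set_option maxHeartbeats 1600000 in
/-- a locally bijective map from a presheaf of modules which is adequate on affines to a sheaf of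
modules is surjective on sections over the affine object `Spec R` -/
theorem surjective_affine_unit (η : P.presheaf ⟶ Q.val.presheaf)
    [Presheaf.IsLocallyInjective (QuotSh.J Scheme.fppfPrecoverage S) η]
    [Presheaf.IsLocallySurjective (QuotSh.J Scheme.fppfPrecoverage S) η]
    (hF : ∀ (R : CommRingCat.{u}) (a : Spec R ⟶ S), Adeq.adequate R (FP P a))
    (R : CommRingCat.{u}) (a : Spec R ⟶ S) :
    Function.Surjective (η.app (op (UB a (oR (R := R))))) := by
  intro y
  let U₀ : Over S := UB a (oR (R := R))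
  obtain ⟨R', hR', hlift⟩ := local_lift' η U₀ y
  obtain ⟨J, hJ, B, φ, hsurj, hP, href⟩ := exists_finite_affine_refinement (R := R) R' hR'
  have hmem : ∀ j, ∃ t : P.presheaf.obj (op (Over.mk (Spec.map (φ j) ≫ U₀.hom))),
      η.app (op (Over.mk (Spec.map (φ j) ≫ U₀.hom))) t =
        Q.val.presheaf.map
          (Over.homMk (Spec.map (φ j)) : Over.mk (Spec.map (φ j) ≫ U₀.hom) ⟶ U₀).op y := by
    intro j
    obtain ⟨Y, g, h, hg, hhg⟩ := href j
    exact lift_precomp' η U₀ y g h (Spec.map (φ j)) hhg (hlift g hg)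
  choose tj htj using hmem
  let A : Type u := PiB B
  letI : Algebra R A := (psi B φ).toAlgebra
  haveI : Module.FaithfullyFlat R A := faithfullyFlat_psi B φ hsurj (fun j => (hP j).1)
  have hcov := cover_single Scheme.fppfPrecoverage a A (cover_psi B φ hsurj hP)
  obtain ⟨_, hpi⟩ := adequate_pi (FP P a) (hF R a) (PBp B φ) (CBj B φ) (evAlg B φ)
    (evAlg_bijective B φ)
  have hw : ∀ j, Spec.map (CommRingCat.ofHom (algebraMap R (CBj B φ j))) ≫ a =
      Spec.map (φ j) ≫ U₀.hom :=
    fun j => (congrArg (fun t => Spec.map (φ j) ≫ t) (unit_w' a)).symm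
  let kj : ∀ j, UB a (CBj B φ j) ⟶ Over.mk (Spec.map (φ j) ≫ U₀.hom) :=
    fun j => homOfEq _ _ (hw j)
  obtain ⟨t, ht⟩ := hpi (fun j => P.presheaf.map (kj j).op (tj j))
  -- the glued section maps to the restriction of `y`
  let V : Over S := UB a (oB (R := R) A)
  let ρ : ∀ j, Spec (B j) ⟶ V.left := fun j => Spec.map (evB B j)
  haveI : ∀ j, IsOpenImmersion (ρ j) := fun j => isOpenImmersion_evB B j
  have hρsurj : ∀ x : V.left, ∃ j, x ∈ Set.range (ρ j) := fun x => surj_evB B x
  have hρdisj : ∀ j k, j ≠ k → Disjoint (Set.range (ρ j)) (Set.range (ρ k)) :=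
    fun j k hjk => disj_evB B j k hjk
  let t₀ : P.presheaf.obj (op V) := t
  have hst : η.app (op V) t₀ = Q.val.presheaf.map (piA a A).op y := by
    apply (glue_disjoint Q V (fun j => Spec (B j)) ρ hρsurj hρdisj).1
    intro j
    have hm : ρ j ≫ V.hom = Spec.map (CommRingCat.ofHom (algebraMap R (CBj B φ j))) ≫ a := by
      change Spec.map (evB B j) ≫ (Spec.map (CommRingCat.ofHom (psi B φ)) ≫ a) = Spec.map (φ j) ≫ a
      rw [← Category.assoc, SpecMap_evB_psi]
    let mj : ovr V (fun j => Spec (B j)) ρ j ⟶ UB a (CBj B φ j) := homOfEq _ _ hm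
    let sE : UB a (CBj B φ j) ⟶ V := (Adeq.specOver a).map (evAlg B φ j).op
    have e1 : ovrHom V (fun j => Spec (B j)) ρ j = mj ≫ sE := by
      apply Over.OverMorphism.ext
      change ρ j = 𝟙 _ ≫ Spec.map (CommRingCat.ofHom (evAlg B φ j).hom.toRingHom)
      rw [Category.id_comp]
      rfl
    have e3 : (mj ≫ kj j) ≫ (Over.homMk (Spec.map (φ j)) :
        Over.mk (Spec.map (φ j) ≫ U₀.hom) ⟶ U₀) =
        ovrHom V (fun j => Spec (B j)) ρ j ≫ piA a A := by
      apply Over.OverMorphism.ext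
      change (𝟙 _ ≫ 𝟙 _) ≫ Spec.map (φ j) =
        Spec.map (evB B j) ≫ Spec.map (CommRingCat.ofHom (psi B φ))
      rw [Category.id_comp, Category.id_comp, SpecMap_evB_psi]
    have htj' : P.presheaf.map sE.op t₀ = P.presheaf.map (kj j).op (tj j) := ht j
    have c1 : Q.val.presheaf.map (ovrHom V (fun j => Spec (B j)) ρ j).op (η.app (op V) t₀) =
        Q.val.presheaf.map ((mj ≫ kj j) ≫ (Over.homMk (Spec.map (φ j)) :
          Over.mk (Spec.map (φ j) ≫ U₀.hom) ⟶ U₀)).op y := by
      rw [← NatTrans.naturality_apply, e1, ← pmap_map, htj', pmap_map, NatTrans.naturality_apply,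
        htj j, pmap_map]
    rw [c1, e3, pmap_map]
  -- the cocycle condition
  let δ₁ : UB a (oBB (R := R) A) ⟶ V := (Adeq.specOver a).map (lB (R := R) A).op
  let δ₂ : UB a (oBB (R := R) A) ⟶ V := (Adeq.specOver a).map (rB' (R := R) A).op
  have hcoc : P.presheaf.map δ₁.op t₀ = P.presheaf.map δ₂.op t₀ := by
    apply injective_affine P η hF R a (oBB (R := R) A)
    rw [NatTrans.naturality_apply, NatTrans.naturality_apply, hst, pmap_map, pmap_map]
    exact congrArg (fun k => Q.val.presheaf.map k.op y) (piA_lB_eq' a A)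
  obtain ⟨_, hdesc⟩ := adequate_ff_descent A (FP P a) (hF R a)
  obtain ⟨x, hx⟩ := hdesc t₀ hcoc
  refine ⟨x, ?_⟩
  obtain ⟨hinjQ, _⟩ := sheaf_single Scheme.fppfPrecoverage a Q A hcov
  apply hinjQ
  have hx' : P.presheaf.map (piA a A).op x = t₀ := hx
  change Q.val.presheaf.map (piA a A).op (η.app (op U₀) x) = Q.val.presheaf.map (piA a A).op y
  rw [← NatTrans.naturality_apply, hx', hst]

/-- bijectivity on all affine objects -/
theorem bijective_affine (η : P.presheaf ⟶ Q.val.presheaf)
    [Presheaf.IsLocallyInjective (QuotSh.J Scheme.fppfPrecoverage S) η]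
    [Presheaf.IsLocallySurjective (QuotSh.J Scheme.fppfPrecoverage S) η]
    (hF : ∀ (R : CommRingCat.{u}) (a : Spec R ⟶ S), Adeq.adequate R (FP P a))
    (R : CommRingCat.{u}) (a : Spec R ⟶ S) (B : Adeq.Alg R) :
    Function.Bijective (η.app (op (UB a B))) := by
  let a' : Spec (CommRingCat.of B) ⟶ S := Spec.map (CommRingCat.ofHom (algebraMap R B)) ≫ a
  have h1 : Function.Bijective (η.app (op (UB a' (oR (R := CommRingCat.of B))))) :=
    ⟨injective_affine_unit P η (CommRingCat.of B) a' (hF _ a'),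
      surjective_affine_unit P Q η hF (CommRingCat.of B) a'⟩
  exact bijective_of_objEq η _ _ (unit_w' a').symm h1

end surj

end Groth.Agent.Lib.Helper14.AdeqBig
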