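import Groth.Agent.Lib.Helper14.AdeqShf3

set_option autoImplicit false
open CategoryTheory Limits Opposite TensorProduct AlgebraicGeometry
universe u
namespace Groth.Agent.Lib.Helper14.AdeqBig

open Groth.Agent.Lib.Helper14.AdeqLib

section iso
universe v₁ u₁ v u₂
variable {C : Type u₁} [Category.{v₁} C] {R : Cᵒᵖ ⥤ RingCat.{u₂}}

theorem isIso_of_app_bijective {M₁ M₂ : PresheafOfModules.{v} R} (f : M₁ ⟶ M₂)
    (h : ∀ X, Function.Bijective (f.app X)) : IsIso f := by
  haveI : ∀ X, IsIso (f.app X) := fun X => (ConcreteCategory.isIso_iff_bijective _).mpr (h X)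
  let e : M₁ ≅ M₂ := PresheafOfModules.isoMk (fun X => asIso (f.app X))
    (fun X Y g => f.naturality g)
  have he : e.hom = f := by
    ext X x
    rfl
  rw [← he]
  infer_instance

end iso

section shf
variable {S : Scheme.{u}}
  (P : PresheafOfModules.{u + 1} (BigSite.ORing Scheme.fppfPrecoverage S).obj)

/-- the sheafification -/
noncomputable abbrev shf : BigSite.Mod Scheme.fppfPrecoverage S :=
  (PresheafOfModules.sheafification (𝟙 (BigSite.ORing Scheme.fppfPrecoverage S).obj)).obj P

/-- the unit -/
noncomputable def etaMod : P ⟶ (shf P).val :=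
  (PresheafOfModules.sheafificationAdjunction
    (𝟙 (BigSite.ORing Scheme.fppfPrecoverage S).obj)).unit.app P

theorem etaMod_toPresheaf :
    (PresheafOfModules.toPresheaf _).map (etaMod P) =
      CategoryTheory.toSheafify (QuotSh.J Scheme.fppfPrecoverage S) P.presheaf := rfl

instance : Presheaf.IsLocallyInjective (QuotSh.J Scheme.fppfPrecoverage S)
    ((PresheafOfModules.toPresheaf _).map (etaMod P)) :=
  inferInstanceAs (Presheaf.IsLocallyInjective (QuotSh.J Scheme.fppfPrecoverage S)
    (CategoryTheory.toSheafify (QuotSh.J Scheme.fppfPrecoverage S) P.presheaf))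

instance : Presheaf.IsLocallySurjective (QuotSh.J Scheme.fppfPrecoverage S)
    ((PresheafOfModules.toPresheaf _).map (etaMod P)) :=
  inferInstanceAs (Presheaf.IsLocallySurjective (QuotSh.J Scheme.fppfPrecoverage S)
    (CategoryTheory.toSheafify (QuotSh.J Scheme.fppfPrecoverage S) P.presheaf))

/-- a locally bijective map from a presheaf of modules adequate on affines to a sheaf of modules
induces an isomorphism of the module-valued functors on affines -/
theorem isIso_toMVFPre_map (Q : BigSite.Mod Scheme.fppfPrecoverage S) (η : P ⟶ Q.val)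
    (hi : Presheaf.IsLocallyInjective (QuotSh.J Scheme.fppfPrecoverage S)
      ((PresheafOfModules.toPresheaf (BigSite.ORing Scheme.fppfPrecoverage S).obj).map η))
    (hs : Presheaf.IsLocallySurjective (QuotSh.J Scheme.fppfPrecoverage S)
      ((PresheafOfModules.toPresheaf (BigSite.ORing Scheme.fppfPrecoverage S).obj).map η))
    (hF : ∀ (R : CommRingCat.{u}) (a : Spec R ⟶ S), Adeq.adequate R (FP P a))
    (R : CommRingCat.{u}) (a : Spec R ⟶ S) :
    IsIso ((Adeq.toMVFPre Scheme.fppfPrecoverage a).map η) := by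
  apply isIso_of_app_bijective
  intro X
  exact @bijective_affine S P Q
    ((PresheafOfModules.toPresheaf (BigSite.ORing Scheme.fppfPrecoverage S).obj).map η) hi hs
    hF R a X.unop.unop

theorem adequate_of_locally_bijective (Q : BigSite.Mod Scheme.fppfPrecoverage S) (η : P ⟶ Q.val)
    (hi : Presheaf.IsLocallyInjective (QuotSh.J Scheme.fppfPrecoverage S)
      ((PresheafOfModules.toPresheaf (BigSite.ORing Scheme.fppfPrecoverage S).obj).map η))
    (hs : Presheaf.IsLocallySurjective (QuotSh.J Scheme.fppfPrecoverage S)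
      ((PresheafOfModules.toPresheaf (BigSite.ORing Scheme.fppfPrecoverage S).obj).map η))
    (hF : ∀ (R : CommRingCat.{u}) (a : Spec R ⟶ S), Adeq.adequate R (FP P a))
    (R : CommRingCat.{u}) (a : Spec R ⟶ S) :
    Adeq.adequate R ((Adeq.toMVF Scheme.fppfPrecoverage a).obj Q) := by
  haveI := isIso_toMVFPre_map P Q η hi hs hF R a
  let e : FP P a ≅ (Adeq.toMVFPre Scheme.fppfPrecoverage a).obj Q.val :=
    asIso ((Adeq.toMVFPre Scheme.fppfPrecoverage a).map η)
  exact (Adeq.adequate R).prop_of_iso e (hF R a)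

/-- a module all of whose functors on affines are adequate is adequate -/
theorem adequateMod_of_forall (Q : BigSite.Mod Scheme.fppfPrecoverage S)
    (h : ∀ (R : CommRingCat.{u}) (a : Spec R ⟶ S),
      Adeq.adequate R ((Adeq.toMVF Scheme.fppfPrecoverage a).obj Q)) :
    Adeq.adequateMod Scheme.fppfPrecoverage S Q := by
  let 𝒰 := S.affineOpenCover
  refine ⟨𝒰.I₀, 𝒰.X, 𝒰.f, ?_, fun i => h _ _⟩
  apply Scheme.zariskiPrecoverage_le_fppfPrecoverage
  exact 𝒰.cover.mem₀

/-- S8760 -/
theorem adequateMod_sheafification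
    (hF : ∀ (R : CommRingCat.{u}) (a : Spec R ⟶ S), Adeq.adequate R (FP P a)) :
    Adeq.adequateMod Scheme.fppfPrecoverage S (shf P) :=
  adequateMod_of_forall (shf P) (fun R a => adequate_of_locally_bijective P (shf P) (etaMod P)
    inferInstance inferInstance hF R a)

end shf

end Groth.Agent.Lib.Helper14.AdeqBig
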