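import Groth.Agent.Lib.Helper14.AdeqShf4
import Groth.Agent.Lib.Helper14.Adeq10

set_option autoImplicit false
open CategoryTheory Limits Opposite TensorProduct AlgebraicGeometry
universe u
namespace Groth.Agent.Lib.Helper14.AdeqBig

open Groth.Agent.Lib.Helper14.AdeqLib

section pres
variable {S : Scheme.{u}} {R : CommRingCat.{u}} (a : Spec R ⟶ S)

/-- `toMVFPre` is restriction along `specOver a` on underlying presheaves of abelian groups -/
noncomputable def toMVFPreCompToPresheaf :
    Adeq.toMVFPre Scheme.fppfPrecoverage a ⋙ PresheafOfModules.toPresheaf (Adeq.ringOf R) ≅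
      PresheafOfModules.toPresheaf (BigSite.ORing Scheme.fppfPrecoverage S).obj ⋙
        (Functor.whiskeringLeft _ _ _).obj (Adeq.specOver a).op :=
  NatIso.ofComponents (fun P => Iso.refl _) (by
    intro P Q f
    rfl)

instance : (PresheafOfModules.toPresheaf (Adeq.ringOf R)).ReflectsIsomorphisms := inferInstance

theorem toMVFPre_preservesColimitsOfShape (J : Type (u + 1)) [SmallCategory J] :
    PreservesColimitsOfShape J (Adeq.toMVFPre Scheme.fppfPrecoverage a) := by
  haveI : PreservesColimitsOfShape J (Adeq.toMVFPre Scheme.fppfPrecoverage a ⋙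
      PresheafOfModules.toPresheaf (Adeq.ringOf R)) :=
    preservesColimitsOfShape_of_natIso (toMVFPreCompToPresheaf a).symm
  haveI : ReflectsColimitsOfShape J (PresheafOfModules.toPresheaf (Adeq.ringOf R)) :=
    reflectsColimitsOfShape_of_reflectsIsomorphisms (J := J)
      (G := PresheafOfModules.toPresheaf.{u + 1} (Adeq.ringOf R))
  exact preservesColimitsOfShape_of_reflects_of_preserves
    (Adeq.toMVFPre Scheme.fppfPrecoverage a) (PresheafOfModules.toPresheaf (Adeq.ringOf R))

theorem adequate_FP_colimit {J : Type (u + 1)} [SmallCategory J]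
    (E : J ⥤ PresheafOfModules.{u + 1} (BigSite.ORing Scheme.fppfPrecoverage S).obj)
    (hE : ∀ j, Adeq.adequate R (FP (E.obj j) a)) : Adeq.adequate R (FP (colimit E) a) := by
  haveI := toMVFPre_preservesColimitsOfShape a J
  have h := adequate_colimit (E ⋙ Adeq.toMVFPre Scheme.fppfPrecoverage a) hE
  exact (Adeq.adequate R).prop_of_iso
    (preservesColimitIso (Adeq.toMVFPre Scheme.fppfPrecoverage a) E).symm h

end pres

section colim
variable {S : Scheme.{u}}

/-- S8764 -/
theorem adequateMod_colimit {J : Type (u + 1)} [SmallCategory J]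
    (D : J ⥤ BigSite.Mod Scheme.fppfPrecoverage S)
    (hD : ∀ j, Adeq.adequateMod Scheme.fppfPrecoverage S (D.obj j)) :
    Adeq.adequateMod Scheme.fppfPrecoverage S (colimit D) := by
  let O := BigSite.ORing Scheme.fppfPrecoverage S
  let L := PresheafOfModules.sheafification.{u + 1} (𝟙 O.obj)
  let G := SheafOfModules.forget.{u + 1} O ⋙ PresheafOfModules.restrictScalars (𝟙 O.obj)
  let adj : L ⊣ G := PresheafOfModules.sheafificationAdjunction (𝟙 O.obj)
  let E := D ⋙ G
  haveI : PreservesColimitsOfSize.{u + 1, u + 1} L := adj.leftAdjoint_preservesColimits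
  let e1 : L.obj (colimit E) ≅ colimit (E ⋙ L) := preservesColimitIso L E
  let e2 : E ⋙ L ≅ D := (Functor.associator D G L) ≪≫
    Functor.isoWhiskerLeft D (asIso adj.counit) ≪≫ Functor.rightUnitor D
  let e3 : colimit (E ⋙ L) ≅ colimit D := HasColimit.isoOfNatIso e2
  have hF : ∀ (R : CommRingCat.{u}) (a : Spec R ⟶ S), Adeq.adequate R (FP (colimit E) a) := by
    intro R a
    apply adequate_FP_colimit
    intro j
    exact adequate_toMVF_fppf (D.obj j) (hD j) R a
  exact (Adeq.adequateMod Scheme.fppfPrecoverage S).prop_of_iso (e1 ≪≫ e3)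
    (adequateMod_sheafification (colimit E) hF)

end colim

end Groth.Agent.Lib.Helper14.AdeqBig
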