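import Mathlib

/-!
# helper14: schematic density for affine schemes, with tensor-product charts over a field

* `eq_of_jointly_injective`: two morphisms `f g : W ⟶ Y` from an affine scheme, agreeing over a
  separated `s : Y ⟶ Z`, are equal as soon as they agree on a family `j i : U i ⟶ W` that is
  jointly injective on global sections.
* `tensor_eq_zero_of_forall_quot_pow`: Krull for `B ⊗[k] R`.
-/

set_option autoImplicit false
universe u
open CategoryTheory CategoryTheory.Limits AlgebraicGeometry TensorProduct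

namespace Groth.Agent.Lib.Helper14.AffDense

/-- Schematic density criterion on an affine scheme. -/
theorem eq_of_jointly_injective {W Y Z : Scheme.{u}} [IsAffine W] (f g : W ⟶ Y) (s : Y ⟶ Z)
    [IsSeparated s] (h : f ≫ s = g ≫ s) {ι : Type*} (U : ι → Scheme.{u}) (j : ∀ i, U i ⟶ W)
    (hj : ∀ i, j i ≫ f = j i ≫ g)
    (hinj : ∀ c : Γ(W, ⊤), (∀ i, (j i).appTop c = 0) → c = 0) : f = g := by
  let X' : Over Z := Over.mk (f ≫ s)
  let Y' : Over Z := Over.mk s
  let f' : X' ⟶ Y' := Over.homMk f
  let g' : X' ⟶ Y' := Over.homMk g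
  have : IsSeparated Y'.hom := ‹_›
  have hcl : IsClosedImmersion (equalizer.ι f' g').left := inferInstance
  have hinj' : Function.Injective (equalizer.ι f' g').left.appTop := by
    rw [injective_iff_map_eq_zero]
    intro c hc
    apply hinj
    intro i
    let U' : Over Z := Over.mk (j i ≫ f ≫ s)
    let ι' : U' ⟶ X' := Over.homMk (j i)
    have hι : ι' ≫ f' = ι' ≫ g' := by ext1; exact hj i
    have e : j i = (equalizer.lift ι' hι).left ≫ (equalizer.ι f' g').left := by
      rw [← Over.comp_left, equalizer.lift_ι]; rfl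
    rw [e, Scheme.Hom.comp_appTop, CommRingCat.comp_apply, hc, map_zero]
  haveI : IsAffine X'.left := ‹IsAffine W›
  have := IsClosedImmersion.isIso_of_injective_of_isAffine (f := (equalizer.ι f' g').left) hinj'
  rw [← cancel_epi (equalizer.ι f' g').left]
  exact congr($(equalizer.condition f' g').left)

/-- Naturality of `TensorProduct.equivFinsuppOfBasisLeft` in the right factor. -/
theorem equivFinsupp_lTensor {k : Type*} [CommRing k] {B : Type*} [AddCommGroup B] [Module k B]
    {ι : Type*} [DecidableEq ι] (b : Module.Basis ι k B) {N N' : Type*} [AddCommGroup N] [Module k N]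
    [AddCommGroup N'] [Module k N'] (g : N →ₗ[k] N') (x : B ⊗[k] N) (i : ι) :
    TensorProduct.equivFinsuppOfBasisLeft b (LinearMap.lTensor B g x) i =
      g (TensorProduct.equivFinsuppOfBasisLeft b x i) := by
  induction x using TensorProduct.induction_on with
  | zero => simp
  | tmul m n => simp
  | add x y hx hy => simp [hx, hy]

theorem lTensor_eq_map {k : Type*} [CommRing k] {B : Type*} [CommRing B]
    [Algebra k B] {D D' : Type*} [CommRing D] [Algebra k D] [CommRing D'] [Algebra k D']
    (ψ : D →ₐ[k] D') (z : B ⊗[k] D) :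
    LinearMap.lTensor B ψ.toLinearMap z = Algebra.TensorProduct.map (AlgHom.id k B) ψ z := by
  induction z using TensorProduct.induction_on with
  | zero => simp
  | tmul m n => simp
  | add x y hx hy => simp only [map_add, hx, hy]

/-- Krull intersection for `B ⊗[k] R`, `B` free over `k`: an element dying in all
`B ⊗[k] R ⧸ I ^ n` is zero if `⨅ n, I ^ n = ⊥`. -/
theorem tensor_eq_zero_of_forall_quot_pow {k : Type*} [Field k] {B : Type*} [CommRing B]
    [Algebra k B] {R : Type*} [CommRing R] [Algebra k R] (I : Ideal R)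
    (hI : ⨅ n : ℕ, I ^ n = ⊥) (x : B ⊗[k] R)
    (hx : ∀ n : ℕ, Algebra.TensorProduct.map (AlgHom.id k B) (Ideal.Quotient.mkₐ k (I ^ n)) x = 0) :
    x = 0 := by
  classical
  let b := Module.Free.chooseBasis k B
  apply (TensorProduct.equivFinsuppOfBasisLeft (N := R) b).injective
  rw [map_zero]
  ext i
  rw [Finsupp.zero_apply]
  have : TensorProduct.equivFinsuppOfBasisLeft (N := R) b x i ∈ ⨅ n : ℕ, I ^ n := by
    rw [Ideal.mem_iInf]
    intro n
    have h1 := equivFinsupp_lTensor b (Ideal.Quotient.mkₐ k (I ^ n)).toLinearMap x i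
    rw [lTensor_eq_map, hx n] at h1
    simp only [map_zero, Finsupp.zero_apply] at h1
    have h3 := h1.symm
    rwa [AlgHom.toLinearMap_apply, Ideal.Quotient.mkₐ_eq_mk, Ideal.Quotient.eq_zero_iff_mem] at h3
  rwa [hI] at this

/-- Flatness over a field: `B ⊗ D → B ⊗ D'` is injective when `D → D'` is. -/
theorem tensor_map_injective {k : Type*} [Field k] {B : Type*} [CommRing B]
    [Algebra k B] {D D' : Type*} [CommRing D] [Algebra k D] [CommRing D'] [Algebra k D']
    (ψ : D →ₐ[k] D') (hψ : Function.Injective ψ) :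
    Function.Injective (Algebra.TensorProduct.map (AlgHom.id k B) ψ) := by
  have h1 : Function.Injective (LinearMap.lTensor B ψ.toLinearMap) :=
    Module.Flat.lTensor_preserves_injective_linearMap _ hψ
  intro x y hxy
  apply h1
  rw [lTensor_eq_map, lTensor_eq_map, hxy]

/-- `eq_of_jointly_injective` for `Spec C` and ring maps out of `C`. -/
theorem eq_of_jointly_injective_Spec {Y Z : Scheme.{u}} {C : CommRingCat.{u}} (f g : Spec C ⟶ Y)
    (s : Y ⟶ Z) [IsSeparated s] (h : f ≫ s = g ≫ s) {ι : Type*} (C' : ι → CommRingCat.{u})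
    (φ : ∀ i, C ⟶ C' i) (hj : ∀ i, Spec.map (φ i) ≫ f = Spec.map (φ i) ≫ g)
    (hinj : ∀ c : C, (∀ i, (φ i) c = 0) → c = 0) : f = g := by
  refine eq_of_jointly_injective f g s h (fun i => Spec (C' i)) (fun i => Spec.map (φ i)) hj ?_
  intro c hc
  have h0 : (Scheme.ΓSpecIso C).hom c = 0 := by
    apply hinj
    intro i
    have h1 := congrArg (fun t => t.hom c) (Scheme.ΓSpecIso_naturality (φ i))
    simp only [CommRingCat.hom_comp, RingHom.coe_comp, Function.comp_apply] at h1
    rw [← h1]
    have h2 := hc i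
    change (Spec.map (φ i)).appTop.hom c = 0 at h2
    rw [h2, map_zero]
  have hinj' : Function.Injective (Scheme.ΓSpecIso C).hom :=
    (ConcreteCategory.bijective_of_isIso (Scheme.ΓSpecIso C).hom).1
  exact hinj' (by rw [h0, map_zero])

section Chart

variable {k : Type u} [Field k] {X Y P : Scheme.{u}} {fX : X ⟶ Spec (.of k)}
  {fY : Y ⟶ Spec (.of k)} {p₁ : P ⟶ X} {p₂ : P ⟶ Y} (hP : IsPullback p₁ p₂ fX fY)

/-- The morphism `Spec (B ⊗[k] D) ⟶ X ×ₖ Y` attached to `Spec B ⟶ X` and `Spec D ⟶ Y`. -/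
noncomputable def chartMap (B D : Type u) [CommRing B] [CommRing D] [Algebra k B] [Algebra k D]
    (v : Spec (.of B) ⟶ X) (w : Spec (.of D) ⟶ Y)
    (hv : v ≫ fX = Spec.map (CommRingCat.ofHom (algebraMap k B)))
    (hw : w ≫ fY = Spec.map (CommRingCat.ofHom (algebraMap k D))) :
    Spec (.of (B ⊗[k] D)) ⟶ P :=
  hP.lift (Spec.map (CommRingCat.ofHom
      (Algebra.TensorProduct.includeLeftRingHom : B →+* B ⊗[k] D)) ≫ v)
    (Spec.map (CommRingCat.ofHom
      (Algebra.TensorProduct.includeRight : D →ₐ[k] B ⊗[k] D).toRingHom) ≫ w) (by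
    rw [Category.assoc, Category.assoc, hv, hw, ← Spec.map_comp, ← Spec.map_comp]
    congr 1
    ext x
    simp only [CommRingCat.hom_comp, CommRingCat.hom_ofHom, RingHom.coe_comp,
      Function.comp_apply, Algebra.TensorProduct.includeLeftRingHom_apply, AlgHom.toRingHom_eq_coe,
      RingHom.coe_coe, Algebra.TensorProduct.includeRight_apply]
    rw [Algebra.algebraMap_eq_smul_one, Algebra.algebraMap_eq_smul_one, TensorProduct.smul_tmul])

variable {B D D' : Type u} [CommRing B] [CommRing D] [CommRing D'] [Algebra k B] [Algebra k D]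
  [Algebra k D']

@[reassoc (attr := simp)]
theorem chartMap_fst (v : Spec (.of B) ⟶ X) (w : Spec (.of D) ⟶ Y)
    (hv : v ≫ fX = Spec.map (CommRingCat.ofHom (algebraMap k B)))
    (hw : w ≫ fY = Spec.map (CommRingCat.ofHom (algebraMap k D))) :
    chartMap hP B D v w hv hw ≫ p₁ = Spec.map (CommRingCat.ofHom
      (Algebra.TensorProduct.includeLeftRingHom : B →+* B ⊗[k] D)) ≫ v :=
  hP.lift_fst _ _ _

@[reassoc (attr := simp)]
theorem chartMap_snd (v : Spec (.of B) ⟶ X) (w : Spec (.of D) ⟶ Y)
    (hv : v ≫ fX = Spec.map (CommRingCat.ofHom (algebraMap k B)))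
    (hw : w ≫ fY = Spec.map (CommRingCat.ofHom (algebraMap k D))) :
    chartMap hP B D v w hv hw ≫ p₂ = Spec.map (CommRingCat.ofHom
      (Algebra.TensorProduct.includeRight : D →ₐ[k] B ⊗[k] D).toRingHom) ≫ w :=
  hP.lift_snd _ _ _

/-- Functoriality of `chartMap` in the second chart. -/
theorem chartMap_comp (v : Spec (.of B) ⟶ X) (w : Spec (.of D) ⟶ Y)
    (hv : v ≫ fX = Spec.map (CommRingCat.ofHom (algebraMap k B)))
    (hw : w ≫ fY = Spec.map (CommRingCat.ofHom (algebraMap k D)))
    (ψ : D →ₐ[k] D') (w' : Spec (.of D') ⟶ Y)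
    (hw' : w' ≫ fY = Spec.map (CommRingCat.ofHom (algebraMap k D')))
    (e : w' = Spec.map (CommRingCat.ofHom ψ.toRingHom) ≫ w) :
    chartMap hP B D' v w' hv hw' =
      Spec.map (CommRingCat.ofHom
        (Algebra.TensorProduct.map (AlgHom.id k B) ψ).toRingHom) ≫ chartMap hP B D v w hv hw := by
  apply hP.hom_ext
  · rw [chartMap_fst, Category.assoc, chartMap_fst, ← Spec.map_comp_assoc]
    congr 2
    ext x
    simp
  · rw [chartMap_snd, Category.assoc, chartMap_snd, ← Spec.map_comp_assoc, e,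
      ← Spec.map_comp_assoc]
    congr 2

variable {Z : Scheme.{u}} (fZ : Z ⟶ Spec (.of k)) [IsSeparated fZ] (a b : P ⟶ Z)

/-- Transfer of agreement along an injective map of the second chart. -/
theorem chart_transfer (hab : a ≫ fZ = b ≫ fZ) (v : Spec (.of B) ⟶ X) (w : Spec (.of D) ⟶ Y)
    (hv : v ≫ fX = Spec.map (CommRingCat.ofHom (algebraMap k B)))
    (hw : w ≫ fY = Spec.map (CommRingCat.ofHom (algebraMap k D)))
    (ψ : D →ₐ[k] D') (hψ : Function.Injective ψ)
    (h : Spec.map (CommRingCat.ofHom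
        (Algebra.TensorProduct.map (AlgHom.id k B) ψ).toRingHom) ≫ chartMap hP B D v w hv hw ≫ a =
      Spec.map (CommRingCat.ofHom
        (Algebra.TensorProduct.map (AlgHom.id k B) ψ).toRingHom) ≫ chartMap hP B D v w hv hw ≫ b) :
    chartMap hP B D v w hv hw ≫ a = chartMap hP B D v w hv hw ≫ b := by
  refine eq_of_jointly_injective_Spec _ _ fZ (by rw [Category.assoc, Category.assoc, hab])
    (fun _ : Unit => .of (B ⊗[k] D'))
    (fun _ => CommRingCat.ofHom (Algebra.TensorProduct.map (AlgHom.id k B) ψ).toRingHom)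
    (fun _ => h) ?_
  intro c hc
  have := hc ()
  exact tensor_map_injective (B := B) ψ hψ (by rw [map_zero]; exact this)

/-- Krull: agreement on all infinitesimal neighbourhoods gives agreement on the chart. -/
theorem chart_krull (hab : a ≫ fZ = b ≫ fZ) (v : Spec (.of B) ⟶ X) (w : Spec (.of D) ⟶ Y)
    (hv : v ≫ fX = Spec.map (CommRingCat.ofHom (algebraMap k B)))
    (hw : w ≫ fY = Spec.map (CommRingCat.ofHom (algebraMap k D)))
    (I : Ideal D) (hI : ⨅ n : ℕ, I ^ n = ⊥)
    (h : ∀ n : ℕ, Spec.map (CommRingCat.ofHom (Algebra.TensorProduct.map (AlgHom.id k B)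
          (Ideal.Quotient.mkₐ k (I ^ n))).toRingHom) ≫ chartMap hP B D v w hv hw ≫ a =
      Spec.map (CommRingCat.ofHom (Algebra.TensorProduct.map (AlgHom.id k B)
          (Ideal.Quotient.mkₐ k (I ^ n))).toRingHom) ≫ chartMap hP B D v w hv hw ≫ b) :
    chartMap hP B D v w hv hw ≫ a = chartMap hP B D v w hv hw ≫ b := by
  refine eq_of_jointly_injective_Spec _ _ fZ (by rw [Category.assoc, Category.assoc, hab])
    (fun n : ℕ => .of (B ⊗[k] (D ⧸ I ^ n)))
    (fun n => CommRingCat.ofHom (Algebra.TensorProduct.map (AlgHom.id k B)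
          (Ideal.Quotient.mkₐ k (I ^ n))).toRingHom)
    h ?_
  intro c hc
  exact tensor_eq_zero_of_forall_quot_pow I hI c hc

end Chart

end Groth.Agent.Lib.Helper14.AffDense
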