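import Mathlib

/-!
# helper14: the rigidity lemma (proper flat case) via fpqc descent of morphisms

`p : X ⟶ S` proper, flat, surjective with `O_S(V) ≅ O_X(p⁻¹V)` for all opens `V`, `S` connected and
locally Noetherian, `q : Y ⟶ S` separated, `f : X ⟶ Y` over `S` collapsing one fibre of `p` to a point.
Then `f = p ≫ t` for a section `t` of `q`.
-/

set_option autoImplicit false
universe u
open CategoryTheory CategoryTheory.Limits AlgebraicGeometry Opposite TopologicalSpace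

namespace Groth.Agent.Lib.Helper14.Rigid

theorem restrict_appTop_eq {X S : Scheme.{u}} (π : X ⟶ S) (U : S.Opens) :
    (π ∣_ U).appTop = U.topIso.hom ≫ π.app U ≫ (π ⁻¹ᵁ U).topIso.inv := by
  have h : π ∣_ U = π.resLE U (π ⁻¹ᵁ U) le_rfl := by simp [Scheme.Hom.resLE]
  rw [h, Scheme.Hom.appTop, Scheme.Hom.resLE_app_top, Scheme.Hom.appLE_eq_app]

/-- a morphism to an affine scheme factors through any morphism inducing an iso on global sections. -/
theorem exists_factor_of_isIso_appTop {W V T : Scheme.{u}} (q : W ⟶ V) [IsIso q.appTop]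
    [IsAffine T] (φ : W ⟶ T) : ∃ h : V ⟶ T, φ = q ≫ h := by
  refine ⟨V.toSpecΓ ≫ inv (Spec.map q.appTop) ≫ Spec.map φ.appTop ≫ inv T.toSpecΓ, ?_⟩
  rw [← Category.assoc q, Scheme.toSpecΓ_naturality, Category.assoc,
    IsIso.hom_inv_id_assoc, ← Category.assoc, ← Scheme.toSpecΓ_naturality, Category.assoc,
    IsIso.hom_inv_id, Category.comp_id]

/-- local factorization near a point whose fibre is mapped into an affine open -/
theorem exists_local_factor {X S Y : Scheme.{u}} (p : X ⟶ S) (hcl : IsClosedMap p.base)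
    (hp : ∀ V : S.Opens, IsIso (p.app V)) (f : X ⟶ Y) (s : S) (U : Y.Opens)
    (hU : IsAffineOpen U) (hs : ∀ x : X, p.base x = s → f.base x ∈ U) :
    ∃ V : S.Opens, s ∈ V ∧ ∃ t : V.toScheme ⟶ Y, (p ⁻¹ᵁ V).ι ≫ f = (p ∣_ V) ≫ t := by
  have hC : IsClosed (((f ⁻¹ᵁ U : X.Opens) : Set X)ᶜ) := (f ⁻¹ᵁ U).isOpen.isClosed_compl
  let V : S.Opens := ⟨(p.base '' (((f ⁻¹ᵁ U : X.Opens) : Set X)ᶜ))ᶜ, (hcl _ hC).isOpen_compl⟩
  have hsV : s ∈ V := by
    rintro ⟨w, hw, hws⟩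
    exact hw (hs w hws)
  have hVU : p ⁻¹ᵁ V ≤ f ⁻¹ᵁ U := by
    intro w hw
    by_contra hcon
    exact hw ⟨w, hcon, rfl⟩
  refine ⟨V, hsV, ?_⟩
  haveI : IsAffine U.toScheme := hU
  have hrange : Set.range ((p ⁻¹ᵁ V).ι ≫ f).base ⊆ Set.range U.ι.base := by
    rintro _ ⟨w, rfl⟩
    rw [Scheme.Opens.range_ι]
    exact hVU w.2
  let φ : (p ⁻¹ᵁ V).toScheme ⟶ U.toScheme := IsOpenImmersion.lift U.ι ((p ⁻¹ᵁ V).ι ≫ f) hrange
  have hφ : φ ≫ U.ι = (p ⁻¹ᵁ V).ι ≫ f := IsOpenImmersion.lift_fac _ _ _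
  haveI : IsIso (p ∣_ V).appTop := by
    have := hp V
    rw [restrict_appTop_eq]
    infer_instance
  obtain ⟨h, hh⟩ := exists_factor_of_isIso_appTop (p ∣_ V) φ
  refine ⟨h ≫ U.ι, ?_⟩
  rw [← hφ, hh, Category.assoc]

end Groth.Agent.Lib.Helper14.Rigid
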