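import Mathlib
import Groth.Agent.Lib.Helper14.Rigid1

set_option autoImplicit false
universe u
open CategoryTheory CategoryTheory.Limits AlgebraicGeometry Opposite TopologicalSpace

namespace Groth.Agent.Lib.Helper14.Rigid

section

variable {X S Y : Scheme.{u}} (p : X ⟶ S) (q : Y ⟶ S) (f : X ⟶ Y) (hf : f ≫ q = p)

/-- the structure map `X ×_S X ⟶ S` -/
noncomputable abbrev rr : pullback p p ⟶ S := pullback.fst p p ≫ p

/-- `pr₁ ≫ f` as a morphism over `S` -/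
noncomputable def aa : Over.mk (rr p) ⟶ Over.mk q :=
  Over.homMk (pullback.fst p p ≫ f) (by simp [hf])

/-- `pr₂ ≫ f` as a morphism over `S` -/
noncomputable def bb : Over.mk (rr p) ⟶ Over.mk q :=
  Over.homMk (pullback.snd p p ≫ f) (by
    simp only [Over.mk_hom, Category.assoc, hf]
    exact pullback.condition.symm)

/-- the collapse set -/
def TT : Set S := {s | ∀ x x' : X, p.base x = s → p.base x' = s → f.base x = f.base x'}

/-- on the open where `f` factors locally through `p`, the two pullbacks of `f` agree -/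
theorem fst_eq_snd_of_local_factor (V : S.Opens) (t : V.toScheme ⟶ Y)
    (ht : (p ⁻¹ᵁ V).ι ≫ f = (p ∣_ V) ≫ t) :
    ((rr p) ⁻¹ᵁ V).ι ≫ pullback.fst p p ≫ f = ((rr p) ⁻¹ᵁ V).ι ≫ pullback.snd p p ≫ f := by
  set N := (rr p) ⁻¹ᵁ V with hN
  have hr1 : Set.range (N.ι ≫ pullback.fst p p).base ⊆ Set.range (p ⁻¹ᵁ V).ι.base := by
    rintro _ ⟨z, rfl⟩
    rw [Scheme.Opens.range_ι]
    exact z.2
  have hr2 : Set.range (N.ι ≫ pullback.snd p p).base ⊆ Set.range (p ⁻¹ᵁ V).ι.base := by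
    rintro _ ⟨z, rfl⟩
    rw [Scheme.Opens.range_ι]
    have hz : (rr p).base z.1 ∈ V := z.2
    have hc : (pullback.fst p p ≫ p).base z.1 = (pullback.snd p p ≫ p).base z.1 := by
      rw [pullback.condition]
    show p.base ((pullback.snd p p).base z.1) ∈ V
    have : p.base ((pullback.snd p p).base z.1) = (rr p).base z.1 := by
      simpa using hc.symm
    rw [this]
    exact hz
  let α₁ := IsOpenImmersion.lift (p ⁻¹ᵁ V).ι (N.ι ≫ pullback.fst p p) hr1
  let α₂ := IsOpenImmersion.lift (p ⁻¹ᵁ V).ι (N.ι ≫ pullback.snd p p) hr2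
  have h1 : α₁ ≫ (p ⁻¹ᵁ V).ι = N.ι ≫ pullback.fst p p := IsOpenImmersion.lift_fac _ _ _
  have h2 : α₂ ≫ (p ⁻¹ᵁ V).ι = N.ι ≫ pullback.snd p p := IsOpenImmersion.lift_fac _ _ _
  have h12 : α₁ ≫ (p ∣_ V) = α₂ ≫ (p ∣_ V) := by
    rw [← cancel_mono V.ι, Category.assoc, Category.assoc, morphismRestrict_ι,
      ← Category.assoc, ← Category.assoc, h1, h2, Category.assoc, Category.assoc,
      pullback.condition]
  calc N.ι ≫ pullback.fst p p ≫ f = α₁ ≫ (p ⁻¹ᵁ V).ι ≫ f := by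
        rw [← Category.assoc, ← h1, Category.assoc]
    _ = α₁ ≫ (p ∣_ V) ≫ t := by rw [ht]
    _ = α₂ ≫ (p ∣_ V) ≫ t := by rw [← Category.assoc, h12, Category.assoc]
    _ = α₂ ≫ (p ⁻¹ᵁ V).ι ≫ f := by rw [ht]
    _ = N.ι ≫ pullback.snd p p ≫ f := by rw [← Category.assoc, h2, Category.assoc]

/-- if `f` factors locally through `p` over `V`, then `V ⊆ TT` -/
theorem subset_TT_of_local_factor (V : S.Opens) (t : V.toScheme ⟶ Y)
    (ht : (p ⁻¹ᵁ V).ι ≫ f = (p ∣_ V) ≫ t) : (V : Set S) ⊆ TT p f := by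
  intro s hs x x' hx hx'
  have key : ∀ x : X, p.base x = s → f.base x = t.base ⟨s, hs⟩ := by
    intro x hx
    have hxV : x ∈ p ⁻¹ᵁ V := by
      show p.base x ∈ V
      rw [hx]; exact hs
    have h1 : f.base x = ((p ⁻¹ᵁ V).ι ≫ f).base ⟨x, hxV⟩ := rfl
    rw [h1, ht]
    show t.base ((p ∣_ V).base ⟨x, hxV⟩) = _
    congr 1
    apply Subtype.ext
    have h2 : ((p ∣_ V) ≫ V.ι).base ⟨x, hxV⟩ = ((p ⁻¹ᵁ V).ι ≫ p).base ⟨x, hxV⟩ := by
      rw [morphismRestrict_ι]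
    exact h2.trans hx
  rw [key x hx, key x' hx']

end

end Groth.Agent.Lib.Helper14.Rigid
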