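import Mathlib
import Groth.Agent.Lib.Helper14.Rigid2

/-!
# helper14: the rigidity lemma, global part
-/

set_option autoImplicit false
universe u
open CategoryTheory CategoryTheory.Limits AlgebraicGeometry Opposite TopologicalSpace

namespace Groth.Agent.Lib.Helper14.Rigid

section

variable {X S Y : Scheme.{u}} (p : X ⟶ S) (q : Y ⟶ S) (f : X ⟶ Y) (hf : f ≫ q = p)

/-- the equalizer of `pr₁ ≫ f` and `pr₂ ≫ f` mapping to `X ×_S X` -/
noncomputable def eqι : (equalizer (aa p q f hf) (bb p q f hf)).left ⟶ pullback p p :=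
  (equalizer.ι (aa p q f hf) (bb p q f hf)).left

theorem eqι_condition :
    eqι p q f hf ≫ pullback.fst p p ≫ f = eqι p q f hf ≫ pullback.snd p p ≫ f := by
  have := congrArg CommaMorphism.left (equalizer.condition (aa p q f hf) (bb p q f hf))
  simpa [eqι, aa, bb] using this

/-- the coincidence locus of `pr₁ ≫ f` and `pr₂ ≫ f` -/
def CC : Set ↥(pullback p p) := Set.range (eqι p q f hf).base

theorem isClosed_CC [IsSeparated q] : IsClosed (CC p q f hf) := by
  have : IsSeparated (Over.mk q).hom := ‹IsSeparated q›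
  have : IsClosedImmersion (eqι p q f hf) :=
    isClosedImmersion_equalizer_ι_left (aa p q f hf) (bb p q f hf)
  exact (eqι p q f hf).isClosedEmbedding.isClosed_range

theorem mem_TT_of_forall_mem_CC (s : S)
    (h : ∀ z : ↥(pullback p p), (rr p).base z = s → z ∈ CC p q f hf) : s ∈ TT p f := by
  intro x x' hx hx'
  obtain ⟨z, hz1, hz2⟩ := Scheme.Pullback.exists_preimage_pullback (f := p) (g := p) x x'
    (hx.trans hx'.symm)
  have hzs : (rr p).base z = s := by
    show (pullback.fst p p ≫ p).base z = s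
    rw [Scheme.Hom.comp_base, TopCat.comp_app]
    exact (congrArg p.base hz1).trans hx
  obtain ⟨w, rfl⟩ := h z hzs
  have h3 := congrArg (fun φ : _ ⟶ Y => φ.base w) (eqι_condition p q f hf)
  rw [← hz1, ← hz2]
  simpa using h3

theorem mem_CC_of_local_factor (V : S.Opens) (t : V.toScheme ⟶ Y)
    (ht : (p ⁻¹ᵁ V).ι ≫ f = (p ∣_ V) ≫ t) (z : ↥(pullback p p)) (hz : (rr p).base z ∈ V) :
    z ∈ CC p q f hf := by
  have h := fst_eq_snd_of_local_factor p f V t ht
  let l : Over.mk (((rr p) ⁻¹ᵁ V).ι ≫ rr p) ⟶ equalizer (aa p q f hf) (bb p q f hf) :=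
    equalizer.lift (Over.homMk ((rr p) ⁻¹ᵁ V).ι rfl :
      Over.mk (((rr p) ⁻¹ᵁ V).ι ≫ rr p) ⟶ Over.mk (rr p)) (by
      ext
      simpa [aa, bb] using h)
  have hl : l.left ≫ eqι p q f hf = ((rr p) ⁻¹ᵁ V).ι := by
    have := congrArg CommaMorphism.left (equalizer.lift_ι (Over.homMk ((rr p) ⁻¹ᵁ V).ι rfl :
      Over.mk (((rr p) ⁻¹ᵁ V).ι ≫ rr p) ⟶ Over.mk (rr p)) (show _ ≫ aa p q f hf = _ ≫ bb p q f hf by
      ext
      simpa [aa, bb] using h))
    exact this
  refine ⟨l.left.base ⟨z, hz⟩, ?_⟩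
  have h3 := congrArg (fun φ : ((rr p) ⁻¹ᵁ V).toScheme ⟶ pullback p p => φ.base ⟨z, hz⟩) hl
  exact h3

end

section main

variable {X S Y : Scheme.{u}} (p : X ⟶ S) (q : Y ⟶ S) (f : X ⟶ Y) (hf : f ≫ q = p)

omit hf in
theorem exists_local_factor_of_mem_TT [UniversallyClosed p]
    (hp : ∀ V : S.Opens, IsIso (p.app V)) (s : S) (hs : s ∈ TT p f) :
    ∃ V : S.Opens, s ∈ V ∧ ∃ t : V.toScheme ⟶ Y, (p ⁻¹ᵁ V).ι ≫ f = (p ∣_ V) ≫ t := by
  by_cases hne : ∃ x₀ : X, p.base x₀ = s
  · obtain ⟨x₀, hx₀⟩ := hne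
    obtain ⟨_, ⟨U, hU, rfl⟩, hxU, -⟩ := Y.isBasis_affineOpens.exists_subset_of_mem_open
      (Set.mem_univ (f.base x₀)) isOpen_univ
    exact exists_local_factor p p.isClosedMap hp f s U hU
      (fun x hx => by rw [hs x x₀ hx hx₀]; exact hxU)
  · exact exists_local_factor p p.isClosedMap hp f s ⊥ (isAffineOpen_bot Y)
      (fun x hx => (hne ⟨x, hx⟩).elim)

include hf in
theorem TT_eq_univ [ConnectedSpace S] [IsLocallyNoetherian S] [IsProper p] [Flat p]
    (hp : ∀ V : S.Opens, IsIso (p.app V)) [IsSeparated q] (s₀ : S) (hs₀ : s₀ ∈ TT p f) :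
    TT p f = Set.univ := by
  have hloc := exists_local_factor_of_mem_TT p f hp
  have hopen : IsOpen (TT p f) := by
    rw [isOpen_iff_forall_mem_open]
    intro s hs
    obtain ⟨V, hsV, t, ht⟩ := hloc s hs
    exact ⟨V, subset_TT_of_local_factor p f V t ht, V.isOpen, hsV⟩
  have hclosed : IsClosed (TT p f) := by
    have hcompl : (TT p f)ᶜ = (rr p).base '' (CC p q f hf)ᶜ := by
      ext s
      constructor
      · intro hs
        by_contra hcon
        apply hs
        apply mem_TT_of_forall_mem_CC p q f hf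
        intro z hz
        by_contra hzC
        exact hcon ⟨z, hzC, hz⟩
      · rintro ⟨z, hzC, rfl⟩ hs
        obtain ⟨V, hsV, t, ht⟩ := hloc _ hs
        exact hzC (mem_CC_of_local_factor p q f hf V t ht z hsV)
    rw [← isOpen_compl_iff, hcompl]
    have : LocallyOfFinitePresentation p :=
      LocallyOfFinitePresentation.iff_locallyOfFiniteType.mpr inferInstance
    have : UniversallyOpen (rr p) := inferInstance
    exact (rr p).isOpenMap _ (isClosed_CC p q f hf).isOpen_compl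
  exact IsClopen.eq_univ ⟨hclosed, hopen⟩ ⟨s₀, hs₀⟩

include hf in
/-- **Rigidity lemma.** -/
theorem rigidity [ConnectedSpace S] [IsLocallyNoetherian S] [IsProper p] [Flat p] [Surjective p]
    (hp : ∀ V : S.Opens, IsIso (p.app V)) [IsSeparated q] (s₀ : S) (hs₀ : s₀ ∈ TT p f) :
    ∃ t : S ⟶ Y, t ≫ q = 𝟙 S ∧ f = p ≫ t := by
  have hTT := TT_eq_univ p q f hf hp s₀ hs₀
  have hloc := exists_local_factor_of_mem_TT p f hp
  have hglob : pullback.fst p p ≫ f = pullback.snd p p ≫ f := by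
    apply Scheme.hom_ext_of_forall
    intro z
    obtain ⟨V, hsV, t, ht⟩ := hloc ((rr p).base z) (by rw [hTT]; trivial)
    exact ⟨(rr p) ⁻¹ᵁ V, hsV, fst_eq_snd_of_local_factor p f V t ht⟩
  have hdesc : ∀ {Z : Scheme.{u}} (g₁ g₂ : Z ⟶ X), g₁ ≫ p = g₂ ≫ p → g₁ ≫ f = g₂ ≫ f := by
    intro Z g₁ g₂ h
    have h1 : g₁ = pullback.lift g₁ g₂ h ≫ pullback.fst p p := (pullback.lift_fst _ _ _).symm
    have h2 : g₂ = pullback.lift g₁ g₂ h ≫ pullback.snd p p := (pullback.lift_snd _ _ _).symm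
    rw [h1, Category.assoc, hglob, ← Category.assoc, ← h2]
  refine ⟨EffectiveEpi.desc p f hdesc, ?_, (EffectiveEpi.fac p f hdesc).symm⟩
  rw [← cancel_epi p, ← Category.assoc, EffectiveEpi.fac, hf, Category.comp_id]

end main

end Groth.Agent.Lib.Helper14.Rigid
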