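import Mathlib
import Groth.Agent.Lib.Helper21.LocFree1

/-!
# helper14: universal version of helper21's `LocFree1`

`δ : W → F` a map of finite projective modules over a Noetherian ring `A` such that all fibre
kernels `ker (δ ⊗ κ(x))` are one-dimensional and `ker δ` is faithful at every `x`.  Then for every
`A`-algebra `B` and every ring map `φ : B → C` such that `C ≃ ker (δ ⊗ B)` compatibly with `φ`,
the map `φ` is bijective.
-/

set_option autoImplicit false
universe u
open TensorProduct

namespace Groth.Agent.Lib.Helper14.UnivH0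

open Groth.Agent.Lib.helper21.LocFree1

section Local

variable {R : Type u} [CommRing R] [IsLocalRing R]
  {W F : Type u} [AddCommGroup W] [Module R W] [Module.Finite R W] [Module.Free R W]
  [AddCommGroup F] [Module R F] [Module.Finite R F] [Module.Free R F]

local notation "k" => IsLocalRing.ResidueField R

/-- structure form of `core_local`: a splitting of `δ` with a one-dimensional kernel. -/
theorem core_local_struct (δ : W →ₗ[R] F)
    (h1 : Module.finrank k (LinearMap.ker (δ.baseChange k)) = 1)
    (h2 : ∀ a : R, (∀ z ∈ LinearMap.ker δ, a • z = 0) → a = 0) :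
    ∃ (l : W →ₗ[R] R) (ρ₁ : F →ₗ[R] W) (z1 : W),
      (∀ w, ρ₁ (δ w) + l w • z1 = w) ∧ δ z1 = 0 ∧ l z1 = 1 := by
  classical
  haveI : Module.Free k (LinearMap.ker (δ.baseChange k)) :=
    Module.Free.of_divisionRing k (LinearMap.ker (δ.baseChange k))
  obtain ⟨v, hv0, hv⟩ := (finrank_eq_one_iff' (K := k)
    (V := LinearMap.ker (δ.baseChange k))).mp h1
  have hv0' : (v : k ⊗[R] W) ≠ 0 := fun h => hv0 (Subtype.ext h)
  obtain ⟨l, hl⟩ := exists_functional_ne_zero (v : k ⊗[R] W) hv0'
  let δp : W →ₗ[R] F × R := δ.prod l
  have hinj : Function.Injective (δp.lTensor k) := by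
    rw [injective_iff_map_eq_zero]
    intro u hu
    have hu1 : (δ.lTensor k) u = 0 := by
      have : δ = LinearMap.fst R F R ∘ₗ δp := (LinearMap.fst_prod δ l).symm
      rw [this, LinearMap.lTensor_comp, LinearMap.comp_apply, hu, map_zero]
    have hu2 : (l.lTensor k) u = 0 := by
      have : l = LinearMap.snd R F R ∘ₗ δp := (LinearMap.snd_prod δ l).symm
      rw [this, LinearMap.lTensor_comp, LinearMap.comp_apply, hu, map_zero]
    have humem : u ∈ LinearMap.ker (δ.baseChange k) := hu1
    obtain ⟨c, hc⟩ := hv ⟨u, humem⟩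
    have hc' : c • (v : k ⊗[R] W) = u := congrArg Subtype.val hc
    rw [← hc'] at hu2
    have h3 : (l.lTensor k) (c • (v : k ⊗[R] W)) = c • (l.lTensor k) (v : k ⊗[R] W) :=
      (l.baseChange k).map_smul c _
    rw [h3] at hu2
    rcases smul_eq_zero.mp hu2 with hc0 | hc0
    · rw [← hc', hc0, zero_smul]
    · exact absurd hc0 hl
  obtain ⟨ρ, hρ⟩ :=
    (IsLocalRing.split_injective_iff_lTensor_residueField_injective δp).mpr hinj
  have hρ' : ∀ w, ρ (δ w, l w) = w := fun w => LinearMap.congr_fun hρ w
  set z1 := ρ (0, 1) with hz1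
  have hsplit : ∀ w, ρ (δ w, 0) + l w • z1 = w := by
    intro w
    rw [hz1, ← map_smul, ← map_add, Prod.smul_mk, smul_zero, smul_eq_mul, mul_one,
      Prod.mk_add_mk, add_zero, zero_add]
    exact hρ' w
  have hker : ∀ z ∈ LinearMap.ker δ, z = l z • z1 := by
    intro z hz
    have := hsplit z
    rw [LinearMap.mem_ker.mp hz] at this
    have h0 : ρ ((0 : F), (0 : R)) = 0 := map_zero ρ
    rw [show ((0 : F), (0 : R)) = 0 from rfl, map_zero, zero_add] at this
    exact this.symm
  have hδz1 : δ z1 = 0 := by
    let bF := Module.Free.chooseBasis R F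
    apply bF.repr.map_eq_zero_iff.mp
    ext j
    rw [Finsupp.zero_apply]
    apply h2
    intro z hz
    have hz' := hker z hz
    have h4 : l z • δ z1 = 0 := by
      rw [← map_smul, ← hz']
      exact hz
    have h5 : l z * bF.repr (δ z1) j = 0 := by
      have := congrArg (fun t => bF.repr t j) h4
      simpa using this
    rw [hz', smul_smul, mul_comm, h5, zero_smul]
  have hlz1 : l z1 = 1 := by
    have h3 : (1 - l z1) = 0 := by
      apply h2
      intro z hz
      have hz' := hker z hz
      have hz1' := hker z1 hδz1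
      rw [hz', smul_comm, sub_smul, one_smul, ← hz1', sub_self, smul_zero]
    exact (sub_eq_zero.mp h3).symm
  refine ⟨l, ρ ∘ₗ LinearMap.inl R F R, z1, ?_, hδz1, hlz1⟩
  intro w
  exact hsplit w

end Local

section Univ

variable {R : Type u} [CommRing R] {W F : Type u} [AddCommGroup W] [Module R W]
  [AddCommGroup F] [Module R F]

/-- a split map with one-dimensional kernel keeps a free rank one kernel after any base change -/
theorem nonempty_ker_baseChange_equiv_of_struct (δ : W →ₗ[R] F) (l : W →ₗ[R] R) (ρ₁ : F →ₗ[R] W)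
    (z1 : W) (h : ∀ w, ρ₁ (δ w) + l w • z1 = w) (hz : δ z1 = 0) (hl : l z1 = 1)
    (B : Type u) [CommRing B] [Algebra R B] :
    Nonempty (LinearMap.ker (δ.baseChange B) ≃ₗ[B] B) := by
  let lB : B ⊗[R] W →ₗ[B] B :=
    (AlgebraTensorModule.rid R B B).toLinearMap ∘ₗ l.baseChange B
  have lB_tmul : ∀ (b : B) (w : W), lB (b ⊗ₜ[R] w) = l w • b := by
    intro b w
    simp [lB]
  let zB : B ⊗[R] W := (1 : B) ⊗ₜ[R] z1
  have hzB : (δ.baseChange B) zB = 0 := by
    simp [zB, hz]
  have hB : ∀ w' : B ⊗[R] W, (ρ₁.baseChange B) ((δ.baseChange B) w') + lB w' • zB = w' := by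
    intro w'
    induction w' using TensorProduct.induction_on with
    | zero => simp
    | tmul b w =>
      rw [LinearMap.baseChange_tmul, LinearMap.baseChange_tmul, lB_tmul]
      have h3 : (l w • b) • zB = b ⊗ₜ[R] (l w • z1) := by
        simp only [zB]
        rw [TensorProduct.smul_tmul', smul_eq_mul, mul_one, TensorProduct.smul_tmul]
      rw [h3, ← TensorProduct.tmul_add, h]
    | add y z hy hz' =>
      rw [map_add, map_add, map_add, add_smul]
      calc _ = ((ρ₁.baseChange B) ((δ.baseChange B) y) + lB y • zB) +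
            ((ρ₁.baseChange B) ((δ.baseChange B) z) + lB z • zB) := by abel
        _ = y + z := by rw [hy, hz']
  have hlzB : lB zB = 1 := by
    simp only [zB]
    rw [lB_tmul, hl, one_smul]
  refine ⟨{ toFun := fun z => lB z.1
            map_add' := fun a b => by simp
            map_smul' := fun b z => by simp
            invFun := fun b => ⟨b • zB, by
              rw [LinearMap.mem_ker, map_smul, hzB, smul_zero]⟩
            left_inv := fun z => by
              apply Subtype.ext
              have := hB z.1
              rw [LinearMap.mem_ker.mp z.2, map_zero, zero_add] at this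
              exact this
            right_inv := fun b => by
              show lB (b • zB) = b
              rw [map_smul, hlzB, smul_eq_mul, mul_one] }⟩

end Univ

section Tower

variable {A : Type u} [CommRing A] (R : Type u) [CommRing R] [Algebra A R]
  {W F : Type u} [AddCommGroup W] [Module A W] [AddCommGroup F] [Module A F]

/-- kernels of iterated base changes -/
noncomputable def kerBaseChangeTower (δ : W →ₗ[A] F) (B : Type u) [CommRing B] [Algebra A B]
    [Algebra R B] [IsScalarTower A R B] :
    LinearMap.ker ((δ.baseChange R).baseChange B) ≃ₗ[B] LinearMap.ker (δ.baseChange B) := by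
  let e := AlgebraTensorModule.cancelBaseChange A R B B W
  let e' := AlgebraTensorModule.cancelBaseChange A R B B F
  have hnat : e'.toLinearMap ∘ₗ ((δ.baseChange R).baseChange B) =
      (δ.baseChange B) ∘ₗ e.toLinearMap := by
    apply LinearMap.restrictScalars_injective R
    apply TensorProduct.ext'
    intro c y
    induction y using TensorProduct.induction_on with
    | zero => simp
    | tmul r w =>
      simp only [LinearMap.coe_restrictScalars, LinearMap.comp_apply, LinearEquiv.coe_coe,
        LinearMap.baseChange_tmul, e, e', AlgebraTensorModule.cancelBaseChange_tmul]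
    | add y z hy hz =>
      rw [TensorProduct.tmul_add, map_add, map_add, hy, hz]
  refine LinearEquiv.ofSubmodules e _ _ ?_
  ext z
  rw [Submodule.mem_map_equiv, LinearMap.mem_ker, LinearMap.mem_ker]
  have hz := LinearMap.congr_fun hnat (e.symm z)
  simp only [LinearMap.comp_apply, LinearEquiv.coe_coe, LinearEquiv.apply_symm_apply] at hz
  rw [← hz]
  exact (e'.map_eq_zero_iff).symm

end Tower

section Global

variable {A : Type u} [CommRing A] [IsNoetherianRing A]
  {W F : Type u} [AddCommGroup W] [Module A W] [Module.Finite A W] [Module.Projective A W]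
  [AddCommGroup F] [Module A F] [Module.Finite A F] [Module.Projective A F]

/-- **Universal core lemma.** Under the hypotheses of `core_global` at `x`, the kernel of
`δ ⊗ B` is free of rank one for every `A`-algebra `B` in which the elements outside `x` become
units. -/
theorem nonempty_ker_baseChange_equiv (δ : W →ₗ[A] F) (x : PrimeSpectrum A)
    (h1 : Module.finrank x.asIdeal.ResidueField
      (LinearMap.ker (δ.baseChange x.asIdeal.ResidueField)) = 1)
    (h2 : ∀ a : A, (∀ z ∈ LinearMap.ker δ, a • z = 0) → ∃ s : A, s ∉ x.asIdeal ∧ s * a = 0)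
    (B : Type u) [CommRing B] [Algebra A B]
    (hB : ∀ a : A, a ∉ x.asIdeal → IsUnit (algebraMap A B a)) :
    Nonempty (LinearMap.ker (δ.baseChange B) ≃ₗ[B] B) := by
  set R := Localization.AtPrime x.asIdeal with hR
  set k := x.asIdeal.ResidueField with hk
  let δR : R ⊗[A] W →ₗ[R] R ⊗[A] F := δ.baseChange R
  haveI : Module.Flat A W := inferInstance
  haveI : Module.Flat A F := inferInstance
  haveI : Module.Free R (R ⊗[A] W) := Module.free_of_flat_of_isLocalRing
  haveI : Module.Free R (R ⊗[A] F) := Module.free_of_flat_of_isLocalRing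
  -- fibre kernels agree
  have hker : Module.finrank k (LinearMap.ker (δR.baseChange k)) = 1 := by
    rw [← h1]
    exact (kerBaseChangeTower R δ k).finrank_eq
  -- faithfulness
  have hfaith : ∀ r : R, (∀ z ∈ LinearMap.ker δR, r • z = 0) → r = 0 := by
    intro r hr
    obtain ⟨a, t, rfl⟩ := IsLocalization.exists_mk'_eq x.asIdeal.primeCompl r
    have hloc : ∀ z ∈ LinearMap.ker δ, ∃ c ∈ x.asIdeal.primeCompl, (c * a) • z = 0 := by
      intro z hz
      have hzR : (1 : R) ⊗ₜ[A] z ∈ LinearMap.ker δR := by
        rw [LinearMap.mem_ker]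
        show (δ.baseChange R) ((1 : R) ⊗ₜ[A] z) = 0
        rw [LinearMap.baseChange_tmul, LinearMap.mem_ker.mp hz, TensorProduct.tmul_zero]
      have h3 := hr _ hzR
      have h4 : (algebraMap A R a) • ((1 : R) ⊗ₜ[A] z) = 0 := by
        rw [← IsLocalization.mk'_spec R a t, mul_comm, mul_smul, h3, smul_zero]
      have h5 : (1 : R) ⊗ₜ[A] (a • z) = 0 := by
        rw [TensorProduct.tmul_smul, ← algebraMap_smul R a ((1 : R) ⊗ₜ[A] z)]
        exact h4
      have h6 : (TensorProduct.mk A R W 1) (a • z) = 0 := h5
      rw [IsLocalizedModule.eq_zero_iff x.asIdeal.primeCompl] at h6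
      obtain ⟨c, hc⟩ := h6
      refine ⟨c.1, c.2, ?_⟩
      rw [mul_smul]
      exact hc
    haveI : IsNoetherian A W := isNoetherian_of_isNoetherianRing_of_finite A W
    obtain ⟨c, hcS, hc⟩ := exists_common_annihilator x.asIdeal.primeCompl (LinearMap.ker δ)
      (IsNoetherian.noetherian _) a hloc
    obtain ⟨s, hs, hsa⟩ := h2 (c * a) hc
    rw [IsLocalization.mk'_eq_zero_iff]
    exact ⟨⟨s * c, Submonoid.mul_mem _ hs hcS⟩, by rw [mul_assoc]; exact hsa⟩
  obtain ⟨l, ρ₁, z1, hsplit, hz, hl⟩ := core_local_struct δR hker hfaith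
  letI : Algebra R B :=
    (IsLocalization.lift (M := x.asIdeal.primeCompl) (S := R) (g := algebraMap A B)
      (fun y => hB y.1 y.2)).toAlgebra
  haveI : IsScalarTower A R B := IsScalarTower.of_algebraMap_eq (fun a =>
    (IsLocalization.lift_eq (M := x.asIdeal.primeCompl) (S := R) (g := algebraMap A B)
      (fun y => hB y.1 y.2) a).symm)
  obtain ⟨e0⟩ := nonempty_ker_baseChange_equiv_of_struct δR l ρ₁ z1 hsplit hz hl B
  exact ⟨(kerBaseChangeTower R δ B).symm.trans e0⟩

/-- **Universal bijectivity.** If all fibre kernels of `δ` are one-dimensional and `ker δ` is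
faithful at every prime, then any ring map `φ : B → C` (with `B` an `A`-algebra) such that
`C ≃ ker (δ ⊗ B)` compatibly with `φ` is bijective. -/
theorem bijective_of_ker_baseChange_equiv (δ : W →ₗ[A] F)
    (h1 : ∀ x : PrimeSpectrum A, Module.finrank x.asIdeal.ResidueField
      (LinearMap.ker (δ.baseChange x.asIdeal.ResidueField)) = 1)
    (h2 : ∀ (x : PrimeSpectrum A) (a : A), (∀ z ∈ LinearMap.ker δ, a • z = 0) →
      ∃ s : A, s ∉ x.asIdeal ∧ s * a = 0)
    (B : Type u) [CommRing B] [Algebra A B] (C : Type u) [CommRing C] (φ : B →+* C)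
    (e : LinearMap.ker (δ.baseChange B) ≃+ C) (he : ∀ b z, e (b • z) = φ b * e z) :
    Function.Bijective φ := by
  letI : Algebra B C := φ.toAlgebra
  let eL : LinearMap.ker (δ.baseChange B) ≃ₗ[B] C :=
    { e with
      map_smul' := fun b z => by
        show e (b • z) = b • e z
        rw [he, Algebra.smul_def]
        rfl }
  have key : Function.Bijective (Algebra.linearMap B C) := by
    refine bijective_of_isLocalized_maximal (fun q _ => Localization.AtPrime q)
      (fun q _ => Algebra.linearMap B (Localization.AtPrime q))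
      (fun q _ => (Localization.AtPrime q) ⊗[B] C)
      (fun q _ => TensorProduct.mk B (Localization.AtPrime q) C 1) (Algebra.linearMap B C) ?_
    intro q hq
    set Bq := Localization.AtPrime q with hBq
    -- the prime of `A` below `q`
    let x : PrimeSpectrum A := ⟨q.comap (algebraMap A B), inferInstance⟩
    have hunit : ∀ a : A, a ∉ x.asIdeal → IsUnit (algebraMap A Bq a) := by
      intro a ha
      rw [IsScalarTower.algebraMap_apply A B Bq]
      exact IsLocalization.map_units Bq (⟨algebraMap A B a, ha⟩ : q.primeCompl)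
    obtain ⟨eU⟩ := nonempty_ker_baseChange_equiv δ x (h1 x) (h2 x) Bq hunit
    let e1 : Bq ⊗[B] LinearMap.ker (δ.baseChange B) ≃ₗ[Bq]
        LinearMap.ker ((δ.baseChange B).baseChange Bq) :=
      LinearMap.tensorKerEquiv Bq Bq (δ.baseChange B)
    let e2 : Bq ⊗[B] LinearMap.ker (δ.baseChange B) ≃ₗ[Bq] Bq ⊗[B] C :=
      LinearEquiv.baseChange B Bq _ _ eL
    let E : Bq ⊗[B] C ≃ₗ[Bq] Bq :=
      e2.symm.trans (e1.trans ((kerBaseChangeTower B δ Bq).trans eU))
    have hψ : Function.Bijective (algebraMap Bq (Bq ⊗[B] C)) := by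
      refine bijective_of_addEquiv (algebraMap Bq (Bq ⊗[B] C)) E.toAddEquiv (fun r s => ?_)
      show E (algebraMap Bq (Bq ⊗[B] C) r * s) = r * E s
      rw [← Algebra.smul_def, map_smul, smul_eq_mul]
    have hmap : ⇑(IsLocalizedModule.map q.primeCompl (Algebra.linearMap B Bq)
        (TensorProduct.mk B Bq C 1) (Algebra.linearMap B C)) =
        ⇑(algebraMap Bq (Bq ⊗[B] C)) := by
      have : IsLocalizedModule.map q.primeCompl (Algebra.linearMap B Bq)
          (TensorProduct.mk B Bq C 1) (Algebra.linearMap B C) =
          (Algebra.linearMap Bq (Bq ⊗[B] C)).restrictScalars B := by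
        apply IsLocalizedModule.linearMap_ext q.primeCompl (Algebra.linearMap B Bq)
          (TensorProduct.mk B Bq C 1)
        apply LinearMap.ext
        intro b
        simp only [LinearMap.comp_apply]
        rw [IsLocalizedModule.map_apply]
        show (1 : Bq) ⊗ₜ[B] (algebraMap B C b) = algebraMap Bq (Bq ⊗[B] C) (algebraMap B Bq b)
        rw [Algebra.TensorProduct.algebraMap_apply, Algebra.algebraMap_self, RingHom.id_apply,
          Algebra.algebraMap_eq_smul_one (A := C), Algebra.algebraMap_eq_smul_one (A := Bq),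
          TensorProduct.smul_tmul]
      rw [this]
      rfl
    rw [hmap]
    exact hψ
  exact key

end Global

end Groth.Agent.Lib.Helper14.UnivH0
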