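import Mathlib
import Groth.Agent.Lib.Helper21.GCStein1
import Groth.Agent.Lib.Helper14.UnivH0

/-!
# helper14: universal bijectivity for `H^0` of a Grothendieck-type complex

Complex-level wrapper of `UnivH0.bijective_of_ker_baseChange_equiv`, following
helper21's `GCStein.exists_basis_away_homology_zero`.
-/

set_option autoImplicit false
universe u
open CategoryTheory CategoryTheory.Limits TensorProduct

namespace Groth.Agent.Lib.Helper14.UnivH0

open Groth.Agent.Lib.helper2.TpLib Groth.Agent.Lib.helper13.GCTrunc Groth.Agent.Lib.helper21.GCStein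

variable {A : Type u} [CommRing A] [IsNoetherianRing A]

/-- **Universal `H^0` criterion.** `L` a complex of finite free modules over a Noetherian ring with
`H^i(L ⊗ B) = 0` for `i < 0` universally, all of whose fibres have one-dimensional `H^0`, and such
that `H^0(L)` is faithful at every prime.  Then any ring map `φ : B → C` (with `B` an `A`-algebra)
such that `C ≃ H^0(L ⊗ B)` compatibly with `φ` is bijective. -/
theorem bijective_of_homology_zero_equiv (L : CochainComplex (ModuleCat.{u} A) ℤ)
    (h1 : ∀ i, Module.Finite A (L.X i) ∧ Module.Free A (L.X i))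
    (h5 : ∀ (B : Type u) [CommRing B] [Algebra A B] (i : ℤ), i < 0 →
      IsZero ((CohIII.bcCx (algebraMap A B) L).homology i))
    (hx : ∀ x : PrimeSpectrum A, CohIII.dRank L 0 x = 1)
    {N : Type u} [AddCommGroup N] [Module A N] (eN : N ≃ₗ[A] L.homology 0)
    (hfaith : ∀ (x : PrimeSpectrum A) (a : A), (∀ z : N, a • z = 0) →
      ∃ s : A, s ∉ x.asIdeal ∧ s * a = 0)
    (B : Type u) [CommRing B] [Algebra A B] (C : Type u) [CommRing C] (φ : B →+* C)
    (e : (CohIII.bcCx (algebraMap A B) L).homology 0 ≃+ C)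
    (he : ∀ b z, e (b • z) = φ b * e z) : Function.Bijective φ := by
  have hfib : FibExact L (-1) := fibExact_of_bcCx L (-1) (fun m _ =>
    (HomologicalComplex.exactAt_iff_isZero_homology _ _).mpr (h5 (A ⧸ m) (-1) (by norm_num)))
  haveI := (h1 0).1
  haveI := (h1 0).2
  have hproj0 : Module.Projective A (L.X 0 ⧸ LinearMap.range (L.d (-1) 0).hom) :=
    projective_coker_of_fibExact L (-1) 0 (by norm_num) (h1 0).1 inferInstance hfib
  haveI : Module.Projective A ((L.sc 0).X₂ ⧸ LinearMap.range (L.sc 0).f.hom) :=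
    projective_sc_quot L (-1) (by simp) hproj0
  haveI : Module.Finite A ((L.sc 0).X₂) := (h1 0).1
  haveI : Module.Finite A ((L.sc 0).X₃) := (h1 _).1
  haveI : Module.Free A ((L.sc 0).X₃) := (h1 _).2
  set δ := scFromQ (L.sc 0) with hδ
  let e_hom : L.homology 0 ≃ₗ[A] LinearMap.ker δ := scHomologyEquivKer (L.sc 0)
  have hdim : ∀ x : PrimeSpectrum A, Module.finrank x.asIdeal.ResidueField
      (LinearMap.ker (δ.baseChange x.asIdeal.ResidueField)) = 1 := by
    intro x
    let κ := x.asIdeal.ResidueField
    let e_bc : (CohIII.bcCx (algebraMap A κ) L).homology 0 ≃ₗ[κ]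
        LinearMap.ker (δ.baseChange κ) :=
      ((ShortComplex.homologyMapIso (bcSCIso κ (L.sc 0))).toLinearEquiv).trans
        (homologyBCEquivKer κ (L.sc 0))
    rw [← e_bc.finrank_eq]
    exact hx x
  have h2 : ∀ (x : PrimeSpectrum A) (a : A), (∀ z ∈ LinearMap.ker δ, a • z = 0) →
      ∃ s : A, s ∉ x.asIdeal ∧ s * a = 0 := by
    intro x a ha
    refine hfaith x a (fun z => ?_)
    apply (eN.trans e_hom).injective
    rw [map_smul, map_zero]
    exact Subtype.ext (ha _ ((eN.trans e_hom) z).2)
  let e_bcB : (CohIII.bcCx (algebraMap A B) L).homology 0 ≃ₗ[B]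
      LinearMap.ker (δ.baseChange B) :=
    ((ShortComplex.homologyMapIso (bcSCIso B (L.sc 0))).toLinearEquiv).trans
      (homologyBCEquivKer B (L.sc 0))
  refine bijective_of_ker_baseChange_equiv δ hdim h2 B C φ
    (e_bcB.symm.toAddEquiv.trans e) (fun b z => ?_)
  show e (e_bcB.symm (b • z)) = φ b * e (e_bcB.symm z)
  rw [map_smul, he]

end Groth.Agent.Lib.Helper14.UnivH0
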