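import Mathlib
import Groth.Agent.Lib.Helper21.GCStein2
import Groth.Agent.Lib.Helper21.GCBC
import Groth.Agent.Lib.Helper14.UnivH0b

/-!
# helper14: `O_T → (f_T)_* O_{X_T}` is an isomorphism universally when `h^0(X_y, O) = 1` for all `y`

Universal version of helper21's `GCStein.exists_nhd_isIso_app` (S2393), used for S16758.
-/

set_option autoImplicit false
universe u

open CategoryTheory CategoryTheory.Limits AlgebraicGeometry TopologicalSpace Opposite TensorProduct

namespace Groth.Agent.Lib.Helper14.UnivPush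

open Groth.Agent.Lib.helper21.GCFibre Groth.Agent.Lib.Helper18 Groth.Agent.Lib.helper21
  Groth.Agent.Lib.Helper14.UnivH0

section BC

variable {X Y : Scheme.{u}} (f : X ⟶ Y) (A : Type u) [CommRing A]
  (k : Spec (CommRingCat.of A) ⟶ Y)
  {XA : Scheme.{u}} [XA.Over (Spec (CommRingCat.of A))] (i : XA ⟶ X)
  (hsq : IsPullback i (XA ↘ Spec (CommRingCat.of A)) f k)
  (B : Type u) [CommRing B] (φ : CommRingCat.of A ⟶ CommRingCat.of B)
  {T : Scheme.{u}} [T.Over (Spec (CommRingCat.of B))] (t : T ⟶ X)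
  (hT : IsPullback t (T ↘ Spec (CommRingCat.of B)) f (Spec.map φ ≫ k))

/-- the lift of `T` to `X_A` (copy of helper21's `GCBC.lift` for a general ring `B`) -/
noncomputable def lift : T ⟶ XA :=
  hsq.lift t ((T ↘ Spec (CommRingCat.of B)) ≫ Spec.map φ) (by rw [hT.w, Category.assoc])

lemma lift_i : lift f A k i hsq B φ t hT ≫ i = t := hsq.lift_fst _ _ _

theorem isPullback_lift :
    IsPullback (lift f A k i hsq B φ t hT) (T ↘ Spec (CommRingCat.of B))
      (XA ↘ Spec (CommRingCat.of A)) (Spec.map φ) :=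
  IsPullback.of_right' hT hsq

variable (F : X.Modules) (FA : XA.Modules) (eF : FA ≅ (Scheme.Modules.pullback i).obj F)
  (G : T.Modules) (eG : G ≅ (Scheme.Modules.pullback t).obj F)

/-- the pullback of `F_A` to `T` is `G` -/
noncomputable def modIso :
    (Scheme.Modules.pullback (lift f A k i hsq B φ t hT)).obj FA ≅ G :=
  (Scheme.Modules.pullback (lift f A k i hsq B φ t hT)).mapIso eF ≪≫
    (Scheme.Modules.pullbackComp (lift f A k i hsq B φ t hT) i).app F ≪≫
    (Scheme.Modules.pullbackCongr (lift_i f A k i hsq B φ t hT)).app F ≪≫ eG.symm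

variable (L : CochainComplex (ModuleCat.{u} A) ℤ) (hL : Computes A XA FA L)

include hL eF eG hsq hT in
/-- `H^p(L ⊗_A B) ≃ H^p(T, G)`, `B`-linearly (general ring `B`) -/
theorem nonempty_equiv (p : ℕ) :
    Nonempty ((CohIII.bcCx φ.hom L).homology (p : ℤ) ≃ₗ[B] Coh.HH T G p) := by
  letI : Algebra A B := φ.hom.toAlgebra
  obtain ⟨e⟩ := hL B T (lift f A k i hsq B φ t hT) (isPullback_lift f A k i hsq B φ t hT) p
  let α := modIso f A k i hsq B φ t hT F FA eF G eG
  let m : Coh.HH T ((Scheme.Modules.pullback (lift f A k i hsq B φ t hT)).obj FA) p ≃ₗ[B]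
      Coh.HH T G p :=
    { toFun := HH.map α.hom p
      invFun := HH.map α.inv p
      left_inv := fun z => by
        rw [← HH.map_comp_apply, Iso.hom_inv_id, HH.map_id]; rfl
      right_inv := fun z => by
        rw [← HH.map_comp_apply, Iso.inv_hom_id, HH.map_id]; rfl
      map_add' := fun a b => map_add _ a b
      map_smul' := fun b z =>
        (HH.map α.hom p).map_smul (Coh.toGlobal (T ↘ Spec (CommRingCat.of B)) b) z }
  exact ⟨e.trans m⟩

end BC

section main

variable {X Y : Scheme.{u}} (f : X ⟶ Y)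

/-- a fibre with `h^0 = 1` is nonempty -/
theorem exists_preimage_of_finrank (y : Y)
    (hy : Module.finrank (Y.residueField y) Γ(f.fiber y, ⊤) = 1) : ∃ ξ : X, f ξ = y := by
  have hb : Function.Bijective (algebraMap (Y.residueField y) Γ(f.fiber y, ⊤)) :=
    Algebra.finrank_eq_one_iff_bijective_algebraMap.mp hy
  haveI : Nontrivial Γ(f.fiber y, ⊤) := hb.1.nontrivial
  have hne : Nonempty (f.fiber y) := by
    by_contra hemp
    rw [not_nonempty_iff] at hemp
    exact not_subsingleton Γ(f.fiber y, ⊤) inferInstance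
  obtain ⟨z⟩ := hne
  have hz : (f.fiberι y) z ∈ Set.range (f.fiberι y) := ⟨z, rfl⟩
  rw [f.range_fiberι y] at hz
  exact ⟨_, hz⟩

/-- faithfulness of `O_Y(V) → O_X(f⁻¹V)` at the image of a point, for flat `f` -/
theorem faithful_at [Flat f] {V : Y.Opens} (hV : IsAffineOpen V) (ξ : X) (hξV : f ξ ∈ V)
    (a : Γ(Y, V)) (ha1 : (f.app V).hom a = 0) :
    ∃ s : Γ(Y, V), s ∉ (hV.primeIdealOf ⟨f ξ, hξV⟩).asIdeal ∧ s * a = 0 := by
  have hgerm : (Y.presheaf.germ V (f ξ) hξV).hom a = 0 := by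
    apply GCStein.stalkMap_injective f ξ
    rw [map_zero]
    have h := Scheme.Hom.germ_stalkMap_apply f V ξ hξV a
    rw [h, ha1, map_zero]
  letI := TopCat.Presheaf.algebra_section_stalk Y.presheaf (⟨f ξ, hξV⟩ : V)
  haveI : IsLocalization.AtPrime (Y.presheaf.stalk (f ξ))
      (hV.primeIdealOf ⟨f ξ, hξV⟩).asIdeal :=
    hV.isLocalization_stalk ⟨f ξ, hξV⟩
  have h0 : algebraMap Γ(Y, V) (Y.presheaf.stalk (f ξ)) a = 0 := hgerm
  obtain ⟨m, hm⟩ := (IsLocalization.map_eq_zero_iff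
    (hV.primeIdealOf ⟨f ξ, hξV⟩).asIdeal.primeCompl _ a).mp h0
  exact ⟨m.1, m.2, hm⟩

variable [IsProper f] [Flat f] [IsLocallyNoetherian Y]
  (h0 : ∀ y : Y, Module.finrank (Y.residueField y) Γ(f.fiber y, ⊤) = 1)

include h0 in
/-- **Key step**: over an affine open `W` of `T` mapping into an affine open `V` of `Y`, the ring map
`Γ(T, W) → Γ(X_T ∩ over W, O)` is bijective. -/
theorem bijective_toGlobal {T' : Scheme.{u}} (g : T' ⟶ Y) {V : Y.Opens} (hV : IsAffineOpen V)
    {W : T'.Opens} (hW : IsAffineOpen W) (hle : W ≤ g ⁻¹ᵁ V) :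
    Function.Bijective
      (Coh.toGlobal (A := Γ(T', W)) (GCBase.fA (pullback.snd f g) hW)) := by
  haveI : IsNoetherianRing Γ(Y, V) := IsLocallyNoetherian.component_noetherian ⟨V, hV⟩
  have hF : Coh.IsCoh (Coh.structureModule X) :=
    Groth.Agent.Lib.helper11.AmpleInv.isCoh_structureModule X
  have hfl := GCStein.isFlatOver_structureModule f
  letI := GCBase.overA f hV
  obtain ⟨L, h1, h2, h3, h4, h5, h6, h7, h8⟩ :=
    GCBase.exists_complex_chart f hV (Coh.structureModule X) hF hfl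
  -- all fibre ranks are one
  have hx : ∀ x : PrimeSpectrum Γ(Y, V), CohIII.dRank L 0 x = 1 := by
    intro x
    have h := h7 x 0
    have hy : Function.Bijective (algebraMap (Y.residueField (hV.fromSpec x))
        Γ(f.fiber (hV.fromSpec x), ⊤)) :=
      Algebra.finrank_eq_one_iff_bijective_algebraMap.mp (h0 _)
    rw [GCStein.fiberRank_structureModule_zero f _ hy] at h
    exact h
  obtain ⟨e3⟩ := h3 0
  letI := HH.sectionsModuleOver Γ(Y, V) (GCBase.FA f (V := V) (Coh.structureModule X))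
  let eM : Γ((Scheme.Modules.pushforward f).obj (Coh.structureModule X), V) ≃ₗ[Γ(Y, V)]
      L.homology 0 :=
    (GCStein.secPushEquiv f hV (Coh.structureModule X)).trans
      ((HH.equiv₀Over Γ(Y, V) (GCBase.FA f (V := V) (Coh.structureModule X))).symm.trans e3.symm)
  have hfaith : ∀ (x : PrimeSpectrum Γ(Y, V)) (a : Γ(Y, V)),
      (∀ z : Γ((Scheme.Modules.pushforward f).obj (Coh.structureModule X), V), a • z = 0) →
      ∃ s : Γ(Y, V), s ∉ x.asIdeal ∧ s * a = 0 := by
    intro x a ha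
    have ha1 : (f.app V).hom a = 0 := by
      have h := ha (show Γ((Scheme.Modules.pushforward f).obj (Coh.structureModule X), V) from
        (1 : Γ(X, f ⁻¹ᵁ V)))
      have h' : ((f.app V).hom a) * (1 : Γ(X, f ⁻¹ᵁ V)) = 0 := h
      rwa [mul_one] at h'
    obtain ⟨ξ, hξ⟩ := exists_preimage_of_finrank f (hV.fromSpec x) (h0 _)
    have hxV : hV.fromSpec x ∈ V := by
      have : hV.fromSpec x ∈ Set.range hV.fromSpec := ⟨x, rfl⟩
      rw [hV.range_fromSpec] at this
      exact this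
    have hξV : f ξ ∈ V := by rw [hξ]; exact hxV
    have hxeq : hV.primeIdealOf ⟨f ξ, hξV⟩ = x := by
      apply hV.fromSpec.isOpenEmbedding.injective
      rw [hV.fromSpec_primeIdealOf]
      exact hξ
    obtain ⟨s, hs, hsa⟩ := faithful_at f hV ξ hξV a ha1
    rw [hxeq] at hs
    exact ⟨s, hs, hsa⟩
  -- the base change
  let φ : CommRingCat.of Γ(Y, V) ⟶ CommRingCat.of Γ(T', W) := g.appLE V W hle
  letI : Algebra Γ(Y, V) Γ(T', W) := φ.hom.toAlgebra
  letI := GCBase.overA (pullback.snd f g) hW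
  let t : (↑((pullback.snd f g) ⁻¹ᵁ W) : Scheme.{u}) ⟶ X :=
    ((pullback.snd f g) ⁻¹ᵁ W).ι ≫ pullback.fst f g
  have hT : IsPullback t (GCBase.fA (pullback.snd f g) hW) f (Spec.map φ ≫ hV.fromSpec) := by
    have e1 : Spec.map φ ≫ hV.fromSpec = hW.fromSpec ≫ g :=
      IsAffineOpen.SpecMap_appLE_fromSpec g hV hW hle
    rw [e1]
    exact (GCBase.isPullback_chart (pullback.snd f g) hW).paste_horiz
      (IsPullback.of_hasPullback f g)
  obtain ⟨e⟩ := nonempty_equiv f Γ(Y, V) hV.fromSpec (f ⁻¹ᵁ V).ι (GCBase.isPullback_chart f hV)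
    Γ(T', W) φ t hT (Coh.structureModule X) (GCBase.FA f (V := V) (Coh.structureModule X))
    (GCBase.eF f (V := V) (Coh.structureModule X))
    (Coh.structureModule (↑((pullback.snd f g) ⁻¹ᵁ W) : Scheme.{u}))
    (Groth.Agent.Lib.helper11.InvMod.pullbackUnitIso t).symm L h6 0
  letI := HH.sectionsModuleOver Γ(T', W)
    (Coh.structureModule (↑((pullback.snd f g) ⁻¹ᵁ W) : Scheme.{u}))
  let e0 := HH.equiv₀Over Γ(T', W)
    (Coh.structureModule (↑((pullback.snd f g) ⁻¹ᵁ W) : Scheme.{u}))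
  refine bijective_of_homology_zero_equiv L h1 h5 hx eM hfaith Γ(T', W)
    Γ((↑((pullback.snd f g) ⁻¹ᵁ W) : Scheme.{u}), ⊤)
    (Coh.toGlobal (A := Γ(T', W)) (GCBase.fA (pullback.snd f g) hW))
    (e.toAddEquiv.trans e0.toAddEquiv) (fun b z => ?_)
  show e0 (e (b • z)) = _
  rw [map_smul, map_smul]
  rfl

include h0 in
/-- the affine-local case of the main theorem -/
theorem isIso_app_of_affine {T' : Scheme.{u}} (g : T' ⟶ Y) {V : Y.Opens} (hV : IsAffineOpen V)
    {W : T'.Opens} (hW : IsAffineOpen W) (hle : W ≤ g ⁻¹ᵁ V) :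
    IsIso ((pullback.snd f g).app W) := by
  have hb := bijective_toGlobal f h0 g hV hW hle
  have h1 : ∀ a, Coh.toGlobal (A := Γ(T', W)) (GCBase.fA (pullback.snd f g) hW) a =
      ((pullback.snd f g) ∣_ W).appTop.hom (W.topIso.inv.hom a) :=
    GCBase.toGlobal_fA (pullback.snd f g) hW
  have h2 := GCStein.app_topIso_inv (pullback.snd f g) (V := W)
  have h3 : (pullback.snd f g).app W =
      W.topIso.inv ≫ ((pullback.snd f g) ∣_ W).appTop ≫
        ((pullback.snd f g) ⁻¹ᵁ W).topIso.hom := by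
    rw [← Category.assoc, ← h2, Category.assoc, Iso.inv_hom_id, Category.comp_id]
  have hb' : Function.Bijective (W.topIso.inv ≫ ((pullback.snd f g) ∣_ W).appTop).hom := by
    have hfun : ⇑(W.topIso.inv ≫ ((pullback.snd f g) ∣_ W).appTop).hom =
        ⇑(Coh.toGlobal (A := Γ(T', W)) (GCBase.fA (pullback.snd f g) hW)) := by
      funext a
      exact (h1 a).symm
    rw [hfun]
    exact hb
  haveI : IsIso (W.topIso.inv ≫ ((pullback.snd f g) ∣_ W).appTop) :=
    (ConcreteCategory.isIso_iff_bijective _).mpr hb'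
  rw [h3, ← Category.assoc]
  infer_instance

include h0 in
/-- **Main theorem** (sheaf form): `O_T → (f_T)_* O_{X_T}` is an isomorphism for every `T → Y`. -/
theorem isIso_c {T' : Scheme.{u}} (g : T' ⟶ Y) : IsIso (pullback.snd f g).c := by
  let ι := {W : T'.Opens // IsAffineOpen W ∧ ∃ V : Y.Opens, IsAffineOpen V ∧ W ≤ g ⁻¹ᵁ V}
  let Bs : ι → T'.Opens := Subtype.val
  have hbasis : Opens.IsBasis (Set.range Bs) := by
    rw [Opens.isBasis_iff_nbhd]
    intro U' x hx
    obtain ⟨_, ⟨V, hV, rfl⟩, hyV, -⟩ :=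
      Y.isBasis_affineOpens.exists_subset_of_mem_open (Set.mem_univ (g x)) isOpen_univ
    have hx' : x ∈ U' ⊓ g ⁻¹ᵁ V := ⟨hx, hyV⟩
    obtain ⟨_, ⟨W, hW, rfl⟩, hxW, hWU⟩ :=
      T'.isBasis_affineOpens.exists_subset_of_mem_open hx' (U' ⊓ g ⁻¹ᵁ V).isOpen
    refine ⟨W, ⟨⟨W, hW, V, hV, fun z hz => (hWU hz).2⟩, rfl⟩, hxW, fun z hz => (hWU hz).1⟩
  let φ : T'.sheaf ⟶ (TopCat.Sheaf.pushforward CommRingCat (pullback.snd f g).base).obj
      (pullback f g).sheaf := ⟨(pullback.snd f g).c⟩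
  haveI : IsIso φ := by
    refine TopCat.Sheaf.isIso_iff_isIso_basis (B := Bs) hbasis (fun i => ?_)
    obtain ⟨W, hW, V, hV, hle⟩ := i
    exact isIso_app_of_affine f h0 g hV hW hle
  have h4 : IsIso ((TopCat.Sheaf.forget CommRingCat _).map φ) := inferInstance
  exact h4

include h0 in
/-- **Main theorem**: `O_T(U) → O_{X_T}(f_T⁻¹ U)` is an isomorphism for every `T → Y` and every open `U`. -/
theorem isIso_app {T' : Scheme.{u}} (g : T' ⟶ Y) (U : T'.Opens) :
    IsIso ((pullback.snd f g).app U) := by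
  have h5 : IsIso (pullback.snd f g).c := isIso_c f h0 g
  exact (NatIso.isIso_app_of_isIso (pullback.snd f g).c (op U))

end main

end Groth.Agent.Lib.Helper14.UnivPush
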