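import Mathlib
import Groth.Agent.Lib.Helper14.Rigid3
import Groth.Agent.Lib.Helper14.UnivPush

/-!
# helper14: the rigidity lemma with the hypothesis `κ(s) ≅ H⁰(X_s, O)` on all fibres
-/

set_option autoImplicit false
universe u
open CategoryTheory CategoryTheory.Limits AlgebraicGeometry Opposite TopologicalSpace

namespace Groth.Agent.Lib.Helper14.Rigid

variable {X S Y : Scheme.{u}} (p : X ⟶ S) (q : Y ⟶ S) (f : X ⟶ Y) (hf : f ≫ q = p)

theorem mem_TT_of_fibre_const (s : S) (y : Spec (S.residueField s) ⟶ Y)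
    (h : p.fiberι s ≫ f = p.fiberToSpecResidueField s ≫ y) : s ∈ TT p f := by
  have key : ∀ x : X, p.base x = s → f.base x = y.base default := by
    intro x hx
    have hx' : x ∈ Set.range (p.fiberι s).base := by
      rw [p.range_fiberι s]
      exact hx
    obtain ⟨w, rfl⟩ := hx'
    have h3 := congrArg (fun φ : p.fiber s ⟶ Y => φ.base w) h
    have h4 : f.base ((p.fiberι s).base w) = y.base ((p.fiberToSpecResidueField s).base w) := h3
    rw [h4]
    congr 1
    exact Subsingleton.elim _ _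
  intro x x' hx hx'
  rw [key x hx, key x' hx']

include hf in
theorem rigidity_of_fibre [ConnectedSpace S] [IsLocallyNoetherian S] [IsProper p] [Flat p]
    (hfib : ∀ s : S, Function.Bijective (algebraMap (S.residueField s) Γ(p.fiber s, ⊤)))
    [IsSeparated q] (s₀ : S) (hs₀ : s₀ ∈ TT p f) :
    ∃ t : S ⟶ Y, t ≫ q = 𝟙 S ∧ f = p ≫ t := by
  have h0 : ∀ y : S, Module.finrank (S.residueField y) Γ(p.fiber y, ⊤) = 1 := fun y =>
    Algebra.finrank_eq_one_iff_bijective_algebraMap.mpr (hfib y)
  have hsurj : Surjective p := ⟨fun y => UnivPush.exists_preimage_of_finrank p y (h0 y)⟩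
  have hp : ∀ V : S.Opens, IsIso (p.app V) := by
    intro V
    have h1 : IsIso ((pullback.snd p (𝟙 S)).app V) := UnivPush.isIso_app p h0 (𝟙 S) V
    have e : pullback.snd p (𝟙 S) = pullback.fst p (𝟙 S) ≫ p := by
      simpa using (pullback.condition (f := p) (g := 𝟙 S)).symm
    rw [e, Scheme.Hom.comp_app] at h1
    have h2 : IsIso ((pullback.fst p (𝟙 S)).app (p ⁻¹ᵁ V)) := inferInstance
    exact @IsIso.of_isIso_comp_right _ _ _ _ _ (p.app V) ((pullback.fst p (𝟙 S)).app (p ⁻¹ᵁ V)) h2 h1
  exact rigidity p q f hf hp s₀ hs₀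

end Groth.Agent.Lib.Helper14.Rigid
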