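import Mathlib
import Groth.Agent.Lib.Helper14.Rigid4

/-!
# helper14: a point of a section factors through the section
-/

set_option autoImplicit false
universe u
open CategoryTheory CategoryTheory.Limits AlgebraicGeometry Opposite TopologicalSpace

namespace Groth.Agent.Lib.Helper14.Rigid

theorem factor_through_section {S Y T : Scheme.{u}} (π : Y ⟶ S) [IsSeparated π] (e : S ⟶ Y)
    (he : e ≫ π = 𝟙 S) [IsReduced T] (u : T ⟶ Y)
    (hu : Set.range u.base ⊆ Set.range e.base) : u = u ≫ π ≫ e := by
  have h1 : IsClosedImmersion (e ≫ π) := by rw [he]; infer_instance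
  have h2 : IsClosedImmersion e := IsClosedImmersion.of_comp e π
  have h3 : Surjective (pullback.snd e u) := by
    constructor
    intro pt
    obtain ⟨s, hs⟩ := hu ⟨pt, rfl⟩
    obtain ⟨z, -, hz⟩ := Scheme.Pullback.exists_preimage_pullback (f := e) (g := u) s pt hs
    exact ⟨z, hz⟩
  have h4 : IsIso (pullback.snd e u) := isIso_of_isClosedImmersion_of_surjective _
  have h5 : u = inv (pullback.snd e u) ≫ pullback.fst e u ≫ e := by
    rw [pullback.condition, IsIso.inv_hom_id_assoc]
  calc u = inv (pullback.snd e u) ≫ pullback.fst e u ≫ e := h5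
    _ = inv (pullback.snd e u) ≫ pullback.fst e u ≫ (e ≫ π) ≫ e := by
        rw [he, Category.id_comp]
    _ = (inv (pullback.snd e u) ≫ pullback.fst e u ≫ e) ≫ π ≫ e := by
        simp only [Category.assoc]
    _ = u ≫ π ≫ e := by rw [← h5]

end Groth.Agent.Lib.Helper14.Rigid
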