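import Mathlib
import Groth.Agent.Lib.Helper14.Rigid3

/-!
# helper14: the rigidity lemma without connectedness of the base: the collapse locus is clopen
-/

set_option autoImplicit false
universe u
open CategoryTheory CategoryTheory.Limits AlgebraicGeometry Opposite TopologicalSpace

namespace Groth.Agent.Lib.Helper14.Rigid

variable {X S Y : Scheme.{u}} (p : X ⟶ S) (q : Y ⟶ S) (f : X ⟶ Y) (hf : f ≫ q = p)

include hf in
theorem isClopen_TT [IsLocallyNoetherian S] [IsProper p] [Flat p]
    (hp : ∀ V : S.Opens, IsIso (p.app V)) [IsSeparated q] : IsClopen (TT p f) := by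
  have hloc := exists_local_factor_of_mem_TT p f hp
  have hopen : IsOpen (TT p f) := by
    rw [isOpen_iff_forall_mem_open]
    intro s hs
    obtain ⟨V, hsV, t, ht⟩ := hloc s hs
    exact ⟨V, subset_TT_of_local_factor p f V t ht, V.isOpen, hsV⟩
  have hclosed : IsClosed (TT p f) := by
    have hcompl : (TT p f)ᶜ = (rr p).base '' (CC p q f hf)ᶜ := by
      ext s
      constructor
      · intro hs
        by_contra hcon
        apply hs
        apply mem_TT_of_forall_mem_CC p q f hf
        intro z hz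
        by_contra hzC
        exact hcon ⟨z, hzC, hz⟩
      · rintro ⟨z, hzC, rfl⟩ hs
        obtain ⟨V, hsV, t, ht⟩ := hloc _ hs
        exact hzC (mem_CC_of_local_factor p q f hf V t ht z hsV)
    rw [← isOpen_compl_iff, hcompl]
    have : LocallyOfFinitePresentation p :=
      LocallyOfFinitePresentation.iff_locallyOfFiniteType.mpr inferInstance
    have : UniversallyOpen (rr p) := inferInstance
    exact (rr p).isOpenMap _ (isClosed_CC p q f hf).isOpen_compl
  exact ⟨hclosed, hopen⟩

include hf in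
theorem rigidity_of_TT_eq_univ [IsProper p] [Flat p] [Surjective p]
    (hp : ∀ V : S.Opens, IsIso (p.app V)) (hTT : TT p f = Set.univ) :
    ∃ t : S ⟶ Y, t ≫ q = 𝟙 S ∧ f = p ≫ t := by
  have hloc := exists_local_factor_of_mem_TT p f hp
  have hglob : pullback.fst p p ≫ f = pullback.snd p p ≫ f := by
    apply Scheme.hom_ext_of_forall
    intro z
    obtain ⟨V, hsV, t, ht⟩ := hloc ((rr p).base z) (by rw [hTT]; trivial)
    exact ⟨(rr p) ⁻¹ᵁ V, hsV, fst_eq_snd_of_local_factor p f V t ht⟩
  have hdesc : ∀ {Z : Scheme.{u}} (g₁ g₂ : Z ⟶ X), g₁ ≫ p = g₂ ≫ p → g₁ ≫ f = g₂ ≫ f := by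
    intro Z g₁ g₂ h
    have h1 : g₁ = pullback.lift g₁ g₂ h ≫ pullback.fst p p := (pullback.lift_fst _ _ _).symm
    have h2 : g₂ = pullback.lift g₁ g₂ h ≫ pullback.snd p p := (pullback.lift_snd _ _ _).symm
    rw [h1, Category.assoc, hglob, ← Category.assoc, ← h2]
  refine ⟨EffectiveEpi.desc p f hdesc, ?_, (EffectiveEpi.fac p f hdesc).symm⟩
  rw [← cancel_epi p, ← Category.assoc, EffectiveEpi.fac, hf, Category.comp_id]

end Groth.Agent.Lib.Helper14.Rigid
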