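import Mathlib
import Groth.Agent.Lib.Helper14.FibreH0

/-!
# helper14: `κ(s) ≅ H⁰(X_s, O)` for smooth proper `X → S` with a section and connected fibre over `s`
-/

set_option autoImplicit false
universe u
open CategoryTheory CategoryTheory.Limits AlgebraicGeometry

namespace Groth.Agent.Lib.Helper14.FibreH0

theorem bijective_snd_appTop {S X : Scheme.{u}} (p : X ⟶ S) [Smooth p] [IsProper p]
    (e : S ⟶ X) (he : e ≫ p = 𝟙 S) (s : S) (hconn : _root_.IsConnected (p.base ⁻¹' {s})) :
    Function.Bijective (pullback.snd p (S.fromSpecResidueField s)).appTop := by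
  let K : Type u := S.residueField s
  let π : pullback p (S.fromSpecResidueField s) ⟶ Spec (CommRingCat.of K) :=
    pullback.snd p (S.fromSpecResidueField s)
  have h1 : Smooth π := inferInstanceAs (Smooth (pullback.snd p (S.fromSpecResidueField s)))
  have h2 : IsProper π := inferInstanceAs (IsProper (pullback.snd p (S.fromSpecResidueField s)))
  have h3 : IsReduced (pullback p (S.fromSpecResidueField s)) := isReduced_of_smooth_field K π
  have h4 : ConnectedSpace ↥(pullback p (S.fromSpecResidueField s)) := by
    have : ConnectedSpace (p.base ⁻¹' {s}) := isConnected_iff_connectedSpace.mp hconn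
    exact (p.fiberHomeo s).symm.surjective.connectedSpace (p.fiberHomeo s).symm.continuous
  let σ : Spec (CommRingCat.of K) ⟶ pullback p (S.fromSpecResidueField s) :=
    pullback.lift (S.fromSpecResidueField s ≫ e) (𝟙 _) (by
      rw [Category.assoc, he, Category.comp_id, Category.id_comp])
  have hσ : σ ≫ π = 𝟙 _ := pullback.lift_snd _ _ _
  exact bijective_appTop_of_section K π σ hσ

end Groth.Agent.Lib.Helper14.FibreH0
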