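import Mathlib
import Groth.Agent.Lib.Helper14.Rigid6
import Groth.Agent.Lib.Helper14.Rigid4
import Groth.Agent.Lib.Helper14.FibreH0b

/-!
# helper14: rigidity for smooth proper morphisms with a section and connected fibres, and
morphisms to quasi-finite targets
-/

set_option autoImplicit false
universe u
open CategoryTheory CategoryTheory.Limits AlgebraicGeometry Opposite TopologicalSpace

namespace Groth.Agent.Lib.Helper14.Rigid

theorem subsingleton_of_isPreconnected_of_subset_isDiscrete {α : Type*} [TopologicalSpace α]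
    {D F : Set α} (hD : _root_.IsPreconnected D) (hDF : D ⊆ F) (hF : IsDiscrete F) :
    D.Subsingleton := by
  haveI : DiscreteTopology ↥F := hF.to_subtype
  have h1 : (Subtype.val : ↥F → α) '' (Subtype.val ⁻¹' D) = D := by
    rw [Subtype.image_preimage_coe]
    exact Set.inter_eq_right.mpr hDF
  have h2 : _root_.IsPreconnected ((Subtype.val : ↥F → α) ⁻¹' D) := by
    rw [← Topology.IsInducing.subtypeVal.isPreconnected_image, h1]
    exact hD
  have h3 := h2.subsingleton
  intro a ha b hb
  have h4 : (⟨a, hDF ha⟩ : ↥F) = ⟨b, hDF hb⟩ :=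
    h3 (show (⟨a, hDF ha⟩ : ↥F) ∈ Subtype.val ⁻¹' D from ha)
      (show (⟨b, hDF hb⟩ : ↥F) ∈ Subtype.val ⁻¹' D from hb)
  exact congrArg Subtype.val h4

/-- `O_S(V) ≅ O_X(p⁻¹ V)` for all opens when `κ(s) ≅ H⁰(X_s, O)` for all `s`. -/
theorem isIso_app_of_fibre {X S : Scheme.{u}} (p : X ⟶ S) [IsLocallyNoetherian S] [IsProper p]
    [Flat p]
    (hfib : ∀ s : S, Function.Bijective (pullback.snd p (S.fromSpecResidueField s)).appTop)
    (V : S.Opens) : IsIso (p.app V) := by
  have hfib' : ∀ s : S, Function.Bijective (algebraMap (S.residueField s) Γ(p.fiber s, ⊤)) := by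
    intro s
    show Function.Bijective ((p.fiberToSpecResidueField s).appTop.hom.comp
      (Scheme.ΓSpecIso (S.residueField s)).inv.hom)
    rw [RingHom.coe_comp]
    exact (hfib s).comp
      (ConcreteCategory.bijective_of_isIso (Scheme.ΓSpecIso (S.residueField s)).inv)
  have h0 : ∀ y : S, Module.finrank (S.residueField y) Γ(p.fiber y, ⊤) = 1 := fun y =>
    Algebra.finrank_eq_one_iff_bijective_algebraMap.mpr (hfib' y)
  have h1 : IsIso ((pullback.snd p (𝟙 S)).app V) := UnivPush.isIso_app p h0 (𝟙 S) V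
  have e : pullback.snd p (𝟙 S) = pullback.fst p (𝟙 S) ≫ p := by
    simpa using (pullback.condition (f := p) (g := 𝟙 S)).symm
  rw [e, Scheme.Hom.comp_app] at h1
  have h2 : IsIso ((pullback.fst p (𝟙 S)).app (p ⁻¹ᵁ V)) := inferInstance
  exact @IsIso.of_isIso_comp_right _ _ _ _ _ (p.app V) ((pullback.fst p (𝟙 S)).app (p ⁻¹ᵁ V)) h2 h1

/-- a morphism from a smooth proper `X/S` with a section and connected fibres to a separated
quasi-finite `Y/S` factors through `S` -/
theorem factor_of_quasiFinite {X S Y : Scheme.{u}} [IsLocallyNoetherian S] (p : X ⟶ S) [Smooth p]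
    [IsProper p] (e : S ⟶ X) (he : e ≫ p = 𝟙 S)
    (hconn : ∀ s : S, _root_.IsConnected (p.base ⁻¹' {s}))
    (q : Y ⟶ S) [IsSeparated q] [LocallyQuasiFinite q] (f : X ⟶ Y) (hf : f ≫ q = p) :
    ∃ t : S ⟶ Y, t ≫ q = 𝟙 S ∧ f = p ≫ t := by
  have hfib := fun s => FibreH0.bijective_snd_appTop p e he s (hconn s)
  have hp := isIso_app_of_fibre p hfib
  have hsurj : Surjective p := ⟨fun s => ⟨e.base s, by
    have := congrArg (fun φ : S ⟶ S => φ.base s) he
    exact this⟩⟩
  refine rigidity_of_TT_eq_univ p q f hf hp ?_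
  rw [Set.eq_univ_iff_forall]
  intro s x x' hx hx'
  have hD : _root_.IsPreconnected (f.base '' (p.base ⁻¹' {s})) :=
    (hconn s).isPreconnected.image _ f.continuous.continuousOn
  have hsub : f.base '' (p.base ⁻¹' {s}) ⊆ q.base ⁻¹' {s} := by
    rintro _ ⟨z, hz, rfl⟩
    show q.base (f.base z) = s
    have := congrArg (fun φ : X ⟶ S => φ.base z) hf
    exact this.trans hz
  exact subsingleton_of_isPreconnected_of_subset_isDiscrete hD hsub
    (q.isDiscrete_preimage_singleton s) ⟨x, hx, rfl⟩ ⟨x', hx', rfl⟩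

end Groth.Agent.Lib.Helper14.Rigid
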