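import Mathlib
import Groth.Agent.Lib.Helper14.Rigid5
import Groth.Agent.Lib.Helper14.Rigid6
import Groth.Agent.Lib.Helper14.Rigid7
import Groth.Agent.Lib.Helper14.UnivPush

/-!
# helper14: morphisms `X ×_S Y ⟶ Z` (X proper flat with `h⁰ = 1` fibres, Z separated) which collapse
enough fibres `X × {y}` factor through `Y`
-/

set_option autoImplicit false
universe u
open CategoryTheory MonoidalCategory CartesianMonoidalCategory AlgebraicGeometry Topology

namespace Groth.Agent.Lib.Helper14.Rigid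

variable {S : Scheme.{u}}

/-- `Ψ : X ⊗ Y ⟶ Z` collapses the fibre `X × {y}` (scheme-theoretically) -/
def CollapseAt {X Y Z : Over S} (Ψ : X ⊗ Y ⟶ Z) (y : Y.left) : Prop :=
  ∃ z : Spec (Y.left.residueField y) ⟶ Z.left,
    z ≫ Z.hom = Y.left.fromSpecResidueField y ≫ Y.hom ∧
    (Limits.pullback.snd X.hom Y.hom).fiberι y ≫ Ψ.left =
      (Limits.pullback.snd X.hom Y.hom).fiberToSpecResidueField y ≫ z

/-- criterion: `Ψ(−, τ)` is constant for a section `τ` of `Y` through whose image the residue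
field point factors -/
theorem collapseAt_of_section {X Y Z : Over S} (Ψ : X ⊗ Y ⟶ Z) (τ : 𝟙_ (Over S) ⟶ Y)
    (ζ : 𝟙_ (Over S) ⟶ Z) (hΨ : lift (𝟙 X) (toUnit X ≫ τ) ≫ Ψ = toUnit X ≫ ζ) (y : Y.left)
    (hfac : Y.left.fromSpecResidueField y = Y.left.fromSpecResidueField y ≫ Y.hom ≫ τ.left) :
    CollapseAt Ψ y := by
  have hpc : Limits.pullback.fst X.hom Y.hom ≫ X.hom = Limits.pullback.snd X.hom Y.hom ≫ Y.hom :=
    Limits.pullback.condition
  obtain ⟨p, hp⟩ : ∃ p : Limits.pullback X.hom Y.hom ⟶ Y.left,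
    p = Limits.pullback.snd X.hom Y.hom := ⟨_, rfl⟩
  have hsnd : (snd X Y).left = p := hp.symm ▸ rfl
  have hXY : (X ⊗ Y).hom = p ≫ Y.hom := by
    rw [Over.tensorObj_hom, hpc, hp]
  unfold CollapseAt
  rw [← hp]
  have hcond : p.fiberι y ≫ p = p.fiberToSpecResidueField y ≫ Y.left.fromSpecResidueField y :=
    Limits.pullback.condition
  have hζw : ζ.left ≫ Z.hom = 𝟙 S := Over.w ζ
  refine ⟨Y.left.fromSpecResidueField y ≫ Y.hom ≫ ζ.left, ?_, ?_⟩
  · simp only [Category.assoc, hζw, Category.comp_id]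
  · let Fib : Over S := Over.mk (p.fiberι y ≫ (X ⊗ Y).hom)
    let i : Fib ⟶ X ⊗ Y := Over.homMk (p.fiberι y) rfl
    have hi1 : i ≫ snd X Y = toUnit Fib ≫ τ := by
      ext
      show p.fiberι y ≫ (snd X Y).left = (p.fiberι y ≫ (X ⊗ Y).hom) ≫ τ.left
      rw [hsnd]
      calc p.fiberι y ≫ p
          = p.fiberToSpecResidueField y ≫ Y.left.fromSpecResidueField y := hcond
        _ = p.fiberToSpecResidueField y ≫ Y.left.fromSpecResidueField y ≫ Y.hom ≫ τ.left := by
            rw [← hfac]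
        _ = (p.fiberι y ≫ p) ≫ Y.hom ≫ τ.left := by rw [hcond, Category.assoc]
        _ = (p.fiberι y ≫ (X ⊗ Y).hom) ≫ τ.left := by
            rw [hXY]
            simp only [Category.assoc]
    have hi2 : i = (i ≫ fst X Y) ≫ lift (𝟙 X) (toUnit X ≫ τ) := by
      apply CartesianMonoidalCategory.hom_ext
      · simp
      · rw [hi1]
        simp only [Category.assoc, lift_snd]
        rw [← Category.assoc, ← Category.assoc]
        congr 1
    have hi3 : i ≫ Ψ = toUnit Fib ≫ ζ := by
      conv_lhs => rw [hi2]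
      rw [Category.assoc, hΨ, ← Category.assoc]
      congr 1
    have h3 := congrArg CommaMorphism.left hi3
    refine h3.trans ?_
    show (p.fiberι y ≫ (X ⊗ Y).hom) ≫ ζ.left = _
    rw [hXY, ← Category.assoc (p.fiberι y), hcond]
    simp only [Category.assoc]

theorem factor_snd_of_product [IsLocallyNoetherian S] (X Y Z : Over S) [IsProper X.hom]
    [Flat X.hom]
    (h0 : ∀ s : S, Function.Bijective (Limits.pullback.snd X.hom (S.fromSpecResidueField s)).appTop)
    [IsLocallyNoetherian Y.left] [JacobsonSpace Y.left] [IsSeparated Z.hom] (Ψ : X ⊗ Y ⟶ Z)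
    (hTT : ∀ y : Y.left, IsClosed ({y} : Set Y.left) → ∃ C : Set Y.left, _root_.IsPreconnected C ∧
      y ∈ C ∧ ∃ y₁ ∈ C, CollapseAt Ψ y₁) :
    ∃ ψ : Y ⟶ Z, Ψ = snd X Y ≫ ψ := by
  classical
  have hfib : ∀ s : S, Function.Bijective (algebraMap (S.residueField s) Γ(X.hom.fiber s, ⊤)) := by
    intro s
    show Function.Bijective ((X.hom.fiberToSpecResidueField s).appTop.hom.comp
      (Scheme.ΓSpecIso (S.residueField s)).inv.hom)
    rw [RingHom.coe_comp]
    exact (h0 s).comp
      (ConcreteCategory.bijective_of_isIso (Scheme.ΓSpecIso (S.residueField s)).inv)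
  have h0' : ∀ y : S, Module.finrank (S.residueField y) Γ(X.hom.fiber y, ⊤) = 1 := fun y =>
    Algebra.finrank_eq_one_iff_bijective_algebraMap.mpr (hfib y)
  have hsurjX : Surjective X.hom :=
    ⟨fun y => Groth.Agent.Lib.Helper14.UnivPush.exists_preimage_of_finrank X.hom y (h0' y)⟩
  let p' : Limits.pullback X.hom Y.hom ⟶ Y.left := Limits.pullback.snd X.hom Y.hom
  let q' : Limits.pullback Z.hom Y.hom ⟶ Y.left := Limits.pullback.snd Z.hom Y.hom
  have hp' : ∀ V : Y.left.Opens, IsIso (p'.app V) := fun V =>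
    Groth.Agent.Lib.Helper14.UnivPush.isIso_app X.hom h0' Y.hom V
  have hpc : Limits.pullback.fst X.hom Y.hom ≫ X.hom = p' ≫ Y.hom := Limits.pullback.condition
  have hΨw : Ψ.left ≫ Z.hom = p' ≫ Y.hom := by
    have := Over.w Ψ
    rw [Over.tensorObj_hom] at this
    exact this.trans hpc
  let f' : Limits.pullback X.hom Y.hom ⟶ Limits.pullback Z.hom Y.hom :=
    Limits.pullback.lift Ψ.left p' hΨw
  have hf' : f' ≫ q' = p' := Limits.pullback.lift_snd _ _ _
  have hmem : ∀ y : Y.left, CollapseAt Ψ y → y ∈ TT p' f' := by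
    rintro y ⟨z, hz1, hz2⟩
    have hcond : p'.fiberι y ≫ p' = p'.fiberToSpecResidueField y ≫ Y.left.fromSpecResidueField y :=
      Limits.pullback.condition
    let ylift : Spec (Y.left.residueField y) ⟶ Limits.pullback Z.hom Y.hom :=
      Limits.pullback.lift z (Y.left.fromSpecResidueField y) hz1
    exact mem_TT_of_fibre_const p' f' y ylift (by
        apply Limits.pullback.hom_ext
        · simp only [Category.assoc, f', ylift, Limits.pullback.lift_fst]
          exact hz2
        · simp only [Category.assoc, f', ylift, Limits.pullback.lift_snd]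
          exact hcond)
  have hclopen : IsClopen (TT p' f') := isClopen_TT p' q' f' hf' hp'
  have hTTu : TT p' f' = Set.univ := by
    by_contra hne
    have hne' : ((TT p' f')ᶜ).Nonempty := by
      rw [Set.nonempty_compl]
      exact hne
    obtain ⟨y, hyc, hy⟩ := nonempty_inter_closedPoints (X := ↥Y.left) hne'
      hclopen.compl.isOpen.isLocallyClosed
    obtain ⟨C, hC, hyC, y₁, hy₁C, hy₁⟩ := hTT y hy
    exact hyc (hC.subset_isClopen hclopen ⟨_, hy₁C, hmem y₁ hy₁⟩ hyC)
  have hsurj' : Surjective p' := inferInstance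
  obtain ⟨t, ht1, ht2⟩ := rigidity_of_TT_eq_univ p' q' f' hf' hp' hTTu
  have htw : (t ≫ Limits.pullback.fst Z.hom Y.hom) ≫ Z.hom = Y.hom := by
    rw [Category.assoc, Limits.pullback.condition, ← Category.assoc]
    show (t ≫ q') ≫ Y.hom = Y.hom
    rw [ht1, Category.id_comp]
  refine ⟨Over.homMk (t ≫ Limits.pullback.fst Z.hom Y.hom) htw, ?_⟩
  ext
  show Ψ.left = p' ≫ t ≫ Limits.pullback.fst Z.hom Y.hom
  rw [← Category.assoc, ← ht2]
  exact (Limits.pullback.lift_fst _ _ _).symm

end Groth.Agent.Lib.Helper14.Rigid
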