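import Mathlib
import Groth.Agent.Lib.Helper14.RigidProd3
import Groth.Agent.Lib.Helper14.FibreH0c
import Groth.Agent.Lib.Helper14.UnivPushField

/-!
# helper14: rational points over an algebraically closed field; the rigidity lemma over such a field
-/

set_option autoImplicit false
universe u
open CategoryTheory MonoidalCategory CartesianMonoidalCategory AlgebraicGeometry Topology

namespace Groth.Agent.Lib.Helper14.AlgClosedPts

variable {K : Type u} [Field K] [IsAlgClosed K]

/-- the residue field point of the image of a rational point factors through the rational point -/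
theorem fromSpec_factor_of_point {W : Scheme.{u}} (f : W ⟶ Spec (.of K)) [LocallyOfFiniteType f]
    (p : Spec (.of K) ⟶ W) (hp : p ≫ f = 𝟙 _) :
    W.fromSpecResidueField (p (IsLocalRing.closedPoint K)) =
      W.fromSpecResidueField (p (IsLocalRing.closedPoint K)) ≫ f ≫ p := by
  have key : ∀ (w : W) (hw : IsClosed ({w} : Set W)), pointOfClosedPoint f w hw = p →
      W.fromSpecResidueField w = W.fromSpecResidueField w ≫ f ≫ p := by
    intro w hw hpe
    conv_rhs => rw [← hpe]
    show _ = W.fromSpecResidueField w ≫ f ≫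
        (Spec.map (residueFieldIsoBase f w hw).hom ≫ W.fromSpecResidueField w)
    rw [← Category.assoc, ← Category.assoc, ← SpecMap_residueFieldIsoBase_inv f w hw,
      ← Spec.map_comp, Iso.hom_inv_id, Spec.map_id, Category.id_comp]
  exact key _ ((pointEquivClosedPoint f) ⟨p, hp⟩).2
    (congrArg Subtype.val ((pointEquivClosedPoint f).left_inv ⟨p, hp⟩))

/-- `h⁰(O) = 1` on the fibres of an integral universally closed scheme with a rational point
over a field -/
theorem bijective_snd_appTop (k : Type u) [Field k] {X : Scheme.{u}}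
    (f : X ⟶ Spec (CommRingCat.of k)) [IsIntegral X] [UniversallyClosed f]
    (σ : Spec (CommRingCat.of k) ⟶ X) (hσ : σ ≫ f = 𝟙 _) (s : Spec (CommRingCat.of k)) :
    Function.Bijective
      (Limits.pullback.snd f ((Spec (CommRingCat.of k)).fromSpecResidueField s)).appTop := by
  haveI := Groth.Agent.Lib.Helper14.UnivPushField.isIso_fromSpecResidueField k s
  haveI : IsIso (Limits.pullback.fst f ((Spec (CommRingCat.of k)).fromSpecResidueField s)) :=
    (IsPullback.of_hasPullback f
      ((Spec (CommRingCat.of k)).fromSpecResidueField s)).isIso_fst_of_isIso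
  haveI : Nonempty ↥(Limits.pullback f ((Spec (CommRingCat.of k)).fromSpecResidueField s)) := by
    obtain ⟨x⟩ : Nonempty X := inferInstance
    exact ⟨(inv (Limits.pullback.fst f
      ((Spec (CommRingCat.of k)).fromSpecResidueField s))).base x⟩
  haveI : IsIntegral (Limits.pullback f ((Spec (CommRingCat.of k)).fromSpecResidueField s)) :=
    isIntegral_of_isOpenImmersion
      (Limits.pullback.fst f ((Spec (CommRingCat.of k)).fromSpecResidueField s))
  exact Groth.Agent.Lib.Helper14.FibreH0.bijective_snd_appTop_of_isIntegral f σ hσ s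

/-- a nonempty scheme locally of finite type over an algebraically closed field has a rational
point -/
theorem exists_point (X : Over (Spec (CommRingCat.of K))) [LocallyOfFiniteType X.hom]
    [Nonempty X.left] : Nonempty (𝟙_ (Over (Spec (CommRingCat.of K))) ⟶ X) := by
  haveI : JacobsonSpace ↥X.left := LocallyOfFiniteType.jacobsonSpace X.hom
  obtain ⟨x, -, hx⟩ := nonempty_inter_closedPoints (X := ↥X.left) (Z := Set.univ)
    Set.univ_nonempty isOpen_univ.isLocallyClosed
  have hx' : IsClosed ({x} : Set ↥X.left) := hx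
  exact ⟨Over.homMk (pointOfClosedPoint X.hom x hx') (pointOfClosedPoint_comp X.hom x hx')⟩

/-- **Rigidity lemma** over an algebraically closed field: a morphism `Φ : P × G × M ⟶ Z` with `P`
proper integral, `G` connected and pointed by `η`, `Z` separated, whose restriction to
`P × {η} × M` does not depend on `P`, does not depend on `P`. -/
theorem rigidity_pointed (P G M Z : Over (Spec (CommRingCat.of K))) [IsProper P.hom]
    [IsIntegral P.left] [LocallyOfFiniteType G.hom] [ConnectedSpace ↥G.left]
    (η : 𝟙_ (Over (Spec (CommRingCat.of K))) ⟶ G) [LocallyOfFiniteType M.hom]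
    [IsSeparated Z.hom] (Φ : P ⊗ (G ⊗ M) ⟶ Z) (ζ : M ⟶ Z)
    (hΦ : (P ◁ lift (toUnit M ≫ η) (𝟙 M)) ≫ Φ = snd P M ≫ ζ) :
    ∃ ψ : G ⊗ M ⟶ Z, Φ = snd P (G ⊗ M) ≫ ψ := by
  obtain ⟨p₁⟩ := exists_point P
  have hp₁ : p₁.left ≫ P.hom = 𝟙 _ := Over.w p₁
  have h0 := bijective_snd_appTop K P.hom p₁.left hp₁
  haveI : Flat P.hom := inferInstance
  haveI hlft : LocallyOfFiniteType (G ⊗ M).hom := by
    rw [Over.tensorObj_hom]
    infer_instance
  haveI : IsLocallyNoetherian (G ⊗ M).left := LocallyOfFiniteType.isLocallyNoetherian (G ⊗ M).hom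
  haveI : JacobsonSpace ↥(G ⊗ M).left := LocallyOfFiniteType.jacobsonSpace (G ⊗ M).hom
  refine Groth.Agent.Lib.Helper14.Rigid.factor_snd_of_product P (G ⊗ M) Z h0 Φ ?_
  intro t ht
  -- the rational point at `t`
  let τ₀ : 𝟙_ (Over (Spec (CommRingCat.of K))) ⟶ G ⊗ M :=
    Over.homMk (pointOfClosedPoint (G ⊗ M).hom t ht) (pointOfClosedPoint_comp (G ⊗ M).hom t ht)
  have hτ₀ : τ₀.left.base (IsLocalRing.closedPoint K) = t :=
    pointOfClosedPoint_apply (G ⊗ M).hom t ht _
  let m₀ : 𝟙_ (Over (Spec (CommRingCat.of K))) ⟶ M := τ₀ ≫ snd G M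
  let g₀ : 𝟙_ (Over (Spec (CommRingCat.of K))) ⟶ G := τ₀ ≫ fst G M
  let j : G ⟶ G ⊗ M := lift (𝟙 G) (toUnit G ≫ m₀)
  let τ : 𝟙_ (Over (Spec (CommRingCat.of K))) ⟶ G ⊗ M := lift η m₀
  have hu : ∀ φ : 𝟙_ (Over (Spec (CommRingCat.of K))) ⟶ 𝟙_ (Over (Spec (CommRingCat.of K))),
      φ = 𝟙 _ := fun φ => toUnit_unique _ _
  have hj0 : g₀ ≫ j = τ₀ := by
    apply CartesianMonoidalCategory.hom_ext
    · simp [j, g₀]
    · simp only [j, Category.assoc, lift_snd]
      rw [← Category.assoc, hu (g₀ ≫ toUnit G), Category.id_comp]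
  have hj1 : η ≫ j = τ := by
    apply CartesianMonoidalCategory.hom_ext
    · simp [j, τ]
    · simp only [j, τ, Category.assoc, lift_snd]
      rw [← Category.assoc, hu (η ≫ toUnit G), Category.id_comp]
  refine ⟨Set.range j.left.base, ?_, ?_, τ.left.base (IsLocalRing.closedPoint K), ?_, ?_⟩
  · exact isPreconnected_range j.left.base.hom.continuous
  · refine ⟨g₀.left.base (IsLocalRing.closedPoint K), ?_⟩
    rw [← hτ₀, ← hj0]
    rfl
  · refine ⟨η.left.base (IsLocalRing.closedPoint K), ?_⟩
    rw [← hj1]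
    rfl
  · refine Groth.Agent.Lib.Helper14.Rigid.collapseAt_of_section Φ τ (m₀ ≫ ζ) ?_ _ ?_
    · have h1 : lift (𝟙 P) (toUnit P ≫ τ) =
          lift (𝟙 P) (toUnit P ≫ m₀) ≫ (P ◁ lift (toUnit M ≫ η) (𝟙 M)) := by
        apply CartesianMonoidalCategory.hom_ext
        · simp
        · simp only [Category.assoc, lift_snd, whiskerLeft_snd, lift_snd_assoc]
          congr 1
          apply CartesianMonoidalCategory.hom_ext
          · simp only [τ, Category.assoc, lift_fst]
            rw [← Category.assoc, hu (m₀ ≫ toUnit M), Category.id_comp]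
          · simp [τ]
      rw [h1, Category.assoc, hΦ, ← Category.assoc, lift_snd, Category.assoc]
    · exact fromSpec_factor_of_point (G ⊗ M).hom τ.left (Over.w τ)

end Groth.Agent.Lib.Helper14.AlgClosedPts
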