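import Groth.Statements.S17474
import Groth.Agent.Lib.Helper25.PullTensorIso
import Groth.Agent.Lib.Helper12.TensorInv
import Groth.Agent.Lib.Lead.ModTensor
import Groth.Agent.Lib.Helper14.ActPts

/-!
# helper14: translates of an invertible module by a connected group are algebraically equivalent
-/

set_option autoImplicit false
universe u
open CategoryTheory CategoryTheory.Limits MonoidalCategory CartesianMonoidalCategory MonObj GrpObj
  AlgebraicGeometry

namespace Groth.Agent.Lib.Helper14.AlgEqTrans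

open Groth.Agent.Lib.Helper25.PullTensorIso Groth.Agent.Lib.helper12.TensorInv
  Groth.Agent.Lib.helper11.InvMod Groth.Agent.Lib.Lead.ModTensor

variable {k : Type u} [Field k] {G X : Over (Spec (CommRingCat.of k))} [GrpObj G]
  (a : AlgGrp.Action G X)

/-- the action with swapped factors `X × G ⟶ X` -/
noncomputable def act' : pullback X.hom G.hom ⟶ X.left := ((β_ X G).hom ≫ a.act).left

theorem sliceAt_eq (g : 𝟙_ (Over (Spec (CommRingCat.of k))) ⟶ G) (ht : g.left ≫ G.hom = 𝟙 _) :
    @Pic13.sliceAt k _ X.left ⟨X.hom⟩ G.left G.hom g.left ht =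
      (lift (𝟙 X) (toUnit X ≫ g)).left := by
  have h1 : (lift (𝟙 X) (toUnit X ≫ g)).left ≫ pullback.fst X.hom G.hom = 𝟙 X.left := by
    rw [← Over.fst_left, ← Over.comp_left, lift_fst]; rfl
  have h2 : (lift (𝟙 X) (toUnit X ≫ g)).left ≫ pullback.snd X.hom G.hom =
      X.hom ≫ g.left := by
    rw [← Over.snd_left, ← Over.comp_left, lift_snd, Over.comp_left]
    congr 1
  refine pullback.hom_ext (f := X.hom) (g := G.hom) ?_ ?_
  · refine Eq.trans ?_ h1.symm
    exact pullback.lift_fst _ _ _
  · refine Eq.trans ?_ h2.symm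
    exact pullback.lift_snd _ _ _

theorem sliceAt_act' (g : 𝟙_ (Over (Spec (CommRingCat.of k))) ⟶ G)
    (ht : g.left ≫ G.hom = 𝟙 _) :
    @Pic13.sliceAt k _ X.left ⟨X.hom⟩ G.left G.hom g.left ht ≫ act' a =
      (lift (toUnit X ≫ g) (𝟙 X) ≫ a.act).left := by
  rw [sliceAt_eq, act']
  refine Eq.trans (Over.comp_left _ _ _ _ _).symm ?_
  rw [← Category.assoc]
  congr 2
  apply CartesianMonoidalCategory.hom_ext <;> simp

theorem sliceAt_fst (g : 𝟙_ (Over (Spec (CommRingCat.of k))) ⟶ G)
    (ht : g.left ≫ G.hom = 𝟙 _) :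
    @Pic13.sliceAt k _ X.left ⟨X.hom⟩ G.left G.hom g.left ht ≫ pullback.fst X.hom G.hom =
      𝟙 X.left := by
  exact pullback.lift_fst _ _ _

/-- the family `a^* L ⊗ pr^* M` on `X × G` -/
noncomputable def fam (L M : X.left.Modules) : (pullback X.hom G.hom).Modules :=
  CohB1.tensorMod ((Scheme.Modules.pullback (act' a)).obj L)
    ((Scheme.Modules.pullback (pullback.fst X.hom G.hom)).obj M)

theorem isInvertible_fam {L M : X.left.Modules} (hL : PicF.IsInvertible L)
    (hM : PicF.IsInvertible M) : PicF.IsInvertible (fam a L M) :=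
  isInvertible_tensorMod (isInvertible_pullback _ hL) (isInvertible_pullback _ hM)

/-- the fibre of the family at a `k`-point `g` is `t_g^* L ⊗ M` -/
noncomputable def fibreIso (L M : X.left.Modules)
    (g : 𝟙_ (Over (Spec (CommRingCat.of k))) ⟶ G) (ht : g.left ≫ G.hom = 𝟙 _) :
    @Pic13.fibreMod k _ X.left ⟨X.hom⟩ G.left G.hom g.left ht (fam a L M) ≅
      CohB1.tensorMod ((Scheme.Modules.pullback (lift (toUnit X ≫ g) (𝟙 X) ≫ a.act).left).obj L)
        M :=
  pullTensorIso _ _ _ ≪≫
    tensorIso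
      ((Scheme.Modules.pullbackComp _ _).app L ≪≫
        (Scheme.Modules.pullbackCongr (sliceAt_act' a g ht)).app L)
      ((Scheme.Modules.pullbackComp _ _).app M ≪≫
        (Scheme.Modules.pullbackCongr (sliceAt_fst g ht)).app M ≪≫
        (Scheme.Modules.pullbackId _).app M)

end Groth.Agent.Lib.Helper14.AlgEqTrans
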