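import Groth.Agent.Lib.Helper14.AlgSpQuot2

/-!
# Open immersions of quotient sheaves (helper14)

Core lemma: for a pre-relation `s, t : R ⇉ U`, a map `g : U' ⟶ U`, epimorphisms `π : h_U ⟶ Q`, `π' : h_U' ⟶ Q'` and
`ψ : Q' ⟶ Q` compatible with `g`, if the kernel pair of `π` is (locally) given by `R`, the kernel pair of `π'` is the
restriction of `R`, and the `R`-saturation of `g` is an open `W` onto which `U' ×_U R` surjects as sheaves, then
`ψ` is representable by open immersions.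
-/

set_option autoImplicit false

universe u

open CategoryTheory CategoryTheory.Limits AlgebraicGeometry Opposite

namespace Groth.Agent.Lib.Helper14.AlgSpQuot

open Groth.Agent.Lib.Helper14.RepSh

variable {S : Scheme.{u}}

/-- the sieve on which two maps from a representable agree -/
def eqSieve {Q : AlgSp.Sp S} {T : Over S} (η₁ η₂ : (AlgSp.yon S).obj T ⟶ Q) : Sieve T where
  arrows T' c := (AlgSp.yon S).map c ≫ η₁ = (AlgSp.yon S).map c ≫ η₂
  downward_closed := by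
    intro T' T'' c hc d
    change (AlgSp.yon S).map (d ≫ c) ≫ η₁ = (AlgSp.yon S).map (d ≫ c) ≫ η₂
    rw [Functor.map_comp, Category.assoc, hc, Category.assoc]

theorem eq_of_eqSieve_mem {Q : AlgSp.Sp S} {T : Over S} {η₁ η₂ : (AlgSp.yon S).obj T ⟶ Q}
    (h : eqSieve η₁ η₂ ∈ AlgSp.J S T) : η₁ = η₂ := by
  apply (AlgSp.J S).uliftYonedaEquiv.injective
  have hsep : Presieve.IsSeparated (AlgSp.J S) Q.obj :=
    ((isSheaf_iff_isSheaf_of_type _ _).1 Q.property).isSeparated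
  refine (hsep _ h).ext ?_
  intro T' c hc
  rw [GrothendieckTopology.uliftYonedaEquiv_naturality,
    GrothendieckTopology.uliftYonedaEquiv_naturality]
  exact congrArg _ hc

/-- the sieve on which `x₁, x₂` are `R`-related -/
def relSieve {R U : Over S} (s t : R ⟶ U) {T : Over S} (x₁ x₂ : T ⟶ U) : Sieve T where
  arrows T' c := ∃ ρ : T' ⟶ R, ρ ≫ t = c ≫ x₁ ∧ ρ ≫ s = c ≫ x₂
  downward_closed := by
    rintro T' T'' c ⟨ρ, h1, h2⟩ d
    exact ⟨d ≫ ρ, by rw [Category.assoc, h1, Category.assoc],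
      by rw [Category.assoc, h2, Category.assoc]⟩

/-- the sieve on which `a` is `R`-related to a point of `U'` -/
def orbSieve {R U U' : Over S} (s t : R ⟶ U) (g : U' ⟶ U) {T : Over S} (a : T ⟶ U) : Sieve T where
  arrows T' c := ∃ (ρ : T' ⟶ R) (u' : T' ⟶ U'), ρ ≫ t = u' ≫ g ∧ ρ ≫ s = c ≫ a
  downward_closed := by
    rintro T' T'' c ⟨ρ, u', h1, h2⟩ d
    exact ⟨d ≫ ρ, d ≫ u', by rw [Category.assoc, h1, Category.assoc],
      by rw [Category.assoc, h2, Category.assoc]⟩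

/-- the hypotheses of the core lemma -/
structure OpenQuot {R U U' : Over S} (s t : R ⟶ U) (g : U' ⟶ U) {Q Q' : AlgSp.Sp S}
    (π : (AlgSp.yon S).obj U ⟶ Q) (π' : (AlgSp.yon S).obj U' ⟶ Q') (ψ : Q' ⟶ Q)
    (W : U.left.Opens) : Prop where
  comm : π' ≫ ψ = (AlgSp.yon S).map g ≫ π
  rel : ∀ {T : Over S} (ρ : T ⟶ R),
    (AlgSp.yon S).map (ρ ≫ t) ≫ π = (AlgSp.yon S).map (ρ ≫ s) ≫ π
  ker : ∀ {T : Over S} (x₁ x₂ : T ⟶ U),
    (AlgSp.yon S).map x₁ ≫ π = (AlgSp.yon S).map x₂ ≫ π → relSieve s t x₁ x₂ ∈ AlgSp.J S T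
  ker' : ∀ {T : Over S} (x₁' x₂' : T ⟶ U') (ρ : T ⟶ R), ρ ≫ t = x₁' ≫ g → ρ ≫ s = x₂' ≫ g →
    (AlgSp.yon S).map x₁' ≫ π' = (AlgSp.yon S).map x₂' ≫ π'
  memW : ∀ {T : Over S} (ρ : T ⟶ R) (u' : T ⟶ U'), ρ ≫ t = u' ≫ g →
    ∀ τ : ↥T.left, (ρ ≫ s).left τ ∈ W
  surjW : ∀ {T : Over S} (a : T ⟶ U), (∀ τ : ↥T.left, a.left τ ∈ W) →
    orbSieve s t g a ∈ AlgSp.J S T

namespace OpenQuot

variable {R U U' : Over S} {s t : R ⟶ U} {g : U' ⟶ U} {Q Q' : AlgSp.Sp S}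
  {π : (AlgSp.yon S).obj U ⟶ Q} {π' : (AlgSp.yon S).obj U' ⟶ Q'} {ψ : Q' ⟶ Q}
  {W : U.left.Opens}

theorem mono (h : OpenQuot s t g π π' ψ W) [Epi π'] : Mono ψ := by
  constructor
  intro Z f₁ f₂ hf
  refine GrothendieckTopology.hom_ext_uliftYoneda.{u + 1, u, u + 1} (AlgSp.J S) ?_
  intro T p
  apply eq_of_eqSieve_mem
  have hS1 : liftSieve π' (p ≫ f₁) ⊓ liftSieve π' (p ≫ f₂) ∈ AlgSp.J S T :=
    (AlgSp.J S).intersection_covering (liftSieve_mem_of_epi π' _) (liftSieve_mem_of_epi π' _)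
  refine (AlgSp.J S).transitive hS1 _ ?_
  rintro T' c ⟨⟨x₁, hx₁⟩, ⟨x₂, hx₂⟩⟩
  obtain ⟨x₁', rfl⟩ := (AlgSp.yon S).map_surjective x₁
  obtain ⟨x₂', rfl⟩ := (AlgSp.yon S).map_surjective x₂
  have e : (AlgSp.yon S).map (x₁' ≫ g) ≫ π = (AlgSp.yon S).map (x₂' ≫ g) ≫ π := by
    rw [Functor.map_comp, Functor.map_comp, Category.assoc, Category.assoc, ← h.comm,
      ← Category.assoc, ← Category.assoc, hx₁, hx₂, Category.assoc, Category.assoc,
      Category.assoc, Category.assoc, hf]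
  refine (AlgSp.J S).superset_covering ?_ (h.ker _ _ e)
  rintro T'' d ⟨ρ, h1, h2⟩
  change (AlgSp.yon S).map (d ≫ c) ≫ p ≫ f₁ = (AlgSp.yon S).map (d ≫ c) ≫ p ≫ f₂
  have e2 := h.ker' (d ≫ x₁') (d ≫ x₂') ρ (by rw [h1, Category.assoc]) (by rw [h2, Category.assoc])
  rw [Functor.map_comp, Category.assoc, ← hx₁, Category.assoc, ← hx₂, ← Category.assoc,
    ← Functor.map_comp, e2, Functor.map_comp, Category.assoc]

end OpenQuot

/-- points of a fibre product in `Over S` -/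
theorem exists_point_pullback_over {A B C : Over S} (f : A ⟶ C) (g : B ⟶ C) (α : ↥A.left)
    (β : ↥B.left) (h : f.left α = g.left β) :
    ∃ z : ↥(pullback f g).left, (pullback.fst f g).left z = α ∧ (pullback.snd f g).left z = β := by
  have sq : IsPullback (pullback.fst f g).left (pullback.snd f g).left f.left g.left :=
    (IsPullback.of_hasPullback f g).map (Over.forget S)
  obtain ⟨z, hz1, hz2⟩ := Scheme.Pullback.exists_preimage_pullback (f := f.left) (g := g.left) α β h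
  refine ⟨sq.isoPullback.inv z, ?_, ?_⟩
  · rw [← Scheme.Hom.comp_apply, IsPullback.isoPullback_inv_fst]
    exact hz1
  · rw [← Scheme.Hom.comp_apply, IsPullback.isoPullback_inv_snd]
    exact hz2

/-- the locus of `T` where `a : h_T ⟶ Q` lands in the image of `ψ` -/
def locus {U : Over S} {Q : AlgSp.Sp S} (π : (AlgSp.yon S).obj U ⟶ Q) (W : U.left.Opens)
    {T : Over S} (a : (AlgSp.yon S).obj T ⟶ Q) : Set ↥T.left :=
  {τ | ∃ (T₁ : Over S) (c : T₁ ⟶ T) (a₁ : T₁ ⟶ U) (τ₁ : ↥T₁.left), Flat c.left ∧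
      LocallyOfFinitePresentation c.left ∧
      (AlgSp.yon S).map a₁ ≫ π = (AlgSp.yon S).map c ≫ a ∧ c.left τ₁ = τ ∧ a₁.left τ₁ ∈ W}

theorem isOpen_locus {U : Over S} {Q : AlgSp.Sp S} (π : (AlgSp.yon S).obj U ⟶ Q)
    (W : U.left.Opens) {T : Over S} (a : (AlgSp.yon S).obj T ⟶ Q) : IsOpen (locus π W a) := by
  rw [isOpen_iff_forall_mem_open]
  rintro τ ⟨T₁, c, a₁, τ₁, hf, hl, he, rfl, hW⟩
  refine ⟨c.left '' (a₁.left ⁻¹' W), ?_, ?_, ?_⟩
  · rintro _ ⟨τ₁', h1, rfl⟩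
    exact ⟨T₁, c, a₁, τ₁', hf, hl, he, rfl, h1⟩
  · exact c.left.isOpenMap _ (W.isOpen.preimage a₁.left.continuous)
  · exact ⟨τ₁, hW, rfl⟩

/-- a datum for a point of the locus can be shrunk so that `a₁` lands in `W` -/
theorem exists_datum_of_mem_locus {U : Over S} {Q : AlgSp.Sp S} (π : (AlgSp.yon S).obj U ⟶ Q)
    (W : U.left.Opens) {T : Over S} (a : (AlgSp.yon S).obj T ⟶ Q) {τ : ↥T.left}
    (hτ : τ ∈ locus π W a) :
    ∃ (T₁ : Over S) (c : T₁ ⟶ T) (a₁ : T₁ ⟶ U) (τ₁ : ↥T₁.left), Flat c.left ∧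
      LocallyOfFinitePresentation c.left ∧
      (AlgSp.yon S).map a₁ ≫ π = (AlgSp.yon S).map c ≫ a ∧ c.left τ₁ = τ ∧
      ∀ τ' : ↥T₁.left, a₁.left τ' ∈ W := by
  obtain ⟨T₁, c, a₁, τ₁, hf, hl, he, rfl, hW⟩ := hτ
  let D : T₁.left.Opens := a₁.left ⁻¹ᵁ W
  let j : Over.mk (D.ι ≫ T₁.hom) ⟶ T₁ := Over.homMk D.ι rfl
  have hj : IsOpenImmersion j.left := inferInstanceAs (IsOpenImmersion D.ι)
  refine ⟨Over.mk (D.ι ≫ T₁.hom), j ≫ c, j ≫ a₁, (⟨τ₁, hW⟩ : D), ?_, ?_, ?_, rfl, ?_⟩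
  · rw [Over.comp_left]; infer_instance
  · rw [Over.comp_left]; infer_instance
  · rw [Functor.map_comp, Functor.map_comp, Category.assoc, Category.assoc, he]
  · intro τ'
    exact (τ' : D).2

namespace OpenQuot

variable {R U U' : Over S} {s t : R ⟶ U} {g : U' ⟶ U} {Q Q' : AlgSp.Sp S}
  {π : (AlgSp.yon S).obj U ⟶ Q} {π' : (AlgSp.yon S).obj U' ⟶ Q'} {ψ : Q' ⟶ Q}
  {W : U.left.Opens}

/-- Claim A: if `a ∘ b` factors through `ψ` then `b` lands in the locus -/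
theorem mem_locus_of_factor (h : OpenQuot s t g π π' ψ W) [Epi π] [Epi π'] {T T₂ : Over S}
    (a : (AlgSp.yon S).obj T ⟶ Q) (b : T₂ ⟶ T) (β : (AlgSp.yon S).obj T₂ ⟶ Q')
    (hβ : β ≫ ψ = (AlgSp.yon S).map b ≫ a) (τ₂ : ↥T₂.left) : b.left τ₂ ∈ locus π W a := by
  obtain ⟨T₃, c₂, τ₃, ⟨x, hx⟩, hτ₃, -, -⟩ :=
    exists_flat_mem_of_mem_J _ (liftSieve_mem_of_epi π' β) τ₂
  obtain ⟨u', rfl⟩ := (AlgSp.yon S).map_surjective x
  obtain ⟨T₁, c₁, τ₁, ⟨y, hy⟩, hτ₁, hf₁, hl₁⟩ :=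
    exists_flat_mem_of_mem_J _ (liftSieve_mem_of_epi π a) (b.left τ₂)
  obtain ⟨a₁, rfl⟩ := (AlgSp.yon S).map_surjective y
  have hpt : (c₂ ≫ b).left τ₃ = c₁.left τ₁ := by
    rw [Over.comp_left, Scheme.Hom.comp_apply, hτ₃, hτ₁]
  obtain ⟨τ₄, hτ₄1, hτ₄2⟩ := exists_point_pullback_over (c₂ ≫ b) c₁ τ₃ τ₁ hpt
  have e : (AlgSp.yon S).map (pullback.fst (c₂ ≫ b) c₁ ≫ u' ≫ g) ≫ π =
      (AlgSp.yon S).map (pullback.snd (c₂ ≫ b) c₁ ≫ a₁) ≫ π := by
    have e1 : (AlgSp.yon S).map (pullback.snd (c₂ ≫ b) c₁ ≫ a₁) ≫ π =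
        (AlgSp.yon S).map (pullback.fst (c₂ ≫ b) c₁ ≫ c₂ ≫ b) ≫ a := by
      rw [Functor.map_comp, Category.assoc, hy, ← Category.assoc, ← Functor.map_comp,
        ← pullback.condition]
    rw [e1, Functor.map_comp, Functor.map_comp, Category.assoc, Category.assoc, ← h.comm,
      ← Category.assoc ((AlgSp.yon S).map u'), hx, Functor.map_comp, Functor.map_comp,
      Category.assoc, Category.assoc, Category.assoc, hβ]
  obtain ⟨T₅, c₄, τ₅, ⟨ρ, hρ1, hρ2⟩, hτ₅, -, -⟩ :=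
    exists_flat_mem_of_mem_J _ (h.ker _ _ e) τ₄
  have hW := h.memW ρ (c₄ ≫ pullback.fst (c₂ ≫ b) c₁ ≫ u') (by rw [hρ1]; simp) τ₅
  rw [hρ2, Over.comp_left, Over.comp_left, Scheme.Hom.comp_apply, Scheme.Hom.comp_apply, hτ₅,
    hτ₄2] at hW
  exact ⟨T₁, c₁, a₁, τ₁, hf₁, hl₁, hy, hτ₁, hW⟩

/-- Claim B: if `b` lands in the locus then `a ∘ b` factors through `ψ` -/
theorem exists_factor_of_mem_locus (h : OpenQuot s t g π π' ψ W) [Epi π'] {T T₂ : Over S}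
    (a : (AlgSp.yon S).obj T ⟶ Q) (b : T₂ ⟶ T) (hb : ∀ τ₂ : ↥T₂.left, b.left τ₂ ∈ locus π W a) :
    ∃ β : (AlgSp.yon S).obj T₂ ⟶ Q', β ≫ ψ = (AlgSp.yon S).map b ≫ a := by
  have := h.mono
  apply exists_factor_of_liftSieve ψ
  -- first covering sieve: maps into shrunk data
  let S₁ : Sieve T₂ :=
    { arrows := fun T' d => ∃ (T₁ : Over S) (c₁ : T₁ ⟶ T) (a₁ : T₁ ⟶ U) (e : T' ⟶ T₁),
        (AlgSp.yon S).map a₁ ≫ π = (AlgSp.yon S).map c₁ ≫ a ∧ (∀ τ' : ↥T₁.left, a₁.left τ' ∈ W) ∧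
        d ≫ b = e ≫ c₁
      downward_closed := by
        rintro T' T'' d ⟨T₁, c₁, a₁, e, h1, h2, h3⟩ f
        exact ⟨T₁, c₁, a₁, f ≫ e, h1, h2, by rw [Category.assoc, h3, Category.assoc]⟩ }
  have hS₁ : S₁ ∈ AlgSp.J S T₂ := by
    apply mem_J_of_forall_exists_flat
    intro τ₂
    obtain ⟨T₁, c₁, a₁, τ₁, hf, hl, he, hτ, hW⟩ := exists_datum_of_mem_locus π W a (hb τ₂)
    obtain ⟨z, hz1, -⟩ := exists_point_pullback_over b c₁ τ₂ τ₁ hτ.symm
    have sq : IsPullback (pullback.fst b c₁).left (pullback.snd b c₁).left b.left c₁.left :=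
      (IsPullback.of_hasPullback b c₁).map (Over.forget S)
    refine ⟨pullback b c₁, pullback.fst b c₁,
      ⟨T₁, c₁, a₁, pullback.snd b c₁, he, hW, pullback.condition⟩, ⟨z, hz1⟩, ?_, ?_⟩
    · exact MorphismProperty.of_isPullback (P := @Flat) sq.flip hf
    · exact MorphismProperty.of_isPullback (P := @LocallyOfFinitePresentation) sq.flip hl
  refine (AlgSp.J S).transitive hS₁ _ ?_
  rintro T' d ⟨T₁, c₁, a₁, e, he, hW, hd⟩
  have hW' : ∀ τ' : ↥T'.left, (e ≫ a₁).left τ' ∈ W := by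
    intro τ'
    rw [Over.comp_left, Scheme.Hom.comp_apply]
    exact hW _
  refine (AlgSp.J S).superset_covering ?_ (h.surjW (e ≫ a₁) hW')
  rintro T'' f ⟨ρ, u', h1, h2⟩
  refine ⟨(AlgSp.yon S).map u' ≫ π', ?_⟩
  rw [Category.assoc, h.comm, ← Category.assoc, ← Functor.map_comp, ← h1, h.rel ρ, h2,
    Functor.map_comp, Functor.map_comp, Category.assoc, Category.assoc, he,
    ← Category.assoc ((AlgSp.yon S).map e), ← Functor.map_comp, ← hd, Functor.map_comp,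
    Functor.map_comp, Category.assoc, Category.assoc]

/-- a morphism landing in an open factors through the open subscheme, over `S` -/
theorem exists_lift_opens {T T₂ : Over S} (D : T.left.Opens) (b : T₂ ⟶ T)
    (hb : ∀ τ₂ : ↥T₂.left, b.left τ₂ ∈ D) :
    ∃ b' : T₂ ⟶ Over.mk (D.ι ≫ T.hom), b' ≫ (Over.homMk D.ι rfl : Over.mk (D.ι ≫ T.hom) ⟶ T) = b := by
  have hr : Set.range b.left ⊆ Set.range D.ι := by
    rintro _ ⟨τ₂, rfl⟩
    rw [Scheme.Opens.range_ι]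
    exact hb τ₂
  refine ⟨Over.homMk (IsOpenImmersion.lift D.ι b.left hr) ?_, ?_⟩
  · change IsOpenImmersion.lift D.ι b.left hr ≫ D.ι ≫ T.hom = T₂.hom
    rw [← Category.assoc, IsOpenImmersion.lift_fac, Over.w]
  · ext
    change IsOpenImmersion.lift D.ι b.left hr ≫ D.ι = b.left
    exact IsOpenImmersion.lift_fac _ _ _

/-- the core lemma: `ψ` is representable by open immersions -/
theorem repWith (h : OpenQuot s t g π π' ψ W) [Epi π] [Epi π'] :
    AlgSp.RepWith @IsOpenImmersion ψ := by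
  have hmono := h.mono
  refine MorphismProperty.relative.of_exists ?_
  intro T a
  let D : T.left.Opens := ⟨locus π W a, isOpen_locus π W a⟩
  let ι' : Over.mk (D.ι ≫ T.hom) ⟶ T := Over.homMk D.ι rfl
  have hι : ∀ τ : ↥(Over.mk (D.ι ≫ T.hom)).left, ι'.left τ ∈ locus π W a := fun τ => (τ : D).2
  obtain ⟨fst, hfst⟩ := h.exists_factor_of_mem_locus a ι' hι
  refine ⟨Over.mk (D.ι ≫ T.hom), fst, ι', ?_, inferInstanceAs (IsOpenImmersion D.ι)⟩
  -- the comparison map to the pullback is an isomorphism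
  have hmι : Mono ι' := by
    have : Mono ι'.left := inferInstanceAs (Mono D.ι)
    exact Over.mono_of_mono_left ι'
  have hmy : Mono ((AlgSp.yon S).map ι') := inferInstance
  let l : (AlgSp.yon S).obj (Over.mk (D.ι ≫ T.hom)) ⟶ pullback ψ a :=
    pullback.lift fst ((AlgSp.yon S).map ι') hfst
  have hl2 : l ≫ pullback.snd ψ a = (AlgSp.yon S).map ι' := pullback.lift_snd _ _ _
  have hl1 : l ≫ pullback.fst ψ a = fst := pullback.lift_fst _ _ _
  have hml : Mono l := mono_of_mono_fac hl2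
  have hiso : IsIso l := by
    apply isIso_of_mono_of_liftSieve
    intro T₂ η
    obtain ⟨b, hb⟩ := (AlgSp.yon S).map_surjective (η ≫ pullback.snd ψ a)
    have hβ : (η ≫ pullback.fst ψ a) ≫ ψ = (AlgSp.yon S).map b ≫ a := by
      rw [Category.assoc, pullback.condition, ← Category.assoc, hb]
    obtain ⟨b', hb'⟩ := exists_lift_opens D b (fun τ₂ => h.mem_locus_of_factor a b _ hβ τ₂)
    have hη : (AlgSp.yon S).map b' ≫ l = η := by
      apply pullback.hom_ext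
      · rw [← cancel_mono ψ, Category.assoc, Category.assoc, ← Category.assoc l, hl1, hfst,
          ← Category.assoc, ← Functor.map_comp, hb', hβ]
      · rw [Category.assoc, hl2, ← Functor.map_comp, hb', hb]
    have : liftSieve l η = ⊤ := by
      rw [← Sieve.id_mem_iff_eq_top]
      exact ⟨(AlgSp.yon S).map b', by rw [hη, CategoryTheory.Functor.map_id, Category.id_comp]⟩
    rw [this]
    exact (AlgSp.J S).top_mem _
  exact IsPullback.of_iso_pullback ⟨hfst⟩ (asIso l) hl1 hl2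

end OpenQuot

end Groth.Agent.Lib.Helper14.AlgSpQuot
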