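import Mathlib.CategoryTheory.EquivalenceRelation
import Mathlib.CategoryTheory.Functor.RegularEpi
import Mathlib.CategoryTheory.Limits.Types.Pullbacks
import Mathlib.CategoryTheory.Limits.FunctorCategory.Basic
import Mathlib.CategoryTheory.Limits.Shapes.Pullback.IsPullback.Basic
import Mathlib.CategoryTheory.MorphismProperty.Limits
import Mathlib.CategoryTheory.Sites.RegularEpi

/-!
# Quotients of presheaves of sets by equivalence relations (helper14)
-/

set_option autoImplicit false

universe w v₁ u₁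

open CategoryTheory CategoryTheory.Limits Opposite

namespace Groth.Agent.Lib.Helper14.QuotRel

variable {C : Type u₁} [Category.{v₁} C]

theorem app_congr {F G : Cᵒᵖ ⥤ Type w} {a b : F ⟶ G} (h : a = b) (U : Cᵒᵖ) (x : F.obj U) :
    a.app U x = b.app U x := by rw [h]

theorem comp_app_apply {F G H : Cᵒᵖ ⥤ Type w} (a : F ⟶ G) (b : G ⟶ H) (U : Cᵒᵖ) (x : F.obj U) :
    (a ≫ b).app U x = b.app U (a.app U x) := rfl

variable {R X : Cᵒᵖ ⥤ Type w} (p₁ p₂ : R ⟶ X)

/-- The relation induced on sections. -/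
def Rel (U : Cᵒᵖ) (x y : X.obj U) : Prop :=
  ∃ r : R.obj U, p₁.app U r = x ∧ p₂.app U r = y

theorem rel_map {U V : Cᵒᵖ} (f : U ⟶ V) {x y : X.obj U} (h : Rel p₁ p₂ U x y) :
    Rel p₁ p₂ V (X.map f x) (X.map f y) := by
  obtain ⟨r, rfl, rfl⟩ := h
  exact ⟨R.map f r, NatTrans.naturality_apply p₁ f r, NatTrans.naturality_apply p₂ f r⟩

section

variable {p₁ p₂} (e : EquivalenceRelation p₁ p₂)

include e

theorem rel_equivalence (U : Cᵒᵖ) : Equivalence (Rel p₁ p₂ U) where
  refl x := ⟨e.r.app U x, by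
    have := app_congr e.reflexivity₁ U x
    rwa [comp_app_apply] at this, by
    have := app_congr e.reflexivity₂ U x
    rwa [comp_app_apply] at this⟩
  symm := by
    rintro x y ⟨r, rfl, rfl⟩
    refine ⟨e.s.app U r, ?_, ?_⟩
    · have := app_congr e.symmetry₁ U r
      rwa [comp_app_apply] at this
    · have := app_congr e.symmetry₂ U r
      rwa [comp_app_apply] at this
  trans := by
    rintro x y z ⟨r₁, rfl, rfl⟩ ⟨r₂, h, rfl⟩
    have hpb : IsPullback e.c.fst e.c.snd p₂ p₁ := IsPullback.of_isLimit e.isLimit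
    have hpb' := hpb.map ((evaluation Cᵒᵖ (Type w)).obj U)
    obtain ⟨z₀, hz1, hz2⟩ := Types.exists_of_isPullback hpb' r₁ r₂ h.symm
    refine ⟨e.t.app U z₀, ?_, ?_⟩
    · have := app_congr e.transitivity₁ U z₀
      rw [comp_app_apply, comp_app_apply] at this
      rw [this]
      exact congrArg _ hz1
    · have := app_congr e.transitivity₂ U z₀
      rw [comp_app_apply, comp_app_apply] at this
      rw [this]
      exact congrArg _ hz2

theorem rel_inj (U : Cᵒᵖ) (r r' : R.obj U) (h1 : p₁.app U r = p₁.app U r')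
    (h2 : p₂.app U r = p₂.app U r') : r = r' := by
  -- the presheaf of pairs with the same images
  let Y : Cᵒᵖ ⥤ Type w :=
    { obj := fun V => {q : R.obj V × R.obj V //
        p₁.app V q.1 = p₁.app V q.2 ∧ p₂.app V q.1 = p₂.app V q.2}
      map := fun {V W} f => ↾(fun q => ⟨(R.map f q.1.1, R.map f q.1.2), by
        refine ⟨?_, ?_⟩
        · change p₁.app W (R.map f q.1.1) = p₁.app W (R.map f q.1.2)
          rw [NatTrans.naturality_apply, NatTrans.naturality_apply, q.2.1]
        · change p₂.app W (R.map f q.1.1) = p₂.app W (R.map f q.1.2)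
          rw [NatTrans.naturality_apply, NatTrans.naturality_apply, q.2.2]⟩)
      map_id := fun V => by
        ext q
        all_goals simp
      map_comp := fun f g => by
        ext q
        all_goals simp }
  let a : Y ⟶ R := { app := fun V => ↾(fun q => q.1.1), naturality := fun V W f => rfl }
  let b : Y ⟶ R := { app := fun V => ↾(fun q => q.1.2), naturality := fun V W f => rfl }
  have hab : a = b := by
    apply e.right_cancellation
    · ext V q
      exact q.2.1
    · ext V q
      exact q.2.2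
  exact app_congr hab U ⟨(r, r'), h1, h2⟩

end

/-- The presheaf quotient. -/
def quotPsh : Cᵒᵖ ⥤ Type w where
  obj U := Quot (Rel p₁ p₂ U)
  map {U V} f := ↾(Quot.map (X.map f) (fun _ _ h => rel_map p₁ p₂ f h))
  map_id U := by
    ext x
    induction x using Quot.ind
    simp [Quot.map]
  map_comp {U V W} f g := by
    ext x
    induction x using Quot.ind
    simp [Quot.map]

/-- The projection to the presheaf quotient. -/
def quotMk : X ⟶ quotPsh p₁ p₂ where
  app U := ↾(Quot.mk _)
  naturality U V f := by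
    ext x
    rfl

theorem quotMk_condition : p₁ ≫ quotMk p₁ p₂ = p₂ ≫ quotMk p₁ p₂ := by
  ext U r
  exact Quot.sound ⟨r, rfl, rfl⟩

/-- The universal property of the presheaf quotient. -/
def quotDesc {Z : Cᵒᵖ ⥤ Type w} (z : X ⟶ Z) (hz : p₁ ≫ z = p₂ ≫ z) : quotPsh p₁ p₂ ⟶ Z where
  app U := ↾(Quot.lift (z.app U) (by
    rintro a b ⟨r, rfl, rfl⟩
    exact app_congr hz U r))
  naturality U V f := by
    ext x
    induction x using Quot.ind
    exact NatTrans.naturality_apply z f _

theorem quotMk_desc {Z : Cᵒᵖ ⥤ Type w} (z : X ⟶ Z) (hz : p₁ ≫ z = p₂ ≫ z) :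
    quotMk p₁ p₂ ≫ quotDesc p₁ p₂ z hz = z := by
  ext U x
  rfl

instance : Epi (quotMk p₁ p₂) := by
  have : ∀ U, Epi ((quotMk p₁ p₂).app U) := fun U => by
    rw [epi_iff_surjective]
    exact Quot.mk_surjective
  exact NatTrans.epi_of_epi_app _

section

variable {p₁ p₂} (e : EquivalenceRelation p₁ p₂)

include e

theorem isPullback_quotMk : IsPullback p₁ p₂ (quotMk p₁ p₂) (quotMk p₁ p₂) := by
  refine IsPullback.of_forall_isPullback_app (fun U => ?_)
  rw [Types.isPullback_iff]
  refine ⟨?_, ?_, ?_⟩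
  · exact congr_app (quotMk_condition p₁ p₂) U
  · rintro r r' ⟨h1, h2⟩
    exact rel_inj e U r r' h1 h2
  · intro a b hab
    exact (rel_equivalence e U).eqvGen_iff.1 (Quot.eq.1 hab)

theorem isPushout_quotMk : IsPushout p₁ p₂ (quotMk p₁ p₂) (quotMk p₁ p₂) := by
  have hinl : ∀ s : PushoutCocone p₁ p₂, s.inl = s.inr := by
    intro s
    calc s.inl = e.r ≫ p₁ ≫ s.inl := by rw [← Category.assoc, e.reflexivity₁, Category.id_comp]
      _ = e.r ≫ p₂ ≫ s.inr := by rw [s.condition]
      _ = s.inr := by rw [← Category.assoc, e.reflexivity₂, Category.id_comp]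
  have hcoeq : ∀ s : PushoutCocone p₁ p₂, p₁ ≫ s.inl = p₂ ≫ s.inl := by
    intro s
    refine s.condition.trans ?_
    rw [← hinl s]
  exact ⟨⟨quotMk_condition p₁ p₂⟩, ⟨PushoutCocone.IsColimit.mk _
    (fun s => quotDesc p₁ p₂ s.inl (hcoeq s))
    (fun s => quotMk_desc p₁ p₂ s.inl (hcoeq s))
    (fun s => (quotMk_desc p₁ p₂ s.inl (hcoeq s)).trans (hinl s))
    (fun s m h1 _ => by
      rw [← cancel_epi (quotMk p₁ p₂), h1]
      exact (quotMk_desc p₁ p₂ s.inl (hcoeq s)).symm)⟩⟩

end

theorem universally_effectiveEpi_of_surjective {A B : Cᵒᵖ ⥤ Type w} (π : A ⟶ B)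
    (hπ : ∀ U, Function.Surjective (π.app U)) :
    MorphismProperty.universally (fun _ _ f => EffectiveEpi f) π := by
  intro A' B' f₁ f₂ π' h
  have hsurj : ∀ U, Function.Surjective (π'.app U) := by
    intro U b'
    have hU := h.map ((evaluation Cᵒᵖ (Type w)).obj U)
    obtain ⟨a, ha⟩ := hπ U (f₂.app U b')
    obtain ⟨t, ht, -⟩ := Types.exists_of_isPullback hU b' a ha.symm
    exact ⟨t, ht⟩
  have : ∀ U, Epi (π'.app U) := fun U => (epi_iff_surjective _).2 (hsurj U)
  have hepi : Epi π' := NatTrans.epi_of_epi_app _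
  exact (isRegularEpi_iff_effectiveEpi _).1 (IsRegularEpiCategory.regularEpiOfEpi _)

/-- S5216. -/
theorem presheaf_isUniversallyEffective [IsEquivalenceRelation p₁ p₂] :
    IsUniversallyEffectiveEquivalenceRelation p₁ p₂ := by
  obtain ⟨e⟩ := IsEquivalenceRelation.nonempty_equivalenceRelation (p₁ := p₁) (p₂ := p₂)
  exact ⟨⟨{ toEquivalenceRelation := e
            B := quotPsh p₁ p₂
            π := quotMk p₁ p₂
            isKernelPair := isPullback_quotMk e
            isPushout := isPushout_quotMk e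
            universally_effectiveEpi_π :=
              universally_effectiveEpi_of_surjective _ (fun U => Quot.mk_surjective) }⟩⟩

end Groth.Agent.Lib.Helper14.QuotRel
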