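import Groth.Agent.Lib.Helper14.AlgSpQuot4
import Groth.Agent.Lib.Helper14.QuotRel1
import Groth.Prelude.Def_Grpd

/-!
# The kernel pair of `h_U ⟶ U/R` for a pre-relation which is an equivalence relation on points without
being a monomorphism (e.g. a groupoid) (helper14)
-/

set_option autoImplicit false

universe u

open CategoryTheory CategoryTheory.Limits AlgebraicGeometry Opposite

namespace Groth.Agent.Lib.Helper14.AlgSpQuot

open Groth.Agent.Lib.Helper14.RepSh Groth.Agent.Lib.Helper14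

variable {S : Scheme.{u}}

/-- the representable presheaf, lifted -/
abbrev hPre (V : Over S) : (Over S)ᵒᵖ ⥤ Type (u + 1) := yoneda.obj V ⋙ uliftFunctor.{u + 1, u}

abbrev hPreMap {V W : Over S} (g : V ⟶ W) : hPre V ⟶ hPre W :=
  Functor.whiskerRight (yoneda.map g) uliftFunctor.{u + 1, u}

theorem relSieve_mem_of_equivalence {R U : Over S} (s t : R ⟶ U)
    (hE : ∀ T : Over S, Equivalence (fun x₁ x₂ : T ⟶ U => ∃ ρ : T ⟶ R, ρ ≫ t = x₁ ∧ ρ ≫ s = x₂))
    {T : Over S} (x₁ x₂ : T ⟶ U)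
    (h : (AlgSp.yon S).map x₁ ≫ quotMap s t = (AlgSp.yon S).map x₂ ≫ quotMap s t) :
    relSieve s t x₁ x₂ ∈ AlgSp.J S T := by
  let P := QuotRel.quotPsh (hPreMap t) (hPreMap s)
  let q : hPre U ⟶ P := QuotRel.quotMk (hPreMap t) (hPreMap s)
  have hq : hPreMap t ≫ q = hPreMap s ≫ q := QuotRel.quotMk_condition _ _
  let π₀ : QuotSh.rep Scheme.fppfPrecoverage U ⟶ (presheafToSheaf (AlgSp.J S) (Type (u + 1))).obj P :=
    (presheafToSheaf (AlgSp.J S) (Type (u + 1))).map q
  have hπ₀ : QuotSh.repMap Scheme.fppfPrecoverage s ≫ π₀ =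
      QuotSh.repMap Scheme.fppfPrecoverage t ≫ π₀ := by
    change (presheafToSheaf (AlgSp.J S) (Type (u + 1))).map (hPreMap s) ≫
        (presheafToSheaf (AlgSp.J S) (Type (u + 1))).map q =
      (presheafToSheaf (AlgSp.J S) (Type (u + 1))).map (hPreMap t) ≫
        (presheafToSheaf (AlgSp.J S) (Type (u + 1))).map q
    rw [← Functor.map_comp, ← Functor.map_comp, hq]
  let δ : QuotSh.quot Scheme.fppfPrecoverage s t ⟶ _ := coequalizer.desc π₀ hπ₀
  have hδ : QuotSh.quotπ Scheme.fppfPrecoverage s t ≫ δ = π₀ := coequalizer.π_desc _ _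
  -- the composite `h_U ⟶ Q₀` on the level of presheaves
  have hκ : ((QuotSh.repIsoUliftYoneda Scheme.fppfPrecoverage U).inv ≫ π₀).hom =
      q ≫ toSheafify (AlgSp.J S) P := by
    rw [ObjectProperty.FullSubcategory.comp_hom]
    simp only [QuotSh.repIsoUliftYoneda, Iso.symm_inv]
    rw [sheafificationIso_hom_hom, isoSheafify_hom]
    exact (toSheafify_naturality _ _).symm
  have h' : (AlgSp.yon S).map x₁ ≫ (QuotSh.repIsoUliftYoneda Scheme.fppfPrecoverage U).inv ≫ π₀ =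
      (AlgSp.yon S).map x₂ ≫ (QuotSh.repIsoUliftYoneda Scheme.fppfPrecoverage U).inv ≫ π₀ := by
    have := congrArg (fun k => k ≫ δ) h
    simp only [quotMap, Category.assoc, hδ] at this
    exact this
  have h'' := congrArg (AlgSp.J S).uliftYonedaEquiv h'
  rw [GrothendieckTopology.uliftYonedaEquiv_comp, GrothendieckTopology.uliftYonedaEquiv_comp,
    GrothendieckTopology.uliftYonedaEquiv_uliftYoneda_map,
    GrothendieckTopology.uliftYonedaEquiv_uliftYoneda_map, hκ] at h''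
  have hli : Presheaf.IsLocallyInjective (AlgSp.J S) (toSheafify (AlgSp.J S) P) :=
    Presheaf.isLocallyInjective_toSheafify' _ _
  have h3 := hli.equalizerSieve_mem (X := op T) (q.app (op T) ⟨x₁⟩) (q.app (op T) ⟨x₂⟩) h''
  refine (AlgSp.J S).superset_covering ?_ h3
  intro T' c hc
  have hc' : Quot.mk (QuotRel.Rel (hPreMap t) (hPreMap s) (op T')) (ULift.up (c ≫ x₁)) =
      Quot.mk (QuotRel.Rel (hPreMap t) (hPreMap s) (op T')) (ULift.up (c ≫ x₂)) := hc
  have hEq : Equivalence (QuotRel.Rel (hPreMap t) (hPreMap s) (op T')) := by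
    have hE' := hE T'
    refine ⟨fun x => ?_, fun {x y} hxy => ?_, fun {x y z} hxy hyz => ?_⟩
    · obtain ⟨ρ, h1, h2⟩ := hE'.refl x.down
      exact ⟨⟨ρ⟩, ULift.ext _ _ h1, ULift.ext _ _ h2⟩
    · obtain ⟨ρ, h1, h2⟩ := hxy
      obtain ⟨ρ', h1', h2'⟩ := hE'.symm (x := x.down) (y := y.down)
        ⟨ρ.down, congrArg ULift.down h1, congrArg ULift.down h2⟩
      exact ⟨⟨ρ'⟩, ULift.ext _ _ h1', ULift.ext _ _ h2'⟩
    · obtain ⟨ρ, h1, h2⟩ := hxy
      obtain ⟨σ, h3, h4⟩ := hyz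
      obtain ⟨ρ', h1', h2'⟩ := hE'.trans (x := x.down) (y := y.down) (z := z.down)
        ⟨ρ.down, congrArg ULift.down h1, congrArg ULift.down h2⟩
        ⟨σ.down, congrArg ULift.down h3, congrArg ULift.down h4⟩
      exact ⟨⟨ρ'⟩, ULift.ext _ _ h1', ULift.ext _ _ h2'⟩
  obtain ⟨ρ, h1, h2⟩ := (hEq.eqvGen_iff).1 (Quot.eqvGen_exact hc')
  exact ⟨ρ.down, congrArg ULift.down h1, congrArg ULift.down h2⟩

section Groupoid

variable (G : _root_.Grpd.GroupoidScheme S)

/-- source and target of a groupoid scheme as morphisms over `S` -/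
abbrev sO : Over.mk G.pR ⟶ Over.mk G.pU := Over.homMk G.s G.s_over

abbrev tO : Over.mk G.pR ⟶ Over.mk G.pU := Over.homMk G.t G.t_over

theorem groupoid_equivalence (T : Over S) :
    Equivalence (fun x₁ x₂ : T ⟶ Over.mk G.pU =>
      ∃ ρ : T ⟶ Over.mk G.pR, ρ ≫ tO G = x₁ ∧ ρ ≫ sO G = x₂) := by
  have he : G.e ≫ G.pR = G.pU := by rw [← G.s_over, ← Category.assoc, G.e_s, Category.id_comp]
  have hi : G.i ≫ G.pR = G.pR := by
    rw [← G.s_over, ← Category.assoc, G.i_s, G.t_over, G.s_over]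
  refine ⟨fun x => ?_, fun {x y} hxy => ?_, fun {x y z} hxy hyz => ?_⟩
  · refine ⟨x ≫ (Over.homMk G.e he : Over.mk G.pU ⟶ Over.mk G.pR), ?_, ?_⟩
    · ext
      simp [G.e_t]
    · ext
      simp [G.e_s]
  · obtain ⟨ρ, rfl, rfl⟩ := hxy
    refine ⟨ρ ≫ (Over.homMk G.i hi : Over.mk G.pR ⟶ Over.mk G.pR), ?_, ?_⟩
    · ext
      simp [G.i_t]
    · ext
      simp [G.i_s]
  · obtain ⟨ρ₁, rfl, rfl⟩ := hxy
    obtain ⟨ρ₂, h1, rfl⟩ := hyz
    have hc : ρ₁.left ≫ G.s = ρ₂.left ≫ G.t := by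
      have := congrArg (fun k => k.left) h1
      simpa using this.symm
    refine ⟨Over.homMk (pullback.lift ρ₁.left ρ₂.left hc ≫ G.c) ?_, ?_, ?_⟩
    · change (pullback.lift ρ₁.left ρ₂.left hc ≫ G.c) ≫ G.pR = T.hom
      have e1 : (pullback.lift ρ₁.left ρ₂.left hc ≫ G.c) ≫ G.s ≫ G.pU = ρ₂.left ≫ G.s ≫ G.pU := by
        rw [← Category.assoc, G.comp_s, Category.assoc]
      rw [G.s_over] at e1
      rw [e1]
      exact Over.w ρ₂
    · ext
      simpa using G.comp_t ρ₁.left ρ₂.left hc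
    · ext
      simpa using G.comp_s ρ₁.left ρ₂.left hc

theorem openQuot_of_groupoid
    (U' : Scheme.{u}) (g : U' ⟶ G.U) (W : G.U.Opens)
    (hW : (W : Set ↥G.U) = Set.range ⇑(pullback.snd g G.t ≫ G.s))
    (hlift : pullback g G.t ⟶ ↑W) (hh : hlift ≫ W.ι = pullback.snd g G.t ≫ G.s)
    (hsurj : Sheaf.IsLocallySurjective ((AlgSp.yon S).map
      (Over.homMk hlift ((Category.assoc _ _ _).symm.trans (congrArg (· ≫ G.pU) hh)) :
        Over.mk ((pullback.snd g G.t ≫ G.s) ≫ G.pU) ⟶ Over.mk (W.ι ≫ G.pU))))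
    (R' : Over S) (s' t' : R' ⟶ Over.mk (g ≫ G.pU)) (r : R' ⟶ Over.mk G.pR)
    (hsq : IsPullback (prod.lift t' s') r
      (prod.map (Over.homMk g rfl : Over.mk (g ≫ G.pU) ⟶ Over.mk G.pU)
        (Over.homMk g rfl : Over.mk (g ≫ G.pU) ⟶ Over.mk G.pU))
      (prod.lift (tO G) (sO G)))
    (ψ : QuotSh.quot Scheme.fppfPrecoverage s' t' ⟶
      QuotSh.quot Scheme.fppfPrecoverage (sO G) (tO G))
    (hψ : QuotSh.quotπ Scheme.fppfPrecoverage s' t' ≫ ψ =
      QuotSh.repMap Scheme.fppfPrecoverage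
        (Over.homMk g rfl : Over.mk (g ≫ G.pU) ⟶ Over.mk G.pU) ≫
        QuotSh.quotπ Scheme.fppfPrecoverage _ _) :
    OpenQuot (sO G) (tO G) (Over.homMk g rfl : Over.mk (g ≫ G.pU) ⟶ Over.mk G.pU)
      (quotMap (sO G) (tO G)) (quotMap s' t') ψ W where
  comm := quotMap_comm (sO G) (tO G) s' t' _ ψ hψ
  rel := by
    intro T ρ
    rw [Functor.map_comp, Functor.map_comp, Category.assoc, Category.assoc, quotMap_condition]
  ker := by
    intro T x₁ x₂ h
    exact relSieve_mem_of_equivalence (sO G) (tO G) (groupoid_equivalence G) x₁ x₂ h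
  ker' := by
    intro T x₁' x₂' ρ h1 h2
    obtain ⟨ρ', e1, e2⟩ := exists_lift_restriction hsq x₁' x₂' ρ h1 h2
    rw [← e1, ← e2, Functor.map_comp, Functor.map_comp, Category.assoc, Category.assoc,
      quotMap_condition]
  memW := by
    intro T ρ u' h τ
    have hc : u'.left ≫ g = ρ.left ≫ G.t := by
      have := congrArg (fun k => k.left) h
      simpa using this.symm
    rw [← SetLike.mem_coe, hW]
    refine ⟨(pullback.lift u'.left ρ.left hc) τ, ?_⟩
    rw [← Scheme.Hom.comp_apply, pullback.lift_snd_assoc]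
    rfl
  surjW := by
    intro T a ha
    obtain ⟨a', ha'⟩ := OpenQuot.exists_lift_opens W a ha
    have hcov := (isLocallySurjective_iff _).1 hsurj T ((AlgSp.yon S).map a')
    refine (AlgSp.J S).superset_covering ?_ hcov
    rintro T' c ⟨x, hx⟩
    obtain ⟨z, rfl⟩ := (AlgSp.yon S).map_surjective x
    have hz : z ≫ (Over.homMk hlift ((Category.assoc _ _ _).symm.trans (congrArg (· ≫ G.pU) hh)) :
        Over.mk ((pullback.snd g G.t ≫ G.s) ≫ G.pU) ⟶ Over.mk (W.ι ≫ G.pU)) = c ≫ a' := by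
      apply (AlgSp.yon S).map_injective
      rw [Functor.map_comp, hx, Functor.map_comp]
    have hz' : z.left ≫ hlift = c.left ≫ a'.left := by
      have := congrArg (fun k => k.left) hz
      simpa using this
    have ha'' : a'.left ≫ W.ι = a.left := by
      have := congrArg (fun k => k.left) ha'
      simpa using this
    have hp2 : pullback.snd g G.t ≫ G.pR = (pullback.snd g G.t ≫ G.s) ≫ G.pU := by
      rw [← G.s_over, Category.assoc]
    have hp1 : pullback.fst g G.t ≫ g ≫ G.pU = (pullback.snd g G.t ≫ G.s) ≫ G.pU := by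
      rw [← Category.assoc, pullback.condition, Category.assoc, G.t_over, hp2]
    refine ⟨z ≫ (Over.homMk (pullback.snd g G.t) hp2 :
        Over.mk ((pullback.snd g G.t ≫ G.s) ≫ G.pU) ⟶ Over.mk G.pR),
      z ≫ (Over.homMk (pullback.fst g G.t) hp1 :
        Over.mk ((pullback.snd g G.t ≫ G.s) ≫ G.pU) ⟶ Over.mk (g ≫ G.pU)), ?_, ?_⟩
    · ext
      simp [pullback.condition]
    · ext
      simp only [Over.comp_left, Over.homMk_left, Category.assoc]
      have e3 : z.left ≫ hlift ≫ W.ι = c.left ≫ a.left := by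
        rw [← Category.assoc, hz', Category.assoc, ha'']
      rw [hh] at e3
      exact e3

end Groupoid

end Groth.Agent.Lib.Helper14.AlgSpQuot
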