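import Groth.Prelude.Def_BigSite
import Mathlib.CategoryTheory.Sites.LocallyBijective
import Mathlib.CategoryTheory.Sites.Localization
import Mathlib.CategoryTheory.Sites.Continuous

/-!
# Almost cocontinuous functors (helper14)
-/

set_option autoImplicit false

universe u

open CategoryTheory CategoryTheory.Limits Opposite

namespace Groth.Agent.Lib.Helper14.AlmostCocont

section General

variable {C : Type u} [SmallCategory C] (J : GrothendieckTopology C)

/-- A locally bijective morphism from a presheaf to a sheaf exhibits the target as the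
sheafification. -/
theorem isIso_homEquiv_symm_of_locallyBijective {P : Cᵒᵖ ⥤ Type u} (Q : Sheaf J (Type u))
    (φ : P ⟶ Q.obj) [Presheaf.IsLocallyInjective J φ] [Presheaf.IsLocallySurjective J φ] :
    IsIso (((sheafificationAdjunction J (Type u)).homEquiv P Q).symm φ) := by
  have hW : J.W φ := J.W_of_isLocallyBijective φ
  have h1 : IsIso ((presheafToSheaf J (Type u)).map φ) := (J.W_iff φ).1 hW
  rw [Adjunction.homEquiv_counit]
  infer_instance

end General

variable {C D : Type u} [SmallCategory C] [SmallCategory D]
  (J : GrothendieckTopology C) (K : GrothendieckTopology D) (u : C ⥤ D)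
  (hu : BigSite.IsAlmostCocontinuous u J K) (G : Dᵒᵖ ⥤ Type u)
  (hG : ∀ V : D, (⊥ : Sieve V) ∈ K V → Nonempty (Unique (G.obj (op V))))

include hu hG in
theorem isLocallyInjective_whiskerLeft :
    Presheaf.IsLocallyInjective J (Functor.whiskerLeft u.op (toSheafify K G)) where
  equalizerSieve_mem {X} x y h := by
    have hR := Presheaf.equalizerSieve_mem K (toSheafify K G) (X := op (u.obj X.unop)) x y h
    obtain ⟨R', hR', hR''⟩ := hu X.unop _ hR
    refine J.superset_covering ?_ hR'
    intro V g hg
    rcases hR'' g hg with h1 | h2
    · obtain ⟨hU⟩ := hG _ h1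
      exact Subsingleton.elim (h := hU.instSubsingleton) _ _
    · exact h2

include hu hG in
theorem isLocallySurjective_whiskerLeft :
    Presheaf.IsLocallySurjective J (Functor.whiskerLeft u.op (toSheafify K G)) where
  imageSieve_mem {U} s := by
    have hR := Presheaf.imageSieve_mem K (toSheafify K G) (U := op (u.obj U)) s
    obtain ⟨R', hR', hR''⟩ := hu U _ hR
    refine J.superset_covering ?_ hR'
    intro V g hg
    rcases hR'' g hg with h1 | h2
    · obtain ⟨hU⟩ := hG _ h1
      refine ⟨hU.default, ?_⟩
      have ht := Sheaf.isTerminalOfBotCover ((presheafToSheaf K (Type u)).obj G) _ h1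
      have hs : Subsingleton (((presheafToSheaf K (Type u)).obj G).obj.obj (op (u.obj V))) :=
        ⟨fun a b => congrFun (congrArg (fun m => (ConcreteCategory.hom m : _ → _))
          (ht.hom_ext (TypeCat.ofHom (fun _ : PUnit => a)) (TypeCat.ofHom (fun _ => b)))) PUnit.unit⟩
      exact Subsingleton.elim _ _
    · exact h2

end Groth.Agent.Lib.Helper14.AlmostCocont
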