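import Groth.Agent.Lib.Helper14.AlmostCocont1
import Mathlib.CategoryTheory.Sites.Limits
import Mathlib.CategoryTheory.IsConnected
import Mathlib.CategoryTheory.Limits.Types.Colimits
import Mathlib.CategoryTheory.Limits.Preserves.FunctorCategory

/-!
# Almost cocontinuous functors: direct image commutes with finite connected colimits (helper14)
-/

set_option autoImplicit false

universe u

open CategoryTheory CategoryTheory.Limits Opposite

namespace Groth.Agent.Lib.Helper14.AlmostCocont

variable {C D : Type u} [SmallCategory C] [SmallCategory D]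
  (J : GrothendieckTopology C) (K : GrothendieckTopology D) (u : C ⥤ D) [u.IsContinuous J K]
  (hu : BigSite.IsAlmostCocontinuous u J K)

section Conn

variable {K} {I : Type} [SmallCategory I] [IsConnected I] (F : I ⥤ Sheaf K (Type u))

/-- A connected colimit of presheaves underlying sheaves is a singleton on sheaf-theoretically
empty objects. -/
theorem nonempty_unique_colimit_of_bot_mem (cL : Cocone (F ⋙ sheafToPresheaf K (Type u)))
    (hL : IsColimit cL) (V : D) (hV : (⊥ : Sieve V) ∈ K V) :
    Nonempty (Unique (cL.pt.obj (op V))) := by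
  have hs : ∀ i, Nonempty (Unique ((F.obj i).obj.obj (op V))) := fun i =>
    ⟨(Types.isTerminalEquivUnique _).1 (Sheaf.isTerminalOfBotCover (F.obj i) V hV)⟩
  let ev := (evaluation Dᵒᵖ (Type u)).obj (op V)
  have hev : IsColimit (ev.mapCocone cL) := isColimitOfPreserves ev hL
  let d : ∀ i, (F.obj i).obj.obj (op V) := fun i => (hs i).some.default
  let p : I → cL.pt.obj (op V) := fun i => (cL.ι.app i).app (op V) (d i)
  have hp : ∀ (i j : I) (_ : i ⟶ j), p i = p j := by
    intro i j φ
    have h1 : (F.map φ).hom.app (op V) (d i) = d j := (hs j).some.instSubsingleton.elim _ _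
    have h2 := congrFun (congrArg (fun m => (ConcreteCategory.hom (m.app (op V)) : _ → _))
      (cL.w φ)) (d i)
    change (cL.ι.app j).app (op V) ((F.map φ).hom.app (op V) (d i)) = p i at h2
    rw [← h2, h1]
  let i₀ : I := Classical.arbitrary I
  refine ⟨{ default := p i₀, uniq := ?_ }⟩
  intro a
  obtain ⟨i, x, hx⟩ := Types.jointly_surjective_of_isColimit hev a
  have hx' : (cL.ι.app i).app (op V) x = a := hx
  have : x = d i := (hs i).some.instSubsingleton.elim _ _
  rw [← hx', this]
  exact constant_of_preserves_morphisms p hp i i₀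

end Conn

include hu in
theorem isIso_comparison (G : Dᵒᵖ ⥤ Type u)
    (hG : ∀ V : D, (⊥ : Sieve V) ∈ K V → Nonempty (Unique (G.obj (op V)))) :
    IsIso (((sheafificationAdjunction J (Type u)).homEquiv (u.op ⋙ G)
      ((u.sheafPushforwardContinuous (Type u) J K).obj ((presheafToSheaf K (Type u)).obj G))).symm
        (Functor.whiskerLeft u.op (toSheafify K G))) := by
  have h1 := isLocallyInjective_whiskerLeft J K u hu G hG
  have h2 := isLocallySurjective_whiskerLeft J K u hu G hG
  exact @isIso_homEquiv_symm_of_locallyBijective C _ J (u.op ⋙ G)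
    ((u.sheafPushforwardContinuous (Type u) J K).obj ((presheafToSheaf K (Type u)).obj G))
    (Functor.whiskerLeft u.op (toSheafify K G)) h1 h2

include hu in
theorem preservesColimit_of_isConnected {I : Type} [SmallCategory I] [IsConnected I]
    (F : I ⥤ Sheaf K (Type u)) :
    PreservesColimit F (u.sheafPushforwardContinuous (Type u) J K) := by
  let us := u.sheafPushforwardContinuous (Type u) J K
  let cL := colimit.cocone (F ⋙ sheafToPresheaf K (Type u))
  have hL : IsColimit cL := colimit.isColimit _
  let c₁ := Sheaf.sheafifyCocone cL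
  have hc₁ : IsColimit c₁ := Sheaf.isColimitSheafifyCocone cL hL
  refine preservesColimit_of_preserves_colimit_cocone hc₁ ?_
  let W := (Functor.whiskeringLeft Cᵒᵖ Dᵒᵖ (Type u)).obj u.op
  let cL' : Cocone ((F ⋙ us) ⋙ sheafToPresheaf J (Type u)) := W.mapCocone cL
  have hL' : IsColimit cL' := isColimitOfPreserves W hL
  let c₂ := Sheaf.sheafifyCocone cL'
  have hc₂ : IsColimit c₂ := Sheaf.isColimitSheafifyCocone cL' hL'
  let G := cL.pt
  have hG := nonempty_unique_colimit_of_bot_mem F cL hL
  let θ : c₂.pt ⟶ (us.mapCocone c₁).pt :=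
    ((sheafificationAdjunction J (Type u)).homEquiv (u.op ⋙ G)
      (us.obj ((presheafToSheaf K (Type u)).obj G))).symm
        (Functor.whiskerLeft u.op (toSheafify K G))
  have hθ : IsIso θ := isIso_comparison J K u hu G hG
  have h3 : toSheafify J (u.op ⋙ G) ≫ θ.hom = Functor.whiskerLeft u.op (toSheafify K G) := by
    have := (sheafificationAdjunction J (Type u)).homEquiv_unit (f := θ)
    rw [sheafificationAdjunction_unit_app] at this
    rw [← Equiv.apply_symm_apply ((sheafificationAdjunction J (Type u)).homEquiv (u.op ⋙ G)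
      (us.obj ((presheafToSheaf K (Type u)).obj G))) (Functor.whiskerLeft u.op (toSheafify K G))]
    exact this.symm
  have hdesc : hc₂.desc (us.mapCocone c₁) = θ := by
    symm
    apply hc₂.uniq
    intro i
    apply ObjectProperty.hom_ext
    have e2 : (c₂.ι.app i).hom =
        Functor.whiskerLeft u.op (cL.ι.app i) ≫ toSheafify J (u.op ⋙ G) :=
      Sheaf.sheafifyCocone_ι_app_val cL' i
    have e1 : (c₁.ι.app i).hom = cL.ι.app i ≫ toSheafify K G :=
      Sheaf.sheafifyCocone_ι_app_val cL i
    change (c₂.ι.app i).hom ≫ θ.hom = Functor.whiskerLeft u.op (c₁.ι.app i).hom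
    have step1 : (c₂.ι.app i).hom ≫ θ.hom =
        (Functor.whiskerLeft u.op (cL.ι.app i) ≫ toSheafify J (u.op ⋙ G)) ≫ θ.hom :=
      congrArg (fun m => m ≫ θ.hom) e2
    have step2 : Functor.whiskerLeft u.op (c₁.ι.app i).hom =
        Functor.whiskerLeft u.op (cL.ι.app i ≫ toSheafify K G) :=
      congrArg (fun m => Functor.whiskerLeft u.op m) e1
    have key : (Functor.whiskerLeft u.op (cL.ι.app i) ≫ toSheafify J (u.op ⋙ G)) ≫ θ.hom =
        Functor.whiskerLeft u.op (cL.ι.app i ≫ toSheafify K G) := by
      rw [Category.assoc, h3]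
      rfl
    exact step1.trans (key.trans step2.symm)
  have : IsIso (hc₂.desc (us.mapCocone c₁)) := hdesc ▸ hθ
  exact IsColimit.ofPointIso hc₂

include hu in
theorem preservesColimitsOfShape_of_isConnected (I : Type) [SmallCategory I] [IsConnected I] :
    PreservesColimitsOfShape I (u.sheafPushforwardContinuous (Type u) J K) :=
  ⟨fun {F} => preservesColimit_of_isConnected J K u hu F⟩

end Groth.Agent.Lib.Helper14.AlmostCocont
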