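import Mathlib
import Groth.Prelude.Def_AlgGrp
import Groth.Agent.Lib.Helper25.PullTensorIso
import Groth.Agent.Lib.Helper12.TensorInv
import Groth.Agent.Lib.Helper12.InvDual2
import Groth.Agent.Lib.Lead.ModTensor

/-!
# helper14: slices of `m^*L` and `p₁^*L ⊗ p₂^*L` on `A × A` (towards the theorem of the square)
-/

set_option autoImplicit false
universe u
open CategoryTheory CategoryTheory.Limits MonoidalCategory CartesianMonoidalCategory MonObj GrpObj
  AlgebraicGeometry

namespace Groth.Agent.Lib.Helper14.SquareThm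

open Groth.Agent.Lib.Helper25.PullTensorIso Groth.Agent.Lib.helper12.TensorInv
  Groth.Agent.Lib.helper11.InvMod Groth.Agent.Lib.Lead.ModTensor

variable {K : Type u} [Field K] {A : Over (Spec (CommRingCat.of K))}

section Basic

variable {X Y Z : Scheme.{u}}

/-- `f^* g^* L ≅ h^* L` when `f ≫ g = h` -/
noncomputable def pullCompIso (f : X ⟶ Y) (g : Y ⟶ Z) (h : X ⟶ Z) (e : f ≫ g = h) (L : Z.Modules) :
    (Scheme.Modules.pullback f).obj ((Scheme.Modules.pullback g).obj L) ≅
      (Scheme.Modules.pullback h).obj L :=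
  (Scheme.Modules.pullbackComp f g).app L ≪≫ (Scheme.Modules.pullbackCongr e).app L

/-- `f^* g^* L ≅ L` when `f ≫ g = 𝟙` -/
noncomputable def pullCompIdIso (f : X ⟶ Y) (g : Y ⟶ X) (e : f ≫ g = 𝟙 X) (L : X.Modules) :
    (Scheme.Modules.pullback f).obj ((Scheme.Modules.pullback g).obj L) ≅ L :=
  pullCompIso f g (𝟙 X) e L ≪≫ (Scheme.Modules.pullbackId X).app L

/-- an invertible module on the spectrum of a field is trivial -/
theorem nonempty_iso_structureModule_of_field (N : (Spec (CommRingCat.of K)).Modules)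
    (hN : PicF.IsInvertible N) : Nonempty (N ≅ Coh.structureModule (Spec (CommRingCat.of K))) := by
  haveI : Nonempty (Spec (CommRingCat.of K)) := inferInstanceAs (Nonempty (PrimeSpectrum K))
  haveI : Subsingleton (Spec (CommRingCat.of K)) :=
    inferInstanceAs (Subsingleton (PrimeSpectrum K))
  obtain ⟨x⟩ := ‹Nonempty (Spec (CommRingCat.of K))›
  obtain ⟨U, hxU, hU⟩ := hN x
  have hUtop : U = ⊤ := by
    ext y
    simp only [TopologicalSpace.Opens.coe_top, Set.mem_univ, iff_true]
    rw [Subsingleton.elim y x]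
    exact hxU
  rw [hUtop] at hU
  exact isTrivOn_top_iff.mp hU

/-- the pullback of an invertible module along a morphism that factors through `Spec K` is
trivial -/
theorem nonempty_pullback_const_iso (L : A.left.Modules) (hL : PicF.IsInvertible L)
    {X : Scheme.{u}} (p : X ⟶ Spec (CommRingCat.of K)) (a : Spec (CommRingCat.of K) ⟶ A.left)
    (c : X ⟶ A.left) (hc : p ≫ a = c) :
    Nonempty ((Scheme.Modules.pullback c).obj L ≅ Coh.structureModule X) := by
  obtain ⟨e⟩ := nonempty_iso_structureModule_of_field ((Scheme.Modules.pullback a).obj L)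
    (isInvertible_pullback a hL)
  exact ⟨(pullCompIso p a c hc L).symm ≪≫ (Scheme.Modules.pullback p).mapIso e ≪≫
    pullbackUnitIso p⟩

end Basic

section Group

variable [GrpObj A] (L : A.left.Modules)

/-- `m^* L` with `m = p₁ · p₂` -/
noncomputable abbrev Pm : (A ⊗ A).left.Modules :=
  (Scheme.Modules.pullback (fst A A * snd A A).left).obj L

/-- `p₁^* L ⊗ p₂^* L` -/
noncomputable abbrev Mm : (A ⊗ A).left.Modules :=
  CohB1.tensorMod ((Scheme.Modules.pullback (fst A A).left).obj L)
    ((Scheme.Modules.pullback (snd A A).left).obj L)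

variable {X : Over (Spec (CommRingCat.of K))} (u v : X ⟶ A)

noncomputable def slicePIso :
    (Scheme.Modules.pullback (lift u v).left).obj (Pm L) ≅
      (Scheme.Modules.pullback (u * v).left).obj L :=
  pullCompIso (lift u v).left (fst A A * snd A A).left (u * v).left
    (by rw [← Over.comp_left, MonObj.comp_mul, lift_fst, lift_snd]) L

noncomputable def sliceMIso :
    (Scheme.Modules.pullback (lift u v).left).obj (Mm L) ≅
      CohB1.tensorMod ((Scheme.Modules.pullback u.left).obj L)
        ((Scheme.Modules.pullback v.left).obj L) :=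
  pullTensorIso (lift u v).left _ _ ≪≫
    tensorIso
      (pullCompIso (lift u v).left (fst A A).left u.left
        (by rw [← Over.comp_left, lift_fst]) L)
      (pullCompIso (lift u v).left (snd A A).left v.left
        (by rw [← Over.comp_left, lift_snd]) L)

/-- `id^* L ≅ L` -/
noncomputable def pullIdIso : (Scheme.Modules.pullback (𝟙 A : A ⟶ A).left).obj L ≅ L :=
  (Scheme.Modules.pullbackCongr (show (𝟙 A : A ⟶ A).left = 𝟙 A.left from rfl)).app L ≪≫
    (Scheme.Modules.pullbackId A.left).app L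

omit [GrpObj A] in
theorem nonempty_pullConst (hL : PicF.IsInvertible L)
    (a : 𝟙_ (Over (Spec (CommRingCat.of K))) ⟶ A) :
    Nonempty ((Scheme.Modules.pullback (toUnit X ≫ a).left).obj L ≅
      Coh.structureModule X.left) :=
  nonempty_pullback_const_iso L hL X.hom a.left (toUnit X ≫ a).left (by
    rw [Over.comp_left]; rfl)

/-- the slice of `M` along `x ↦ (x, a)` is `L` -/
theorem nonempty_sliceM_right (hL : PicF.IsInvertible L)
    (a : 𝟙_ (Over (Spec (CommRingCat.of K))) ⟶ A) :
    Nonempty ((Scheme.Modules.pullback (lift (𝟙 A) (toUnit A ≫ a)).left).obj (Mm L) ≅ L) := by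
  obtain ⟨e⟩ := nonempty_pullConst (X := A) L hL a
  exact ⟨sliceMIso L (𝟙 A) (toUnit A ≫ a) ≪≫ tensorIso (pullIdIso L) e ≪≫ rightUnitor L⟩

/-- the slice of `M` along `x ↦ (a, x)` is `L` -/
theorem nonempty_sliceM_left (hL : PicF.IsInvertible L)
    (a : 𝟙_ (Over (Spec (CommRingCat.of K))) ⟶ A) :
    Nonempty ((Scheme.Modules.pullback (lift (toUnit A ≫ a) (𝟙 A)).left).obj (Mm L) ≅ L) := by
  obtain ⟨e⟩ := nonempty_pullConst (X := A) L hL a
  exact ⟨sliceMIso L (toUnit A ≫ a) (𝟙 A) ≪≫ tensorIso e (pullIdIso L) ≪≫ leftUnitor L⟩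

/-- the slice of `P` along `x ↦ (e, x)` is `L` -/
noncomputable def slicePUnitIso :
    (Scheme.Modules.pullback (lift (toUnit A ≫ η[A]) (𝟙 A)).left).obj (Pm L) ≅ L :=
  slicePIso L (toUnit A ≫ η[A]) (𝟙 A) ≪≫
    (Scheme.Modules.pullbackCongr (show ((toUnit A ≫ η[A]) * 𝟙 A).left = (𝟙 A : A ⟶ A).left by
      rw [← Hom.one_def, _root_.one_mul])).app L ≪≫ pullIdIso L

end Group

end Groth.Agent.Lib.Helper14.SquareThm
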