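import Mathlib
import Groth.Prelude.Def_AlgGrp
import Groth.Prelude.Def_AgPol
import Groth.Agent.Lib.Helper25.PullTensorIso
import Groth.Agent.Lib.Helper12.TensorInv
import Groth.Agent.Lib.Helper12.InvDual2
import Groth.Agent.Lib.Helper11.InvMod
import Groth.Agent.Lib.Lead.ModTensor
import Groth.Agent.Lib.Helper14.SquareThm1

/-!
# helper14: the commutative monoid of isomorphism classes of `O_X`-modules under `CohB1.tensorMod`

`Cls X` is the set of isomorphism classes of modules on `X`; it is a commutative monoid under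
`CohB1.tensorMod`, and inverse image along `f : X ⟶ Y` is a monoid homomorphism
`pull f : Cls Y →* Cls X`.  Statements of the form "there is an isomorphism between two
tensor/pullback expressions" become identities in commutative monoids: use
`cls_eq_iff`, `cls_tensor`, `pull_cls`, `pull_pull`, and `isUnit_cls` for invertible modules.
-/

set_option autoImplicit false
universe u
open CategoryTheory CategoryTheory.Limits AlgebraicGeometry

namespace Groth.Agent.Lib.Helper14.PicCls

open Groth.Agent.Lib.Helper25.PullTensorIso Groth.Agent.Lib.helper12.TensorInv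
  Groth.Agent.Lib.helper11.InvMod Groth.Agent.Lib.Lead.ModTensor

/-- isomorphism classes of modules on `X` -/
def Cls (X : Scheme.{u}) : Type (u + 1) := Quotient (isIsomorphicSetoid X.Modules)

variable {X Y Z : Scheme.{u}}

/-- the class of a module -/
def cls (M : X.Modules) : Cls X := Quotient.mk _ M

theorem cls_eq_iff {M N : X.Modules} : cls M = cls N ↔ Nonempty (M ≅ N) := Quotient.eq

theorem cls_eq_of_iso {M N : X.Modules} (e : M ≅ N) : cls M = cls N := cls_eq_iff.mpr ⟨e⟩

theorem cls_surjective (c : Cls X) : ∃ M : X.Modules, cls M = c := Quotient.exists_rep c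

noncomputable instance : CommMonoid (Cls X) where
  mul := Quotient.map₂ CohB1.tensorMod (fun _ _ h _ _ h' => by
    obtain ⟨e⟩ := h
    obtain ⟨e'⟩ := h'
    exact ⟨tensorIso e e'⟩)
  one := cls (Coh.structureModule X)
  mul_assoc := by
    rintro ⟨A⟩ ⟨B⟩ ⟨C⟩
    exact Quotient.sound ⟨assoc A B C⟩
  one_mul := by
    rintro ⟨A⟩
    exact Quotient.sound ⟨leftUnitor A⟩
  mul_one := by
    rintro ⟨A⟩
    exact Quotient.sound ⟨rightUnitor A⟩
  mul_comm := by
    rintro ⟨A⟩ ⟨B⟩
    exact Quotient.sound ⟨braid A B⟩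

theorem cls_tensor (M N : X.Modules) : cls (CohB1.tensorMod M N) = cls M * cls N := rfl

theorem cls_unit : cls (Coh.structureModule X) = 1 := rfl

/-- inverse image on classes -/
noncomputable def pull (f : X ⟶ Y) : Cls Y →* Cls X where
  toFun := Quotient.map (Scheme.Modules.pullback f).obj (fun _ _ h => by
    obtain ⟨e⟩ := h
    exact ⟨(Scheme.Modules.pullback f).mapIso e⟩)
  map_one' := Quotient.sound ⟨pullbackUnitIso f⟩
  map_mul' := by
    rintro ⟨A⟩ ⟨B⟩
    exact Quotient.sound ⟨pullTensorIso f A B⟩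

theorem pull_cls (f : X ⟶ Y) (M : Y.Modules) :
    pull f (cls M) = cls ((Scheme.Modules.pullback f).obj M) := rfl

theorem pull_pull (f : X ⟶ Y) (g : Y ⟶ Z) (c : Cls Z) : pull f (pull g c) = pull (f ≫ g) c := by
  obtain ⟨M, rfl⟩ := cls_surjective c
  exact cls_eq_of_iso ((Scheme.Modules.pullbackComp f g).app M)

theorem pull_id (c : Cls X) : pull (𝟙 X) c = c := by
  obtain ⟨M, rfl⟩ := cls_surjective c
  exact cls_eq_of_iso ((Scheme.Modules.pullbackId X).app M)

theorem pull_pull_of_eq (f : X ⟶ Y) (g : Y ⟶ Z) (h : X ⟶ Z) (e : f ≫ g = h) (c : Cls Z) :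
    pull f (pull g c) = pull h c := by
  rw [pull_pull, e]

theorem pull_pull_eq_self (f : X ⟶ Y) (g : Y ⟶ X) (e : f ≫ g = 𝟙 X) (c : Cls X) :
    pull f (pull g c) = c := by
  rw [pull_pull, e, pull_id]

/-- the class of an invertible module is a unit -/
theorem isUnit_cls {L : X.Modules} (hL : PicF.IsInvertible L) : IsUnit (cls L) := by
  obtain ⟨L', -, ⟨i⟩, -⟩ := Groth.Agent.Lib.helper12.InvDual.exists_inverse hL
  exact IsUnit.of_mul_eq_one (cls L') (cls_eq_of_iso i)

/-- an invertible module has an invertible inverse -/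
theorem exists_inverse_cls {L : X.Modules} (hL : PicF.IsInvertible L) :
    ∃ L' : X.Modules, PicF.IsInvertible L' ∧ cls L * cls L' = 1 := by
  obtain ⟨L', hL', ⟨i⟩, -⟩ := Groth.Agent.Lib.helper12.InvDual.exists_inverse hL
  exact ⟨L', hL', cls_eq_of_iso i⟩

theorem isLambdaSheaf_iff {W : Scheme.{u}} (m p q : W ⟶ Y) (L : Y.Modules) (N : W.Modules) :
    AgPol.IsLambdaSheaf m p q L N ↔
      cls N * pull p (cls L) * pull q (cls L) = pull m (cls L) :=
  cls_eq_iff.symm

section Over

open MonoidalCategory CartesianMonoidalCategory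

variable {S : Scheme.{u}} {A B C : Over S}

theorem pull_left_comp (f : A ⟶ B) (g : B ⟶ C) (c : Cls C.left) :
    pull f.left (pull g.left c) = pull (f ≫ g).left c :=
  pull_pull _ _ _

theorem pull_left_id (c : Cls A.left) : pull (𝟙 A : A ⟶ A).left c = c :=
  pull_id c

/-- the inverse image of an invertible module along a constant map (to a scheme over a field) is
trivial -/
theorem pull_const {K : Type u} [Field K] {A X : Over (Spec (CommRingCat.of K))}
    {L : A.left.Modules} (hL : PicF.IsInvertible L)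
    (a : 𝟙_ (Over (Spec (CommRingCat.of K))) ⟶ A) :
    pull (toUnit X ≫ a).left (cls L) = 1 :=
  cls_eq_iff.mpr (Groth.Agent.Lib.Helper14.SquareThm.nonempty_pullConst L hL a)

end Over

end Groth.Agent.Lib.Helper14.PicCls
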