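import Mathlib

/-!
# helper14: morphisms from an anti-affine scheme to an affine scheme are constant

`eq_const_of_isAffine`: if `Γ(X) = k` (i.e. `X.hom.appTop` is an isomorphism), `x₀` is a rational
point of `X` and `N` is a `k`-scheme with affine underlying scheme, then every `k`-morphism
`h : X ⟶ N` is the constant morphism with value `h(x₀)`.
-/

set_option autoImplicit false
universe u
open CategoryTheory CategoryTheory.Limits AlgebraicGeometry MonoidalCategory CartesianMonoidalCategory

namespace Groth.Agent.Lib.Helper14.AntiAffAffine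

theorem eq_const_of_isAffine {S : Scheme.{u}} (X N : Over S) [IsAffine N.left]
    [IsIso X.hom.appTop] (x₀ : 𝟙_ (Over S) ⟶ X) (h : X ⟶ N) :
    h = toUnit X ≫ x₀ ≫ h := by
  apply Over.OverMorphism.ext
  apply ext_of_isAffine
  have h1 : x₀.left ≫ X.hom = 𝟙 S := by
    have := Over.w x₀
    simpa using this
  have h2 : X.hom.appTop ≫ x₀.left.appTop = 𝟙 _ := by
    rw [← Scheme.Hom.comp_appTop, h1]
    rfl
  have h3 : x₀.left.appTop ≫ X.hom.appTop = 𝟙 _ := by
    have : x₀.left.appTop = inv X.hom.appTop := by
      rw [← Category.id_comp x₀.left.appTop, ← IsIso.inv_hom_id X.hom.appTop, Category.assoc, h2,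
        Category.comp_id]
    rw [this, IsIso.inv_hom_id]
  have h4 : (toUnit X ≫ x₀ ≫ h).left = X.hom ≫ x₀.left ≫ h.left := rfl
  rw [h4, Scheme.Hom.comp_appTop, Scheme.Hom.comp_appTop, Category.assoc, h3, Category.comp_id]

end Groth.Agent.Lib.Helper14.AntiAffAffine
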