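import Mathlib
import Groth.Agent.S1536

/-!
# helper14: `Γ(X) = k` iff `Γ(X_K) = K` for a qcqs scheme over a field
-/

set_option autoImplicit false
universe u
open CategoryTheory CategoryTheory.Limits AlgebraicGeometry TensorProduct

namespace Groth.Agent.Lib.Helper14.AntiAffBC

open Groth.Agent.S1536 (glob isPushout_glob)

theorem bij_of_bij (k K R : Type u) [Field k] [Field K] [Algebra k K] [CommRing R] [Algebra k R]
    (h : Function.Bijective (Algebra.TensorProduct.includeLeft : K →ₐ[k] K ⊗[k] R)) :
    Function.Bijective (algebraMap k R) := by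
  have h1 : Function.Bijective ((Algebra.linearMap k R).lTensor K) := by
    have : ((Algebra.linearMap k R).lTensor K) ∘ₗ (TensorProduct.rid k K).symm.toLinearMap =
        (Algebra.TensorProduct.includeLeft : K →ₐ[k] K ⊗[k] R).toLinearMap := by
      ext a
      simp
    have h2 : Function.Bijective (((Algebra.linearMap k R).lTensor K) ∘ₗ
        (TensorProduct.rid k K).symm.toLinearMap) := by
      rw [this]; exact h
    have h3 : ((Algebra.linearMap k R).lTensor K) =
        (((Algebra.linearMap k R).lTensor K) ∘ₗ (TensorProduct.rid k K).symm.toLinearMap) ∘ₗ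
          (TensorProduct.rid k K).toLinearMap := by
      ext; simp
    rw [h3]
    exact h2.comp (TensorProduct.rid k K).bijective
  exact (Module.FaithfullyFlat.lTensor_bijective_iff_bijective (R := k) (M := K)
    (Algebra.linearMap k R)).mp h1

variable (k : Type u) [Field k] (K : Type u) [Field K] [Algebra k K]
  (X : Scheme.{u}) (iX : X ⟶ Spec (CommRingCat.of k)) [QuasiCompact iX] [QuasiSeparated iX]

theorem isIso_glob_iff :
    IsIso (glob iX) ↔
      IsIso (glob (pullback.snd iX (Spec.map (CommRingCat.ofHom (algebraMap k K))))) := by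
  have hpo := isPushout_glob k K X iX
  constructor
  · intro h
    exact hpo.isIso_inr_of_isIso
  · intro h
    letI : Algebra k Γ(X, ⊤) := (glob iX).hom.toAlgebra
    letI : Algebra K Γ(pullback iX (Spec.map (CommRingCat.ofHom (algebraMap k K))), ⊤) :=
        (glob (pullback.snd iX (Spec.map (CommRingCat.ofHom (algebraMap k K))))).hom.toAlgebra
    letI : Algebra Γ(X, ⊤) Γ(pullback iX (Spec.map (CommRingCat.ofHom (algebraMap k K))), ⊤) :=
      (pullback.fst iX (Spec.map (CommRingCat.ofHom (algebraMap k K)))).appTop.hom.toAlgebra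
    letI : Algebra k Γ(pullback iX (Spec.map (CommRingCat.ofHom (algebraMap k K))), ⊤) :=
      ((algebraMap K Γ(pullback iX (Spec.map (CommRingCat.ofHom (algebraMap k K))), ⊤)).comp
        (algebraMap k K)).toAlgebra
    haveI : IsScalarTower k K Γ(pullback iX (Spec.map (CommRingCat.ofHom (algebraMap k K))), ⊤) :=
      IsScalarTower.of_algebraMap_eq (fun _ => rfl)
    haveI : IsScalarTower k Γ(X, ⊤)
        Γ(pullback iX (Spec.map (CommRingCat.ofHom (algebraMap k K))), ⊤) :=
      IsScalarTower.of_algebraMap_eq (fun x => by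
        have := congrArg (fun φ => φ.hom x) hpo.w
        exact this.symm)
    have hP : Algebra.IsPushout k Γ(X, ⊤) K
        Γ(pullback iX (Spec.map (CommRingCat.ofHom (algebraMap k K))), ⊤) :=
      CommRingCat.isPushout_iff_isPushout.mp hpo
    haveI := hP.symm
    set e := Algebra.IsPushout.equiv k K Γ(X, ⊤)
      Γ(pullback iX (Spec.map (CommRingCat.ofHom (algebraMap k K))), ⊤) with he
    have hK : Function.Bijective
        (algebraMap K Γ(pullback iX (Spec.map (CommRingCat.ofHom (algebraMap k K))), ⊤)) :=
      (ConcreteCategory.isIso_iff_bijective _).mp h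
    have hincl : Function.Bijective
        (Algebra.TensorProduct.includeLeft : K →ₐ[k] K ⊗[k] Γ(X, ⊤)) := by
      have : ∀ a : K, (Algebra.TensorProduct.includeLeft : K →ₐ[k] K ⊗[k] Γ(X, ⊤)) a =
          e.symm (algebraMap K _ a) := by
        intro a
        rw [AlgEquiv.commutes]
        rfl
      have h2 : ((Algebra.TensorProduct.includeLeft : K →ₐ[k] K ⊗[k] Γ(X, ⊤)) : K → _) =
          e.symm ∘ (algebraMap K _) := funext this
      rw [h2]
      exact e.symm.bijective.comp hK
    rw [ConcreteCategory.isIso_iff_bijective]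
    exact bij_of_bij k K Γ(X, ⊤) hincl

end Groth.Agent.Lib.Helper14.AntiAffBC
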