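import Groth.Agent.Lib.Helper14.AntiAffRigid
import Mathlib.AlgebraicGeometry.AlgClosed.Basic

/-!
# helper14: rigidity for a factor with only constant functions, connected second factor

`rigidity_connected`: over an algebraically closed field, `Γ(X) = k`, `Y` connected locally of finite
type, `Z` separated; if `f : X × Y ⟶ Z` is constant on `X × {y₀}` then `f = f(x₀, -) ∘ pr₂`.
-/

set_option autoImplicit false
universe u
open CategoryTheory CategoryTheory.Limits AlgebraicGeometry MonoidalCategory CartesianMonoidalCategory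

namespace Groth.Agent.Lib.Helper14.AntiAffConn

variable {k : Type u} [Field k] [IsAlgClosed k]

theorem rigidity_connected (X Y Z : Over (Spec (CommRingCat.of k)))
    [LocallyOfFiniteType X.hom] [CompactSpace X.left] [QuasiSeparatedSpace X.left]
    [IsIso X.hom.appTop]
    [LocallyOfFiniteType Y.hom] [ConnectedSpace Y.left] [IsSeparated Z.hom]
    (x₀ : 𝟙_ (Over (Spec (CommRingCat.of k))) ⟶ X) (y₀ : 𝟙_ (Over (Spec (CommRingCat.of k))) ⟶ Y)
    (f : X ⊗ Y ⟶ Z) (z₀ : 𝟙_ (Over (Spec (CommRingCat.of k))) ⟶ Z)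
    (hf : (X ◁ y₀) ≫ f = toUnit _ ≫ z₀) :
    f = snd X Y ≫ lift (toUnit Y ≫ x₀) (𝟙 Y) ≫ f := by
  classical
  haveI : IsLocallyNoetherian Y.left := LocallyOfFiniteType.isLocallyNoetherian Y.hom
  haveI : JacobsonSpace ↥Y.left := LocallyOfFiniteType.jacobsonSpace Y.hom
  set g : X ⊗ Y ⟶ Z := snd X Y ≫ lift (toUnit Y ≫ x₀) (𝟙 Y) ≫ f with hg
  have hP := Groth.Agent.Lib.Helper14.Kunneth.isPullback_left X Y
  let pt : Spec (CommRingCat.of k) := IsLocalRing.closedPoint k
  haveI hsub : Subsingleton (Spec (CommRingCat.of k)) := by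
    show Subsingleton (PrimeSpectrum k)
    infer_instance
  -- agreement over an open of `Y`
  let AgreeOn : Y.left.Opens → Prop := fun U =>
    ∀ (W : Scheme.{u}) (p : W ⟶ X.left) (q : W ⟶ Y.left) (_ : Set.range q ⊆ U)
      (hpq : p ≫ X.hom = q ≫ Y.hom), hP.lift p q hpq ≫ f.left = hP.lift p q hpq ≫ g.left
  let S : Set Y.left := {y | ∃ U : Y.left.Opens, y ∈ U ∧ AgreeOn U}
  have hSopen : IsOpen S := by
    rw [isOpen_iff_forall_mem_open]
    rintro y ⟨U, hyU, hU⟩
    exact ⟨U, fun y' hy' => ⟨U, hy', hU⟩, U.2, hyU⟩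
  -- the key local statement
  have KL : ∀ (y₁ : 𝟙_ (Over (Spec (CommRingCat.of k))) ⟶ Y)
      (z₁ : 𝟙_ (Over (Spec (CommRingCat.of k))) ⟶ Z),
      (X ◁ y₁) ≫ f = toUnit _ ≫ z₁ → y₁.left pt ∈ S := by
    intro y₁ z₁ h1
    obtain ⟨U, hyU, hU⟩ := Groth.Agent.Lib.Helper14.AntiAffRigid.exists_nbhd X Y Z x₀ y₁ f z₁ h1
    exact ⟨U, hyU, hU⟩
  have hS₀ : y₀.left pt ∈ S := KL y₀ z₀ hf
  -- the equalizer closed set
  let ι : (equalizer f g).left ⟶ (X ⊗ Y).left := (equalizer.ι f g).left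
  haveI : IsClosedImmersion ι := isClosedImmersion_equalizer_ι_left f g
  let Cl : Set (X ⊗ Y).left := Set.range ι
  have hCl : IsClosed Cl := ι.isClosedEmbedding.isClosed_range
  have hCl_eq : ∀ w ∈ Cl, f.left w = g.left w := by
    rintro _ ⟨e, rfl⟩
    rw [← Scheme.Hom.comp_apply, ← Scheme.Hom.comp_apply]
    have := congrArg (fun t => t.left) (equalizer.condition f g)
    simp only [Over.comp_left] at this
    rw [this]
  let p₂ : (X ⊗ Y).left ⟶ Y.left := (snd X Y).left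
  haveI : Flat X.hom := inferInstance
  haveI : LocallyOfFinitePresentation X.hom :=
    LocallyOfFinitePresentation.iff_locallyOfFiniteType.mpr inferInstance
  haveI : UniversallyOpen X.hom := inferInstance
  haveI : UniversallyOpen p₂ := MorphismProperty.of_isPullback hP inferInstance
  let F : Set Y.left := {y | ∀ w, p₂ w = y → w ∈ Cl}
  have hFclosed : IsClosed F := by
    rw [← isOpen_compl_iff]
    have : Fᶜ = p₂ '' Clᶜ := by
      ext y
      simp only [F, Set.mem_compl_iff, Set.mem_setOf_eq, Set.mem_image, not_forall]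
      constructor
      · rintro ⟨w, hw, hwc⟩; exact ⟨w, hwc, hw⟩
      · rintro ⟨w, hwc, hw⟩; exact ⟨w, hw, hwc⟩
    rw [this]
    exact p₂.isOpenMap _ hCl.isOpen_compl
  have hSF : S ⊆ F := by
    rintro y ⟨U, hyU, hU⟩ w hw
    let N : (X ⊗ Y).left.Opens := p₂ ⁻¹ᵁ U
    have hwN : w ∈ N := by
      show p₂ w ∈ U
      rw [hw]; exact hyU
    have hNq : Set.range (N.ι ≫ p₂) ⊆ U := by
      rintro _ ⟨z, rfl⟩
      exact z.2
    have hcomp : (N.ι ≫ (fst X Y).left) ≫ X.hom = (N.ι ≫ p₂) ≫ Y.hom := by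
      rw [Category.assoc, Category.assoc, hP.w]
    have hN := hU N (N.ι ≫ (fst X Y).left) (N.ι ≫ p₂) hNq hcomp
    have hlift : hP.lift (N.ι ≫ (fst X Y).left) (N.ι ≫ p₂) hcomp = N.ι := by
      apply hP.hom_ext
      · rw [IsPullback.lift_fst]
      · rw [IsPullback.lift_snd]
    rw [hlift] at hN
    let N' : Over (Spec (CommRingCat.of k)) := Over.mk (N.ι ≫ (X ⊗ Y).hom)
    let ιN : N' ⟶ X ⊗ Y := Over.homMk N.ι rfl
    have hιN : ιN ≫ f = ιN ≫ g := by
      ext
      exact hN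
    have e : (equalizer.lift ιN hιN).left ≫ ι = N.ι := by
      rw [← Over.comp_left, equalizer.lift_ι]
      rfl
    refine ⟨(equalizer.lift ιN hιN).left ⟨w, hwN⟩, ?_⟩
    rw [← Scheme.Hom.comp_apply, e]
    rfl
  have hclF : closure S ⊆ F := hFclosed.closure_subset_iff.mpr hSF
  -- `S` is closed
  have hSclosed : IsClosed S := by
    rw [← closure_subset_iff_isClosed]
    by_contra hcon
    rw [Set.not_subset] at hcon
    obtain ⟨y, hyc, hyS⟩ := hcon
    have hZc : IsClosed (closure S ∩ Sᶜ) := isClosed_closure.inter hSopen.isClosed_compl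
    obtain ⟨y₁, hy₁Z, hy₁⟩ := nonempty_inter_closedPoints (X := ↥Y.left) (Z := closure S ∩ Sᶜ)
      ⟨y, hyc, hyS⟩ hZc.isLocallyClosed
    have hy₁' : IsClosed ({y₁} : Set ↥Y.left) := hy₁
    let yb : 𝟙_ (Over (Spec (CommRingCat.of k))) ⟶ Y :=
      Over.homMk (pointOfClosedPoint Y.hom y₁ hy₁') (pointOfClosedPoint_comp Y.hom y₁ hy₁')
    have hyb : ∀ c, yb.left c = y₁ := fun c => pointOfClosedPoint_apply Y.hom y₁ hy₁' c
    have hy₁F : y₁ ∈ F := hclF hy₁Z.1
    -- `f` is constant on `X × {y₁}`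
    let φ : X ⊗ 𝟙_ (Over (Spec (CommRingCat.of k))) ⟶ Z := (X ◁ yb) ≫ f
    let z₁ : 𝟙_ (Over (Spec (CommRingCat.of k))) ⟶ Z := yb ≫ lift (toUnit Y ≫ x₀) (𝟙 Y) ≫ f
    obtain ⟨U', hU', hzU', -⟩ :=
      exists_isAffineOpen_mem_and_subset (x := z₁.left pt) (U := ⊤) trivial
    have hrange : Set.range φ.left ⊆ U' := by
      rintro _ ⟨w', rfl⟩
      have hw : p₂ ((X ◁ yb).left w') = y₁ := by
        rw [← Scheme.Hom.comp_apply, ← Over.comp_left, whiskerLeft_snd, Over.comp_left,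
          Scheme.Hom.comp_apply, hyb]
      have h1 := hCl_eq _ (hy₁F _ hw)
      have h2 : φ.left w' = f.left ((X ◁ yb).left w') := by
        simp only [φ, Over.comp_left, Scheme.Hom.comp_apply]
      rw [h2, h1]
      have h3 : g.left ((X ◁ yb).left w') = (lift (toUnit Y ≫ x₀) (𝟙 Y) ≫ f).left y₁ := by
        rw [hg, Over.comp_left, Scheme.Hom.comp_apply]
        congr 1
      rw [h3]
      have h4 : z₁.left pt = (lift (toUnit Y ≫ x₀) (𝟙 Y) ≫ f).left y₁ := by
        simp only [z₁, Over.comp_left, Scheme.Hom.comp_apply, hyb]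
      rw [← h4]
      exact hzU'
    haveI : CompactSpace (𝟙_ (Over (Spec (CommRingCat.of k)))).left := by
      show CompactSpace (Spec (CommRingCat.of k)); infer_instance
    haveI : QuasiSeparatedSpace (𝟙_ (Over (Spec (CommRingCat.of k)))).left := by
      show QuasiSeparatedSpace (Spec (CommRingCat.of k)); infer_instance
    have hφ := Groth.Agent.Lib.Helper14.AntiAffRigid.factor_of_range_subset_affine X Z
      (𝟙_ (Over (Spec (CommRingCat.of k)))) x₀ φ U' hU' hrange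
    have hconst : (X ◁ yb) ≫ f = toUnit _ ≫
        (lift (toUnit (𝟙_ (Over (Spec (CommRingCat.of k)))) ≫ x₀)
          (𝟙 (𝟙_ (Over (Spec (CommRingCat.of k))))) ≫ φ) := by
      rw [toUnit_unique (toUnit (X ⊗ 𝟙_ (Over (Spec (CommRingCat.of k)))))
        (snd X (𝟙_ (Over (Spec (CommRingCat.of k)))))]
      exact hφ
    have := KL yb _ hconst
    rw [hyb] at this
    exact hy₁Z.2 this
  have hSuniv : S = Set.univ := IsClopen.eq_univ ⟨hSclosed, hSopen⟩ ⟨_, hS₀⟩
  -- glue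
  ext
  apply Scheme.hom_ext_of_forall
  intro w
  obtain ⟨U, hyU, hU⟩ : p₂ w ∈ S := by rw [hSuniv]; trivial
  let N : (X ⊗ Y).left.Opens := p₂ ⁻¹ᵁ U
  refine ⟨N, hyU, ?_⟩
  have hNq : Set.range (N.ι ≫ p₂) ⊆ U := by
    rintro _ ⟨z, rfl⟩
    exact z.2
  have hcomp : (N.ι ≫ (fst X Y).left) ≫ X.hom = (N.ι ≫ p₂) ≫ Y.hom := by
    rw [Category.assoc, Category.assoc, hP.w]
  have hN := hU N (N.ι ≫ (fst X Y).left) (N.ι ≫ p₂) hNq hcomp
  have hlift : hP.lift (N.ι ≫ (fst X Y).left) (N.ι ≫ p₂) hcomp = N.ι := by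
    apply hP.hom_ext
    · rw [IsPullback.lift_fst]
    · rw [IsPullback.lift_snd]
  rw [hlift] at hN
  exact hN

end Groth.Agent.Lib.Helper14.AntiAffConn
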