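import Groth.Agent.Lib.Helper14.GrpTriv
import Mathlib.AlgebraicGeometry.Morphisms.Flat
import Mathlib.AlgebraicGeometry.Morphisms.QuasiSeparated
import Mathlib.CategoryTheory.Monoidal.Cartesian.Over
import Mathlib.RingTheory.RingHom.Flat
import Mathlib.CategoryTheory.Limits.Constructions.Over.Connected

/-!
# Künneth formula for global sections of products over a field (helper14)

For `X T : Over (Spec k)` quasi-compact and quasi-separated, `Γ(X × T) = Γ(X) ⊗_k Γ(T)`
(`isPushout_appTop`, from Mathlib's `isIso_pushoutSection_of_isCompact_of_flat_right_of_ringHomFlat`).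
In particular if `Γ(X) = k` then `Γ(T) ⟶ Γ(X × T)` is an isomorphism (`isIso_snd_appTop`).
-/

set_option autoImplicit false
universe u
open CategoryTheory CategoryTheory.Limits AlgebraicGeometry MonoidalCategory CartesianMonoidalCategory

namespace Groth.Agent.Lib.Helper14.Kunneth

variable {k : Type u} [Field k]

theorem isPullback_left (X T : Over (Spec (CommRingCat.of k))) :
    IsPullback (fst X T).left (snd X T).left X.hom T.hom := by
  have h := (GrpTriv.isPullback_fst_snd_toUnit X T).map (Over.forget _)
  simpa using h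

theorem flat_appTop {X : Scheme.{u}} (f : X ⟶ Spec (CommRingCat.of k)) : f.appTop.hom.Flat := by
  have h1 : ((Scheme.ΓSpecIso (CommRingCat.of k)).inv ≫ f.appTop).hom.Flat := by
    letI := ((Scheme.ΓSpecIso (CommRingCat.of k)).inv ≫ f.appTop).hom.toAlgebra
    show Module.Flat k _
    infer_instance
  have h2 : f.appTop = (Scheme.ΓSpecIso (CommRingCat.of k)).hom ≫
      ((Scheme.ΓSpecIso (CommRingCat.of k)).inv ≫ f.appTop) := by simp
  rw [h2, CommRingCat.hom_comp]
  refine RingHom.Flat.comp (RingHom.Flat.of_bijective ?_) h1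
  exact (ConcreteCategory.bijective_of_isIso (Scheme.ΓSpecIso (CommRingCat.of k)).hom)

theorem isPushout_appTop (X T : Over (Spec (CommRingCat.of k)))
    [CompactSpace X.left] [QuasiSeparatedSpace X.left]
    [CompactSpace T.left] [QuasiSeparatedSpace T.left] :
    IsPushout X.hom.appTop T.hom.appTop (fst X T).left.appTop (snd X T).left.appTop := by
  have H := isPullback_left X T
  haveI : Flat T.hom := inferInstance
  have hUST : (⊤ : T.left.Opens) ≤ T.hom ⁻¹ᵁ ⊤ := le_rfl
  have hUSX : (⊤ : X.left.Opens) ≤ X.hom ⁻¹ᵁ ⊤ := le_rfl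
  have hUY : (⊤ : (X ⊗ T).left.Opens) = (fst X T).left ⁻¹ᵁ ⊤ ⊓ (snd X T).left ⁻¹ᵁ ⊤ := by simp
  have hiso := isIso_pushoutSection_of_isCompact_of_flat_right_of_ringHomFlat H hUST hUSX hUY
    (isAffineOpen_top _) isCompact_univ (isQuasiSeparated_univ_iff.mpr inferInstance)
    isCompact_univ (isQuasiSeparated_univ_iff.mpr inferInstance)
    (by
      have : X.hom.appLE ⊤ ⊤ hUSX = X.hom.appTop := by simp [Scheme.Hom.appLE, Scheme.Hom.appTop]
      rw [this]; exact flat_appTop X.hom)
  have := (isIso_pushoutSection_iff H hUST hUSX hUY).mp hiso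
  convert this using 1 <;> simp [Scheme.Hom.appLE, Scheme.Hom.appTop]

theorem isIso_snd_appTop (X T : Over (Spec (CommRingCat.of k)))
    [CompactSpace X.left] [QuasiSeparatedSpace X.left]
    [CompactSpace T.left] [QuasiSeparatedSpace T.left] [IsIso X.hom.appTop] :
    IsIso (snd X T).left.appTop :=
  (isPushout_appTop X T).isIso_inr_of_isIso

theorem isIso_fst_appTop (X T : Over (Spec (CommRingCat.of k)))
    [CompactSpace X.left] [QuasiSeparatedSpace X.left]
    [CompactSpace T.left] [QuasiSeparatedSpace T.left] [IsIso T.hom.appTop] :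
    IsIso (fst X T).left.appTop :=
  (isPushout_appTop X T).isIso_inl_of_isIso

/-- the anti-affineness hypothesis in the form used by the statements gives `IsIso appTop` -/
theorem isIso_appTop_of_bijective (X : Over (Spec (CommRingCat.of k)))
    (hX : Function.Bijective ((Scheme.ΓSpecIso (CommRingCat.of k)).inv ≫ X.hom.appTop).hom) :
    IsIso X.hom.appTop := by
  have h1 : IsIso ((Scheme.ΓSpecIso (CommRingCat.of k)).inv ≫ X.hom.appTop) :=
    (ConcreteCategory.isIso_iff_bijective _).mpr hX
  exact IsIso.of_isIso_comp_left (Scheme.ΓSpecIso (CommRingCat.of k)).inv _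

end Groth.Agent.Lib.Helper14.Kunneth
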