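import Mathlib
import Groth.Prelude.Def_AlgGrp
import Groth.Agent.Lib.Helper14.Kunneth
import Groth.Agent.Lib.Helper14.AntiAffAffine

/-!
# helper14: anti-affineness via constancy of maps to affine schemes; extensions
-/

set_option autoImplicit false
universe u
open CategoryTheory MonoidalCategory CartesianMonoidalCategory MonObj GrpObj AlgebraicGeometry
  CategoryTheory.Limits

namespace Groth.Agent.Lib.Helper14.AntiAffExt

variable {k : Type u} [Field k]

/-- if every morphism from `X` to an affine `k`-scheme is constant, then `Γ(X) = k`. -/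
theorem isIso_appTop_of_const (X : Over (Spec (CommRingCat.of k)))
    (x₀ : 𝟙_ (Over (Spec (CommRingCat.of k))) ⟶ X)
    (hc : ∀ (N : Over (Spec (CommRingCat.of k))) [IsAffine N.left] (h : X ⟶ N),
      h = toUnit X ≫ x₀ ≫ h) : IsIso X.hom.appTop := by
  have hx₀ : x₀.left ≫ X.hom = 𝟙 _ := Over.w x₀
  let N : Over (Spec (CommRingCat.of k)) :=
    Over.mk (Spec.map X.hom.appTop ≫ inv (Spec (CommRingCat.of k)).toSpecΓ)
  haveI : IsAffine N.left := inferInstanceAs (IsAffine (Spec _))
  let h : X ⟶ N := Over.homMk X.left.toSpecΓ (by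
    show X.left.toSpecΓ ≫ Spec.map X.hom.appTop ≫ inv (Spec (CommRingCat.of k)).toSpecΓ = X.hom
    rw [← Category.assoc, ← Scheme.toSpecΓ_naturality, Category.assoc, IsIso.hom_inv_id,
      Category.comp_id])
  have h1 := congrArg (fun φ : X ⟶ N => φ.left) (hc N h)
  have h2 : X.left.toSpecΓ = X.hom ≫ x₀.left ≫ X.left.toSpecΓ := by
    simpa [h] using h1
  have h3 := congrArg Scheme.Hom.appTop h2
  rw [Scheme.Hom.comp_appTop] at h3
  have hiso : IsIso X.left.toSpecΓ.appTop := by
    rw [Scheme.toSpecΓ_appTop]; infer_instance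
  rw [ConcreteCategory.isIso_iff_bijective]
  constructor
  · have h4 : X.hom.appTop ≫ x₀.left.appTop = 𝟙 _ := by
      rw [← Scheme.Hom.comp_appTop, hx₀]; rfl
    intro a b hab
    have := congrArg (fun z => x₀.left.appTop.hom z) hab
    have e : ∀ z, x₀.left.appTop.hom (X.hom.appTop.hom z) = z := fun z => by
      have := congrArg (fun φ => φ.hom z) h4
      simpa using this
    simpa [e] using this
  · intro b
    have hsurj : Function.Surjective X.left.toSpecΓ.appTop.hom :=
      ((ConcreteCategory.isIso_iff_bijective _).mp hiso).2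
    obtain ⟨c, rfl⟩ := hsurj b
    refine ⟨(x₀.left ≫ X.left.toSpecΓ).appTop.hom c, ?_⟩
    have := congrArg (fun φ => φ.hom c) h3
    simpa using this.symm

/-- converting `IsIso appTop` into the bijectivity statement used in the frozen statements. -/
theorem bijective_of_isIso_appTop (X : Over (Spec (CommRingCat.of k))) [IsIso X.hom.appTop] :
    Function.Bijective ((Scheme.ΓSpecIso (CommRingCat.of k)).inv ≫ X.hom.appTop).hom := by
  rw [← ConcreteCategory.isIso_iff_bijective]
  infer_instance

end Groth.Agent.Lib.Helper14.AntiAffExt
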