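import Mathlib.AlgebraicGeometry.Sites.Fpqc
import Mathlib.CategoryTheory.Monoidal.Cartesian.Over

/-!
# helper14: light-import copies of two small lemmas

* `exists_desc_over` (from `QuotProps`): descent of a morphism in `Over S` along a morphism whose
  underlying morphism is an effective epimorphism;
* `exists_factor_of_isIso_appTop` (from `Rigid1`): a morphism to an affine scheme factors through
  any morphism inducing an isomorphism on global sections.
-/

set_option autoImplicit false
universe u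
open CategoryTheory MonoidalCategory CartesianMonoidalCategory AlgebraicGeometry

namespace Groth.Agent.Lib.Helper14.DescOver

theorem exists_desc_over {S : Scheme.{u}} {G Q H : Over S} (q : G ⟶ Q) [EffectiveEpi q.left]
    (f : G ⟶ H)
    (hf : ∀ (Z : Over S) (g₁ g₂ : Z ⟶ G), g₁ ≫ q = g₂ ≫ q → g₁ ≫ f = g₂ ≫ f) :
    ∃ φ : Q ⟶ H, q ≫ φ = f := by
  have hdesc : ∀ {Z : Scheme.{u}} (g₁ g₂ : Z ⟶ G.left), g₁ ≫ q.left = g₂ ≫ q.left →
      g₁ ≫ f.left = g₂ ≫ f.left := by
    intro Z g₁ g₂ h
    have hw : g₂ ≫ G.hom = g₁ ≫ G.hom := by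
      rw [← Over.w q, ← Category.assoc, ← h, Category.assoc]
    let Z' : Over S := Over.mk (g₁ ≫ G.hom)
    let a₁ : Z' ⟶ G := Over.homMk g₁ rfl
    let a₂ : Z' ⟶ G := Over.homMk g₂ hw
    have := hf Z' a₁ a₂ (by ext; exact h)
    exact congrArg CommaMorphism.left this
  have hfac : q.left ≫ EffectiveEpi.desc q.left f.left hdesc = f.left :=
    EffectiveEpi.fac q.left f.left hdesc
  have hepi : Epi q.left := inferInstance
  refine ⟨Over.homMk (EffectiveEpi.desc q.left f.left hdesc) ?_, ?_⟩
  · rw [← cancel_epi q.left, ← Category.assoc, hfac, Over.w f, Over.w q]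
  · ext
    exact hfac

theorem exists_factor_of_isIso_appTop {W V T : Scheme.{u}} (q : W ⟶ V) [IsIso q.appTop]
    [IsAffine T] (φ : W ⟶ T) : ∃ h : V ⟶ T, φ = q ≫ h := by
  refine ⟨V.toSpecΓ ≫ inv (Spec.map q.appTop) ≫ Spec.map φ.appTop ≫ inv T.toSpecΓ, ?_⟩
  rw [← Category.assoc q, Scheme.toSpecΓ_naturality, Category.assoc,
    IsIso.hom_inv_id_assoc, ← Category.assoc, ← Scheme.toSpecΓ_naturality, Category.assoc,
    IsIso.hom_inv_id, Category.comp_id]

end Groth.Agent.Lib.Helper14.DescOver
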