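import Mathlib

/-!
# helper14: an equivariant morphism of (pseudo-)torsors over `g : Y ⟶ Y'` is cartesian when the
source torsor is an fpqc cover of its base
-/

set_option autoImplicit false
universe u
open CategoryTheory CategoryTheory.Limits AlgebraicGeometry MorphismProperty

namespace Groth.Agent.Lib.Helper14.TorsorSq

/-- the torsor square lemma: `HP = H × P`, `HP' = H × P'` (only the three cartesian squares are
used) -/
theorem isPullback_of_equivariant {HP P Y HP' P' Y' : Scheme.{u}}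
    (act snd : HP ⟶ P) (φ : P ⟶ Y) (act' snd' : HP' ⟶ P') (φ' : P' ⟶ Y')
    (F : HP ⟶ HP') (f : P ⟶ P') (g : Y ⟶ Y')
    (h1 : IsPullback act snd φ φ) (h2 : IsPullback act' snd' φ' φ')
    (h3 : IsPullback F snd snd' f) (h4 : F ≫ act' = act ≫ f) (h5 : φ ≫ g = f ≫ φ')
    [Flat φ] [Surjective φ] [QuasiCompact φ] : IsPullback f φ φ' g := by
  -- the pullback `P''` of `φ'` along `g`
  obtain ⟨p₁, hp₁⟩ : ∃ p₁ : pullback φ' g ⟶ Y, p₁ = pullback.snd φ' g := ⟨_, rfl⟩
  obtain ⟨p₂, hp₂⟩ : ∃ p₂ : pullback φ' g ⟶ P', p₂ = pullback.fst φ' g := ⟨_, rfl⟩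
  have hP'' : IsPullback p₂ p₁ φ' g := by
    rw [hp₁, hp₂]; exact IsPullback.of_hasPullback φ' g
  obtain ⟨u, hu⟩ : ∃ u : P ⟶ pullback φ' g, u = pullback.lift f φ h5.symm := ⟨_, rfl⟩
  have hu1 : u ≫ p₁ = φ := by rw [hu, hp₁]; exact pullback.lift_snd _ _ _
  have hu2 : u ≫ p₂ = f := by rw [hu, hp₂]; exact pullback.lift_fst _ _ _
  -- the pullback `T` of `p₁` along `φ`
  obtain ⟨a, ha⟩ : ∃ a : pullback φ p₁ ⟶ P, a = pullback.fst φ p₁ := ⟨_, rfl⟩
  obtain ⟨b, hb⟩ : ∃ b : pullback φ p₁ ⟶ pullback φ' g, b = pullback.snd φ p₁ := ⟨_, rfl⟩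
  have hT : IsPullback a b φ p₁ := by
    rw [ha, hb]; exact IsPullback.of_hasPullback φ p₁
  have hQb : (@Surjective ⊓ @Flat ⊓ @QuasiCompact : MorphismProperty Scheme.{u}) b := by
    rw [hb]
    exact ⟨⟨inferInstance, inferInstance⟩, inferInstance⟩
  -- the outer rectangle `HP → P'` over `P → Y'` is cartesian
  have hout : IsPullback (act ≫ f) snd φ' (φ ≫ g) := by
    have := h3.paste_horiz h2
    rwa [h4, ← h5] at this
  have hTP : IsPullback a (b ≫ p₂) (φ ≫ g) φ' := hT.paste_vert hP''.flip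
  let e : HP ≅ pullback φ p₁ := IsPullback.isoIsPullback _ _ hout.flip hTP
  have he1 : e.hom ≫ a = snd := IsPullback.isoIsPullback_hom_fst _ _ hout.flip hTP
  have he2 : e.hom ≫ b ≫ p₂ = act ≫ f := IsPullback.isoIsPullback_hom_snd _ _ hout.flip hTP
  have he3 : e.hom ≫ b = act ≫ u := by
    apply hP''.hom_ext
    · rw [Category.assoc, he2, Category.assoc, hu2]
    · rw [Category.assoc, ← hT.w, ← Category.assoc, he1, Category.assoc, hu1, h1.w]
  have htop : IsPullback act e.hom u b := by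
    refine IsPullback.of_bot ?_ he3.symm hT.flip
    rw [he1, hu1]
    exact h1
  have hiso : MorphismProperty.isomorphisms Scheme.{u} u :=
    MorphismProperty.of_isPullback_of_descendsAlong
      (P := MorphismProperty.isomorphisms Scheme.{u})
      (Q := (@Surjective ⊓ @Flat ⊓ @QuasiCompact : MorphismProperty Scheme.{u})) htop.flip hQb
      (inferInstanceAs (IsIso e.hom))
  haveI : IsIso u := hiso
  refine IsPullback.of_iso_pullback ⟨h5.symm⟩ (asIso u) ?_ ?_
  · rw [asIso_hom, ← hp₂]; exact hu2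
  · rw [asIso_hom, ← hp₁]; exact hu1

end Groth.Agent.Lib.Helper14.TorsorSq
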