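import Mathlib
import Groth.Prelude.Def_W4bk4git07Quot
import Groth.Agent.Lib.Helper14.TorsorSq

/-!
# helper14: principal bundles in the sense of `GIT.PsiY` being an isomorphism: equivariant maps
of principal bundles are cartesian
-/

set_option autoImplicit false
universe u
open CategoryTheory MonoidalCategory CartesianMonoidalCategory MonObj GrpObj AlgebraicGeometry

namespace Groth.Agent.Lib.Helper14.PrincBundle

variable {S : Scheme.{u}}

theorem isPullback_of_isIso_PsiY {H P Y : Over S} [GrpObj H] (a : AlgGrp.Action H P) (φ : P ⟶ Y)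
    (hinv : GIT.IsInvariant a φ) (h : IsIso (GIT.PsiY a φ hinv)) :
    IsPullback a.act.left (snd H P).left φ.left φ.left :=
  IsPullback.of_iso_pullback ⟨hinv.left⟩ (asIso (GIT.PsiY a φ hinv))
    (Limits.pullback.lift_fst _ _ _) (Limits.pullback.lift_snd _ _ _)

/-- the product square `H × P → H × P'` over `P → P'` -/
theorem isPullback_whiskerLeft_snd (H : Over S) {P P' : Over S} (f : P ⟶ P') :
    IsPullback (H ◁ f) (snd H P) (snd H P') f := by
  refine ⟨⟨by simp⟩, ⟨Limits.PullbackCone.IsLimit.mk _ (fun s => lift (s.fst ≫ fst H P') s.snd)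
    (fun s => ?_) (fun s => ?_) (fun s m hm1 hm2 => ?_)⟩⟩
  · apply CartesianMonoidalCategory.hom_ext
    · simp
    · simp only [Category.assoc, whiskerLeft_snd, lift_snd_assoc]
      exact s.condition.symm
  · simp
  · apply CartesianMonoidalCategory.hom_ext
    · rw [lift_fst, ← hm1]
      simp
    · rw [lift_snd, ← hm2]

theorem isPullback_whiskerLeft_snd_left (H : Over S) {P P' : Over S} (f : P ⟶ P') :
    IsPullback (H ◁ f).left (snd H P).left (snd H P').left f.left := by
  have := (isPullback_whiskerLeft_snd H f).map (Over.forget S)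
  simpa only [Over.forget_obj, Over.forget_map] using this

/-- an equivariant morphism of principal bundles is cartesian -/
theorem isPullback_of_equivariant {H P Y P' Y' : Over S} [GrpObj H]
    (a : AlgGrp.Action H P) (φ : P ⟶ Y) (hinv : GIT.IsInvariant a φ)
    (hφ : IsIso (GIT.PsiY a φ hinv))
    (a' : AlgGrp.Action H P') (φ' : P' ⟶ Y') (hinv' : GIT.IsInvariant a' φ')
    (hφ' : IsIso (GIT.PsiY a' φ' hinv'))
    (f : P ⟶ P') (g : Y ⟶ Y') (hf : a.act ≫ f = (H ◁ f) ≫ a'.act) (hg : φ ≫ g = f ≫ φ')
    [Flat φ.left] [Surjective φ.left] [QuasiCompact φ.left] :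
    IsPullback f.left φ.left φ'.left g.left := by
  refine Groth.Agent.Lib.Helper14.TorsorSq.isPullback_of_equivariant a.act.left (snd H P).left
    φ.left a'.act.left (snd H P').left φ'.left (H ◁ f).left f.left g.left
    (isPullback_of_isIso_PsiY a φ hinv hφ) (isPullback_of_isIso_PsiY a' φ' hinv' hφ')
    (isPullback_whiskerLeft_snd_left H f) ?_ ?_
  · rw [← Over.comp_left, ← Over.comp_left, hf]
  · rw [← Over.comp_left, ← Over.comp_left, hg]

end Groth.Agent.Lib.Helper14.PrincBundle
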