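import Groth.Agent.Lib.Helper14.Kunneth
import Groth.Agent.Lib.Helper14.DescOver
import Groth.Agent.Lib.Helper14.PrincBundle

/-!
# helper14: infinitesimal rigidity for a factor with only constant functions

`whisker_comp_eq`: if `Γ(X) = k`, `T` is a one-point affine `k`-scheme with a rational point `τ`,
`t : T ⟶ Y` and `f : X × Y ⟶ Z` is constant on `X × {t ∘ τ}`, then `f` restricted to `X × T`
factors through the projection to `T`.
-/

set_option autoImplicit false
universe u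
open CategoryTheory CategoryTheory.Limits AlgebraicGeometry MonoidalCategory CartesianMonoidalCategory

namespace Groth.Agent.Lib.Helper14.AntiAffInf

variable {k : Type u} [Field k]

theorem whisker_comp_eq (X Y Z T : Over (Spec (CommRingCat.of k)))
    [CompactSpace X.left] [QuasiSeparatedSpace X.left] [IsIso X.hom.appTop]
    [IsAffine T.left] [Subsingleton T.left]
    (x₀ : 𝟙_ (Over (Spec (CommRingCat.of k))) ⟶ X) (τ : 𝟙_ (Over (Spec (CommRingCat.of k))) ⟶ T)
    (t : T ⟶ Y) (f : X ⊗ Y ⟶ Z) (z₀ : 𝟙_ (Over (Spec (CommRingCat.of k))) ⟶ Z)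
    (hf : (X ◁ (τ ≫ t)) ≫ f = toUnit _ ≫ z₀) :
    (X ◁ t) ≫ f = snd X T ≫ lift (toUnit T ≫ x₀) (𝟙 T) ≫ (X ◁ t) ≫ f := by
  -- the unique point of `Spec k`
  obtain ⟨pt⟩ : Nonempty (𝟙_ (Over (Spec (CommRingCat.of k)))).left := by
    show Nonempty (Spec (CommRingCat.of k))
    infer_instance
  haveI hsub : Subsingleton (𝟙_ (Over (Spec (CommRingCat.of k)))).left := by
    show Subsingleton (Spec (CommRingCat.of k))
    infer_instance
  -- surjectivity of `X × Spec k ⟶ X × T`
  haveI hτ : Surjective τ.left := ⟨fun w => ⟨pt, Subsingleton.elim _ _⟩⟩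
  haveI hs : Surjective (X ◁ τ).left :=
    MorphismProperty.of_isPullback
      (Groth.Agent.Lib.Helper14.PrincBundle.isPullback_whiskerLeft_snd_left X τ).flip hτ
  -- an affine open neighbourhood of the image point
  obtain ⟨U, hU, hzU, -⟩ := exists_isAffineOpen_mem_and_subset (x := z₀.left pt) (U := ⊤) trivial
  have hrange : Set.range ((X ◁ t) ≫ f).left ⊆ Set.range U.ι := by
    rintro _ ⟨w, rfl⟩
    obtain ⟨w', rfl⟩ := (X ◁ τ).left.surjective w
    rw [Scheme.Opens.range_ι]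
    have h1 : ((X ◁ t) ≫ f).left ((X ◁ τ).left w') = (toUnit _ ≫ z₀).left w' := by
      rw [← hf, ← Scheme.Hom.comp_apply, ← Over.comp_left, ← Category.assoc,
        ← MonoidalCategory.whiskerLeft_comp]
    rw [h1, Over.comp_left, Scheme.Hom.comp_apply,
      Subsingleton.elim ((toUnit (X ⊗ 𝟙_ (Over (Spec (CommRingCat.of k))))).left w') pt]
    exact hzU
  let φ : (X ⊗ T).left ⟶ U := IsOpenImmersion.lift U.ι ((X ◁ t) ≫ f).left hrange
  have hφ : φ ≫ U.ι = ((X ◁ t) ≫ f).left := IsOpenImmersion.lift_fac _ _ _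
  haveI : IsIso (snd X T).left.appTop := Groth.Agent.Lib.Helper14.Kunneth.isIso_snd_appTop X T
  haveI : IsAffine U := hU
  obtain ⟨h₀, hh₀⟩ := Groth.Agent.Lib.Helper14.DescOver.exists_factor_of_isIso_appTop
    (snd X T).left φ
  have hσ : (lift (toUnit T ≫ x₀) (𝟙 T)).left ≫ (snd X T).left = 𝟙 _ := by
    rw [← Over.comp_left, lift_snd]; rfl
  have key : ((X ◁ t) ≫ f).left = (snd X T).left ≫ h₀ ≫ U.ι := by
    rw [← hφ, hh₀, Category.assoc]
  ext
  have e1 : (snd X T ≫ lift (toUnit T ≫ x₀) (𝟙 T) ≫ (X ◁ t) ≫ f).left =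
      (snd X T).left ≫ (lift (toUnit T ≫ x₀) (𝟙 T)).left ≫ ((X ◁ t) ≫ f).left := by
    simp only [Over.comp_left]
  rw [e1, key, ← Category.assoc _ _ (h₀ ≫ U.ι), hσ, Category.id_comp]

end Groth.Agent.Lib.Helper14.AntiAffInf
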