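import Mathlib

/-!
# helper14: morphisms from an anti-affine pointed scheme over a field to affine schemes are constant
-/

set_option autoImplicit false
universe u
open CategoryTheory MonoidalCategory CartesianMonoidalCategory AlgebraicGeometry

namespace Groth.Agent.Lib.Helper14.AntiAffine

/-- if `Γ(M, O) = K` then every morphism from `M` to an affine scheme factors through the
structure morphism and a given rational point -/
theorem const_to_affine (K : Type u) [Field K] (M : Over (Spec (CommRingCat.of K)))
    (hM : Function.Bijective ((Scheme.ΓSpecIso (CommRingCat.of K)).inv ≫ M.hom.appTop).hom)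
    (e : 𝟙_ (Over (Spec (CommRingCat.of K))) ⟶ M) {Z : Scheme.{u}} [IsAffine Z] (ψ : M.left ⟶ Z) :
    ψ = M.hom ≫ e.left ≫ ψ := by
  have he : e.left ≫ M.hom = 𝟙 _ := Over.w e
  have hsurj : Function.Surjective M.hom.appTop.hom := by
    intro b
    obtain ⟨a, ha⟩ := hM.2 b
    exact ⟨(Scheme.ΓSpecIso (CommRingCat.of K)).inv.hom a, ha⟩
  have h1 : M.hom.appTop ≫ e.left.appTop = 𝟙 _ := by
    rw [← Scheme.Hom.comp_appTop, he]
    rfl
  have h2 : e.left.appTop ≫ M.hom.appTop = 𝟙 _ := by
    ext b
    obtain ⟨a, rfl⟩ := hsurj b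
    have := congrArg (fun ψ => ψ.hom a) h1
    simp only [CommRingCat.hom_comp, RingHom.coe_comp, Function.comp_apply, CommRingCat.hom_id,
      RingHom.id_apply] at this ⊢
    rw [this]
  apply ext_of_isAffine
  rw [Scheme.Hom.comp_appTop, Scheme.Hom.comp_appTop, Category.assoc, h2, Category.comp_id]

end Groth.Agent.Lib.Helper14.AntiAffine
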