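import Mathlib.CategoryTheory.Limits.Comma
import Mathlib.CategoryTheory.Limits.Preserves.Shapes.Pullbacks
import Mathlib.CategoryTheory.Limits.Preserves.Shapes.Equalizers
import Mathlib.CategoryTheory.Limits.Shapes.Pullback.IsPullback.Basic
import Mathlib.CategoryTheory.Limits.Shapes.RegularMono
import Mathlib.CategoryTheory.Limits.Shapes.KernelPair

/-!
# Artin gluing: general lemmas on comma categories (helper14)
-/

set_option autoImplicit false

universe w w' v₁ v₂ v₃ u₁ u₂ u₃

open CategoryTheory CategoryTheory.Limits Opposite

namespace Groth.Agent.Lib.Helper14.Artin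

variable {A : Type u₁} [Category.{v₁} A] {B : Type u₂} [Category.{v₂} B]
  {T : Type u₃} [Category.{v₃} T] {L : A ⥤ T} {R : B ⥤ T}

theorem isIso_of_left_right {X Y : Comma L R} (f : X ⟶ Y) [IsIso f.left] [IsIso f.right] :
    IsIso f := by
  refine ⟨⟨{ left := inv f.left, right := inv f.right, w := ?_ }, ?_, ?_⟩⟩
  · have h := f.w
    rw [← cancel_epi (L.map f.left), ← cancel_mono (R.map f.right)]
    simp only [Category.assoc, ← CategoryTheory.Functor.map_comp, IsIso.inv_hom_id,
      IsIso.hom_inv_id, CategoryTheory.Functor.map_id, Category.comp_id]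
    rw [← Category.assoc, ← CategoryTheory.Functor.map_comp, IsIso.hom_inv_id,
      CategoryTheory.Functor.map_id, Category.id_comp]
    exact h.symm
  · ext <;> simp
  · ext <;> simp

theorem mono_of_left_right {X Y : Comma L R} (f : X ⟶ Y) [Mono f.left] [Mono f.right] :
    Mono f := by
  constructor
  intro Z a b hab
  ext
  · rw [← cancel_mono f.left, ← Comma.comp_left, ← Comma.comp_left, hab]
  · rw [← cancel_mono f.right, ← Comma.comp_right, ← Comma.comp_right, hab]

/-- An object of the comma category with initial components (and `L` preserving this initial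
object) is initial. -/
noncomputable def isInitialOfLeftRight (X : Comma L R) (h₁ : IsInitial X.left)
    (h₂ : IsInitial X.right) (h₃ : IsInitial (L.obj X.left)) : IsInitial X :=
  IsInitial.ofUniqueHom
    (fun Y => { left := h₁.to Y.left, right := h₂.to Y.right, w := h₃.hom_ext _ _ })
    (fun Y m => by
      ext
      · exact h₁.hom_ext _ _
      · exact h₂.hom_ext _ _)

section Limits

variable {J : Type w} [Category.{w'} J]

instance preservesLimitsOfShape_fst [HasLimitsOfShape J A] [HasLimitsOfShape J B]
    [PreservesLimitsOfShape J R] : PreservesLimitsOfShape J (Comma.fst L R) where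
  preservesLimit :=
    preservesLimit_of_preserves_limit_cone
      (Comma.coneOfPreservesIsLimit _ (limit.isLimit _) (limit.isLimit _))
      (limit.isLimit _)

instance preservesLimitsOfShape_snd [HasLimitsOfShape J A] [HasLimitsOfShape J B]
    [PreservesLimitsOfShape J R] : PreservesLimitsOfShape J (Comma.snd L R) where
  preservesLimit :=
    preservesLimit_of_preserves_limit_cone
      (Comma.coneOfPreservesIsLimit _ (limit.isLimit _) (limit.isLimit _))
      (limit.isLimit _)

end Limits

theorem isPullback_of_left_right [PreservesLimitsOfShape WalkingCospan R]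
    {P X Y Z : Comma L R} {fst : P ⟶ X} {snd : P ⟶ Y}
    {f : X ⟶ Z} {g : Y ⟶ Z} (comm : fst ≫ f = snd ≫ g)
    (h₁ : IsPullback fst.left snd.left f.left g.left)
    (h₂ : IsPullback fst.right snd.right f.right g.right) : IsPullback fst snd f g := by
  have h : IsLimit (PullbackCone.mk fst snd comm) := by
    apply Comma.fstSndJointlyReflectLimit
    · exact (isLimitMapConePullbackConeEquiv (Comma.fst L R) comm).symm h₁.isLimit
    · exact (isLimitMapConePullbackConeEquiv (Comma.snd L R) comm).symm h₂.isLimit
  exact IsPullback.of_isLimit h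

theorem isPushout_of_left_right [PreservesColimitsOfShape WalkingSpan L]
    {P X Y Z : Comma L R} {f : Z ⟶ X} {g : Z ⟶ Y}
    {inl : X ⟶ P} {inr : Y ⟶ P} (comm : f ≫ inl = g ≫ inr)
    (h₁ : IsPushout f.left g.left inl.left inr.left)
    (h₂ : IsPushout f.right g.right inl.right inr.right) : IsPushout f g inl inr := by
  have h : IsColimit (PushoutCocone.mk inl inr comm) := by
    apply Comma.fstSndJointlyReflectColimit
    · exact (isColimitMapCoconePushoutCoconeEquiv (Comma.fst L R) comm).symm h₁.isColimit
    · exact (isColimitMapCoconePushoutCoconeEquiv (Comma.snd L R) comm).symm h₂.isColimit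
  exact IsPushout.of_isColimit h

end Groth.Agent.Lib.Helper14.Artin
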