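import Groth.Agent.Lib.Helper14.Topos13
import Groth.Prelude.Def_SGA4a
import Mathlib.CategoryTheory.Sites.RegularEpi
import Mathlib.CategoryTheory.Limits.Shapes.DisjointCoproduct

/-!
# Giraud's axioms for a sheaf topos: coproducts and equivalence relations (helper14)
-/

set_option autoImplicit false

universe u w

open CategoryTheory CategoryTheory.Limits Opposite

namespace Groth.Agent.Lib.Helper14.Topos

open ToposFin Groth.Agent.Lib.helper23.QCHom

variable {C : Type u} [SmallCategory C] {J : GrothendieckTopology C}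

/-- Small coproducts of sheaves of sets are disjoint and universal. -/
theorem hasDisjointUniversalCoproducts :
    SGA4.HasDisjointUniversalCoproducts.{u + 1, u} (Sheaf J (Type u)) := by
  intro ι X
  let c : Cofan X := Cofan.mk (∐ X) (Sigma.ι X)
  have hc : IsColimit c := coproductIsCoproduct X
  refine ⟨c, hc, ?_, (cofan_vk c hc).isUniversal⟩
  have hm : ∀ i, Mono (c.inj i) := fun i => cofan_mono c hc i
  exact CoproductDisjoint.of_cofan hc (fun {i j} hij => (cofan_disjoint c hc hij).cone)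
    (fun {i j} hij => (cofan_disjoint c hc hij).isLimit) (fun {i j} _ => initialIsInitial)

section EquivRel

variable {R A : Sh J} (p₁ p₂ : R ⟶ A)

/-- The relation induced on sections. -/
def RelSec (U : Cᵒᵖ) (a b : A.obj.obj U) : Prop :=
  ∃ r : R.obj.obj U, p₁.hom.app U r = a ∧ p₂.hom.app U r = b

theorem relSec_map {U V : Cᵒᵖ} (f : U ⟶ V) {a b : A.obj.obj U} (h : RelSec p₁ p₂ U a b) :
    RelSec p₁ p₂ V (A.obj.map f a) (A.obj.map f b) := by
  obtain ⟨r, h1, h2⟩ := h
  exact ⟨R.obj.map f r, by rw [sec_naturality, h1], by rw [sec_naturality, h2]⟩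

theorem relSec_iff (V : C) (a b : A.obj.obj (op V)) :
    RelSec p₁ p₂ (op V) a b ↔
      ∃ f : eps J V ⟶ R, f ≫ p₁ = secMap A a ∧ f ≫ p₂ = secMap A b := by
  constructor
  · rintro ⟨r, h1, h2⟩
    exact ⟨secMap R r, by rw [secMap_comp, h1], by rw [secMap_comp, h2]⟩
  · rintro ⟨f, h1, h2⟩
    refine ⟨f.hom.app (op V) (secOf J (𝟙 V)), ?_, ?_⟩
    · have := sec_congr h1 (op V) (secOf J (𝟙 V))
      rwa [sec_comp, secMap_secOf_id] at this
    · have := sec_congr h2 (op V) (secOf J (𝟙 V))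
      rwa [sec_comp, secMap_secOf_id] at this

variable (hR : SGA4.IsEquivRel p₁ p₂)

include hR

theorem relSec_equivalence (U : Cᵒᵖ) : Equivalence (RelSec p₁ p₂ U) := by
  have h := ((hR (eps J U.unop)).2).comap (fun a : A.obj.obj (op U.unop) => secMap A a)
  have e : RelSec p₁ p₂ (op U.unop) = fun a b =>
      ∃ f : eps J U.unop ⟶ R, f ≫ p₁ = secMap A a ∧ f ≫ p₂ = secMap A b := by
    funext a b
    exact propext (relSec_iff p₁ p₂ U.unop a b)
  change Equivalence (RelSec p₁ p₂ (op U.unop))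
  rw [e]
  exact h

theorem relSec_inj (U : Cᵒᵖ) (r r' : R.obj.obj U) (h1 : p₁.hom.app U r = p₁.hom.app U r')
    (h2 : p₂.hom.app U r = p₂.hom.app U r') : r = r' := by
  have h := (hR (eps J U.unop)).1
  have e : secMap R (U := U.unop) r = secMap R (U := U.unop) r' := by
    apply h
    simp only [Prod.mk.injEq]
    exact ⟨by rw [secMap_comp, secMap_comp]; exact congrArg _ h1,
      by rw [secMap_comp, secMap_comp]; exact congrArg _ h2⟩
  have := sec_congr e (op U.unop) (secOf J (𝟙 U.unop))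
  rwa [secMap_secOf_id, secMap_secOf_id] at this

omit hR

/-- The presheaf quotient. -/
def quotPsh : Cᵒᵖ ⥤ Type u where
  obj U := Quot (RelSec p₁ p₂ U)
  map {U V} f := ↾(Quot.map (A.obj.map f) (fun _ _ h => relSec_map p₁ p₂ f h))
  map_id U := by
    ext x
    induction x using Quot.ind
    simp [Quot.map]
  map_comp {U V W} f g := by
    ext x
    induction x using Quot.ind
    simp [Quot.map]

/-- The projection to the presheaf quotient. -/
def quotMk : A.obj ⟶ quotPsh p₁ p₂ where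
  app U := ↾(Quot.mk _)
  naturality U V f := by
    ext x
    rfl

/-- The sheaf quotient. -/
noncomputable def quotSh : Sh J := (presheafToSheaf J (Type u)).obj (quotPsh p₁ p₂)

/-- The projection to the sheaf quotient. -/
noncomputable def quotπ : A ⟶ quotSh p₁ p₂ := ⟨quotMk p₁ p₂ ≫ toSheafify J (quotPsh p₁ p₂)⟩

theorem quotπ_app (U : Cᵒᵖ) (a : A.obj.obj U) :
    (quotπ p₁ p₂).hom.app U a = (toSheafify J (quotPsh p₁ p₂)).app U (Quot.mk _ a) := rfl

theorem quotπ_condition : p₁ ≫ quotπ p₁ p₂ = p₂ ≫ quotπ p₁ p₂ := by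
  ext U r
  change (quotπ p₁ p₂).hom.app U (p₁.hom.app U r) = (quotπ p₁ p₂).hom.app U (p₂.hom.app U r)
  rw [quotπ_app, quotπ_app]
  congr 1
  exact Quot.sound ⟨r, rfl, rfl⟩

theorem quotπ_jsurj : JSurj (fun _ : PUnit.{1} => quotπ p₁ p₂) := by
  intro V x
  refine ⟨_, Presheaf.imageSieve_mem J (toSheafify J (quotPsh p₁ p₂)) (U := op V) x, ?_⟩
  rintro W f ⟨y, hy⟩
  obtain ⟨a, rfl⟩ := Quot.exists_rep y
  exact ⟨PUnit.unit, a, hy⟩

instance : Epi (quotπ p₁ p₂) := (epi_iff_jsurj _).2 (quotπ_jsurj p₁ p₂)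

/-- The universal property of the sheaf quotient. -/
theorem quotπ_desc {Z : Sh J} (z : A ⟶ Z) (hz : p₁ ≫ z = p₂ ≫ z) :
    ∃ z' : quotSh p₁ p₂ ⟶ Z, quotπ p₁ p₂ ≫ z' = z := by
  let d : quotPsh p₁ p₂ ⟶ Z.obj :=
    { app := fun U => ↾(Quot.lift (z.hom.app U) (by
        rintro a b ⟨r, rfl, rfl⟩
        have := sec_congr hz U r
        rwa [sec_comp, sec_comp] at this))
      naturality := fun U V f => by
        ext x
        induction x using Quot.ind
        exact sec_naturality z f _ }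
  refine ⟨⟨sheafifyLift J d Z.2⟩, ?_⟩
  ext1
  change (quotMk p₁ p₂ ≫ toSheafify J (quotPsh p₁ p₂)) ≫ sheafifyLift J d Z.2 = z.hom
  rw [Category.assoc, toSheafify_sheafifyLift]
  ext U x
  rfl

include hR

/-- Effectiveness: sections identified in the quotient are related. -/
theorem relSec_of_quotπ_eq (V : C) (a b : A.obj.obj (op V))
    (h : (quotπ p₁ p₂).hom.app (op V) a = (quotπ p₁ p₂).hom.app (op V) b) :
    RelSec p₁ p₂ (op V) a b := by
  rw [quotπ_app, quotπ_app] at h
  have hS := Presheaf.equalizerSieve_mem J (toSheafify J (quotPsh p₁ p₂)) (X := op V) _ _ h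
  have hrel : ∀ ⦃W : C⦄ (f : W ⟶ V), (Presheaf.equalizerSieve (F := quotPsh p₁ p₂) (X := op V)
      (Quot.mk _ a) (Quot.mk _ b)) f → RelSec p₁ p₂ (op W) (A.obj.map f.op a) (A.obj.map f.op b) := by
    intro W f hf
    have h1 : Quot.mk (RelSec p₁ p₂ (op W)) (A.obj.map f.op a) =
        Quot.mk (RelSec p₁ p₂ (op W)) (A.obj.map f.op b) := hf
    exact (relSec_equivalence p₁ p₂ hR (op W)).eqvGen_iff.1 (Quot.eq.1 h1)
  choose r hr1 hr2 using hrel
  have hsh := (isSheaf_iff_isSheaf_of_type _ _).1 R.2 _ hS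
  let x : Presieve.FamilyOfElements R.obj (Presheaf.equalizerSieve (F := quotPsh p₁ p₂) (X := op V)
      (Quot.mk _ a) (Quot.mk _ b)).arrows := fun W f hf => r f hf
  have hx : x.Compatible := by
    intro W₁ W₂ W₃ g₁ g₂ f₁ f₂ hf₁ hf₂ hcomm
    apply relSec_inj p₁ p₂ hR
    · rw [sec_naturality, sec_naturality, hr1, hr1, ← Functor.map_comp_apply,
        ← Functor.map_comp_apply, ← op_comp, ← op_comp, hcomm]
    · rw [sec_naturality, sec_naturality, hr2, hr2, ← Functor.map_comp_apply,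
        ← Functor.map_comp_apply, ← op_comp, ← op_comp, hcomm]
  obtain ⟨t, ht, -⟩ := hsh x hx
  have hA := ((isSheaf_iff_isSheaf_of_type _ _).1 A.2).isSeparated _ hS
  refine ⟨t, ?_, ?_⟩
  · apply hA.ext
    intro W f hf
    rw [← sec_naturality, ht f hf]
    exact hr1 f hf
  · apply hA.ext
    intro W f hf
    rw [← sec_naturality, ht f hf]
    exact hr2 f hf

theorem isPullback_quotπ : IsPullback p₁ p₂ (quotπ p₁ p₂) (quotπ p₁ p₂) := by
  refine IsPullback.of_map (sheafToPresheaf J (Type u)) (quotπ_condition p₁ p₂) ?_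
  refine IsPullback.of_forall_isPullback_app (fun U => ?_)
  rw [Types.isPullback_iff]
  refine ⟨?_, ?_, ?_⟩
  · exact congr_app ((sheafToPresheaf J (Type u)).congr_map (quotπ_condition p₁ p₂)) U
  · rintro r r' ⟨h1, h2⟩
    exact relSec_inj p₁ p₂ hR U r r' h1 h2
  · intro a b hab
    exact relSec_of_quotπ_eq p₁ p₂ hR U.unop a b hab

theorem isPushout_quotπ : IsPushout p₁ p₂ (quotπ p₁ p₂) (quotπ p₁ p₂) := by
  obtain ⟨δ, hδ1, hδ2⟩ := (hR A).2.refl (𝟙 A)
  have hinl : ∀ s : PushoutCocone p₁ p₂, s.inl = s.inr := by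
    intro s
    calc s.inl = δ ≫ p₁ ≫ s.inl := by rw [← Category.assoc, hδ1, Category.id_comp]
      _ = δ ≫ p₂ ≫ s.inr := by rw [s.condition]
      _ = s.inr := by rw [← Category.assoc, hδ2, Category.id_comp]
  have hcoeq : ∀ s : PushoutCocone p₁ p₂, p₁ ≫ s.inl = p₂ ≫ s.inl := by
    intro s
    refine s.condition.trans ?_
    rw [← hinl s]
  exact ⟨⟨quotπ_condition p₁ p₂⟩, ⟨PushoutCocone.IsColimit.mk _
    (fun s => Classical.choose (quotπ_desc p₁ p₂ s.inl (hcoeq s)))
    (fun s => Classical.choose_spec (quotπ_desc p₁ p₂ s.inl (hcoeq s)))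
    (fun s => (Classical.choose_spec (quotπ_desc p₁ p₂ s.inl (hcoeq s))).trans (hinl s))
    (fun s m h1 _ => by
      rw [← cancel_epi (quotπ p₁ p₂), h1]
      exact (Classical.choose_spec (quotπ_desc p₁ p₂ s.inl (hcoeq s))).symm)⟩⟩

omit hR in
theorem effectiveEpi_pullback_snd_quotπ {B' : Sh J} (g : B' ⟶ quotSh p₁ p₂) :
    EffectiveEpi (pullback.snd (quotπ p₁ p₂) g) := by
  have h1 : JSurj (fun _ : PUnit.{1} => pullback.snd (quotπ p₁ p₂) g) :=
    (quotπ_jsurj p₁ p₂).base_change g (fun _ => pullback.fst (quotπ p₁ p₂) g) _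
      (fun _ => IsPullback.of_hasPullback _ _)
  have h2 : Epi (pullback.snd (quotπ p₁ p₂) g) := (epi_iff_jsurj _).2 h1
  exact (isRegularEpi_iff_effectiveEpi _).1 (IsRegularEpiCategory.regularEpiOfEpi _)

/-- Equivalence relations in a sheaf topos are effective and universal. -/
theorem isEffectiveUniversalEquivRel : SGA4.IsEffectiveUniversalEquivRel p₁ p₂ :=
  ⟨quotSh p₁ p₂, quotπ p₁ p₂, isPullback_quotπ p₁ p₂ hR, isPushout_quotπ p₁ p₂ hR,
    fun _ g => effectiveEpi_pullback_snd_quotπ p₁ p₂ g⟩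

end EquivRel

end Groth.Agent.Lib.Helper14.Topos
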