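import Groth.Agent.Lib.Helper14.Artin1
import Groth.Agent.Lib.Helper14.Topos16

/-!
# Artin gluing: small coproducts in the glued category are disjoint and universal (helper14)
-/

set_option autoImplicit false

universe u

open CategoryTheory CategoryTheory.Limits Opposite

namespace Groth.Agent.Lib.Helper14.Artin

open Groth.Agent.Lib.Helper14.Topos

variable {C D : Type u} [SmallCategory C] [SmallCategory D] {J : GrothendieckTopology C}
  {K : GrothendieckTopology D} (ρ : Sheaf J (Type u) ⥤ Sheaf K (Type u))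

/-- the glued category -/
abbrev Glue := Comma (𝟭 (Sheaf K (Type u))) ρ

/-- first projection -/
abbrev U₁ : Glue ρ ⥤ Sheaf K (Type u) := Comma.fst _ _

/-- second projection -/
abbrev U₂ : Glue ρ ⥤ Sheaf J (Type u) := Comma.snd _ _

variable [PreservesFiniteLimits ρ]

theorem hasDisjointUniversalCoproducts_glue :
    SGA4.HasDisjointUniversalCoproducts.{u + 1, u} (Glue ρ) := by
  intro ι Z
  let c : Cofan Z := Cofan.mk (∐ Z) (Sigma.ι Z)
  have hc : IsColimit c := coproductIsCoproduct Z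
  have hc₁ : IsColimit ((U₁ ρ).mapCocone c) := isColimitOfPreserves _ hc
  have hc₂ : IsColimit ((U₂ ρ).mapCocone c) := isColimitOfPreserves _ hc
  have hvk₁ := Groth.Agent.Lib.helper5.SheafVK.isVanKampenColimit_discrete_sheaf K _ hc₁
  have hvk₂ := Groth.Agent.Lib.helper5.SheafVK.isVanKampenColimit_discrete_sheaf J _ hc₂
  refine ⟨c, hc, ?_, ?_⟩
  · have hm : ∀ i, Mono (c.inj i) := fun i => by
      have h1 : Mono (c.inj i).left := mono_of_cofan_isVanKampen hvk₁ ⟨i⟩
      have h2 : Mono (c.inj i).right := mono_of_cofan_isVanKampen hvk₂ ⟨i⟩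
      exact mono_of_left_right _
    refine CoproductDisjoint.of_cofan hc
      (fun {i j} _ => (IsPullback.of_hasPullback (c.inj i) (c.inj j)).cone)
      (fun {i j} _ => (IsPullback.of_hasPullback (c.inj i) (c.inj j)).isLimit)
      (fun {i j} hij => ?_)
    have sq := IsPullback.of_hasPullback (c.inj i) (c.inj j)
    have hne : (⟨i⟩ : Discrete ι) ≠ ⟨j⟩ := fun e => hij (congrArg Discrete.as e)
    have sq₁ := isPullback_initial_to_of_cofan_isVanKampen hvk₁ ⟨i⟩ ⟨j⟩ hne
    have sq₂ := isPullback_initial_to_of_cofan_isVanKampen hvk₂ ⟨i⟩ ⟨j⟩ hne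
    have e₁ : (pullback (c.inj i) (c.inj j)).left ≅ ⊥_ _ :=
      (sq.map (U₁ ρ)).isoIsPullback _ _ sq₁
    have e₂ : (pullback (c.inj i) (c.inj j)).right ≅ ⊥_ _ :=
      (sq.map (U₂ ρ)).isoIsPullback _ _ sq₂
    exact isInitialOfLeftRight _ (initialIsInitial.ofIso e₁.symm) (initialIsInitial.ofIso e₂.symm)
      (initialIsInitial.ofIso e₁.symm)
  · intro F' c' α f h hα H
    have h₁ := hvk₁.isUniversal ((U₁ ρ).mapCocone c') (Functor.whiskerRight α (U₁ ρ))
      ((U₁ ρ).map f)
      (by apply NatTrans.ext; funext j; simpa using! (U₁ ρ).congr_map (NatTrans.congr_app h j))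
      (hα.whiskerRight (U₁ ρ)) (fun j ↦ (H j).map (U₁ ρ))
    have h₂ := hvk₂.isUniversal ((U₂ ρ).mapCocone c') (Functor.whiskerRight α (U₂ ρ))
      ((U₂ ρ).map f)
      (by apply NatTrans.ext; funext j; simpa using! (U₂ ρ).congr_map (NatTrans.congr_app h j))
      (hα.whiskerRight (U₂ ρ)) (fun j ↦ (H j).map (U₂ ρ))
    exact ⟨Comma.fstSndJointlyReflectColimit h₁.some h₂.some⟩

end Groth.Agent.Lib.Helper14.Artin
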