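import Groth.Prelude.Def_SGA4a
import Mathlib.CategoryTheory.Limits.Shapes.Pullback.IsPullback.Basic
import Mathlib.CategoryTheory.Limits.Preserves.Shapes.BinaryProducts
import Mathlib.CategoryTheory.Limits.Constructions.EpiMono

/-!
# Artin gluing: equivalence relations are preserved by pullback-preserving functors (helper14)
-/

set_option autoImplicit false

universe v₁ v₂ u₁ u₂

open CategoryTheory CategoryTheory.Limits Opposite

namespace Groth.Agent.Lib.Helper14.Artin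

variable {E : Type u₁} [Category.{v₁} E] {𝒟 : Type u₂} [Category.{v₂} 𝒟]

/-- A pair of morphisms is jointly monic. -/
def JointlyMonic {R A : E} (p₁ p₂ : R ⟶ A) : Prop :=
  ∀ ⦃T : E⦄ (f g : T ⟶ R), f ≫ p₁ = g ≫ p₁ → f ≫ p₂ = g ≫ p₂ → f = g

theorem SGA4_IsEquivRel.jointlyMonic {R A : E} {p₁ p₂ : R ⟶ A} (h : SGA4.IsEquivRel p₁ p₂) :
    JointlyMonic p₁ p₂ := by
  intro T f g h1 h2
  exact (h T).1 (Prod.ext h1 h2)

/-- An equivalence relation in the sense of generalized points is preserved by a functor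
preserving the pullback `R ×_A R` and for which the image pair is jointly monic. -/
theorem isEquivRel_map [HasPullbacks E] {R A : E} {p₁ p₂ : R ⟶ A}
    (h : SGA4.IsEquivRel p₁ p₂) (G : E ⥤ 𝒟) [PreservesLimit (cospan p₂ p₁) G]
    (hjm : JointlyMonic (G.map p₁) (G.map p₂)) :
    SGA4.IsEquivRel (G.map p₁) (G.map p₂) := by
  -- reflexivity, symmetry and transitivity maps
  obtain ⟨r, hr₁, hr₂⟩ := (h A).2.refl (𝟙 A)
  obtain ⟨s, hs₁, hs₂⟩ := (h R).2.symm ⟨𝟙 R, Category.id_comp p₁, Category.id_comp p₂⟩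
  obtain ⟨t, ht₁, ht₂⟩ := (h (pullback p₂ p₁)).2.trans
    (⟨pullback.fst p₂ p₁, rfl, rfl⟩ :
      ∃ f : pullback p₂ p₁ ⟶ R, f ≫ p₁ = pullback.fst p₂ p₁ ≫ p₁ ∧
        f ≫ p₂ = pullback.fst p₂ p₁ ≫ p₂)
    (⟨pullback.snd p₂ p₁, pullback.condition.symm, rfl⟩ :
      ∃ f : pullback p₂ p₁ ⟶ R, f ≫ p₁ = pullback.fst p₂ p₁ ≫ p₂ ∧
        f ≫ p₂ = pullback.snd p₂ p₁ ≫ p₂)
  have sq := (IsPullback.of_hasPullback p₂ p₁).map G
  intro T
  refine ⟨fun f g hfg => ?_, ⟨fun a => ?_, fun {a b} hab => ?_, fun {a b c} hab hbc => ?_⟩⟩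
  · simp only [Prod.mk.injEq] at hfg
    exact hjm f g hfg.1 hfg.2
  · exact ⟨a ≫ G.map r, by rw [Category.assoc, ← G.map_comp, hr₁, G.map_id, Category.comp_id],
      by rw [Category.assoc, ← G.map_comp, hr₂, G.map_id, Category.comp_id]⟩
  · obtain ⟨f, rfl, rfl⟩ := hab
    exact ⟨f ≫ G.map s, by rw [Category.assoc, ← G.map_comp, hs₁],
      by rw [Category.assoc, ← G.map_comp, hs₂]⟩
  · obtain ⟨f, rfl, rfl⟩ := hab
    obtain ⟨g, hg₁, rfl⟩ := hbc
    refine ⟨sq.lift f g hg₁.symm ≫ G.map t, ?_, ?_⟩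
    · rw [Category.assoc, ← G.map_comp, ht₁, G.map_comp, ← Category.assoc, sq.lift_fst]
    · rw [Category.assoc, ← G.map_comp, ht₂, G.map_comp, ← Category.assoc, sq.lift_snd]

/-- A functor preserving binary products and monomorphisms preserves jointly monic pairs. -/
theorem jointlyMonic_map [HasBinaryProducts E] {R A : E} {p₁ p₂ : R ⟶ A}
    (h : JointlyMonic p₁ p₂) (G : E ⥤ 𝒟) [PreservesLimit (pair A A) G]
    [G.PreservesMonomorphisms] : JointlyMonic (G.map p₁) (G.map p₂) := by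
  have hm : Mono (prod.lift p₁ p₂) := ⟨fun f g hfg => h f g
    (by
      have := congrArg (fun k => k ≫ prod.fst) hfg
      simpa only [Category.assoc, Limits.prod.lift_fst] using this)
    (by
      have := congrArg (fun k => k ≫ prod.snd) hfg
      simpa only [Category.assoc, Limits.prod.lift_snd] using this)⟩
  have hGm : Mono (G.map (prod.lift p₁ p₂)) := inferInstance
  have hlim : IsLimit (BinaryFan.mk (G.map (prod.fst : A ⨯ A ⟶ A)) (G.map prod.snd)) :=
    isLimitMapConeBinaryFanEquiv G _ _ (isLimitOfPreserves G (prodIsProd A A))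
  intro T f g h1 h2
  rw [← cancel_mono (G.map (prod.lift p₁ p₂))]
  have key : ∀ (x y : T ⟶ G.obj (A ⨯ A)), x ≫ G.map prod.fst = y ≫ G.map prod.fst →
      x ≫ G.map prod.snd = y ≫ G.map prod.snd → x = y :=
    fun x y hx hy => BinaryFan.IsLimit.hom_ext hlim hx hy
  have e1 : G.map (prod.lift p₁ p₂) ≫ G.map prod.fst = G.map p₁ := by
    rw [← G.map_comp, Limits.prod.lift_fst]
  have e2 : G.map (prod.lift p₁ p₂) ≫ G.map prod.snd = G.map p₂ := by
    rw [← G.map_comp, Limits.prod.lift_snd]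
  apply key
  · rw [Category.assoc, Category.assoc, e1]
    exact h1
  · rw [Category.assoc, Category.assoc, e2]
    exact h2

end Groth.Agent.Lib.Helper14.Artin
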