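import Groth.Prelude.Def_SGA4a
import Mathlib.CategoryTheory.Sites.EffectiveEpimorphic
import Mathlib.CategoryTheory.Sites.Canonical
import Mathlib.CategoryTheory.EffectiveEpi.Comp
import Mathlib.CategoryTheory.Limits.VanKampen

/-!
# Giraud's theorem, part 1: covering sieves of the canonical topology from the axioms (helper14)
-/

set_option autoImplicit false

universe w v u

open CategoryTheory CategoryTheory.Limits Opposite

namespace Groth.Agent.Lib.Helper14.Giraud

variable {E : Type v} [Category.{u} E]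

section UEE

variable [HasPullbacks E]

/-- universally effective epimorphism (in the form used by `SGA4.IsEffectiveUniversalEquivRel`) -/
def UEE {A B : E} (p : A ⟶ B) : Prop :=
  ∀ (B' : E) (g : B' ⟶ B), EffectiveEpi (pullback.snd p g)

theorem UEE.effectiveEpi {A B : E} {p : A ⟶ B} (hp : UEE p) : EffectiveEpi p := by
  have h := hp B (𝟙 B)
  have e : pullback.snd p (𝟙 B) = (pullback.fst p (𝟙 B)) ≫ p := by
    rw [pullback.condition, Category.comp_id]
  have : IsIso (pullback.fst p (𝟙 B)) := inferInstance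
  have h2 : EffectiveEpi ((inv (pullback.fst p (𝟙 B))) ≫ pullback.snd p (𝟙 B)) := inferInstance
  have e2 : (inv (pullback.fst p (𝟙 B))) ≫ pullback.snd p (𝟙 B) = p := by
    rw [e, IsIso.inv_hom_id_assoc]
  rwa [e2] at h2

theorem UEE.epi {A B : E} {p : A ⟶ B} (hp : UEE p) : Epi p := by
  have := hp.effectiveEpi
  infer_instance

theorem pullback_generate_singleton {A B Y : E} (p : A ⟶ B) (f : Y ⟶ B) :
    (Sieve.generate (Presieve.singleton p)).pullback f =
      Sieve.generate (Presieve.singleton (pullback.snd p f)) := by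
  ext Z g
  constructor
  · rintro ⟨Z', k, _, ⟨⟩, hk⟩
    exact ⟨_, pullback.lift k g hk, _, ⟨⟩, pullback.lift_snd _ _ _⟩
  · rintro ⟨Z', k, _, ⟨⟩, rfl⟩
    exact ⟨_, k ≫ pullback.fst p f, p, ⟨⟩, by simp [pullback.condition]⟩

theorem mem_canonical_of_uee {A B : E} (p : A ⟶ B) (hp : UEE p) :
    Sieve.generate (Presieve.singleton p) ∈ Sheaf.canonicalTopology E B := by
  apply Sheaf.mem_finestTopology_of_forall_isSheafFor
  rintro _ ⟨W, rfl⟩ Y f
  rw [pullback_generate_singleton, ← Presieve.isSheafFor_iff_generate]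
  have := (Sieve.effectiveEpimorphic_singleton _).2 (hp Y f)
  exact (Presieve.EffectiveEpimorphic.iff_forall_isSheafFor_yoneda _).1 this W

end UEE

section Cofan

variable [HasPullbacks E]

/-- the pulled back cofan of a universal cofan is a colimit -/
theorem nonempty_isColimit_pullback_cofan {ι : Type w} {X : ι → E} (c : Cofan X)
    (hc : IsUniversalColimit c) {Z : E} (f : Z ⟶ c.pt) :
    Nonempty (IsColimit (Cofan.mk Z (fun a => pullback.fst f (c.inj a)))) := by
  refine hc (Cofan.mk Z (fun a => pullback.fst f (c.inj a)))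
    (Discrete.natTrans (fun a => pullback.snd f (c.inj a.as))) f ?_
    (NatTrans.Equifibered.of_discrete _) ?_
  · ext ⟨a⟩
    simp only [Discrete.functor_obj_eq_as, Functor.const_obj_obj, NatTrans.comp_app,
      Discrete.natTrans_app, Functor.const_map_app]
    exact pullback.condition.symm
  · rintro ⟨a⟩
    exact IsPullback.of_hasPullback f (c.inj a)

theorem pullback_generate_ofArrows {ι : Type w} {X : ι → E} {Y : E} (π : ∀ a, X a ⟶ Y)
    {Z : E} (f : Z ⟶ Y) :
    (Sieve.generate (Presieve.ofArrows X π)).pullback f =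
      Sieve.generate (Presieve.ofArrows (fun a => pullback f (π a))
        (fun a => pullback.fst f (π a))) := by
  ext T g
  constructor
  · rintro ⟨T', k, _, ⟨a⟩, hk⟩
    exact ⟨_, pullback.lift g k hk.symm, _, ⟨a⟩, pullback.lift_fst _ _ _⟩
  · rintro ⟨T', k, _, ⟨a⟩, rfl⟩
    exact ⟨_, k ≫ pullback.snd f (π a), π a, ⟨a⟩, by simp [pullback.condition]⟩

theorem isSheafFor_yoneda_of_isColimit {ι : Type w} {X : ι → E} (c : Cofan X) (hc : IsColimit c)
    (W : E) : Presieve.IsSheafFor (yoneda.obj W) (Presieve.ofArrows X c.inj) := by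
  rw [Presieve.isSheafFor_arrows_iff]
  intro x _
  refine ⟨Cofan.IsColimit.desc hc x, fun a => ?_, fun t ht => ?_⟩
  · exact Cofan.IsColimit.fac hc x a
  · refine Cofan.IsColimit.hom_ext hc _ _ fun a => ?_
    rw [Cofan.IsColimit.fac hc x a]
    exact ht a

theorem mem_canonical_of_isUniversalColimit {ι : Type w} {X : ι → E} (c : Cofan X)
    (hc : IsUniversalColimit c) :
    Sieve.generate (Presieve.ofArrows X c.inj) ∈ Sheaf.canonicalTopology E c.pt := by
  apply Sheaf.mem_finestTopology_of_forall_isSheafFor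
  rintro _ ⟨W, rfl⟩ Z f
  rw [pullback_generate_ofArrows, ← Presieve.isSheafFor_iff_generate]
  obtain ⟨h⟩ := nonempty_isColimit_pullback_cofan c hc f
  exact isSheafFor_yoneda_of_isColimit _ h W

end Cofan

section Image

theorem isEquivRel_of_isKernelPair {R A X : E} {p₁ p₂ : R ⟶ A} {f : A ⟶ X}
    (h : IsPullback p₁ p₂ f f) : SGA4.IsEquivRel p₁ p₂ := by
  intro T
  have key : ∀ a b : T ⟶ A, (∃ g : T ⟶ R, g ≫ p₁ = a ∧ g ≫ p₂ = b) ↔ a ≫ f = b ≫ f := by
    intro a b
    constructor
    · rintro ⟨g, rfl, rfl⟩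
      simp [h.w]
    · intro hab
      exact ⟨h.lift a b hab, h.lift_fst _ _ _, h.lift_snd _ _ _⟩
  refine ⟨fun g g' hgg' => ?_, ?_⟩
  · simp only [Prod.mk.injEq] at hgg'
    exact h.hom_ext hgg'.1 hgg'.2
  · exact ⟨fun a => (key a a).2 rfl, fun {a b} hab => (key b a).2 ((key a b).1 hab).symm,
      fun {a b c} hab hbc => (key a c).2 (((key a b).1 hab).trans ((key b c).1 hbc))⟩

variable [HasPullbacks E]

theorem exists_image_factorization
    (hc : ∀ (R A : E) (p₁ p₂ : R ⟶ A), SGA4.IsEquivRel p₁ p₂ →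
      SGA4.IsEffectiveUniversalEquivRel p₁ p₂) {A X : E} (f : A ⟶ X) :
    ∃ (B : E) (π : A ⟶ B) (m : B ⟶ X), π ≫ m = f ∧ UEE π ∧ Mono m := by
  obtain ⟨B, π, hpb, hpo, huee⟩ := hc _ _ _ _
    (isEquivRel_of_isKernelPair (IsPullback.of_hasPullback f f))
  let m : B ⟶ X := hpo.desc f f pullback.condition
  have hm : π ≫ m = f := hpo.inl_desc _ _ _
  refine ⟨B, π, m, hm, huee, ⟨fun {T} a b hab => ?_⟩⟩
  -- lift `a` and `b` to `A` after two base changes of `π`
  have e1 : Epi (pullback.snd π a) := by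
    have := huee T a
    infer_instance
  let t₁ := pullback.snd π a
  let a₁ := pullback.fst π a
  have e2 : Epi (pullback.snd π (t₁ ≫ b)) := by
    have := huee _ (t₁ ≫ b)
    infer_instance
  let t₂ := pullback.snd π (t₁ ≫ b)
  let b₂ := pullback.fst π (t₁ ≫ b)
  have ha₁ : a₁ ≫ π = t₁ ≫ a := pullback.condition
  have hb₂ : b₂ ≫ π = t₂ ≫ t₁ ≫ b := pullback.condition
  have hf : (t₂ ≫ a₁) ≫ f = b₂ ≫ f := by
    rw [← hm, Category.assoc, reassoc_of% ha₁, reassoc_of% hb₂, hab]
  have h3 : (t₂ ≫ a₁) ≫ π = b₂ ≫ π := by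
    have h4 := congrArg (fun k => pullback.lift (t₂ ≫ a₁) b₂ hf ≫ k) hpb.w
    simp only [← Category.assoc] at h4
    rwa [pullback.lift_fst, pullback.lift_snd] at h4
  rw [Category.assoc, ha₁, hb₂] at h3
  rw [← cancel_epi t₁, ← cancel_epi t₂]
  exact h3

end Image

end Groth.Agent.Lib.Helper14.Giraud
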