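import Groth.Agent.Lib.Helper14.Artin2
import Groth.Agent.Lib.Helper14.Artin3
import Groth.Agent.Lib.Helper14.Giraud1

/-!
# Artin gluing: equivalence relations in the glued category are effective and universal
(helper14)
-/

set_option autoImplicit false

universe u

open CategoryTheory CategoryTheory.Limits Opposite

namespace Groth.Agent.Lib.Helper14.Artin

open Groth.Agent.Lib.Helper14.Topos Groth.Agent.Lib.Helper14.Giraud

variable {C D : Type u} [SmallCategory C] [SmallCategory D] {J : GrothendieckTopology C}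
  {K : GrothendieckTopology D} (ρ : Sheaf J (Type u) ⥤ Sheaf K (Type u))
  [PreservesFiniteLimits ρ]

theorem jointlyMonic_right {R A : Glue ρ} {p₁ p₂ : R ⟶ A} (h : SGA4.IsEquivRel p₁ p₂) :
    JointlyMonic p₁.right p₂.right := by
  intro T f g h1 h2
  let T' : Glue ρ := ⟨⊥_ _, T, initial.to _⟩
  let f' : T' ⟶ R := { left := initial.to _, right := f, w := initialIsInitial.hom_ext _ _ }
  let g' : T' ⟶ R := { left := initial.to _, right := g, w := initialIsInitial.hom_ext _ _ }
  have e : f' = g' := by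
    apply (h T').1
    refine Prod.ext ?_ ?_
    · refine CommaMorphism.ext ?_ ?_
      · exact initialIsInitial.hom_ext _ _
      · exact h1
    · refine CommaMorphism.ext ?_ ?_
      · exact initialIsInitial.hom_ext _ _
      · exact h2
  exact congrArg CommaMorphism.right e

theorem jointlyMonic_left {R A : Glue ρ} {p₁ p₂ : R ⟶ A} (h : SGA4.IsEquivRel p₁ p₂) :
    JointlyMonic p₁.left p₂.left := by
  intro T f g h1 h2
  have hρ := jointlyMonic_map (jointlyMonic_right ρ h) ρ
  have w1 : p₁.left ≫ A.hom = R.hom ≫ ρ.map p₁.right := p₁.w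
  have w2 : p₂.left ≫ A.hom = R.hom ≫ ρ.map p₂.right := p₂.w
  have hφ : f ≫ R.hom = g ≫ R.hom := by
    apply hρ
    · rw [Category.assoc, Category.assoc, ← w1, ← Category.assoc, h1, Category.assoc]
    · rw [Category.assoc, Category.assoc, ← w2, ← Category.assoc, h2, Category.assoc]
  let T' : Glue ρ := ⟨T, R.right, f ≫ R.hom⟩
  let f' : T' ⟶ R := { left := f, right := 𝟙 _, w := by simp [T'] }
  let g' : T' ⟶ R := { left := g, right := 𝟙 _, w := by simp [T', hφ] }
  have e : f' = g' := by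
    apply (h T').1
    refine Prod.ext ?_ ?_
    · refine CommaMorphism.ext ?_ ?_
      · exact h1
      · rfl
    · refine CommaMorphism.ext ?_ ?_
      · exact h2
      · rfl
  exact congrArg CommaMorphism.left e

theorem effectiveEpi_of_epi_left_right {X Y : Glue ρ} (q : X ⟶ Y) [Epi q.left] [Epi q.right] :
    EffectiveEpi q := by
  apply effectiveEpi_of_kernelPair q
  have sq := IsPullback.of_hasPullback q q
  have hre₁ : IsRegularEpi ((U₁ ρ).map q) :=
    IsRegularEpiCategory.regularEpiOfEpi (C := Sheaf K (Type u)) q.left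
  have hre₂ : IsRegularEpi ((U₂ ρ).map q) :=
    IsRegularEpiCategory.regularEpiOfEpi (C := Sheaf J (Type u)) q.right
  have col₁ := IsKernelPair.toCoequalizer' (sq.map (U₁ ρ))
  have col₂ := IsKernelPair.toCoequalizer' (sq.map (U₂ ρ))
  apply Comma.fstSndJointlyReflectColimit
  · exact (isColimitMapCoconeCoforkEquiv (U₁ ρ) _).symm col₁
  · exact (isColimitMapCoconeCoforkEquiv (U₂ ρ) _).symm col₂

theorem isEffectiveUniversalEquivRel_glue {R A : Glue ρ} (p₁ p₂ : R ⟶ A)
    (h : SGA4.IsEquivRel p₁ p₂) : SGA4.IsEffectiveUniversalEquivRel p₁ p₂ := by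
  have h₁ : SGA4.IsEquivRel p₁.left p₂.left := isEquivRel_map h (U₁ ρ) (jointlyMonic_left ρ h)
  have h₂ : SGA4.IsEquivRel p₁.right p₂.right :=
    isEquivRel_map h (U₂ ρ) (jointlyMonic_right ρ h)
  obtain ⟨B₁, q₁, hpb₁, hpo₁, huee₁⟩ :=
    Groth.Agent.Lib.Helper14.Topos.isEffectiveUniversalEquivRel p₁.left p₂.left h₁
  obtain ⟨B₂, q₂, hpb₂, hpo₂, huee₂⟩ :=
    Groth.Agent.Lib.Helper14.Topos.isEffectiveUniversalEquivRel p₁.right p₂.right h₂
  have w1 : p₁.left ≫ A.hom = R.hom ≫ ρ.map p₁.right := p₁.w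
  have w2 : p₂.left ≫ A.hom = R.hom ≫ ρ.map p₂.right := p₂.w
  have hcond : p₁.left ≫ (A.hom ≫ ρ.map q₂) = p₂.left ≫ (A.hom ≫ ρ.map q₂) := by
    rw [← Category.assoc, w1, ← Category.assoc, w2, Category.assoc, Category.assoc,
      ← ρ.map_comp, ← ρ.map_comp, hpb₂.w]
  let B : Glue ρ := ⟨B₁, B₂, hpo₁.desc _ _ hcond⟩
  let π : A ⟶ B := { left := q₁, right := q₂, w := hpo₁.inl_desc _ _ _ }
  have comm : p₁ ≫ π = p₂ ≫ π := by
    refine CommaMorphism.ext ?_ ?_
    · exact hpb₁.w
    · exact hpb₂.w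
  refine ⟨B, π, isPullback_of_left_right comm hpb₁ hpb₂,
    isPushout_of_left_right comm hpo₁ hpo₂, ?_⟩
  intro B' g
  have sq := IsPullback.of_hasPullback π g
  have hq₁ : Epi q₁ := UEE.epi huee₁
  have hq₂ : Epi q₂ := UEE.epi huee₂
  have e₁ : Epi (pullback.snd π g).left := by
    rw [epi_iff_jsurj] at hq₁ ⊢
    exact hq₁.base_change g.left (fun _ => (pullback.fst π g).left)
      (fun _ => (pullback.snd π g).left) (fun _ => sq.map (U₁ ρ))
  have e₂ : Epi (pullback.snd π g).right := by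
    rw [epi_iff_jsurj] at hq₂ ⊢
    exact hq₂.base_change g.right (fun _ => (pullback.fst π g).right)
      (fun _ => (pullback.snd π g).right) (fun _ => sq.map (U₂ ρ))
  exact effectiveEpi_of_epi_left_right ρ _

end Groth.Agent.Lib.Helper14.Artin
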