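import Groth.Agent.Lib.Helper14.Artin4
import Mathlib.CategoryTheory.Presentable.Presheaf
import Mathlib.CategoryTheory.Presentable.LocallyPresentable

/-!
# Artin gluing: a small detecting family in the glued category (helper14)
-/

set_option autoImplicit false

universe u

open CategoryTheory CategoryTheory.Limits Opposite

namespace Groth.Agent.Lib.Helper14.Artin

open ToposFin Groth.Agent.Lib.Helper14.Topos Groth.Agent.Lib.Helper14.Giraud

variable {C D : Type u} [SmallCategory C] [SmallCategory D] {J : GrothendieckTopology C}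
  {K : GrothendieckTopology D} (ρ : Sheaf J (Type u) ⥤ Sheaf K (Type u))
  (P₀ : ObjectProperty (Cᵒᵖ ⥤ Type u))

/-- index type of the main generators -/
def GenIdx : Type (u + 1) :=
  Σ (b : D) (P : Subtype P₀), (eps K b ⟶ ρ.obj ((presheafToSheaf J (Type u)).obj P.1))

/-- the main generators `(ε b, a P, φ)` -/
noncomputable def genObj (i : GenIdx ρ P₀) : Glue ρ :=
  ⟨eps K i.1, (presheafToSheaf J (Type u)).obj i.2.1.1, i.2.2⟩

/-- the generators `(∅, ε c, !)` -/
noncomputable def genObj' (c : C) : Glue ρ := ⟨⊥_ _, eps J c, initial.to _⟩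

variable (κ : Cardinal.{u}) [Fact κ.IsRegular] [ρ.IsCardinalAccessible κ]

include κ in
theorem hom_ext_of_gen (hgen : P₀.IsCardinalFilteredGenerator κ)
    (W : Glue ρ) {Z : Sheaf K (Type u)} (u v : W.left ⟶ Z)
    (h : ∀ (i : GenIdx ρ P₀) (m : genObj ρ P₀ i ⟶ W), m.left ≫ u = m.left ≫ v) : u = v := by
  obtain ⟨𝒥, _, _, ⟨pres⟩⟩ := hgen.exists_colimitsOfShape W.right.obj
  let a := presheafToSheaf J (Type u)
  let adj := sheafificationAdjunction J (Type u)
  have hcol₁ : IsColimit (a.mapCocone ⟨_, pres.ι⟩) := isColimitOfPreserves a pres.isColimit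
  have : PreservesColimitsOfShape 𝒥 ρ := ρ.preservesColimitsOfShape_of_isCardinalAccessible κ 𝒥
  have hcol₂ : IsColimit (ρ.mapCocone (a.mapCocone ⟨_, pres.ι⟩)) := isColimitOfPreserves ρ hcol₁
  let ε : a.obj W.right.obj ≅ W.right := asIso (adj.counit.app W.right)
  let x : ∀ j, a.obj (pres.diag.obj j) ⟶ W.right := fun j => a.map (pres.ι.app j) ≫ ε.hom
  have hjs : JSurj (fun j => ρ.map (x j)) := by
    rw [jsurj_iff_jepi]
    intro Z' s t hst
    have h2 : ρ.map ε.hom ≫ s = ρ.map ε.hom ≫ t := hcol₂.hom_ext (fun j => by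
      have := hst j
      simp only [x, Functor.map_comp, Category.assoc] at this
      exact this)
    exact (cancel_epi (ρ.map ε.hom)).1 h2
  have hjs2 := hjs.base_change W.hom (fun j => pullback.fst (ρ.map (x j)) W.hom)
    (fun j => pullback.snd (ρ.map (x j)) W.hom) (fun j => IsPullback.of_hasPullback _ _)
  have hjs3 := hjs2.comp
    (fun j (p : Σ b : D, (pullback (ρ.map (x j)) W.hom).obj.obj (op b)) => secMap _ p.2)
    (fun j => jsurj_secMap _)
  apply hjs3.jepi
  rintro ⟨j, b, y⟩
  let i : GenIdx ρ P₀ := ⟨b, ⟨pres.diag.obj j, pres.prop_diag_obj j⟩,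
    secMap _ y ≫ pullback.fst (ρ.map (x j)) W.hom⟩
  let m : genObj ρ P₀ i ⟶ W :=
    { left := secMap _ y ≫ pullback.snd (ρ.map (x j)) W.hom
      right := x j
      w := by
        change (secMap _ y ≫ pullback.snd (ρ.map (x j)) W.hom) ≫ W.hom =
          (secMap _ y ≫ pullback.fst (ρ.map (x j)) W.hom) ≫ ρ.map (x j)
        rw [Category.assoc, Category.assoc, pullback.condition] }
  exact h i m

variable [PreservesFiniteLimits ρ]

include κ in
theorem isIso_of_gen (hgen : P₀.IsCardinalFilteredGenerator κ) {X₁ X₂ : Glue ρ} (f : X₁ ⟶ X₂)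
    (h₁ : ∀ (i : GenIdx ρ P₀) (m : genObj ρ P₀ i ⟶ X₂), ∃! m' : genObj ρ P₀ i ⟶ X₁, m' ≫ f = m)
    (h₂ : ∀ (c : C) (m : genObj' ρ c ⟶ X₂), ∃! m' : genObj' ρ c ⟶ X₁, m' ≫ f = m) :
    IsIso f := by
  -- the right component
  have key₂ : ∀ (c : C) (x : eps J c ⟶ X₂.right), ∃! x' : eps J c ⟶ X₁.right,
      x' ≫ f.right = x := by
    intro c x
    let m : genObj' ρ c ⟶ X₂ :=
      { left := initial.to _, right := x, w := initialIsInitial.hom_ext _ _ }
    obtain ⟨m', hm', huniq⟩ := h₂ c m
    refine ⟨m'.right, congrArg CommaMorphism.right hm', fun x'' hx'' => ?_⟩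
    let m'' : genObj' ρ c ⟶ X₁ :=
      { left := initial.to _, right := x'', w := initialIsInitial.hom_ext _ _ }
    have e : m'' = m' := huniq m'' (by
      refine CommaMorphism.ext ?_ ?_
      · exact initialIsInitial.hom_ext _ _
      · exact hx'')
    exact congrArg CommaMorphism.right e
  have hmono₂ : Mono f.right := by
    constructor
    intro T a b hab
    apply (jsurj_secMap T).jepi
    rintro ⟨c, t⟩
    obtain ⟨x', -, huniq⟩ := key₂ c (secMap T t ≫ a ≫ f.right)
    have e1 : secMap T t ≫ a = x' := huniq _ (Category.assoc _ _ _)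
    have e2 : secMap T t ≫ b = x' := huniq _ (by
      show (secMap T t ≫ b) ≫ f.right = secMap T t ≫ a ≫ f.right
      rw [Category.assoc, hab])
    exact e1.trans e2.symm
  have hepi₂ : Epi f.right := by
    constructor
    intro Z s t hst
    apply (jsurj_secMap X₂.right).jepi
    rintro ⟨c, y⟩
    obtain ⟨x', hx', -⟩ := key₂ c (secMap X₂.right y)
    change secMap X₂.right y ≫ s = secMap X₂.right y ≫ t
    rw [← hx', Category.assoc, Category.assoc, hst]
  have hiso₂ : IsIso f.right := isIso_of_mono_of_epi _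
  -- the left component
  have hepi₁ : Epi f.left := by
    constructor
    intro Z s t hst
    apply hom_ext_of_gen ρ P₀ κ hgen X₂ s t
    intro i m
    obtain ⟨m', hm', -⟩ := h₁ i m
    rw [← hm']
    change (m'.left ≫ f.left) ≫ s = (m'.left ≫ f.left) ≫ t
    rw [Category.assoc, Category.assoc, hst]
  have hmono₁ : Mono f.left := by
    constructor
    intro T a b hab
    apply (jsurj_secMap T).jepi
    rintro ⟨b₀, t⟩
    change secMap T t ≫ a = secMap T t ≫ b
    obtain ⟨a', ha'⟩ : ∃ a', a' = secMap T t ≫ a := ⟨_, rfl⟩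
    obtain ⟨b', hb'⟩ : ∃ b', b' = secMap T t ≫ b := ⟨_, rfl⟩
    rw [← ha', ← hb']
    have hab' : a' ≫ f.left = b' ≫ f.left := by
      rw [ha', hb', Category.assoc, Category.assoc, hab]
    have w : f.left ≫ X₂.hom = X₁.hom ≫ ρ.map f.right := f.w
    have hρ : IsIso (ρ.map f.right) := inferInstance
    have hψ : a' ≫ X₁.hom = b' ≫ X₁.hom := by
      rw [← cancel_mono (ρ.map f.right), Category.assoc, Category.assoc, ← w,
        ← Category.assoc, hab', Category.assoc]
    let W : Glue ρ := ⟨eps K b₀, X₁.right, a' ≫ X₁.hom⟩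
    let at' : W ⟶ X₁ := { left := a', right := 𝟙 _, w := by simp [W] }
    let bt' : W ⟶ X₁ := { left := b', right := 𝟙 _, w := by simp [W, hψ] }
    have hat'bt' : at' ≫ f = bt' ≫ f := by
      refine CommaMorphism.ext ?_ ?_
      · exact hab'
      · rfl
    apply hom_ext_of_gen ρ P₀ κ hgen W a' b'
    intro i m
    obtain ⟨m', -, huniq⟩ := h₁ i (m ≫ at' ≫ f)
    have e1 : m ≫ at' = m' := huniq _ (Category.assoc _ _ _)
    have e2 : m ≫ bt' = m' := huniq _ (by
      show (m ≫ bt') ≫ f = m ≫ at' ≫ f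
      rw [Category.assoc, hat'bt'])
    exact congrArg CommaMorphism.left (e1.trans e2.symm)
  have hiso₁ : IsIso f.left := isIso_of_mono_of_epi _
  exact isIso_of_left_right f

end Groth.Agent.Lib.Helper14.Artin
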