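import Mathlib
import Groth.Agent.Lib.Helper14.PrincBundle

/-!
# helper14: fibre products of associated bundles
-/

set_option autoImplicit false
universe u
open CategoryTheory CategoryTheory.Limits AlgebraicGeometry MorphismProperty

namespace Groth.Agent.Lib.Helper14.AssocBundle

/-- `A = AX ×_G AY`, `AY = G ×_B QY`, `A = AX ×_{QX} QXY`, and `qX` an fpqc cover imply
`QXY = QX ×_B QY` -/
theorem isPullback_of_cover {A AX AY G B QX QY QXY : Scheme.{u}}
    (α : A ⟶ AX) (β : A ⟶ AY) (γX : AX ⟶ G) (γY : AY ⟶ G) (π : G ⟶ B)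
    (qX : AX ⟶ QX) (qY : AY ⟶ QY) (qXY : A ⟶ QXY) (pX : QX ⟶ B) (pY : QY ⟶ B)
    (fX : QXY ⟶ QX) (fY : QXY ⟶ QY)
    (hprod : IsPullback α β γX γY) (h4 : IsPullback γY qY π pY) (hA : IsPullback α qXY qX fX)
    (hfY : qXY ≫ fY = β ≫ qY) (hpX : qX ≫ pX = γX ≫ π) (hcomm : fX ≫ pX = fY ≫ pY)
    [Flat qX] [Surjective qX] [QuasiCompact qX] : IsPullback fX fY pX pY := by
  obtain ⟨w₁, hw₁⟩ : ∃ w₁ : pullback pX pY ⟶ QX, w₁ = pullback.fst pX pY := ⟨_, rfl⟩
  obtain ⟨w₂, hw₂⟩ : ∃ w₂ : pullback pX pY ⟶ QY, w₂ = pullback.snd pX pY := ⟨_, rfl⟩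
  have hW : IsPullback w₁ w₂ pX pY := by
    rw [hw₁, hw₂]; exact IsPullback.of_hasPullback pX pY
  obtain ⟨c, hc⟩ : ∃ c : QXY ⟶ pullback pX pY, c = pullback.lift fX fY hcomm := ⟨_, rfl⟩
  have hc1 : c ≫ w₁ = fX := by rw [hc, hw₁]; exact pullback.lift_fst _ _ _
  have hc2 : c ≫ w₂ = fY := by rw [hc, hw₂]; exact pullback.lift_snd _ _ _
  obtain ⟨v₁, hv₁⟩ : ∃ v₁ : pullback w₁ qX ⟶ pullback pX pY, v₁ = pullback.fst w₁ qX := ⟨_, rfl⟩
  obtain ⟨v₂, hv₂⟩ : ∃ v₂ : pullback w₁ qX ⟶ AX, v₂ = pullback.snd w₁ qX := ⟨_, rfl⟩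
  have hV : IsPullback v₁ v₂ w₁ qX := by
    rw [hv₁, hv₂]; exact IsPullback.of_hasPullback w₁ qX
  have hQv : (@Surjective ⊓ @Flat ⊓ @QuasiCompact : MorphismProperty Scheme.{u}) v₁ := by
    rw [hv₁]
    exact ⟨⟨inferInstance, inferInstance⟩, inferInstance⟩
  have hV' : IsPullback (v₁ ≫ w₂) v₂ pY (γX ≫ π) := by
    have := hV.paste_horiz hW.flip
    rwa [hpX] at this
  have hA' : IsPullback (β ≫ qY) α pY (γX ≫ π) := (hprod.paste_vert h4).flip
  let e : A ≅ pullback w₁ qX := IsPullback.isoIsPullback _ _ hA' hV'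
  have he1 : e.hom ≫ v₁ ≫ w₂ = β ≫ qY := IsPullback.isoIsPullback_hom_fst _ _ hA' hV'
  have he2 : e.hom ≫ v₂ = α := IsPullback.isoIsPullback_hom_snd _ _ hA' hV'
  have he3 : e.hom ≫ v₁ = qXY ≫ c := by
    apply hW.hom_ext
    · rw [Category.assoc, hV.w, ← Category.assoc, he2, Category.assoc, hc1, hA.w]
    · rw [Category.assoc, he1, Category.assoc, hc2, hfY]
  have htop : IsPullback qXY e.hom c v₁ := by
    refine IsPullback.of_bot ?_ he3.symm hV
    rw [he2, hc1]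
    exact hA.flip
  have hiso : MorphismProperty.isomorphisms Scheme.{u} c :=
    MorphismProperty.of_isPullback_of_descendsAlong
      (P := MorphismProperty.isomorphisms Scheme.{u})
      (Q := (@Surjective ⊓ @Flat ⊓ @QuasiCompact : MorphismProperty Scheme.{u})) htop.flip hQv
      (inferInstanceAs (IsIso e.hom))
  haveI : IsIso c := hiso
  refine IsPullback.of_iso_pullback ⟨hcomm⟩ (asIso c) ?_ ?_
  · rw [asIso_hom, ← hw₁]; exact hc1
  · rw [asIso_hom, ← hw₂]; exact hc2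

open MonoidalCategory CartesianMonoidalCategory in
/-- `G × (X × Y) = (G × X) ×_G (G × Y)` -/
theorem isPullback_whiskerLeft_fst_snd {S : Scheme.{u}} (G X Y : Over S) :
    IsPullback (G ◁ fst X Y) (G ◁ snd X Y) (fst G X) (fst G Y) := by
  refine ⟨⟨by simp⟩, ⟨Limits.PullbackCone.IsLimit.mk _
    (fun s => lift (s.fst ≫ fst G X) (lift (s.fst ≫ snd G X) (s.snd ≫ snd G Y)))
    (fun s => ?_) (fun s => ?_) (fun s m hm1 hm2 => ?_)⟩⟩
  · apply CartesianMonoidalCategory.hom_ext <;> simp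
  · apply CartesianMonoidalCategory.hom_ext
    · simp only [Category.assoc, whiskerLeft_fst, lift_fst]
      exact s.condition
    · simp
  · apply CartesianMonoidalCategory.hom_ext
    · rw [lift_fst, ← hm1]
      simp
    · apply CartesianMonoidalCategory.hom_ext
      · rw [lift_snd, lift_fst, ← hm1]
        simp
      · rw [lift_snd, lift_snd, ← hm2]
        simp

end Groth.Agent.Lib.Helper14.AssocBundle
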