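import Mathlib

/-!
# helper14: automorphisms of the forgetful functor on finite continuous `G`-sets
-/

set_option autoImplicit false
set_option linter.unusedSectionVars false
universe u
open scoped FintypeCatDiscrete
open CategoryTheory

namespace Groth.Agent.Lib.Helper14.AutFin

variable (G : Type u) [Group G] [TopologicalSpace G] [IsTopologicalGroup G]

noncomputable abbrev FF : ContAction FintypeCat.{u} G ⥤ FintypeCat.{u} :=
  forget₂ (ContAction FintypeCat.{u} G) FintypeCat.{u}

/-- the automorphism of an object given by a group element -/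
noncomputable def rhoIso (g : G) (X : ContAction FintypeCat.{u} G) : (FF G).obj X ≅ (FF G).obj X where
  hom := X.obj.ρ g
  inv := X.obj.ρ g⁻¹
  hom_inv_id := by
    change X.obj.ρ g ≫ X.obj.ρ g⁻¹ = 𝟙 _
    have : X.obj.ρ (g⁻¹ * g) = X.obj.ρ g ≫ X.obj.ρ g⁻¹ := by
      rw [map_mul]; rfl
    rw [← this, inv_mul_cancel, map_one]; rfl
  inv_hom_id := by
    change X.obj.ρ g⁻¹ ≫ X.obj.ρ g = 𝟙 _
    have : X.obj.ρ (g * g⁻¹) = X.obj.ρ g⁻¹ ≫ X.obj.ρ g := by
      rw [map_mul]; rfl
    rw [← this, mul_inv_cancel, map_one]; rfl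

noncomputable def iotaFun (g : G) : Aut (FF G) :=
  NatIso.ofComponents (fun X => rhoIso G g X) (by
    intro X Y f
    exact (f.hom.comm g).symm)

noncomputable def iota : G →* Aut (FF G) where
  toFun := iotaFun G
  map_one' := by
    ext X x
    change (X.obj.ρ 1).hom x = x
    rw [map_one]; rfl
  map_mul' g h := by
    ext X x
    change (X.obj.ρ (g * h)).hom x = (X.obj.ρ g).hom ((X.obj.ρ h).hom x)
    rw [map_mul]; rfl

theorem iota_apply (g : G) (X : ContAction FintypeCat.{u} G) (x : X.obj.V) :
    ((iota G g).hom.app X) x = (X.obj.ρ g).hom x := rfl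

open CategoryTheory.PreGaloisCategory

theorem smul_continuous (X : ContAction FintypeCat.{u} G) (x : X.obj.V) :
    Continuous (fun g : G => (X.obj.ρ g).hom x) := by
  have h := (Action.isContinuous_def X.obj).mp X.2
  exact h.comp (Continuous.prodMk continuous_id continuous_const : Continuous fun g : G => (g, (x : (forget₂ _ TopCat).obj X.obj)))

theorem continuous_iota : Continuous (iota G) := by
  rw [Topology.IsInducing.continuous_iff (autEmbedding_isClosedEmbedding _).isInducing,
    continuous_pi_iff]
  intro X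
  rw [continuous_discrete_rng]
  intro σ
  have : ((fun g => (autEmbedding (FF G)) ((iota G) g) X) ⁻¹' {σ}) =
      ⋂ x : X.obj.V, (fun g : G => (X.obj.ρ g).hom x) ⁻¹' {σ.hom x} := by
    ext g
    simp only [Set.mem_preimage, Set.mem_singleton_iff, Set.mem_iInter]
    constructor
    · intro h x
      rw [← h]
      rfl
    · intro h
      apply Iso.ext
      ext x
      exact h x
  rw [Function.comp_def, this]
  have : Finite X.obj.V := inferInstance
  apply isOpen_iInter_of_finite
  intro x
  exact (isOpen_discrete _).preimage (smul_continuous G X x)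

section Q
variable {G}
variable {Q : Type u} [Group Q] [Finite Q]

/-- the finite `G`-set `Q` with `G` acting by left translation through `π` -/
noncomputable def XQobj (π : G →* Q) : Action FintypeCat.{u} G where
  V := FintypeCat.of Q
  ρ :=
    { toFun := fun g => FintypeCat.homMk (fun q : Q => π g * q)
      map_one' := by
        refine FintypeCat.hom_ext _ _ (fun q => ?_)
        change π 1 * q = q
        rw [map_one, one_mul]
      map_mul' := fun g h => by
        refine FintypeCat.hom_ext _ _ (fun q => ?_)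
        change π (g * h) * q = π g * (π h * q)
        rw [map_mul, mul_assoc] }

theorem XQobj_rho (π : G →* Q) (g : G) (q : Q) : ((XQobj π).ρ g).hom q = π g * q := rfl

omit [Finite Q] in
theorem isOpen_preimage_singleton (π : G →* Q) (hπ : IsOpen (π.ker : Set G)) (c : Q) :
    IsOpen (π ⁻¹' {c}) := by
  rw [isOpen_iff_mem_nhds]
  intro g hg
  have : (fun x => g⁻¹ * x) ⁻¹' (π.ker : Set G) ∈ nhds g :=
    (hπ.preimage (continuous_const_mul g⁻¹)).mem_nhds (by
      rw [Set.mem_preimage, inv_mul_cancel]
      exact one_mem _)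
  apply Filter.mem_of_superset this
  intro x hx
  rw [Set.mem_preimage, SetLike.mem_coe, MonoidHom.mem_ker, map_mul, map_inv,
    inv_mul_eq_one] at hx
  rw [Set.mem_preimage, Set.mem_singleton_iff, ← hx]
  exact hg

theorem XQobj_isContinuous (π : G →* Q) (hπ : IsOpen (π.ker : Set G)) :
    (XQobj π).IsContinuous := by
  rw [Action.isContinuous_def]
  change Continuous (fun p : G × (XQobj π).V => ((XQobj π).ρ p.1).hom p.2)
  rw [continuous_prod_of_discrete_right]
  intro q
  rw [continuous_discrete_rng]
  intro q'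
  let q0 : Q := q
  let q0' : Q := q'
  have : ((fun g : G => ((XQobj π).ρ g).hom q) ⁻¹' {q'}) = π ⁻¹' {q0' * q0⁻¹} := by
    ext g
    simp only [Set.mem_preimage, Set.mem_singleton_iff]
    change π g * q0 = q0' ↔ _
    exact eq_mul_inv_iff_mul_eq.symm
  change IsOpen ((fun g : G => ((XQobj π).ρ g).hom q) ⁻¹' {q'})
  rw [this]
  exact isOpen_preimage_singleton π hπ _

end Q

section Q2
variable {G}
variable {Q : Type u} [Group Q] [Finite Q]

/-- the continuous finite `G`-set attached to a homomorphism with open kernel to a finite group -/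
noncomputable def XQ (π : G →* Q) (hπ : IsOpen (π.ker : Set G)) : ContAction FintypeCat.{u} G :=
  ⟨XQobj π, XQobj_isContinuous π hπ⟩

/-- right translation is an endomorphism of `XQ` -/
noncomputable def rightTr (π : G →* Q) (hπ : IsOpen (π.ker : Set G)) (c : Q) :
    XQ π hπ ⟶ XQ π hπ :=
  ObjectProperty.homMk
    { hom := FintypeCat.homMk (fun q : Q => q * c)
      comm := fun g => by
        refine FintypeCat.hom_ext _ _ (fun q => ?_)
        let q0 : Q := q
        change π g * q0 * c = π g * (q0 * c)
        rw [mul_assoc] }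

/-- the component at `XQ` of an automorphism of the forgetful functor, as a map `Q → Q` -/
noncomputable def compQ (π : G →* Q) (hπ : IsOpen (π.ker : Set G)) (σ : Aut (FF G)) : Q → Q :=
  fun q => σ.hom.app (XQ π hπ) q

theorem compQ_mul (π : G →* Q) (hπ : IsOpen (π.ker : Set G)) (σ : Aut (FF G)) (q c : Q) :
    compQ π hπ σ (q * c) = compQ π hπ σ q * c := by
  have := σ.hom.naturality (rightTr π hπ c)
  have h2 := congrArg (fun k => k.hom q) this
  exact h2

theorem compQ_comp (π : G →* Q) (hπ : IsOpen (π.ker : Set G)) (σ τ : Aut (FF G)) (q : Q) :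
    compQ π hπ (σ * τ) q = compQ π hπ σ (compQ π hπ τ q) := rfl

theorem compQ_iota (π : G →* Q) (hπ : IsOpen (π.ker : Set G)) (g : G) (q : Q) :
    compQ π hπ (iota G g) q = π g * q := rfl

/-- the homomorphism `Aut F → Q` -/
noncomputable def psi (π : G →* Q) (hπ : IsOpen (π.ker : Set G)) : Aut (FF G) →* Q where
  toFun σ := compQ π hπ σ 1
  map_one' := rfl
  map_mul' σ τ := by
    rw [compQ_comp]
    conv_lhs => rw [← one_mul (compQ π hπ τ 1)]
    rw [compQ_mul]

theorem psi_iota (π : G →* Q) (hπ : IsOpen (π.ker : Set G)) (g : G) :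
    psi π hπ (iota G g) = π g := by
  change compQ π hπ (iota G g) 1 = π g
  rw [compQ_iota, mul_one]

end Q2

section Q3
variable {G}
variable {Q : Type u} [Group Q] [Finite Q]

theorem continuous_psi [TopologicalSpace Q] (π : G →* Q) (hπ : IsOpen (π.ker : Set G)) :
    Continuous (psi π hπ) := by
  have h1 : Continuous (fun σ : Aut (FF G) => autEmbedding (FF G) σ (XQ π hπ)) :=
    (continuous_apply _).comp (autEmbedding_isClosedEmbedding _).continuous
  let ev : Aut ((FF G).obj (XQ π hπ)) → Q := fun τ => τ.hom (1 : Q)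
  have h2 : Continuous ev := continuous_of_discreteTopology
  exact h2.comp h1

/-- the orbit map `Q → X` of a point of an object on which `ker π` acts trivially -/
noncomputable def orbitMap (π : G →* Q) (hπ : IsOpen (π.ker : Set G)) (hs : Function.Surjective π)
    (X : ContAction FintypeCat.{u} G)
    (hX : ∀ g ∈ π.ker, ∀ x : X.obj.V, (X.obj.ρ g).hom x = x) (x : X.obj.V) :
    XQ π hπ ⟶ X :=
  ObjectProperty.homMk
    { hom := FintypeCat.homMk (fun q : Q => (X.obj.ρ (Function.surjInv hs q)).hom x)
      comm := fun g => by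
        refine FintypeCat.hom_ext _ _ (fun q => ?_)
        let q0 : Q := q
        change (X.obj.ρ (Function.surjInv hs (π g * q0))).hom x =
          (X.obj.ρ g).hom ((X.obj.ρ (Function.surjInv hs q0)).hom x)
        have hk : (g * Function.surjInv hs q0)⁻¹ * Function.surjInv hs (π g * q0) ∈ π.ker := by
          rw [MonoidHom.mem_ker, map_mul, map_inv, map_mul, Function.surjInv_eq hs,
            Function.surjInv_eq hs, inv_mul_cancel]
        have h1 := hX _ hk x
        have h2 : (X.obj.ρ (Function.surjInv hs (π g * q0))).hom x =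
            (X.obj.ρ (g * Function.surjInv hs q0)).hom
              ((X.obj.ρ ((g * Function.surjInv hs q0)⁻¹ * Function.surjInv hs (π g * q0))).hom x) := by
          have : X.obj.ρ (Function.surjInv hs (π g * q0)) =
              X.obj.ρ ((g * Function.surjInv hs q0) *
                ((g * Function.surjInv hs q0)⁻¹ * Function.surjInv hs (π g * q0))) := by
            rw [mul_inv_cancel_left]
          rw [this, map_mul]
          rfl
        rw [h2, h1, map_mul]
        rfl }

theorem orbitMap_one (π : G →* Q) (hπ : IsOpen (π.ker : Set G)) (hs : Function.Surjective π)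
    (X : ContAction FintypeCat.{u} G)
    (hX : ∀ g ∈ π.ker, ∀ x : X.obj.V, (X.obj.ρ g).hom x = x) (x : X.obj.V) :
    ((FF G).map (orbitMap π hπ hs X hX x)) (1 : Q) = x := by
  change (X.obj.ρ (Function.surjInv hs (1 : Q))).hom x = x
  apply hX
  rw [MonoidHom.mem_ker, Function.surjInv_eq hs]

/-- an automorphism of the forgetful functor acts on such an object through an element of `G` -/
theorem exists_eq_rho (π : G →* Q) (hπ : IsOpen (π.ker : Set G)) (hs : Function.Surjective π)
    (σ : Aut (FF G)) :
    ∃ g : G, ∀ (X : ContAction FintypeCat.{u} G),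
      (∀ g ∈ π.ker, ∀ x : X.obj.V, (X.obj.ρ g).hom x = x) →
        ∀ x : X.obj.V, σ.hom.app X x = (X.obj.ρ g).hom x := by
  obtain ⟨g, hg⟩ := hs (compQ π hπ σ 1)
  refine ⟨g, fun X hX x => ?_⟩
  have hnat := σ.hom.naturality (orbitMap π hπ hs X hX x)
  let c1 : Q := compQ π hπ σ 1
  let e1 : (FF G).obj (XQ π hπ) := (1 : Q)
  have h2 := congrArg (fun k => k.hom e1) hnat
  have h3 : σ.hom.app X (((FF G).map (orbitMap π hπ hs X hX x)) e1) =
      ((FF G).map (orbitMap π hπ hs X hX x)) c1 := h2
  have h4 : ((FF G).map (orbitMap π hπ hs X hX x)) e1 = x := orbitMap_one π hπ hs X hX x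
  rw [h4] at h3
  rw [h3]
  have hc1 : c1 = π g := hg.symm
  rw [hc1]
  change (X.obj.ρ (Function.surjInv hs (π g))).hom x = (X.obj.ρ g).hom x
  have hk : g⁻¹ * Function.surjInv hs (π g) ∈ π.ker := by
    rw [MonoidHom.mem_ker, map_mul, map_inv, Function.surjInv_eq hs, inv_mul_cancel]
  have h1 := hX _ hk x
  have : X.obj.ρ (Function.surjInv hs (π g)) = X.obj.ρ (g * (g⁻¹ * Function.surjInv hs (π g))) := by
    rw [mul_inv_cancel_left]
  rw [this, map_mul]
  change (X.obj.ρ g).hom ((X.obj.ρ (g⁻¹ * Function.surjInv hs (π g))).hom x) = _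
  rw [h1]

end Q3

section Dense
variable {G}

/-- the action of `G` on finitely many objects at once -/
noncomputable def PhiI (I : Finset (ContAction FintypeCat.{u} G)) :
    G →* (∀ X : I, Aut ((FF G).obj X.1)) :=
  MonoidHom.pi (fun X : I => (Pi.evalMonoidHom _ X.1).comp ((autEmbedding (FF G)).comp (iota G)))

theorem PhiI_apply (I : Finset (ContAction FintypeCat.{u} G)) (g : G) (X : I) :
    PhiI I g X = rhoIso G g X.1 := rfl

theorem continuous_PhiI (I : Finset (ContAction FintypeCat.{u} G)) : Continuous (PhiI I) := by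
  apply continuous_pi
  intro X
  exact (continuous_apply X.1).comp
    ((autEmbedding_isClosedEmbedding (FF G)).continuous.comp (continuous_iota G))

theorem isOpen_ker_PhiI (I : Finset (ContAction FintypeCat.{u} G)) :
    IsOpen ((PhiI I).ker : Set G) := by
  have : ((PhiI I).ker : Set G) = (PhiI I) ⁻¹' {1} := by
    ext g
    simp [MonoidHom.mem_ker]
  rw [this]
  exact (isOpen_discrete _).preimage (continuous_PhiI I)

theorem denseRange_iota : DenseRange (iota G) := by
  intro σ
  rw [mem_closure_iff_nhds]
  intro t ht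
  obtain ⟨U, hUt, hUo, hσU⟩ := mem_nhds_iff.mp ht
  obtain ⟨V, hVo, rfl⟩ := isOpen_induced_iff.mp hUo
  obtain ⟨I, u, ho, ha⟩ := isOpen_pi_iff.mp hVo (autEmbedding (FF G) σ) hσU
  -- the finite quotient
  let K : Subgroup G := (PhiI I).ker
  have hfin : Finite (G ⧸ K) :=
    Finite.of_injective (QuotientGroup.kerLift (PhiI I)) (QuotientGroup.kerLift_injective _)
  let π : G →* G ⧸ K := QuotientGroup.mk' K
  have hπk : π.ker = K := QuotientGroup.ker_mk' K
  have hπ : IsOpen (π.ker : Set G) := by
    rw [hπk]
    exact isOpen_ker_PhiI I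
  obtain ⟨g, hg⟩ := exists_eq_rho π hπ (QuotientGroup.mk'_surjective K) σ
  refine ⟨iota G g, hUt ?_, g, rfl⟩
  apply ha
  intro X hX
  have hXtriv : ∀ k ∈ π.ker, ∀ x : X.obj.V, (X.obj.ρ k).hom x = x := by
    intro k hk x
    rw [hπk] at hk
    have h1 : PhiI I k = 1 := hk
    have h2 := congrFun h1 ⟨X, hX⟩
    rw [PhiI_apply] at h2
    have h3 := congrArg (fun τ : Aut ((FF G).obj X) => τ.hom x) h2
    exact h3
  have : autEmbedding (FF G) (iota G g) X = autEmbedding (FF G) σ X := by
    apply Iso.ext
    ext x
    exact (hg X hXtriv x).symm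
  rw [this]
  exact (ho X hX).2

end Dense

end Groth.Agent.Lib.Helper14.AutFin
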