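import Mathlib

/-!
# helper14: automorphisms of the forgetful functor on finite `G`-sets (discrete group)
-/

set_option autoImplicit false
set_option linter.unusedSectionVars false
universe u
open CategoryTheory CategoryTheory.PreGaloisCategory

namespace Groth.Agent.Lib.Helper14.AutFin2

variable (G : Type u) [Group G]

noncomputable abbrev FF : Action FintypeCat.{u} G ⥤ FintypeCat.{u} :=
  Action.forget FintypeCat.{u} G

/-- the automorphism of an object given by a group element -/
noncomputable def rhoIso (g : G) (X : Action FintypeCat.{u} G) : (FF G).obj X ≅ (FF G).obj X where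
  hom := X.ρ g
  inv := X.ρ g⁻¹
  hom_inv_id := by
    change X.ρ g ≫ X.ρ g⁻¹ = 𝟙 _
    have : X.ρ (g⁻¹ * g) = X.ρ g ≫ X.ρ g⁻¹ := by
      rw [map_mul]; rfl
    rw [← this, inv_mul_cancel, map_one]; rfl
  inv_hom_id := by
    change X.ρ g⁻¹ ≫ X.ρ g = 𝟙 _
    have : X.ρ (g * g⁻¹) = X.ρ g⁻¹ ≫ X.ρ g := by
      rw [map_mul]; rfl
    rw [← this, mul_inv_cancel, map_one]; rfl

noncomputable def iotaFun (g : G) : Aut (FF G) :=
  NatIso.ofComponents (fun X => rhoIso G g X) (by
    intro X Y f
    exact (f.comm g).symm)

noncomputable def iota : G →* Aut (FF G) where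
  toFun := iotaFun G
  map_one' := by
    ext X x
    change (X.ρ 1).hom x = x
    rw [map_one]; rfl
  map_mul' g h := by
    ext X x
    change (X.ρ (g * h)).hom x = (X.ρ g).hom ((X.ρ h).hom x)
    rw [map_mul]; rfl

theorem iota_apply (g : G) (X : Action FintypeCat.{u} G) (x : X.V) :
    ((iota G g).hom.app X) x = (X.ρ g).hom x := rfl

section Q
variable {G}
variable {Q : Type u} [Group Q] [Finite Q]

/-- the finite `G`-set `Q` with `G` acting by left translation through `π` -/
noncomputable def XQ (π : G →* Q) : Action FintypeCat.{u} G where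
  V := FintypeCat.of Q
  ρ :=
    { toFun := fun g => FintypeCat.homMk (fun q : Q => π g * q)
      map_one' := by
        refine FintypeCat.hom_ext _ _ (fun q => ?_)
        change π 1 * q = q
        rw [map_one, one_mul]
      map_mul' := fun g h => by
        refine FintypeCat.hom_ext _ _ (fun q => ?_)
        change π (g * h) * q = π g * (π h * q)
        rw [map_mul, mul_assoc] }

theorem XQ_rho (π : G →* Q) (g : G) (q : Q) : ((XQ π).ρ g).hom q = π g * q := rfl

/-- right translation is an endomorphism of `XQ` -/
noncomputable def rightTr (π : G →* Q) (c : Q) : XQ π ⟶ XQ π :=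
  { hom := FintypeCat.homMk (fun q : Q => q * c)
    comm := fun g => by
      refine FintypeCat.hom_ext _ _ (fun q => ?_)
      let q0 : Q := q
      change π g * q0 * c = π g * (q0 * c)
      rw [mul_assoc] }

/-- the component at `XQ` of an automorphism of the forgetful functor, as a map `Q → Q` -/
noncomputable def compQ (π : G →* Q) (σ : Aut (FF G)) : Q → Q :=
  fun q => σ.hom.app (XQ π) q

theorem compQ_mul (π : G →* Q) (σ : Aut (FF G)) (q c : Q) :
    compQ π σ (q * c) = compQ π σ q * c := by
  have := σ.hom.naturality (rightTr π c)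
  have h2 := congrArg (fun k => k.hom q) this
  exact h2

theorem compQ_comp (π : G →* Q) (σ τ : Aut (FF G)) (q : Q) :
    compQ π (σ * τ) q = compQ π σ (compQ π τ q) := rfl

theorem compQ_iota (π : G →* Q) (g : G) (q : Q) :
    compQ π (iota G g) q = π g * q := rfl

/-- the homomorphism `Aut F → Q` -/
noncomputable def psi (π : G →* Q) : Aut (FF G) →* Q where
  toFun σ := compQ π σ 1
  map_one' := rfl
  map_mul' σ τ := by
    rw [compQ_comp]
    conv_lhs => rw [← one_mul (compQ π τ 1)]
    rw [compQ_mul]

theorem psi_iota (π : G →* Q) (g : G) : psi π (iota G g) = π g := by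
  change compQ π (iota G g) 1 = π g
  rw [compQ_iota, mul_one]

theorem continuous_psi [TopologicalSpace Q] (π : G →* Q) : Continuous (psi π) := by
  have h1 : Continuous (fun σ : Aut (FF G) => autEmbedding (FF G) σ (XQ π)) :=
    (continuous_apply _).comp (autEmbedding_isClosedEmbedding _).continuous
  let ev : Aut ((FF G).obj (XQ π)) → Q := fun τ => τ.hom (1 : Q)
  have h2 : Continuous ev := continuous_of_discreteTopology
  exact h2.comp h1

/-- the orbit map `Q → X` of a point of an object on which `ker π` acts trivially -/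
noncomputable def orbitMap (π : G →* Q) (hs : Function.Surjective π)
    (X : Action FintypeCat.{u} G)
    (hX : ∀ g ∈ π.ker, ∀ x : X.V, (X.ρ g).hom x = x) (x : X.V) :
    XQ π ⟶ X :=
  { hom := FintypeCat.homMk (fun q : Q => (X.ρ (Function.surjInv hs q)).hom x)
    comm := fun g => by
      refine FintypeCat.hom_ext _ _ (fun q => ?_)
      let q0 : Q := q
      change (X.ρ (Function.surjInv hs (π g * q0))).hom x =
        (X.ρ g).hom ((X.ρ (Function.surjInv hs q0)).hom x)
      have hk : (g * Function.surjInv hs q0)⁻¹ * Function.surjInv hs (π g * q0) ∈ π.ker := by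
        rw [MonoidHom.mem_ker, map_mul, map_inv, map_mul, Function.surjInv_eq hs,
          Function.surjInv_eq hs, inv_mul_cancel]
      have h1 := hX _ hk x
      have h2 : (X.ρ (Function.surjInv hs (π g * q0))).hom x =
          (X.ρ (g * Function.surjInv hs q0)).hom
            ((X.ρ ((g * Function.surjInv hs q0)⁻¹ * Function.surjInv hs (π g * q0))).hom x) := by
        have : X.ρ (Function.surjInv hs (π g * q0)) =
            X.ρ ((g * Function.surjInv hs q0) *
              ((g * Function.surjInv hs q0)⁻¹ * Function.surjInv hs (π g * q0))) := by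
          rw [mul_inv_cancel_left]
        rw [this, map_mul]
        rfl
      rw [h2, h1, map_mul]
      rfl }

theorem orbitMap_one (π : G →* Q) (hs : Function.Surjective π)
    (X : Action FintypeCat.{u} G)
    (hX : ∀ g ∈ π.ker, ∀ x : X.V, (X.ρ g).hom x = x) (x : X.V) :
    ((FF G).map (orbitMap π hs X hX x)) (1 : Q) = x := by
  change (X.ρ (Function.surjInv hs (1 : Q))).hom x = x
  apply hX
  rw [MonoidHom.mem_ker, Function.surjInv_eq hs]

/-- an automorphism of the forgetful functor acts on such an object through an element of `G` -/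
theorem eq_rho (π : G →* Q) (hs : Function.Surjective π)
    (σ : Aut (FF G)) (g : G) (hg : π g = psi π σ) (X : Action FintypeCat.{u} G)
    (hX : ∀ g ∈ π.ker, ∀ x : X.V, (X.ρ g).hom x = x) (x : X.V) :
    σ.hom.app X x = (X.ρ g).hom x := by
  have hnat := σ.hom.naturality (orbitMap π hs X hX x)
  let c1 : Q := compQ π σ 1
  let e1 : (FF G).obj (XQ π) := (1 : Q)
  have h2 := congrArg (fun k => k.hom e1) hnat
  have h3 : σ.hom.app X (((FF G).map (orbitMap π hs X hX x)) e1) =
      ((FF G).map (orbitMap π hs X hX x)) c1 := h2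
  have h4 : ((FF G).map (orbitMap π hs X hX x)) e1 = x := orbitMap_one π hs X hX x
  rw [h4] at h3
  rw [h3]
  have hc1 : c1 = π g := hg.symm
  rw [hc1]
  change (X.ρ (Function.surjInv hs (π g))).hom x = (X.ρ g).hom x
  have hk : g⁻¹ * Function.surjInv hs (π g) ∈ π.ker := by
    rw [MonoidHom.mem_ker, map_mul, map_inv, Function.surjInv_eq hs, inv_mul_cancel]
  have h1 := hX _ hk x
  have : X.ρ (Function.surjInv hs (π g)) = X.ρ (g * (g⁻¹ * Function.surjInv hs (π g))) := by
    rw [mul_inv_cancel_left]
  rw [this, map_mul]
  change (X.ρ g).hom ((X.ρ (g⁻¹ * Function.surjInv hs (π g))).hom x) = _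
  rw [h1]

end Q

section Compl
variable {G}

open ProfiniteGrp ProfiniteGrp.ProfiniteCompletion

instance (H : FiniteIndexNormalSubgroup G) : Finite (G ⧸ H.toSubgroup) :=
  Subgroup.finite_quotient_of_finiteIndex

/-- the projection `G → G ⧸ H` -/
noncomputable abbrev piH (H : FiniteIndexNormalSubgroup G) : G →* G ⧸ H.toSubgroup :=
  QuotientGroup.mk' H.toSubgroup

/-- the quotient map `G ⧸ H → G ⧸ K` as a morphism of `G`-sets -/
noncomputable def quotMor {H K : FiniteIndexNormalSubgroup G} (h : H ≤ K) :
    XQ (piH H) ⟶ XQ (piH K) :=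
  { hom := FintypeCat.homMk (fun q : G ⧸ H.toSubgroup =>
      (QuotientGroup.map _ _ (MonoidHom.id G) h q : G ⧸ K.toSubgroup))
    comm := fun g => by
      refine FintypeCat.hom_ext _ _ (fun q => ?_)
      let q0 : G ⧸ H.toSubgroup := q
      change QuotientGroup.map _ _ (MonoidHom.id G) h (piH H g * q0) =
        piH K g * QuotientGroup.map _ _ (MonoidHom.id G) h q0
      rw [map_mul]
      rfl }

theorem psi_compat {H K : FiniteIndexNormalSubgroup G} (h : H ≤ K) (σ : Aut (FF G)) :
    QuotientGroup.map _ _ (MonoidHom.id G) h (psi (piH H) σ) = psi (piH K) σ := by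
  have hnat := σ.hom.naturality (quotMor h)
  let e1 : (FF G).obj (XQ (piH H)) := (1 : G ⧸ H.toSubgroup)
  have h2 := congrArg (fun k => k.hom e1) hnat
  have h3 : σ.hom.app (XQ (piH K)) (((FF G).map (quotMor h)) e1) =
      ((FF G).map (quotMor h)) (σ.hom.app (XQ (piH H)) e1) := h2
  have h4 : ((FF G).map (quotMor h)) e1 = (1 : G ⧸ K.toSubgroup) := by
    change QuotientGroup.map _ _ (MonoidHom.id G) h (1 : G ⧸ H.toSubgroup) = 1
    rw [map_one]
  rw [h4] at h3
  exact h3.symm

/-- the comparison map from `Aut F` to the profinite completion -/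
noncomputable def PsiFun (σ : Aut (FF G)) : completion (GrpCat.of G) :=
  ⟨fun H => psi (piH H) σ, fun H K f => psi_compat f.le σ⟩

/-- the comparison homomorphism from `Aut F` to the profinite completion -/
noncomputable def Psi : Aut (FF G) →* completion (GrpCat.of G) where
  toFun := PsiFun
  map_one' := by
    apply Subtype.ext
    funext H
    exact map_one (psi (piH H))
  map_mul' σ τ := by
    apply Subtype.ext
    funext H
    exact map_mul (psi (piH H)) σ τ

theorem Psi_val (σ : Aut (FF G)) (H : FiniteIndexNormalSubgroup G) :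
    (Psi σ).val H = psi (piH H) σ := rfl

theorem continuous_Psi : Continuous (Psi (G := G)) := by
  have h : Continuous (fun σ : Aut (FF G) =>
      ((Psi σ).val : ∀ j, ((diagram (GrpCat.of G)).obj j))) := by
    apply continuous_pi
    intro H
    exact @continuous_psi G _ (G ⧸ H.toSubgroup) _ _
      (inferInstanceAs (TopologicalSpace ((diagram (GrpCat.of G)).obj H))) (piH H)
  exact continuous_induced_rng.mpr h

theorem Psi_iota (g : G) : Psi (iota G g) = etaFn (GrpCat.of G) g := by
  apply Subtype.ext
  funext H
  exact psi_iota (piH H) g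

/-- the kernel of the action on an object, as a finite index normal subgroup -/
noncomputable def kerX (X : Action FintypeCat.{u} G) : FiniteIndexNormalSubgroup G :=
  { toSubgroup := ((Pi.evalMonoidHom _ X).comp ((autEmbedding (FF G)).comp (iota G))).ker
    isNormal' := inferInstance
    isFiniteIndex' := by
      have : Finite (G ⧸ ((Pi.evalMonoidHom _ X).comp ((autEmbedding (FF G)).comp (iota G))).ker) :=
        Finite.of_injective (QuotientGroup.kerLift _) (QuotientGroup.kerLift_injective _)
      exact Subgroup.finiteIndex_of_finite_quotient }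

theorem kerX_trivial (X : Action FintypeCat.{u} G) (g : G) (hg : g ∈ (piH (kerX X)).ker)
    (x : X.V) : (X.ρ g).hom x = x := by
  rw [QuotientGroup.ker_mk'] at hg
  have h1 : ((Pi.evalMonoidHom _ X).comp ((autEmbedding (FF G)).comp (iota G))) g = 1 := hg
  have h3 := congrArg (fun τ : Aut ((FF G).obj X) => τ.hom x) h1
  exact h3

theorem Psi_injective : Function.Injective (Psi (G := G)) := by
  rw [injective_iff_map_eq_one]
  intro σ hσ
  ext X x
  have h1 : psi (piH (kerX X)) σ = 1 := by
    rw [← Psi_val, hσ]
    rfl
  have := eq_rho (piH (kerX X)) (QuotientGroup.mk'_surjective _) σ 1 (by rw [map_one, h1]) X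
    (kerX_trivial X) x
  rw [this, map_one]
  rfl

theorem Psi_surjective : Function.Surjective (Psi (G := G)) := by
  have hcl : IsClosed (Set.range (Psi (G := G))) := (isCompact_range continuous_Psi).isClosed
  intro y
  have hy : y ∈ closure (Set.range (Psi (G := G))) := by
    apply closure_mono _ (ProfiniteGrp.ProfiniteCompletion.denseRange (GrpCat.of G) y)
    rintro _ ⟨g, rfl⟩
    exact ⟨iota G g, Psi_iota g⟩
  rw [hcl.closure_eq] at hy
  exact hy

/-- the isomorphism of topological groups from `Aut F` to the profinite completion -/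
noncomputable def PsiEquiv : Aut (FF G) ≃ₜ* completion (GrpCat.of G) :=
  have hH : IsHomeomorph (Psi (G := G)) :=
    isHomeomorph_iff_continuous_bijective.mpr ⟨continuous_Psi, Psi_injective, Psi_surjective⟩
  { MulEquiv.ofBijective (Psi (G := G)) hH.bijective with
    continuous_toFun := continuous_Psi
    continuous_invFun := (hH.homeomorph _).symm.continuous }

theorem PsiEquiv_apply (σ : Aut (FF G)) : PsiEquiv σ = Psi σ := rfl

theorem PsiEquiv_symm_eta (g : G) : PsiEquiv.symm (etaFn (GrpCat.of G) g) = iota G g := by
  rw [← Psi_iota, ← PsiEquiv_apply]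
  exact PsiEquiv.symm_apply_apply _

end Compl

end Groth.Agent.Lib.Helper14.AutFin2
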