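import Mathlib

/-!
# helper14: automorphisms of `A ⊗ S` over `S` for a group object `A` (abstract part)
-/

set_option autoImplicit false
universe v u
open CategoryTheory MonoidalCategory CartesianMonoidalCategory MonObj GrpObj

namespace Groth.Agent.Lib.Helper14.AutProd

variable {C : Type u} [Category.{v} C] [CartesianMonoidalCategory C]

theorem normal_form_unique {A S : C} [GrpObj A] (s₀ : 𝟙_ C ⟶ S) (g g' : S ⟶ A) (h h' : A ⟶ A)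
    [IsMonHom h] [IsMonHom h']
    (H : (snd A S ≫ g) * (fst A S ≫ h) = (snd A S ≫ g') * (fst A S ≫ h')) : g' = g ∧ h' = h := by
  have hg : g = g' := by
    have h1 := congrArg (fun φ => lift (toUnit S ≫ η[A]) (𝟙 S) ≫ φ) H
    simp only [comp_mul, lift_snd_assoc, lift_fst_assoc, Category.id_comp, Category.assoc,
      IsMonHom.one_hom] at h1
    have h2 : toUnit S ≫ η[A] = 1 := by rw [Hom.one_def]
    rw [h2, _root_.mul_one, _root_.mul_one] at h1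
    exact h1
  subst hg
  refine ⟨rfl, ?_⟩
  have h3 : fst A S ≫ h = fst A S ≫ h' := mul_left_cancel H
  have h4 := congrArg (fun φ => lift (𝟙 A) (toUnit A ≫ s₀) ≫ φ) h3
  simp only [lift_fst_assoc, Category.id_comp] at h4
  exact h4.symm

theorem exists_normal_form {A S : C} [GrpObj A]
    (P1 : ∀ F : A ⊗ S ⟶ A, ∃ (g₀ : A ⟶ A) (h₀ : S ⟶ A), F = (fst A S ≫ g₀) * (snd A S ≫ h₀))
    (P2 : ∀ h : A ⟶ A, η[A] ≫ h = η[A] → IsMonHom h) (F : A ⊗ S ⟶ A) :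
    ∃ (g : S ⟶ A) (h : A ⟶ A), IsMonHom h ∧ F = (snd A S ≫ g) * (fst A S ≫ h) := by
  obtain ⟨g₀, h₀, h1⟩ := P1 F⁻¹
  have h2 : F = (snd A S ≫ h₀⁻¹) * (fst A S ≫ g₀⁻¹) := by
    rw [comp_inv, comp_inv, ← _root_.mul_inv_rev, ← h1, _root_.inv_inv]
  set c : 𝟙_ C ⟶ A := η[A] ≫ g₀⁻¹ with hc
  have hT1 : snd A S ≫ toUnit S ≫ c = toUnit (A ⊗ S) ≫ c := by
    rw [← Category.assoc]; congr 1; exact toUnit_unique _ _
  have hT2 : fst A S ≫ toUnit A ≫ c = toUnit (A ⊗ S) ≫ c := by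
    rw [← Category.assoc]; congr 1; exact toUnit_unique _ _
  refine ⟨h₀⁻¹ * (toUnit S ≫ c), (toUnit A ≫ c)⁻¹ * g₀⁻¹, ?_, ?_⟩
  · apply P2
    rw [comp_mul, comp_inv, ← Category.assoc, toUnit_unique (η[A] ≫ toUnit A) (𝟙 _),
      Category.id_comp, ← hc, inv_mul_cancel, one_eq_one]
  · have e1 : snd A S ≫ (h₀⁻¹ * (toUnit S ≫ c)) =
        (snd A S ≫ h₀⁻¹) * (toUnit (A ⊗ S) ≫ c) := by rw [comp_mul, hT1]
    have e2 : fst A S ≫ ((toUnit A ≫ c)⁻¹ * g₀⁻¹) =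
        (toUnit (A ⊗ S) ≫ c)⁻¹ * (fst A S ≫ g₀⁻¹) := by rw [comp_mul, comp_inv, hT2]
    rw [h2, e1, e2]
    group

theorem aut_structure {A S : C} [GrpObj A] (s₀ : 𝟙_ C ⟶ S)
    (P1 : ∀ F : A ⊗ S ⟶ A, ∃ (g₀ : A ⟶ A) (h₀ : S ⟶ A), F = (fst A S ≫ g₀) * (snd A S ≫ h₀))
    (P2 : ∀ h : A ⟶ A, η[A] ≫ h = η[A] → IsMonHom h)
    (f : A ⊗ S ≅ A ⊗ S) (hf : f.hom ≫ snd A S = snd A S) :
    ∃ (g : S ⟶ A) (h : A ⟶ A), IsMonHom h ∧ IsIso h ∧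
      f.hom ≫ fst A S = (snd A S ≫ g) * (fst A S ≫ h) ∧
      ∀ (g' : S ⟶ A) (h' : A ⟶ A), IsMonHom h' →
        f.hom ≫ fst A S = (snd A S ≫ g') * (fst A S ≫ h') → g' = g ∧ h' = h := by
  obtain ⟨g, h, hh, hF⟩ := exists_normal_form P1 P2 (f.hom ≫ fst A S)
  obtain ⟨g', h', hh', hF'⟩ := exists_normal_form P1 P2 (f.inv ≫ fst A S)
  have hf' : f.inv ≫ snd A S = snd A S := by
    calc f.inv ≫ snd A S = f.inv ≫ f.hom ≫ snd A S := by rw [hf]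
      _ = snd A S := by rw [Iso.inv_hom_id_assoc]
  -- the key computation, for a pair of mutually inverse maps
  have key : ∀ (φ ψ : A ⊗ S ⟶ A ⊗ S) (g₁ g₂ : S ⟶ A) (h₁ h₂ : A ⟶ A) [IsMonHom h₁] [IsMonHom h₂],
      φ ≫ ψ = 𝟙 _ → φ ≫ snd A S = snd A S →
      φ ≫ fst A S = (snd A S ≫ g₁) * (fst A S ≫ h₁) →
      ψ ≫ fst A S = (snd A S ≫ g₂) * (fst A S ≫ h₂) → h₁ ≫ h₂ = 𝟙 A := by
    intro φ ψ g₁ g₂ h₁ h₂ _ _ hφψ hφs hφ hψ
    have h1 : φ ≫ ψ ≫ fst A S = fst A S := by rw [← Category.assoc, hφψ, Category.id_comp]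
    rw [hψ, comp_mul, ← Category.assoc, hφs, ← Category.assoc φ, hφ, mul_comp] at h1
    have h2 : (snd A S ≫ (g₂ * (g₁ ≫ h₂))) * (fst A S ≫ (h₁ ≫ h₂)) =
        (snd A S ≫ (1 : S ⟶ A)) * (fst A S ≫ 𝟙 A) := by
      have e3 : (snd A S ≫ (1 : S ⟶ A)) * (fst A S ≫ 𝟙 A) = fst A S := by
        rw [comp_one, _root_.one_mul, Category.comp_id]
      rw [e3]
      refine Eq.trans ?_ h1
      rw [comp_mul]
      simp only [Category.assoc]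
      rw [_root_.mul_assoc]
    exact (normal_form_unique s₀ _ _ _ _ h2).2.symm ▸ rfl
  have hiso : IsIso h := by
    refine ⟨h', key f.hom f.inv g g' h h' f.hom_inv_id hf hF hF',
      key f.inv f.hom g' g h' h f.inv_hom_id hf' hF' hF⟩
  refine ⟨g, h, hh, hiso, hF, ?_⟩
  intro g'' h'' hh'' hF''
  exact normal_form_unique s₀ g g'' h h'' (hF.symm.trans hF'')

end Groth.Agent.Lib.Helper14.AutProd
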