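import Mathlib

/-!
# helper14: solvability / nilpotency classes as group laws

`dset Γ n` (resp. `lset Γ n`) is the set of values of the `n`-th iterated commutator word
`δ_n` (resp. of the left-normed commutator `γ_n`). `derivedSeries Γ n = ⊥` iff `dset Γ n ⊆ {1}` and
`(⊤ : Subgroup Γ).lowerCentralSeries n = ⊥` iff `lset Γ n ⊆ {1}`.
-/

set_option autoImplicit false

namespace Groth.Agent.Lib.Helper14.GrpLaws

open Subgroup
open scoped commutatorElement

variable {Γ : Type*} [Group Γ]

theorem commutator_closure_le (N : Subgroup Γ) [N.Normal] (S S' : Set Γ)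
    (h : ∀ s ∈ S, ∀ s' ∈ S', ⁅s, s'⁆ ∈ N) : ⁅Subgroup.closure S, Subgroup.closure S'⁆ ≤ N := by
  have hker : (QuotientGroup.mk' N).ker = N := QuotientGroup.ker_mk' N
  rw [← hker, ← Subgroup.map_eq_bot_iff, map_commutator, MonoidHom.map_closure,
    MonoidHom.map_closure, commutator_eq_bot_iff_le_centralizer, Subgroup.closure_le]
  rintro _ ⟨s, hs, rfl⟩
  rw [SetLike.mem_coe, mem_centralizer_iff]
  intro y hy
  have h1 : Subgroup.closure ((QuotientGroup.mk' N) '' S') ≤ centralizer {(QuotientGroup.mk' N) s} := by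
    rw [Subgroup.closure_le]
    rintro _ ⟨s', hs', rfl⟩
    rw [SetLike.mem_coe, mem_centralizer_iff]
    intro z hz
    rw [Set.mem_singleton_iff] at hz
    subst hz
    have h2 : (QuotientGroup.mk' N) ⁅s, s'⁆ = 1 := by
      rw [← MonoidHom.mem_ker, hker]
      exact h s hs s' hs'
    rw [map_commutatorElement, commutatorElement_eq_one_iff_mul_comm] at h2
    exact h2
  have h3 := h1 hy
  rw [mem_centralizer_iff] at h3
  exact (h3 _ rfl).symm

theorem closure_normal_of_conj (S : Set Γ) (h : ∀ s ∈ S, ∀ g : Γ, g * s * g⁻¹ ∈ S) :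
    (Subgroup.closure S).Normal := by
  have hS : S = Group.conjugatesOfSet S := by
    refine Set.Subset.antisymm Group.subset_conjugatesOfSet fun a ha => ?_
    rw [Group.mem_conjugatesOfSet_iff] at ha
    obtain ⟨b, hb, hab⟩ := ha
    rw [isConj_iff] at hab
    obtain ⟨c, rfl⟩ := hab
    exact h b hb c
  rw [hS]
  exact Subgroup.normalClosure_normal

variable (Γ)

/-- values of the `n`-th derived word -/
def dset : ℕ → Set Γ
  | 0 => Set.univ
  | n + 1 => {x | ∃ a ∈ dset n, ∃ b ∈ dset n, ⁅a, b⁆ = x}

/-- values of the `n`-th lower central word -/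
def lset : ℕ → Set Γ
  | 0 => Set.univ
  | n + 1 => {x | ∃ a ∈ lset n, ∃ b : Γ, ⁅a, b⁆ = x}

variable {Γ}

theorem dset_conj (n : ℕ) : ∀ s ∈ dset Γ n, ∀ g : Γ, g * s * g⁻¹ ∈ dset Γ n := by
  induction n with
  | zero => intro s _ g; exact Set.mem_univ _
  | succ n ih =>
    rintro _ ⟨a, ha, b, hb, rfl⟩ g
    exact ⟨g * a * g⁻¹, ih a ha g, g * b * g⁻¹, ih b hb g, (conjugate_commutatorElement a b g).symm⟩

theorem lset_conj (n : ℕ) : ∀ s ∈ lset Γ n, ∀ g : Γ, g * s * g⁻¹ ∈ lset Γ n := by
  induction n with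
  | zero => intro s _ g; exact Set.mem_univ _
  | succ n ih =>
    rintro _ ⟨a, ha, b, rfl⟩ g
    exact ⟨g * a * g⁻¹, ih a ha g, g * b * g⁻¹, (conjugate_commutatorElement a b g).symm⟩

theorem dset_subset_derivedSeries (n : ℕ) : dset Γ n ⊆ derivedSeries Γ n := by
  induction n with
  | zero => intro x _; exact Subgroup.mem_top x
  | succ n ih =>
    rintro _ ⟨a, ha, b, hb, rfl⟩
    exact commutator_mem_commutator (ih ha) (ih hb)

theorem derivedSeries_le_closure (n : ℕ) : derivedSeries Γ n ≤ Subgroup.closure (dset Γ n) := by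
  induction n with
  | zero =>
    change derivedSeries Γ 0 ≤ Subgroup.closure Set.univ
    rw [Subgroup.closure_univ]
    exact le_top
  | succ n ih =>
    haveI := closure_normal_of_conj (dset Γ (n + 1)) (dset_conj (n + 1))
    rw [derivedSeries_succ]
    refine le_trans (commutator_mono ih ih) ?_
    refine commutator_closure_le _ _ _ fun s hs s' hs' => ?_
    exact Subgroup.subset_closure ⟨s, hs, s', hs', rfl⟩

theorem derivedSeries_eq_bot_iff (n : ℕ) : derivedSeries Γ n = ⊥ ↔ dset Γ n ⊆ {1} := by
  constructor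
  · intro h x hx
    have := dset_subset_derivedSeries n hx
    rw [h] at this
    exact Subgroup.mem_bot.mp this
  · intro h
    rw [eq_bot_iff]
    refine le_trans (derivedSeries_le_closure n) ?_
    refine le_trans (Subgroup.closure_mono h) ?_
    rw [Subgroup.closure_singleton_one]

theorem lset_subset_lowerCentralSeries (n : ℕ) :
    lset Γ n ⊆ (⊤ : Subgroup Γ).lowerCentralSeries n := by
  induction n with
  | zero => intro x _; exact Subgroup.mem_top x
  | succ n ih =>
    rintro _ ⟨a, ha, b, rfl⟩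
    exact commutator_mem_commutator (ih ha) (Subgroup.mem_top b)

theorem lowerCentralSeries_le_closure (n : ℕ) :
    (⊤ : Subgroup Γ).lowerCentralSeries n ≤ Subgroup.closure (lset Γ n) := by
  induction n with
  | zero =>
    change (⊤ : Subgroup Γ).lowerCentralSeries 0 ≤ Subgroup.closure Set.univ
    rw [Subgroup.closure_univ]
    exact le_top
  | succ n ih =>
    haveI := closure_normal_of_conj (lset Γ (n + 1)) (lset_conj (n + 1))
    rw [Subgroup.lowerCentralSeries_succ]
    have htop : (⊤ : Subgroup Γ) ≤ Subgroup.closure Set.univ := by rw [Subgroup.closure_univ]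
    refine le_trans (commutator_mono ih htop) ?_
    refine commutator_closure_le _ _ _ fun s hs s' _ => ?_
    exact Subgroup.subset_closure ⟨s, hs, s', rfl⟩

theorem lowerCentralSeries_eq_bot_iff (n : ℕ) :
    (⊤ : Subgroup Γ).lowerCentralSeries n = ⊥ ↔ lset Γ n ⊆ {1} := by
  constructor
  · intro h x hx
    have := lset_subset_lowerCentralSeries n hx
    rw [h] at this
    exact Subgroup.mem_bot.mp this
  · intro h
    rw [eq_bot_iff]
    refine le_trans (lowerCentralSeries_le_closure n) ?_
    refine le_trans (Subgroup.closure_mono h) ?_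
    rw [Subgroup.closure_singleton_one]

end Groth.Agent.Lib.Helper14.GrpLaws
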