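import Mathlib
import Groth.Agent.Lib.Helper14.GrpLaws

/-!
# helper14: word morphisms for the derived and lower central laws of a group object

For a group object `G` in a cartesian monoidal category there are objects `W` (iterated products of
`G`) and morphisms `δ : W ⟶ G` such that for every `T` the set of values of the `n`-th derived
(resp. lower central) word on the group `T ⟶ G` is the set of `w ≫ δ`, `w : T ⟶ W`.
-/

set_option autoImplicit false
universe v u
open CategoryTheory MonoidalCategory CartesianMonoidalCategory MonObj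
open scoped commutatorElement

namespace Groth.Agent.Lib.Helper14.GrpLaws

variable {C : Type u} [Category.{v} C] [CartesianMonoidalCategory C] {G : C} [GrpObj G]

theorem comp_commutatorElement {T T' : C} (t : T' ⟶ T) (a b : T ⟶ G) :
    t ≫ ⁅a, b⁆ = ⁅t ≫ a, t ≫ b⁆ := by
  rw [commutatorElement_def, commutatorElement_def, MonObj.comp_mul, MonObj.comp_mul,
    MonObj.comp_mul, GrpObj.comp_inv, GrpObj.comp_inv]

theorem exists_dword (P : C → Prop) (hG : P G) (hP : ∀ W W' : C, P W → P W' → P (W ⊗ W'))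
    (n : ℕ) :
    ∃ (W : C) (δ : W ⟶ G), P W ∧
      ∀ T : C, dset (T ⟶ G) n = Set.range (fun w : T ⟶ W => w ≫ δ) := by
  induction n with
  | zero =>
    refine ⟨G, 𝟙 G, hG, fun T => ?_⟩
    ext x
    constructor
    · intro _
      exact ⟨x, Category.comp_id x⟩
    · intro _
      exact Set.mem_univ x
  | succ n ih =>
    obtain ⟨W, δ, hW, hδ⟩ := ih
    refine ⟨W ⊗ W, ⁅fst W W ≫ δ, snd W W ≫ δ⁆, hP W W hW hW, fun T => ?_⟩
    ext x
    constructor
    · rintro ⟨a, ha, b, hb, rfl⟩
      rw [hδ T] at ha hb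
      obtain ⟨w₁, rfl⟩ := ha
      obtain ⟨w₂, rfl⟩ := hb
      refine ⟨lift w₁ w₂, ?_⟩
      simp only [comp_commutatorElement, lift_fst_assoc, lift_snd_assoc]
    · rintro ⟨w, rfl⟩
      refine ⟨(w ≫ fst W W) ≫ δ, ?_, (w ≫ snd W W) ≫ δ, ?_, ?_⟩
      · rw [hδ T]
        exact ⟨_, rfl⟩
      · rw [hδ T]
        exact ⟨_, rfl⟩
      · simp only [comp_commutatorElement, Category.assoc]

theorem exists_lword (P : C → Prop) (hG : P G) (hP : ∀ W W' : C, P W → P W' → P (W ⊗ W'))
    (n : ℕ) :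
    ∃ (W : C) (δ : W ⟶ G), P W ∧
      ∀ T : C, lset (T ⟶ G) n = Set.range (fun w : T ⟶ W => w ≫ δ) := by
  induction n with
  | zero =>
    refine ⟨G, 𝟙 G, hG, fun T => ?_⟩
    ext x
    constructor
    · intro _
      exact ⟨x, Category.comp_id x⟩
    · intro _
      exact Set.mem_univ x
  | succ n ih =>
    obtain ⟨W, δ, hW, hδ⟩ := ih
    refine ⟨W ⊗ G, ⁅fst W G ≫ δ, snd W G⁆, hP W G hW hG, fun T => ?_⟩
    ext x
    constructor
    · rintro ⟨a, ha, b, rfl⟩
      rw [hδ T] at ha
      obtain ⟨w₁, rfl⟩ := ha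
      refine ⟨lift w₁ b, ?_⟩
      simp only [comp_commutatorElement, lift_fst_assoc, lift_snd]
    · rintro ⟨w, rfl⟩
      refine ⟨(w ≫ fst W G) ≫ δ, ?_, w ≫ snd W G, ?_⟩
      · rw [hδ T]
        exact ⟨_, rfl⟩
      · simp only [comp_commutatorElement, Category.assoc]

end Groth.Agent.Lib.Helper14.GrpLaws
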