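import Mathlib
import Groth.Agent.Lib.Helper14.GrpLaws2
import Groth.Agent.S18498
import Groth.Prelude.Def_Red2
import Groth.Prelude.Def_AGF

/-!
# helper14: nilpotence / solvability classes pass from the generic fibre to every fibre

For a flat separated group scheme `G` over a domain `R` with fraction field `K`: a derived /
lower-central law that holds on all points of `G_K` holds on all points of `G`, hence on all points
of every base change of `G`.
-/

set_option autoImplicit false
universe u
open CategoryTheory CategoryTheory.Limits AlgebraicGeometry MonoidalCategory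
  CartesianMonoidalCategory MonObj
open scoped commutatorElement

namespace Groth.Agent.Lib.Helper14.BCSolv

noncomputable section

open Groth.Agent.Lib.Helper14.GrpLaws

section grp

variable {Γ Γ' : Type*} [Group Γ] [Group Γ']

theorem map_mem_dset (e : Γ →* Γ') (n : ℕ) : ∀ x ∈ dset Γ n, e x ∈ dset Γ' n := by
  induction n with
  | zero => intro x _; exact Set.mem_univ _
  | succ n ih =>
    rintro _ ⟨a, ha, b, hb, rfl⟩
    exact ⟨e a, ih a ha, e b, ih b hb, (map_commutatorElement e a b).symm⟩

theorem map_mem_lset (e : Γ →* Γ') (n : ℕ) : ∀ x ∈ lset Γ n, e x ∈ lset Γ' n := by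
  induction n with
  | zero => intro x _; exact Set.mem_univ _
  | succ n ih =>
    rintro _ ⟨a, ha, b, rfl⟩
    exact ⟨e a, ih a ha, e b, (map_commutatorElement e a b).symm⟩

theorem dset_triv_of_injective (e : Γ →* Γ') (he : Function.Injective e) (n : ℕ)
    (h : dset Γ' n ⊆ {1}) : dset Γ n ⊆ {1} := by
  intro x hx
  have h1 : e x = 1 := h (map_mem_dset e n x hx)
  exact he (h1.trans (map_one e).symm)

theorem lset_triv_of_injective (e : Γ →* Γ') (he : Function.Injective e) (n : ℕ)
    (h : lset Γ' n ⊆ {1}) : lset Γ n ⊆ {1} := by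
  intro x hx
  have h1 : e x = 1 := h (map_mem_lset e n x hx)
  exact he (h1.trans (map_one e).symm)

end grp

variable {S S' : Scheme.{u}} (f : S' ⟶ S)

/-- the adjunction bijection `Hom_S(T, G) ≃ Hom_{S'}(T, G_{S'})` is a group isomorphism -/
def homMulEquiv (G : Over S) [GrpObj G] (T : Over S') :
    ((Over.map f).obj T ⟶ G) ≃* (T ⟶ (Over.pullback f).obj G) :=
  { (Over.mapPullbackAdj f).homEquiv T G with
    map_mul' := fun a b => by
      change (Over.mapPullbackAdj f).homEquiv T G (a * b) =
        (Over.mapPullbackAdj f).homEquiv T G a * (Over.mapPullbackAdj f).homEquiv T G b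
      rw [Adjunction.homEquiv_unit, Adjunction.homEquiv_unit, Adjunction.homEquiv_unit,
        Functor.map_mul, MonObj.comp_mul] }

theorem dset_bc_iff (G : Over S) [GrpObj G] (T : Over S') (n : ℕ) :
    dset (T ⟶ (Over.pullback f).obj G) n ⊆ {1} ↔ dset ((Over.map f).obj T ⟶ G) n ⊆ {1} :=
  ⟨dset_triv_of_injective (homMulEquiv f G T).toMonoidHom (homMulEquiv f G T).injective n,
    dset_triv_of_injective (homMulEquiv f G T).symm.toMonoidHom (homMulEquiv f G T).symm.injective n⟩

theorem lset_bc_iff (G : Over S) [GrpObj G] (T : Over S') (n : ℕ) :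
    lset (T ⟶ (Over.pullback f).obj G) n ⊆ {1} ↔ lset ((Over.map f).obj T ⟶ G) n ⊆ {1} :=
  ⟨lset_triv_of_injective (homMulEquiv f G T).toMonoidHom (homMulEquiv f G T).injective n,
    lset_triv_of_injective (homMulEquiv f G T).symm.toMonoidHom (homMulEquiv f G T).symm.injective n⟩

theorem schDominant_frac (R : Type u) [CommRing R] [IsDomain R] (K : Type u) [Field K]
    [Algebra R K] [IsFractionRing R K] :
    IsSchemeTheoreticallyDominant (Spec.map (CommRingCat.ofHom (algebraMap R K))) := by
  haveI : IsDominant (Spec.map (CommRingCat.ofHom (algebraMap R K))) := by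
    rw [isDominant_iff]
    have : DenseRange (PrimeSpectrum.comap (algebraMap R K)) := by
      rw [PrimeSpectrum.denseRange_comap_iff_ker_le_nilRadical]
      rw [(RingHom.injective_iff_ker_eq_bot _).mp (IsFractionRing.injective R K)]
      exact bot_le
    exact this
  haveI : IsReduced (Spec (CommRingCat.of R)) := inferInstance
  exact IsSchemeTheoreticallyDominant.of_isDominant _

variable {R : Type u} [CommRing R] [IsDomain R] (K : Type u) [Field K] [Algebra R K]
  [IsFractionRing R K]

/-- a morphism from a flat `R`-scheme to a separated `R`-group which is trivial on the generic fibre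
is trivial -/
theorem eq_one_of_generic (G : Over (Spec (CommRingCat.of R))) [GrpObj G] [IsSeparated G.hom]
    (W : Over (Spec (CommRingCat.of R))) [Flat W.hom] (δ : W ⟶ G)
    (h : (Over.mapPullbackAdj (Spec.map (CommRingCat.ofHom (algebraMap R K)))).counit.app W ≫ δ = 1) :
    δ = 1 := by
  haveI := schDominant_frac R K
  haveI : QuasiCompact (Spec.map (CommRingCat.ofHom (algebraMap R K))) := inferInstance
  haveI : IsSchemeTheoreticallyDominant
      (pullback.fst W.hom (Spec.map (CommRingCat.ofHom (algebraMap R K)))) := inferInstance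
  apply Groth.Agent.S18498.ext_of_schDominant δ 1
    (pullback.fst W.hom (Spec.map (CommRingCat.ofHom (algebraMap R K))))
  have h2 : (Over.mapPullbackAdj (Spec.map (CommRingCat.ofHom (algebraMap R K)))).counit.app W ≫ δ =
      (Over.mapPullbackAdj (Spec.map (CommRingCat.ofHom (algebraMap R K)))).counit.app W ≫ 1 := by
    rw [h, MonObj.comp_one]
  exact congrArg (fun k => k.left) h2

theorem dset_triv_of_generic (G : Over (Spec (CommRingCat.of R))) [GrpObj G] [Flat G.hom]
    [IsSeparated G.hom] (n : ℕ)
    (h : ∀ X : Over (Spec (CommRingCat.of K)),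
      dset (X ⟶ (Over.pullback (Spec.map (CommRingCat.ofHom (algebraMap R K)))).obj G) n ⊆ {1})
    (T : Over (Spec (CommRingCat.of R))) : dset (T ⟶ G) n ⊆ {1} := by
  obtain ⟨W, δ, hW, hδ⟩ := exists_dword (G := G) (fun W => Flat W.hom) inferInstance
    (fun W W' hW hW' => by
      haveI := hW
      haveI := hW'
      exact inferInstanceAs (Flat (pullback.fst W.hom W'.hom ≫ W.hom))) n
  haveI := hW
  have h1 : δ = 1 := by
    apply eq_one_of_generic K G W δ
    have h3 := (dset_bc_iff (Spec.map (CommRingCat.ofHom (algebraMap R K))) G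
      ((Over.pullback (Spec.map (CommRingCat.ofHom (algebraMap R K)))).obj W) n).mp (h _)
    apply h3
    rw [hδ]
    exact ⟨_, rfl⟩
  rw [hδ T]
  rintro _ ⟨w, rfl⟩
  change w ≫ δ = 1
  rw [h1, MonObj.comp_one]

theorem lset_triv_of_generic (G : Over (Spec (CommRingCat.of R))) [GrpObj G] [Flat G.hom]
    [IsSeparated G.hom] (n : ℕ)
    (h : ∀ X : Over (Spec (CommRingCat.of K)),
      lset (X ⟶ (Over.pullback (Spec.map (CommRingCat.ofHom (algebraMap R K)))).obj G) n ⊆ {1})
    (T : Over (Spec (CommRingCat.of R))) : lset (T ⟶ G) n ⊆ {1} := by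
  obtain ⟨W, δ, hW, hδ⟩ := exists_lword (G := G) (fun W => Flat W.hom) inferInstance
    (fun W W' hW hW' => by
      haveI := hW
      haveI := hW'
      exact inferInstanceAs (Flat (pullback.fst W.hom W'.hom ≫ W.hom))) n
  haveI := hW
  have h1 : δ = 1 := by
    apply eq_one_of_generic K G W δ
    have h3 := (lset_bc_iff (Spec.map (CommRingCat.ofHom (algebraMap R K))) G
      ((Over.pullback (Spec.map (CommRingCat.ofHom (algebraMap R K)))).obj W) n).mp (h _)
    apply h3
    rw [hδ]
    exact ⟨_, rfl⟩
  rw [hδ T]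
  rintro _ ⟨w, rfl⟩
  change w ≫ δ = 1
  rw [h1, MonObj.comp_one]

/-- solvability passes from the generic fibre to every base change -/
theorem isSolvableGrp_bc_of_generic (G : Over (Spec (CommRingCat.of R))) [GrpObj G] [Flat G.hom]
    [IsSeparated G.hom] {S' : Scheme.{u}} (g : S' ⟶ Spec (CommRingCat.of R))
    (h : Red.IsSolvableGrp (Red.bc (Spec.map (CommRingCat.ofHom (algebraMap R K))) G)) :
    Red.IsSolvableGrp (Red.bc g G) := by
  obtain ⟨n, hn⟩ := h
  refine ⟨n, fun Y => ?_⟩
  rw [derivedSeries_eq_bot_iff, dset_bc_iff]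
  exact dset_triv_of_generic K G n (fun X => (derivedSeries_eq_bot_iff n).mp (hn X)) _

/-- nilpotence passes from the generic fibre to every base change -/
theorem isNilpotentGrp_bc_of_generic (G : Over (Spec (CommRingCat.of R))) [GrpObj G] [Flat G.hom]
    [IsSeparated G.hom] {S' : Scheme.{u}} (g : S' ⟶ Spec (CommRingCat.of R))
    (h : AGF.IsNilpotentGrp (Red.bc (Spec.map (CommRingCat.ofHom (algebraMap R K))) G)) :
    AGF.IsNilpotentGrp (Red.bc g G) := by
  obtain ⟨n, hn⟩ := h
  refine ⟨n, fun Y => ?_⟩
  rw [← Subgroup.lowerCentralSeries_eq_bot_iff_upperCentralSeries_eq_top,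
    lowerCentralSeries_eq_bot_iff, lset_bc_iff]
  refine lset_triv_of_generic K G n (fun X => ?_) _
  rw [← lowerCentralSeries_eq_bot_iff,
    Subgroup.lowerCentralSeries_eq_bot_iff_upperCentralSeries_eq_top]
  exact hn X

end

end Groth.Agent.Lib.Helper14.BCSolv
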