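import Mathlib
import Groth.Prelude.Def_AlgGrp
import Groth.Prelude.Def_Red
import Groth.Agent.Lib.Helper14.BCGrp
import Groth.Agent.Lib.Helper14.MultNilAff

/-!
# helper14: characters of points and base change of diagonalisations
-/

set_option autoImplicit false
universe u
open CategoryTheory CategoryTheory.Limits AlgebraicGeometry MonoidalCategory
  CartesianMonoidalCategory MonObj

namespace Groth.Agent.Lib.Helper14.DiagHom2

noncomputable section

open Groth.Agent.Lib.Helper14.BCGrp Groth.Agent.Lib.Helper14.MultNilAff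
  Groth.Agent.Lib.helper15.DSPts Groth.Agent.Lib.helper15.GaGm

section Proj

variable {S S' S'' : Scheme.{u}}

theorem pbc_fst (f : S'' ⟶ S') (g : S' ⟶ S) (A : Over S) :
    ((Over.pullbackComp f g).hom.app A).left ≫ pullback.fst _ _ ≫ pullback.fst _ _ =
    pullback.fst A.hom (f ≫ g) := by
  simp [Over.pullbackComp, conjugateIsoEquiv, conjugateEquiv, mateEquiv, Adjunction.comp]
  erw [pullback.lift_fst_assoc]
  simp
  erw [pullback.lift_fst_assoc]
  simp
  erw [pullback.lift_fst_assoc]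
  simp
  erw [pullback.lift_fst]
  erw [pullback.lift_fst_assoc]
  erw [pullback.lift_fst_assoc]
  erw [pullback.lift_fst_assoc]
  simp

theorem pb_map_fst (k : S' ⟶ S) {X Y : Over S} (u : X ⟶ Y) :
    ((Over.pullback k).map u).left ≫ pullback.fst Y.hom k = pullback.fst X.hom k ≫ u.left := by
  simp only [Over.pullback_map_left]
  exact pullback.lift_fst _ _ _

theorem bcCompGrpIso_hom (w : S'' ⟶ S') (f : S' ⟶ S) (G : Over S) [GrpObj G] :
    (bcCompGrpIso w f G).hom.hom.hom = (Over.pullbackComp w f).hom.app G := by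
  simp [bcCompGrpIso]
  exact Category.comp_id _

theorem bcCompGrpIso_hom_fst (w : S'' ⟶ S') (f : S' ⟶ S) (G : Over S) [GrpObj G] :
    (bcCompGrpIso w f G).hom.hom.hom.left ≫ pullback.fst _ _ ≫ pullback.fst _ _ =
      pullback.fst G.hom (w ≫ f) := by
  rw [bcCompGrpIso_hom]
  exact pbc_fst w f G

theorem bcCompGrpIso_inv_fst (w : S'' ⟶ S') (f : S' ⟶ S) (G : Over S) [GrpObj G] :
    (bcCompGrpIso w f G).inv.hom.hom.left ≫ pullback.fst G.hom (w ≫ f) =
      pullback.fst _ _ ≫ pullback.fst _ _ := by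
  rw [← bcCompGrpIso_hom_fst w f G, ← Category.assoc, ← Over.comp_left]
  have h : (bcCompGrpIso w f G).inv.hom.hom ≫ (bcCompGrpIso w f G).hom.hom.hom = 𝟙 _ :=
    congrArg (fun t => t.hom.hom) (bcCompGrpIso w f G).inv_hom_id
  rw [h]
  exact Category.id_comp _

theorem bcGrpIsoOfEq_fst {f f' : S' ⟶ S} (h : f = f') (G : Over S) [GrpObj G] :
    (bcGrpIsoOfEq h G).hom.hom.hom.left ≫ pullback.fst G.hom f' = pullback.fst G.hom f := by
  subst h
  simp [bcGrpIsoOfEq]

/-- the isomorphism `D_{S'}(M)_{S''} ≅ D_{S''}(M)` is compatible with the projections to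
`Spec ℤ[M]` -/
theorem DSbcIso_fst (w : S'' ⟶ S') (M : Type) [AddCommGroup M] :
    (DSbcIso w M).hom.hom.hom.left ≫ pullback.fst _ _ =
      pullback.fst (Red.DS S' M).hom w ≫ pullback.fst _ _ := by
  unfold DSbcIso
  rw [Iso.trans_hom, Iso.symm_hom]
  change ((bcCompGrpIso w _ _).inv.hom.hom ≫ (bcGrpIsoOfEq _ _).hom.hom.hom).left ≫ _ = _
  rw [Over.comp_left, Category.assoc, bcGrpIsoOfEq_fst, bcCompGrpIso_inv_fst]

end Proj

section Down

variable {R R₁ : Type u} [CommRing R] [CommRing R₁] [Algebra R R₁]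
  {G H : Over (Spec (CommRingCat.of R))}

variable (R R₁) in
/-- the base change morphism -/
abbrev kk : Spec (CommRingCat.of R₁) ⟶ Spec (CommRingCat.of R) :=
  Spec.map (CommRingCat.ofHom (algebraMap R R₁))

variable {C : Type u} [CommRing C] [Algebra R C] [Algebra R₁ C] [IsScalarTower R R₁ C]

/-- a point of the base change, viewed as a point of `G` -/
def down (g₁ : Yo R₁ C ⟶ Red.bc (kk R R₁) G) : Yo R C ⟶ G :=
  Over.homMk (g₁.left ≫ pullback.fst G.hom (kk R R₁)) (by
    have h1 : g₁.left ≫ pullback.snd G.hom (kk R R₁) =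
        Spec.map (CommRingCat.ofHom (algebraMap R₁ C)) := Over.w g₁
    change (g₁.left ≫ pullback.fst G.hom (kk R R₁)) ≫ G.hom =
      Spec.map (CommRingCat.ofHom (algebraMap R C))
    rw [Category.assoc, pullback.condition, ← Category.assoc, h1, ← Spec.map_comp,
      ← CommRingCat.ofHom_comp, ← IsScalarTower.algebraMap_eq])

@[simp] lemma down_left (g₁ : Yo R₁ C ⟶ Red.bc (kk R R₁) G) :
    (down g₁).left = g₁.left ≫ pullback.fst G.hom (kk R R₁) := rfl

lemma down_comp (u : G ⟶ H) (g₁ : Yo R₁ C ⟶ Red.bc (kk R R₁) G) :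
    down (g₁ ≫ (Over.pullback (kk R R₁)).map u) = down g₁ ≫ u := by
  apply Over.OverMorphism.ext
  rw [down_left, Over.comp_left, Over.comp_left, down_left, Category.assoc, Category.assoc,
    pb_map_fst]

end Down

section Chi

variable {R R₁ : Type u} [CommRing R] [CommRing R₁] [Algebra R R₁]
  {M : Type} [AddCommGroup M]
  {G : Over (Spec (CommRingCat.of R))} [GrpObj G]
  (e : Grp.mk G ≅ Grp.mk (Red.DS (Spec (CommRingCat.of R)) M))

/-- the base-changed diagonalisation -/
def bcDiag : Grp.mk (Red.bc (kk R R₁) G) ≅ Grp.mk (Red.DS (Spec (CommRingCat.of R₁)) M) :=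
  bcGrpMapIso (kk R R₁) e ≪≫ DSbcIso (kk R R₁) M

variable {C : Type u} [CommRing C] [Algebra R C] [Algebra R₁ C] [IsScalarTower R R₁ C]

lemma eh_bcDiag_fst :
    (eh (bcDiag (R₁ := R₁) e)).left ≫ pullback.fst _ _ =
      pullback.fst G.hom (kk R R₁) ≫ (eh e).left ≫ pullback.fst _ _ := by
  have h1 : eh (bcDiag (R₁ := R₁) e) =
      (Over.pullback (kk R R₁)).map (eh e) ≫ (DSbcIso (kk R R₁) M).hom.hom.hom := rfl
  rw [h1, Over.comp_left, Category.assoc, DSbcIso_fst, ← Category.assoc, pb_map_fst,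
    Category.assoc]

/-- **characters are compatible with base change of the diagonalisation** -/
theorem chi_bcDiag (g₁ : Yo R₁ C ⟶ Red.bc (kk R R₁) G) :
    chi (bcDiag (R₁ := R₁) e) g₁ = chi e (down g₁) := by
  apply MonoidHom.ext
  intro m
  rw [chi_apply, chi_apply]
  congr 1
  rw [dsFn_def, dsFn_def, pt_apply, pt_apply]
  congr 2
  rw [Over.comp_left, Over.comp_left, Category.assoc, Category.assoc, eh_bcDiag_fst, down_left,
    Category.assoc]

end Chi

end

end Groth.Agent.Lib.Helper14.DiagHom2
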