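import Mathlib
import Groth.Prelude.Def_AlgGrp
import Groth.Prelude.Def_Red
import Groth.Prelude.Def_SGA3x
import Groth.Agent.Lib.Helper14.BCGrp

/-!
# helper14: common fpqc covering diagonalising two groups of multiplicative type of finite type,
keeping the finite generation and the quasi-compactness of the covering
-/

set_option autoImplicit false
universe u
open CategoryTheory CategoryTheory.Limits AlgebraicGeometry MonoidalCategory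
  CartesianMonoidalCategory MonObj

namespace Groth.Agent.Lib.Helper14.DiagHomG3

noncomputable section

open Groth.Agent.Lib.Helper14.BCGrp

/-- the fibre product of two fpqc coverings still satisfies the quasi-compact covering condition -/
theorem cover_pullback {S S₁ S₂ : Scheme.{u}} (f₁ : S₁ ⟶ S) (f₂ : S₂ ⟶ S)
    (hc₁ : ∀ V : S.Opens, IsAffineOpen V → ∃ W : S₁.Opens, IsCompact (W : Set S₁) ∧
      f₁.base '' (W : Set S₁) = (V : Set S))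
    (hc₂ : ∀ V : S.Opens, IsAffineOpen V → ∃ W : S₂.Opens, IsCompact (W : Set S₂) ∧
      f₂.base '' (W : Set S₂) = (V : Set S))
    (V : S.Opens) (hV : IsAffineOpen V) :
    ∃ W : (pullback f₁ f₂).Opens, IsCompact (W : Set ↥(pullback f₁ f₂)) ∧
      (pullback.fst f₁ f₂ ≫ f₁).base '' (W : Set ↥(pullback f₁ f₂)) = (V : Set S) := by
  obtain ⟨W₁, hW₁c, hW₁V⟩ := hc₁ V hV
  obtain ⟨W₂, hW₂c, hW₂V⟩ := hc₂ V hV
  let pr₁ := pullback.fst f₁ f₂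
  let pr₂ := pullback.snd f₁ f₂
  refine ⟨pr₁ ⁻¹ᵁ W₁ ⊓ pr₂ ⁻¹ᵁ W₂, ?_, ?_⟩
  · have hsub₁ : Set.range (W₁.ι ≫ f₁).base ⊆ Set.range V.ι.base := by
      rintro _ ⟨w, rfl⟩
      rw [Scheme.Opens.range_ι, ← hW₁V]
      exact ⟨w.1, w.2, rfl⟩
    have hsub₂ : Set.range (W₂.ι ≫ f₂).base ⊆ Set.range V.ι.base := by
      rintro _ ⟨w, rfl⟩
      rw [Scheme.Opens.range_ι, ← hW₂V]
      exact ⟨w.1, w.2, rfl⟩
    let g₁ : (W₁ : Scheme.{u}) ⟶ (V : Scheme.{u}) := IsOpenImmersion.lift V.ι (W₁.ι ≫ f₁) hsub₁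
    let g₂ : (W₂ : Scheme.{u}) ⟶ (V : Scheme.{u}) := IsOpenImmersion.lift V.ι (W₂.ι ≫ f₂) hsub₂
    have hg₁ : g₁ ≫ V.ι = W₁.ι ≫ f₁ := IsOpenImmersion.lift_fac _ _ _
    have hg₂ : g₂ ≫ V.ι = W₂.ι ≫ f₂ := IsOpenImmersion.lift_fac _ _ _
    haveI : IsAffine (V : Scheme.{u}) := hV
    haveI : CompactSpace ↥(W₁ : Scheme.{u}) := isCompact_iff_compactSpace.mp hW₁c
    haveI : CompactSpace ↥(W₂ : Scheme.{u}) := isCompact_iff_compactSpace.mp hW₂c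
    haveI : QuasiCompact g₁ := (quasiCompact_iff_compactSpace g₁).mpr inferInstance
    haveI : CompactSpace ↥(pullback g₁ g₂) := inferInstance
    let m := pullback.map g₁ g₂ f₁ f₂ W₁.ι W₂.ι V.ι hg₁ hg₂
    have hr : Set.range m = ((pr₁ ⁻¹ᵁ W₁ ⊓ pr₂ ⁻¹ᵁ W₂ : (pullback f₁ f₂).Opens) :
        Set ↥(pullback f₁ f₂)) := by
      rw [Scheme.Pullback.range_map]
      ext z
      simp only [Set.mem_inter_iff, Set.mem_preimage, Scheme.Opens.range_ι]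
      rfl
    rw [← hr]
    exact isCompact_range m.continuous
  · ext v
    constructor
    · rintro ⟨z, hz, rfl⟩
      rw [← hW₁V]
      exact ⟨pr₁ z, hz.1, (Scheme.Hom.comp_apply _ _ _).symm⟩
    · intro hv
      have hv₁ : v ∈ f₁.base '' (W₁ : Set S₁) := by rw [hW₁V]; exact hv
      have hv₂ : v ∈ f₂.base '' (W₂ : Set S₂) := by rw [hW₂V]; exact hv
      obtain ⟨w₁, hw₁, hw₁v⟩ := hv₁
      obtain ⟨w₂, hw₂, hw₂v⟩ := hv₂
      obtain ⟨z, hz₁, hz₂⟩ := Scheme.Pullback.exists_preimage_pullback w₁ w₂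
        (f := f₁) (g := f₂) (hw₁v.trans hw₂v.symm)
      refine ⟨z, ⟨?_, ?_⟩, ?_⟩
      · show pr₁ z ∈ W₁
        rw [show pr₁ z = w₁ from hz₁]; exact hw₁
      · show pr₂ z ∈ W₂
        rw [show pr₂ z = w₂ from hz₂]; exact hw₂
      · rw [Scheme.Hom.comp_base, TopCat.comp_app]
        rw [show (pullback.fst f₁ f₂).base z = w₁ from hz₁]
        exact hw₁v

theorem exists_common_cover' {S : Scheme.{u}} {H₁ H₂ : Over S} [GrpObj H₁] [GrpObj H₂]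
    (h₁ : SGA3x.IsMultTypeFT H₁) (h₂ : SGA3x.IsMultTypeFT H₂) :
    ∃ (S' : Scheme.{u}) (f : S' ⟶ S), Flat f ∧ Surjective f ∧
      (∀ V : S.Opens, IsAffineOpen V → ∃ W : S'.Opens, IsCompact (W : Set S') ∧
        f.base '' (W : Set S') = (V : Set S)) ∧
      ∀ s' : S', ∃ U : S'.Opens, s' ∈ U ∧ ∃ (M₁ M₂ : Type) (_ : AddCommGroup M₁)
        (_ : AddCommGroup M₂), AddGroup.FG M₁ ∧ AddGroup.FG M₂ ∧
          Nonempty (Grp.mk (Red.bc (U.ι ≫ f) H₁) ≅ Grp.mk (Red.DS U M₁)) ∧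
          Nonempty (Grp.mk (Red.bc (U.ι ≫ f) H₂) ≅ Grp.mk (Red.DS U M₂)) := by
  obtain ⟨S₁, f₁, hflat₁, hsurj₁, hc₁, hloc₁⟩ := h₁
  obtain ⟨S₂, f₂, hflat₂, hsurj₂, hc₂, hloc₂⟩ := h₂
  haveI := hflat₁
  haveI := hflat₂
  haveI := hsurj₁
  haveI := hsurj₂
  let pr₁ := pullback.fst f₁ f₂
  let pr₂ := pullback.snd f₁ f₂
  refine ⟨pullback f₁ f₂, pr₁ ≫ f₁, inferInstance, inferInstance,
    cover_pullback f₁ f₂ hc₁ hc₂, ?_⟩
  intro s'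
  obtain ⟨U₁, hU₁, M₁, inst₁, hfg₁, ⟨e₁⟩⟩ := hloc₁ (pr₁.base s')
  obtain ⟨U₂, hU₂, M₂, inst₂, hfg₂, ⟨e₂⟩⟩ := hloc₂ (pr₂.base s')
  let U : (pullback f₁ f₂).Opens := pr₁ ⁻¹ᵁ U₁ ⊓ pr₂ ⁻¹ᵁ U₂
  refine ⟨U, ⟨hU₁, hU₂⟩, M₁, M₂, inst₁, inst₂, hfg₁, hfg₂, ⟨?_⟩, ⟨?_⟩⟩
  · have hr : Set.range (U.ι ≫ pr₁).base ⊆ Set.range U₁.ι.base := by
      rintro _ ⟨c, rfl⟩
      rw [Scheme.Opens.range_ι]
      exact c.2.1
    let w : (U : Scheme.{u}) ⟶ (U₁ : Scheme.{u}) := IsOpenImmersion.lift U₁.ι (U.ι ≫ pr₁) hr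
    have hw : w ≫ U₁.ι = U.ι ≫ pr₁ := IsOpenImmersion.lift_fac _ _ _
    have heq : U.ι ≫ pr₁ ≫ f₁ = w ≫ U₁.ι ≫ f₁ := by
      rw [← Category.assoc, ← hw, Category.assoc]
    exact bcGrpIsoOfEq heq H₁ ≪≫ diagBC w (U₁.ι ≫ f₁) H₁ M₁ e₁
  · have hr : Set.range (U.ι ≫ pr₂).base ⊆ Set.range U₂.ι.base := by
      rintro _ ⟨c, rfl⟩
      rw [Scheme.Opens.range_ι]
      exact c.2.2
    let w : (U : Scheme.{u}) ⟶ (U₂ : Scheme.{u}) := IsOpenImmersion.lift U₂.ι (U.ι ≫ pr₂) hr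
    have hw : w ≫ U₂.ι = U.ι ≫ pr₂ := IsOpenImmersion.lift_fac _ _ _
    have heq : U.ι ≫ pr₁ ≫ f₁ = w ≫ U₂.ι ≫ f₂ := by
      rw [← Category.assoc w, hw, Category.assoc, pullback.condition]
    exact bcGrpIsoOfEq heq H₂ ≪≫ diagBC w (U₂.ι ≫ f₂) H₂ M₂ e₂

end

end Groth.Agent.Lib.Helper14.DiagHomG3
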