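import Mathlib

/-!
# helper14: algebra for homomorphisms between diagonalisable groups

Coefficient computations in `R[P × P]`: an element `x : R[P]` with
`x(s t) = x(s) x(t)` on the universal pair of points has orthogonal idempotent coefficients.
-/

set_option autoImplicit false
universe u

namespace Groth.Agent.Lib.Helper14.DiagHomAlg

open MonoidAlgebra

variable {R : Type*} [CommRing R] {P : Type*} [CommGroup P]

/-- first universal character `P → R[P × P]` -/
noncomputable def c₁ : P →* MonoidAlgebra R (P × P) :=
  (MonoidAlgebra.of R (P × P)).comp (MonoidHom.inl P P)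

/-- second universal character -/
noncomputable def c₂ : P →* MonoidAlgebra R (P × P) :=
  (MonoidAlgebra.of R (P × P)).comp (MonoidHom.inr P P)

lemma c₁_apply (p : P) : (c₁ p : MonoidAlgebra R (P × P)) = single ((p, 1) : P × P) (1 : R) := rfl

lemma c₂_apply (p : P) : (c₂ p : MonoidAlgebra R (P × P)) = single ((1, p) : P × P) (1 : R) := rfl

lemma lift_c₁_single (a : P) (r : R) :
    MonoidAlgebra.lift R (MonoidAlgebra R (P × P)) P c₁ (single a r) = single ((a, 1) : P × P) r := by
  rw [MonoidAlgebra.lift_single, c₁_apply, MonoidAlgebra.smul_single, smul_eq_mul, mul_one]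

lemma lift_c₂_single (a : P) (r : R) :
    MonoidAlgebra.lift R (MonoidAlgebra R (P × P)) P c₂ (single a r) = single ((1, a) : P × P) r := by
  rw [MonoidAlgebra.lift_single, c₂_apply, MonoidAlgebra.smul_single, smul_eq_mul, mul_one]

lemma lift_c₁c₂_single (a : P) (r : R) :
    MonoidAlgebra.lift R (MonoidAlgebra R (P × P)) P (c₁ * c₂) (single a r) =
      single ((a, a) : P × P) r := by
  rw [MonoidAlgebra.lift_single, MonoidHom.mul_apply, c₁_apply, c₂_apply,
    MonoidAlgebra.single_mul_single, MonoidAlgebra.smul_single, smul_eq_mul, mul_one, mul_one]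
  have h1 : ((a, 1) : P × P) * (1, a) = (a, a) := by
    change ((a * 1, 1 * a) : P × P) = (a, a)
    rw [mul_one, one_mul]
  rw [h1]

/-- coefficients of the diagonal image -/
lemma coeff_lift_diag [DecidableEq P] (x : MonoidAlgebra R P) (p q : P) :
    (MonoidAlgebra.lift R (MonoidAlgebra R (P × P)) P (c₁ * c₂) x).coeff (p, q) =
      if p = q then x.coeff p else 0 := by
  induction x using MonoidAlgebra.induction_linear with
  | zero => simp
  | add x y hx hy =>
    rw [map_add, coeff_add, Finsupp.add_apply, hx, hy, coeff_add, Finsupp.add_apply]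
    split_ifs <;> simp
  | single a r =>
    rw [lift_c₁c₂_single, coeff_single, coeff_single, Finsupp.single_apply, Finsupp.single_apply]
    by_cases hpq : p = q
    · subst hpq
      by_cases hap : a = p
      · subst hap; simp
      · have : ((a, a) : P × P) ≠ (p, p) := fun h => hap (congrArg Prod.fst h)
        simp [hap, this]
    · have : ((a, a) : P × P) ≠ (p, q) := fun h =>
        hpq ((congrArg Prod.fst h).symm.trans (congrArg Prod.snd h))
      simp [hpq, this]

/-- coefficients of the product of the two partial images -/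
lemma coeff_lift_mul_lift [DecidableEq P] (x y : MonoidAlgebra R P) (p q : P) :
    (MonoidAlgebra.lift R (MonoidAlgebra R (P × P)) P c₁ x *
      MonoidAlgebra.lift R (MonoidAlgebra R (P × P)) P c₂ y).coeff (p, q) =
      x.coeff p * y.coeff q := by
  induction x using MonoidAlgebra.induction_linear with
  | zero => simp
  | add x x' hx hx' =>
    rw [map_add, add_mul, coeff_add, Finsupp.add_apply, hx, hx', coeff_add, Finsupp.add_apply,
      add_mul]
  | single a r =>
    induction y using MonoidAlgebra.induction_linear with
    | zero => simp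
    | add y y' hy hy' =>
      rw [map_add, mul_add, coeff_add, Finsupp.add_apply, hy, hy', coeff_add, Finsupp.add_apply,
        mul_add]
    | single b s =>
      rw [lift_c₁_single, lift_c₂_single, MonoidAlgebra.single_mul_single, coeff_single,
        coeff_single, coeff_single, Finsupp.single_apply, Finsupp.single_apply,
        Finsupp.single_apply]
      have h1 : ((a, 1) : P × P) * (1, b) = (a, b) := by
        change ((a * 1, 1 * b) : P × P) = (a, b)
        rw [mul_one, one_mul]
      rw [h1]
      by_cases ha : a = p
      · by_cases hb : b = q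
        · subst ha; subst hb; simp
        · have : ((a, b) : P × P) ≠ (p, q) := fun h => hb (congrArg Prod.snd h)
          simp [hb, this]
      · have : ((a, b) : P × P) ≠ (p, q) := fun h => ha (congrArg Prod.fst h)
        simp [ha, this]

/-- orthogonality of the coefficients of a "group-like" element -/
theorem coeff_mul_coeff [DecidableEq P] (x : MonoidAlgebra R P)
    (h : MonoidAlgebra.lift R (MonoidAlgebra R (P × P)) P (c₁ * c₂) x =
      MonoidAlgebra.lift R (MonoidAlgebra R (P × P)) P c₁ x *
        MonoidAlgebra.lift R (MonoidAlgebra R (P × P)) P c₂ x) (p q : P) :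
    x.coeff p * x.coeff q = if p = q then x.coeff p else 0 := by
  rw [← coeff_lift_mul_lift, ← h, coeff_lift_diag]

/-- the augmentation is the sum of the coefficients -/
lemma lift_one_eq_sum (x : MonoidAlgebra R P) :
    MonoidAlgebra.lift R R P 1 x = x.coeff.sum (fun _ r => r) := by
  rw [MonoidAlgebra.lift_apply]
  apply Finsupp.sum_congr
  intro p _
  rw [MonoidHom.one_apply, smul_eq_mul, mul_one]

/-- for a prime ideal, exactly one coefficient of a group-like element lies outside it -/
theorem existsUnique_coeff_notMem [DecidableEq P] (x : MonoidAlgebra R P)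
    (hmul : ∀ p q : P, x.coeff p * x.coeff q = if p = q then x.coeff p else 0)
    (hsum : x.coeff.sum (fun _ r => r) = 1) (𝔭 : Ideal R) [𝔭.IsPrime] :
    ∃! p : P, x.coeff p ∉ 𝔭 := by
  have hex : ∃ p : P, x.coeff p ∉ 𝔭 := by
    by_contra hne
    push Not at hne
    have h1 : x.coeff.sum (fun _ r => r) ∈ 𝔭 := by
      rw [Finsupp.sum]
      exact Ideal.sum_mem _ (fun p _ => hne p)
    rw [hsum] at h1
    exact (Ideal.ne_top_iff_one 𝔭).mp (Ideal.IsPrime.ne_top ‹_›) h1
  obtain ⟨p, hp⟩ := hex
  refine ⟨p, hp, fun q hq => ?_⟩
  by_contra hne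
  have h1 := hmul q p
  rw [if_neg hne] at h1
  have h2 : x.coeff q * x.coeff p ∈ 𝔭 := by rw [h1]; exact 𝔭.zero_mem
  rcases Ideal.IsPrime.mem_or_mem ‹_› h2 with h3 | h3
  · exact hq h3
  · exact hp h3

end Groth.Agent.Lib.Helper14.DiagHomAlg
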