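import Mathlib
import Groth.Prelude.Def_AlgGrp
import Groth.Prelude.Def_Red
import Groth.Agent.Lib.Helper14.MultNilAff
import Groth.Agent.Lib.Helper14.DiagHomAlg

/-!
# helper14: a homomorphism `D(M) ⟶ D(N)` over an affine base is, Zariski-locally, `D(φ)` for a
homomorphism `φ : N → M` (statement on points)
-/

set_option autoImplicit false
universe u
open CategoryTheory CategoryTheory.Limits AlgebraicGeometry MonoidalCategory
  CartesianMonoidalCategory MonObj

namespace Groth.Agent.Lib.Helper14.DiagHom1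

noncomputable section

open Groth.Agent.Lib.Helper14.MultNilAff Groth.Agent.Lib.Helper14.DiagHomAlg

variable {R : Type u} [CommRing R] {M N : Type} [AddCommGroup M] [AddCommGroup N]
  {G H : Over (Spec (CommRingCat.of R))} [GrpObj G] [GrpObj H]
  (eG : Grp.mk G ≅ Grp.mk (Red.DS (Spec (CommRingCat.of R)) M))
  (eH : Grp.mk H ≅ Grp.mk (Red.DS (Spec (CommRingCat.of R)) N))
  (u : G ⟶ H) [IsMonHom u]

lemma chi_one {C : Type u} [CommRing C] [Algebra R C] : chi eG (1 : Yo R C ⟶ G) = 1 := by
  rw [← ofChi_one eG, chi_ofChi]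

/-- the universal point of `G` -/
def xU : Yo R (MonoidAlgebra R (Multiplicative M)) ⟶ G :=
  ofChi eG (MonoidAlgebra.of R (Multiplicative M))

section Cls

variable {C : Type u} [CommRing C] [Algebra R C]

/-- the classifying algebra map of a point -/
def cls (g : Yo R C ⟶ G) : MonoidAlgebra R (Multiplicative M) →ₐ[R] C :=
  MonoidAlgebra.lift R C (Multiplicative M) (chi eG g)

lemma cls_comp_of (g : Yo R C ⟶ G) :
    ((cls eG g : MonoidAlgebra R (Multiplicative M) →* C)).comp
      (MonoidAlgebra.of R (Multiplicative M)) = chi eG g := by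
  apply MonoidHom.ext
  intro p
  rw [MonoidHom.comp_apply]
  change cls eG g (MonoidAlgebra.of R (Multiplicative M) p) = _
  unfold cls
  rw [MonoidAlgebra.lift_of]

lemma Ymap_cls (g : Yo R C ⟶ G) : Ymap (cls eG g) ≫ xU eG = g := by
  unfold xU
  rw [← ofChi_nat, cls_comp_of, ofChi_chi]

end Cls

/-- the matrix of `u`: the characters of the image of the universal point -/
def gam : Multiplicative N →* MonoidAlgebra R (Multiplicative M) := chi eH (xU eG ≫ u)

lemma chi_comp_u {C : Type u} [CommRing C] [Algebra R C] (g : Yo R C ⟶ G) :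
    chi eH (g ≫ u) = ((cls eG g : MonoidAlgebra R (Multiplicative M) →* C)).comp (gam eG eH u) := by
  conv_lhs => rw [← Ymap_cls eG g, Category.assoc]
  unfold gam
  rw [chi_nat]

lemma chi_comp_u_apply {C : Type u} [CommRing C] [Algebra R C] (g : Yo R C ⟶ G)
    (n : Multiplicative N) : chi eH (g ≫ u) n = cls eG g (gam eG eH u n) := by
  rw [chi_comp_u eG eH u g]
  rfl

lemma gam_grouplike (n : Multiplicative N) :
    MonoidAlgebra.lift R (MonoidAlgebra R (Multiplicative M × Multiplicative M)) (Multiplicative M)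
        (c₁ * c₂) (gam eG eH u n) =
      MonoidAlgebra.lift R (MonoidAlgebra R (Multiplicative M × Multiplicative M)) (Multiplicative M)
          c₁ (gam eG eH u n) *
        MonoidAlgebra.lift R (MonoidAlgebra R (Multiplicative M × Multiplicative M))
          (Multiplicative M) c₂ (gam eG eH u n) := by
  obtain ⟨sU, hsU⟩ : ∃ s : Yo R (MonoidAlgebra R (Multiplicative M × Multiplicative M)) ⟶ G,
      s = ofChi eG c₁ := ⟨_, rfl⟩
  obtain ⟨tU, htU⟩ : ∃ s : Yo R (MonoidAlgebra R (Multiplicative M × Multiplicative M)) ⟶ G,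
      s = ofChi eG c₂ := ⟨_, rfl⟩
  have hs : chi eG sU = c₁ := by rw [hsU, chi_ofChi]
  have ht : chi eG tU = c₂ := by rw [htU, chi_ofChi]
  have h1 : chi eH ((sU * tU) ≫ u) n = chi eH (sU ≫ u) n * chi eH (tU ≫ u) n := by
    rw [MonObj.mul_comp, chi_mul, MonoidHom.mul_apply]
  rw [chi_comp_u_apply eG eH u, chi_comp_u_apply eG eH u, chi_comp_u_apply eG eH u] at h1
  unfold cls at h1
  rw [chi_mul, hs, ht] at h1
  exact h1

lemma gam_aug (n : Multiplicative N) :
    MonoidAlgebra.lift R R (Multiplicative M) 1 (gam eG eH u n) = 1 := by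
  have h1 : chi eH ((1 : Yo R R ⟶ G) ≫ u) n = 1 := by
    rw [MonObj.one_comp, chi_one, MonoidHom.one_apply]
  rw [chi_comp_u_apply eG eH u] at h1
  unfold cls at h1
  rw [chi_one] at h1
  exact h1

/-- coefficients of the matrix of `u` -/
def cf (n : Multiplicative N) (p : Multiplicative M) : R := (gam eG eH u n).coeff p

open scoped Classical in
lemma cf_mul_cf (n : Multiplicative N) (p q : Multiplicative M) :
    cf eG eH u n p * cf eG eH u n q = if p = q then cf eG eH u n p else 0 := by
  classical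
  exact coeff_mul_coeff (gam eG eH u n) (gam_grouplike eG eH u n) p q

lemma cf_idem (n : Multiplicative N) (p : Multiplicative M) :
    cf eG eH u n p * cf eG eH u n p = cf eG eH u n p := by
  rw [cf_mul_cf, if_pos rfl]

lemma cf_orth (n : Multiplicative N) {p q : Multiplicative M} (h : p ≠ q) :
    cf eG eH u n p * cf eG eH u n q = 0 := by
  rw [cf_mul_cf, if_neg h]

lemma cf_sum (n : Multiplicative N) : (gam eG eH u n).coeff.sum (fun _ r => r) = 1 := by
  rw [← lift_one_eq_sum, gam_aug]

section Prime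

variable (𝔭 : Ideal R) [𝔭.IsPrime]

lemma existsUnique_cf (n : Multiplicative N) : ∃! p : Multiplicative M, cf eG eH u n p ∉ 𝔭 := by
  classical
  exact existsUnique_coeff_notMem (gam eG eH u n) (cf_mul_cf eG eH u n) (cf_sum eG eH u n) 𝔭

/-- the fibre homomorphism of character groups at a prime -/
def phiFun (n : Multiplicative N) : Multiplicative M :=
  Classical.choose (existsUnique_cf eG eH u 𝔭 n).exists

lemma phiFun_spec (n : Multiplicative N) : cf eG eH u n (phiFun eG eH u 𝔭 n) ∉ 𝔭 :=
  Classical.choose_spec (existsUnique_cf eG eH u 𝔭 n).exists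

lemma cf_mem_of_ne (n : Multiplicative N) {p : Multiplicative M} (hp : p ≠ phiFun eG eH u 𝔭 n) :
    cf eG eH u n p ∈ 𝔭 := by
  by_contra h
  exact hp ((existsUnique_cf eG eH u 𝔭 n).unique h (phiFun_spec eG eH u 𝔭 n))

/-- modulo the prime, the matrix of `u` is a monomial matrix -/
lemma mapRingHom_gam (n : Multiplicative N) :
    MonoidAlgebra.mapRingHom (Multiplicative M) (Ideal.Quotient.mk 𝔭) (gam eG eH u n) =
      MonoidAlgebra.of (R ⧸ 𝔭) (Multiplicative M) (phiFun eG eH u 𝔭 n) := by
  classical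
  apply MonoidAlgebra.ext
  ext p
  rw [MonoidAlgebra.coeff_mapRingHom, MonoidAlgebra.of_apply, MonoidAlgebra.coeff_single,
    Finsupp.single_apply]
  by_cases hp : phiFun eG eH u 𝔭 n = p
  · rw [if_pos hp, ← hp]
    have h1 := cf_idem eG eH u n (phiFun eG eH u 𝔭 n)
    have h2 : Ideal.Quotient.mk 𝔭 (cf eG eH u n (phiFun eG eH u 𝔭 n)) ≠ 0 := by
      rw [Ne, Ideal.Quotient.eq_zero_iff_mem]
      exact phiFun_spec eG eH u 𝔭 n
    have h3 : Ideal.Quotient.mk 𝔭 (cf eG eH u n (phiFun eG eH u 𝔭 n)) *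
        Ideal.Quotient.mk 𝔭 (cf eG eH u n (phiFun eG eH u 𝔭 n)) =
        Ideal.Quotient.mk 𝔭 (cf eG eH u n (phiFun eG eH u 𝔭 n)) := by
      rw [← map_mul, h1]
    exact (mul_eq_left₀ h2).mp h3
  · rw [if_neg hp]
    exact Ideal.Quotient.eq_zero_iff_mem.mpr (cf_mem_of_ne eG eH u 𝔭 n (fun h => hp h.symm))

/-- the fibre homomorphism of character groups at a prime, as a homomorphism -/
def phiHom : Multiplicative N →* Multiplicative M where
  toFun := phiFun eG eH u 𝔭
  map_one' := by
    apply MonoidAlgebra.of_injective (R := R ⧸ 𝔭)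
    rw [← mapRingHom_gam, map_one, map_one, map_one]
  map_mul' n n' := by
    apply MonoidAlgebra.of_injective (R := R ⧸ 𝔭)
    rw [← mapRingHom_gam, map_mul, map_mul, mapRingHom_gam, mapRingHom_gam, map_mul]

lemma phiHom_apply (n : Multiplicative N) : phiHom eG eH u 𝔭 n = phiFun eG eH u 𝔭 n := rfl

end Prime

/-- if the distinguished coefficient becomes `1` in `C`, the characters of `u(g)` at `n` are computed
by the fibre homomorphism -/
lemma chi_comp_u_of_one {C : Type u} [CommRing C] [Algebra R C] (g : Yo R C ⟶ G)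
    (n : Multiplicative N) (p₀ : Multiplicative M)
    (h1 : algebraMap R C (cf eG eH u n p₀) = 1) :
    chi eH (g ≫ u) n = chi eG g p₀ := by
  classical
  have h0 : ∀ p : Multiplicative M, p ≠ p₀ → algebraMap R C (cf eG eH u n p) = 0 := by
    intro p hp
    have h2 := cf_orth eG eH u n hp
    have h3 := congrArg (algebraMap R C) h2
    rw [map_mul, h1, _root_.mul_one, map_zero] at h3
    exact h3
  rw [chi_comp_u_apply eG eH u]
  unfold cls
  rw [MonoidAlgebra.lift_apply]
  rw [Finsupp.sum_eq_single p₀]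
  · change cf eG eH u n p₀ • chi eG g p₀ = _
    rw [Algebra.smul_def, h1, _root_.one_mul]
  · intro p _ hp
    change cf eG eH u n p • chi eG g p = 0
    rw [Algebra.smul_def, h0 p hp, zero_mul]
  · intro _
    rw [zero_smul]

/-- **Local constancy**: near a prime `𝔭`, the homomorphism `u` is given on points by the fibre
homomorphism `φ` at `𝔭`. -/
theorem local_const [AddGroup.FG N] (𝔭 : Ideal R) [𝔭.IsPrime] :
    ∃ (h : R) (φ : Multiplicative N →* Multiplicative M), h ∉ 𝔭 ∧
      ∀ (C : Type u) [CommRing C] [Algebra R C], IsUnit (algebraMap R C h) →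
        ∀ g : Yo R C ⟶ G, chi eH (g ≫ u) = (chi eG g).comp φ := by
  classical
  obtain ⟨S, hS, hfin⟩ := Group.fg_iff.mp (inferInstance : Group.FG (Multiplicative N))
  refine ⟨∏ n ∈ hfin.toFinset, cf eG eH u n (phiHom eG eH u 𝔭 n), phiHom eG eH u 𝔭, ?_, ?_⟩
  · rw [Ideal.IsPrime.prod_mem_iff]
    rintro ⟨n, -, hn⟩
    exact phiFun_spec eG eH u 𝔭 n hn
  · intro C _ _ hunit g
    apply MonoidHom.eq_of_eqOn_dense hS
    intro n hn
    have hn' : n ∈ hfin.toFinset := hfin.mem_toFinset.mpr hn
    have hu : IsUnit (algebraMap R C (cf eG eH u n (phiHom eG eH u 𝔭 n))) := by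
      rw [map_prod] at hunit
      exact isUnit_of_dvd_unit (Finset.dvd_prod_of_mem
        (fun x => algebraMap R C (cf eG eH u x (phiHom eG eH u 𝔭 x))) hn') hunit
    have h1 : algebraMap R C (cf eG eH u n (phiHom eG eH u 𝔭 n)) = 1 := by
      have h2 := congrArg (algebraMap R C) (cf_idem eG eH u n (phiHom eG eH u 𝔭 n))
      rw [map_mul] at h2
      rw [← _root_.one_mul (algebraMap R C (cf eG eH u n (phiHom eG eH u 𝔭 n)))] at h2
      conv_lhs at h2 => rw [_root_.one_mul]
      exact (IsUnit.mul_left_inj hu).mp h2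
    rw [MonoidHom.comp_apply]
    exact chi_comp_u_of_one eG eH u g n _ h1

end

end Groth.Agent.Lib.Helper14.DiagHom1
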