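import Mathlib
import Groth.Prelude.Def_AlgGrp
import Groth.Prelude.Def_Red
import Groth.Prelude.Def_Red2
import Groth.Agent.Lib.Helper14.MultNilAff
import Groth.Agent.Lib.Helper15.DSMap
import Groth.Agent.Lib.Helper15.DSPts
import Groth.Agent.Lib.Helper15.GroupAlgFree

/-!
# helper14: a homomorphism `G ≅ D(M) ⟶ H ≅ D(N)` which is `D(φ)` on points, and its properties
-/

set_option autoImplicit false
universe u
open CategoryTheory CategoryTheory.Limits AlgebraicGeometry MonoidalCategory
  CartesianMonoidalCategory MonObj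

namespace Groth.Agent.Lib.Helper14.DiagHom3

noncomputable section

open Groth.Agent.Lib.Helper14.MultNilAff Groth.Agent.Lib.helper15.DSPts
  Groth.Agent.Lib.helper15.GaGm

section DSFunct

variable {S : Scheme.{u}} {A B C : Type} [AddCommGroup A] [AddCommGroup B] [AddCommGroup C]

lemma hom_ext_dsFn {X : Over S} (f₁ f₂ : X ⟶ Red.DS S A) (h : ∀ a, dsFn f₁ a = dsFn f₂ a) :
    f₁ = f₂ := dsFn_injective f₁ f₂ h

lemma dsFn_DSmap' (φ : A →+ B) (a : A) :
    dsFn (Red.DSmap S φ) a = dsFn (𝟙 (Red.DS S B)) (φ a) := by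
  have h := dsFn_DSmap φ (𝟙 (Red.DS S B)) a
  rwa [Category.id_comp] at h

theorem DSmap_comp (φ : A →+ B) (ψ : B →+ C) :
    Red.DSmap S (ψ.comp φ) = Red.DSmap S ψ ≫ Red.DSmap S φ := by
  apply hom_ext_dsFn
  intro a
  rw [dsFn_DSmap', dsFn_DSmap, dsFn_DSmap', AddMonoidHom.comp_apply]

theorem DSmap_id : Red.DSmap S (AddMonoidHom.id A) = 𝟙 (Red.DS S A) := by
  apply hom_ext_dsFn
  intro a
  rw [dsFn_DSmap', AddMonoidHom.id_apply]

theorem isIso_DSmap (a : A ≃+ B) : IsIso (Red.DSmap S a.toAddMonoidHom) := by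
  refine ⟨Red.DSmap S a.symm.toAddMonoidHom, ?_, ?_⟩
  · rw [← DSmap_comp, ← DSmap_id]
    congr 1
    ext x
    simp
  · rw [← DSmap_comp, ← DSmap_id]
    congr 1
    ext x
    simp

end DSFunct

section Faithful

variable {R : Type u} [CommRing R] [Nontrivial R] {A B : Type} [AddCommGroup A] [AddCommGroup B]

/-- `D(-)` is faithful over a non-zero ring -/
theorem DSmap_injective (ψ ψ' : A →+ B)
    (h : Red.DSmap (Spec (CommRingCat.of R)) ψ = Red.DSmap (Spec (CommRingCat.of R)) ψ') :
    ψ = ψ' := by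
  let e : Grp.mk (Red.DS (Spec (CommRingCat.of R)) B) ≅ Grp.mk (Red.DS (Spec (CommRingCat.of R)) B) :=
    Iso.refl _
  let g : Yo R (MonoidAlgebra R (Multiplicative B)) ⟶ Red.DS (Spec (CommRingCat.of R)) B :=
    ofChi e (MonoidAlgebra.of R (Multiplicative B))
  have hg : chi e g = MonoidAlgebra.of R (Multiplicative B) := chi_ofChi e _
  have heh : eh e = 𝟙 _ := rfl
  have key : ∀ b : B, (Scheme.ΓSpecIso (CommRingCat.of (MonoidAlgebra R (Multiplicative B)))).hom
      (dsFn g b) = MonoidAlgebra.of R (Multiplicative B) (Multiplicative.ofAdd b) := by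
    intro b
    have h1 := congrArg (fun ch => ch (Multiplicative.ofAdd b)) hg
    simp only [chi_apply, heh, Category.comp_id, toAdd_ofAdd] at h1
    exact h1
  ext a
  have h2 : dsFn (g ≫ Red.DSmap _ ψ) a = dsFn (g ≫ Red.DSmap _ ψ') a := by rw [h]
  rw [dsFn_DSmap, dsFn_DSmap] at h2
  have h3 := congrArg (Scheme.ΓSpecIso (CommRingCat.of (MonoidAlgebra R (Multiplicative B)))).hom h2
  rw [key, key] at h3
  have h4 := MonoidAlgebra.of_injective h3
  exact Multiplicative.ofAdd.injective h4

end Faithful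

section AffinePts

variable {R : Type u} [CommRing R]

/-- morphisms over `Spec R` are determined by their values on affine test objects -/
lemma hom_ext_of_affine_points {T Y : Over (Spec (CommRingCat.of R))} (f₁ f₂ : T ⟶ Y)
    (h : ∀ (C : Type u) [CommRing C] [Algebra R C] (t : Yo R C ⟶ T), t ≫ f₁ = t ≫ f₂) :
    f₁ = f₂ := by
  apply Over.OverMorphism.ext
  apply hom_ext_of_locally_eq
  intro z
  have hbT : ∀ (U : T.left.Opens) (p : T.left), p ∈ U → ∃ U' ∈ T.left.affineOpens, p ∈ U' ∧ U' ≤ U :=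
    fun U p hp => TopologicalSpace.Opens.isBasis_iff_nbhd.mp T.left.isBasis_affineOpens hp
  obtain ⟨O, hO, hzO, -⟩ := hbT ⊤ z trivial
  refine ⟨O, hzO, ?_⟩
  obtain ⟨C, _, _, t, ht, htr⟩ := exists_chart T O hO
  have key' : t.left ≫ f₁.left = t.left ≫ f₂.left := congrArg (fun k => k.left) (h C t)
  have hιt : Set.range O.ι.base ⊆ Set.range t.left.base := by
    rw [htr]
    rintro _ ⟨x, rfl⟩
    exact x.2
  have hfac : IsOpenImmersion.lift t.left O.ι hιt ≫ t.left = O.ι := IsOpenImmersion.lift_fac _ _ _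
  rw [← hfac, Category.assoc, Category.assoc, key']

end AffinePts

section Main

variable {R : Type u} [CommRing R] {M N : Type} [AddCommGroup M] [AddCommGroup N]
  {G H : Over (Spec (CommRingCat.of R))} [GrpObj G] [GrpObj H]
  (eG : Grp.mk G ≅ Grp.mk (Red.DS (Spec (CommRingCat.of R)) M))
  (eH : Grp.mk H ≅ Grp.mk (Red.DS (Spec (CommRingCat.of R)) N))
  (u : G ⟶ H) (φ : Multiplicative N →* Multiplicative M)
  (hφ : ∀ (C : Type u) [CommRing C] [Algebra R C] (g : Yo R C ⟶ G),
    chi eH (g ≫ u) = (chi eG g).comp φ)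

lemma isIso_eh : IsIso (eh eG) := ⟨ei eG, eh_ei eG, ei_eh eG⟩

lemma isIso_ei : IsIso (ei eG) := ⟨eh eG, ei_eh eG, eh_ei eG⟩

lemma isIso_eh_left : IsIso (eh eG).left :=
  ⟨(ei eG).left, by rw [← Over.comp_left, eh_ei]; rfl, by rw [← Over.comp_left, ei_eh]; rfl⟩

lemma isIso_ei_left : IsIso (ei eG).left :=
  ⟨(eh eG).left, by rw [← Over.comp_left, ei_eh]; rfl, by rw [← Over.comp_left, eh_ei]; rfl⟩

/-- the additive version of `φ` -/
def phiAdd : N →+ M := AddMonoidHom.toMultiplicative.symm φ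

lemma phiAdd_apply (n : N) : phiAdd φ n = (φ (Multiplicative.ofAdd n)).toAdd := rfl

lemma toMultiplicative_phiAdd : AddMonoidHom.toMultiplicative (phiAdd φ) = φ :=
  Equiv.apply_symm_apply _ _

lemma phiAdd_surjective (hs : Function.Surjective φ) : Function.Surjective (phiAdd φ) := by
  intro m
  obtain ⟨n, hn⟩ := hs (Multiplicative.ofAdd m)
  refine ⟨n.toAdd, ?_⟩
  rw [phiAdd_apply, ofAdd_toAdd, hn, toAdd_ofAdd]

lemma phiAdd_injective (hi : Function.Injective φ) : Function.Injective (phiAdd φ) := by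
  intro n n' h
  have h1 : φ (Multiplicative.ofAdd n) = φ (Multiplicative.ofAdd n') :=
    Multiplicative.toAdd.injective h
  exact Multiplicative.ofAdd.injective (hi h1)

lemma surjective_of_phiAdd (hs : Function.Surjective (phiAdd φ)) : Function.Surjective φ := by
  intro m
  obtain ⟨n, hn⟩ := hs m.toAdd
  refine ⟨Multiplicative.ofAdd n, ?_⟩
  rw [phiAdd_apply] at hn
  exact Multiplicative.toAdd.injective hn

lemma injective_of_phiAdd (hi : Function.Injective (phiAdd φ)) : Function.Injective φ := by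
  intro n n' h
  have h1 : phiAdd φ n.toAdd = phiAdd φ n'.toAdd := by
    rw [phiAdd_apply, phiAdd_apply, ofAdd_toAdd, ofAdd_toAdd, h]
  exact Multiplicative.toAdd.injective (hi h1)

include hφ in
/-- `u` is `D(φ)` up to the given diagonalisations -/
theorem eq_DSmap : u = eh eG ≫ Red.DSmap _ (phiAdd φ) ≫ ei eH := by
  apply hom_ext_of_affine_points
  intro C _ _ t
  apply chi_injective eH
  rw [hφ C t]
  apply MonoidHom.ext
  intro n
  rw [MonoidHom.comp_apply, chi_apply, chi_apply]
  congr 1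
  have h1 : (t ≫ eh eG ≫ Red.DSmap _ (phiAdd φ) ≫ ei eH) ≫ eh eH =
      (t ≫ eh eG) ≫ Red.DSmap _ (phiAdd φ) := by
    simp only [Category.assoc, ei_eh, Category.comp_id]
  rw [h1, dsFn_DSmap, phiAdd_apply, ofAdd_toAdd]

include hφ in
theorem DSmap_eq : Red.DSmap _ (phiAdd φ) = ei eG ≫ u ≫ eh eH := by
  rw [eq_DSmap eG eH u φ hφ]
  simp only [Category.assoc, ei_eh, Category.comp_id]
  rw [← Category.assoc, ei_eh, Category.id_comp]

include hφ in
theorem mono_of_surjective (hs : Function.Surjective φ) : Mono u.left := by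
  haveI := Groth.Agent.Lib.helper15.DSMap.isClosedImmersion_DSmap_of_surjective
    (Spec (CommRingCat.of R)) (phiAdd φ) (phiAdd_surjective φ hs)
  haveI := isIso_eh_left eG
  haveI := isIso_ei_left eH
  rw [eq_DSmap eG eH u φ hφ, Over.comp_left, Over.comp_left]
  infer_instance

include hφ in
theorem flat_surjective_of_injective (hi : Function.Injective φ) :
    Flat u.left ∧ Surjective u.left := by
  have hff := Groth.Agent.Lib.helper15.GroupAlgFree.faithfullyFlat_mapDomain (ULift.{u} ℤ)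
    (AddMonoidHom.toMultiplicative (phiAdd φ)) (by rw [toMultiplicative_phiAdd]; exact hi)
  have h1 := (flat_and_surjective_SpecMap_iff (CommRingCat.ofHom
    (MonoidAlgebra.mapDomainAlgHom (ULift.{u} ℤ) (ULift.{u} ℤ)
      (AddMonoidHom.toMultiplicative (phiAdd φ))).toRingHom)).mpr hff
  have hF : Flat (Red.DSmap (Spec (CommRingCat.of R)) (phiAdd φ)).left :=
    Groth.Agent.Lib.helper15.DSMap.pullback_map_left_of_stable @Flat _ _ h1.1
  have hS : Surjective (Red.DSmap (Spec (CommRingCat.of R)) (phiAdd φ)).left :=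
    Groth.Agent.Lib.helper15.DSMap.pullback_map_left_of_stable @Surjective _ _ h1.2
  haveI := isIso_eh_left eG
  haveI := isIso_ei_left eH
  rw [eq_DSmap eG eH u φ hφ, Over.comp_left, Over.comp_left]
  exact ⟨inferInstance, inferInstance⟩

include hφ in
theorem isIso_of_bijective (hb : Function.Bijective φ) : IsIso u.left := by
  let a : N ≃+ M := AddEquiv.ofBijective (phiAdd φ)
    ⟨phiAdd_injective φ hb.1, phiAdd_surjective φ hb.2⟩
  have ha : a.toAddMonoidHom = phiAdd φ := by ext x; rfl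
  have h1 : IsIso (Red.DSmap (Spec (CommRingCat.of R)) (phiAdd φ)) := by
    rw [← ha]
    exact isIso_DSmap a
  haveI := isIso_eh eG
  haveI := isIso_ei eH
  have h2 : IsIso u := by
    rw [eq_DSmap eG eH u φ hφ]
    infer_instance
  exact (Over.forget _).map_isIso u

variable [Nontrivial R]

include hφ in
theorem surjective_of_mono (hm : Mono u.left) : Function.Surjective φ := by
  apply surjective_of_phiAdd
  haveI : Mono u := Over.mono_of_mono_left u
  haveI := isIso_ei eG
  haveI := isIso_eh eH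
  haveI : Mono (Red.DSmap (Spec (CommRingCat.of R)) (phiAdd φ)) := by
    rw [DSmap_eq eG eH u φ hφ]
    infer_instance
  let π : M →+ M ⧸ (phiAdd φ).range := QuotientAddGroup.mk' _
  have h0 : π.comp (phiAdd φ) = (0 : M →+ M ⧸ (phiAdd φ).range).comp (phiAdd φ) := by
    ext n
    rw [AddMonoidHom.comp_apply, AddMonoidHom.comp_apply, AddMonoidHom.zero_apply]
    exact (QuotientAddGroup.eq_zero_iff _).mpr ⟨n, rfl⟩
  have h1 : Red.DSmap (Spec (CommRingCat.of R)) π ≫ Red.DSmap _ (phiAdd φ) =
      Red.DSmap (Spec (CommRingCat.of R)) (0 : M →+ M ⧸ (phiAdd φ).range) ≫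
        Red.DSmap _ (phiAdd φ) := by
    rw [← DSmap_comp, ← DSmap_comp, h0]
  have h2 := (cancel_mono _).mp h1
  have h3 := DSmap_injective (R := R) _ _ h2
  intro m
  have h4 : π m = 0 := by rw [h3]; rfl
  exact (QuotientAddGroup.eq_zero_iff _).mp h4

include hφ in
theorem injective_of_epi (he : Epi u) : Function.Injective φ := by
  apply injective_of_phiAdd
  haveI := isIso_ei eG
  haveI := isIso_eh eH
  haveI : Epi (Red.DSmap (Spec (CommRingCat.of R)) (phiAdd φ)) := by
    rw [DSmap_eq eG eH u φ hφ]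
    infer_instance
  let jK : (phiAdd φ).ker →+ N := (phiAdd φ).ker.subtype
  have h0 : (phiAdd φ).comp jK = (phiAdd φ).comp (0 : (phiAdd φ).ker →+ N) := by
    ext x
    rw [AddMonoidHom.comp_apply, AddMonoidHom.comp_apply, AddMonoidHom.zero_apply, map_zero]
    exact x.2
  have h1 : Red.DSmap (Spec (CommRingCat.of R)) (phiAdd φ) ≫ Red.DSmap _ jK =
      Red.DSmap (Spec (CommRingCat.of R)) (phiAdd φ) ≫
        Red.DSmap _ (0 : (phiAdd φ).ker →+ N) := by
    rw [← DSmap_comp, ← DSmap_comp, h0]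
  have h2 := (cancel_epi _).mp h1
  have h3 := DSmap_injective (R := R) _ _ h2
  rw [injective_iff_map_eq_zero]
  intro n hn
  have h4 : jK ⟨n, hn⟩ = 0 := by rw [h3]; rfl
  exact h4

include hφ in
theorem injective_of_flat_surjective (hf : Flat u.left) (hs : Surjective u.left) :
    Function.Injective φ := by
  haveI : Epi u.left := Flat.epi_of_flat_of_surjective u.left
  exact injective_of_epi eG eH u φ hφ (Over.epi_of_epi_left u)

include hφ in
theorem bijective_of_isIso (hiso : IsIso u.left) : Function.Bijective φ := by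
  refine ⟨injective_of_flat_surjective eG eH u φ hφ inferInstance inferInstance,
    surjective_of_mono eG eH u φ hφ inferInstance⟩

end Main

end

end Groth.Agent.Lib.Helper14.DiagHom3
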