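import Mathlib
import Groth.Prelude.Def_AlgGrp
import Groth.Prelude.Def_Red
import Groth.Agent.Lib.Helper14.DiagHom1
import Groth.Agent.Lib.Helper14.DiagHom2
import Groth.Agent.Lib.Helper14.DiagHom3

/-!
# helper14: local structure of a homomorphism between diagonalisable groups over an affine base
-/

set_option autoImplicit false
universe u
open CategoryTheory CategoryTheory.Limits AlgebraicGeometry MonoidalCategory
  CartesianMonoidalCategory MonObj

namespace Groth.Agent.Lib.Helper14.DiagHom4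

noncomputable section

open Groth.Agent.Lib.Helper14.MultNilAff Groth.Agent.Lib.Helper14.DiagHom1
  Groth.Agent.Lib.Helper14.DiagHom2 Groth.Agent.Lib.Helper14.DiagHom3

variable {R : Type u} [CommRing R] {M N : Type} [AddCommGroup M] [AddCommGroup N]
  {G H : Over (Spec (CommRingCat.of R))} [GrpObj G] [GrpObj H]
  (eG : Grp.mk G ≅ Grp.mk (Red.DS (Spec (CommRingCat.of R)) M))
  (eH : Grp.mk H ≅ Grp.mk (Red.DS (Spec (CommRingCat.of R)) N))
  (u : G ⟶ H)

/-- the description of `u` on points passes to base changes -/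
theorem points_bc (h : R) (φ : Multiplicative N →* Multiplicative M)
    (hφ : ∀ (C : Type u) [CommRing C] [Algebra R C], IsUnit (algebraMap R C h) →
      ∀ g : Yo R C ⟶ G, chi eH (g ≫ u) = (chi eG g).comp φ)
    (R₁ : Type u) [CommRing R₁] [Algebra R R₁] (hu : IsUnit (algebraMap R R₁ h))
    (C₁ : Type u) [CommRing C₁] [Algebra R₁ C₁] (g₁ : Yo R₁ C₁ ⟶ Red.bc (kk R R₁) G) :
    chi (bcDiag (R₁ := R₁) eH) (g₁ ≫ (Over.pullback (kk R R₁)).map u) =
      (chi (bcDiag (R₁ := R₁) eG) g₁).comp φ := by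
  letI : Algebra R C₁ := ((algebraMap R₁ C₁).comp (algebraMap R R₁)).toAlgebra
  haveI : IsScalarTower R R₁ C₁ := IsScalarTower.of_algebraMap_eq (fun _ => rfl)
  rw [chi_bcDiag, chi_bcDiag, Groth.Agent.Lib.Helper14.DiagHom2.down_comp]
  refine hφ C₁ ?_ (down g₁)
  have h1 : algebraMap R C₁ h = algebraMap R₁ C₁ (algebraMap R R₁ h) := rfl
  rw [h1]
  exact hu.map _

variable [IsMonHom u] [AddGroup.FG N]

include eG eH in
/-- **Local structure.**  Near a prime `𝔭` of `R` there are `h ∉ 𝔭` and `φ : N → M` such that, over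
every `R`-algebra `R₁` in which `h` is invertible, the base change of `u` is a monomorphism, resp.
faithfully flat, resp. an isomorphism as soon as (and, if `R₁ ≠ 0`, only if) `φ` is surjective,
resp. injective, resp. bijective. -/
theorem local_structure (𝔭 : Ideal R) [𝔭.IsPrime] :
    ∃ (h : R) (φ : Multiplicative N →* Multiplicative M), h ∉ 𝔭 ∧
      ∀ (R₁ : Type u) [CommRing R₁] [Algebra R R₁], IsUnit (algebraMap R R₁ h) →
        (Function.Surjective φ → Mono ((Over.pullback (kk R R₁)).map u).left) ∧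
        (Function.Injective φ → Flat ((Over.pullback (kk R R₁)).map u).left ∧
          Surjective ((Over.pullback (kk R R₁)).map u).left) ∧
        (Function.Bijective φ → IsIso ((Over.pullback (kk R R₁)).map u).left) ∧
        (Nontrivial R₁ →
          (Mono ((Over.pullback (kk R R₁)).map u).left → Function.Surjective φ) ∧
          (Flat ((Over.pullback (kk R R₁)).map u).left →
            Surjective ((Over.pullback (kk R R₁)).map u).left → Function.Injective φ) ∧
          (IsIso ((Over.pullback (kk R R₁)).map u).left → Function.Bijective φ)) := by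
  obtain ⟨h, φ, hh, hφ⟩ := local_const eG eH u 𝔭
  refine ⟨h, φ, hh, ?_⟩
  intro R₁ _ _ hu
  have hφ₁ := points_bc eG eH u h φ hφ R₁ hu
  refine ⟨?_, ?_, ?_, ?_⟩
  · exact mono_of_surjective (bcDiag (R₁ := R₁) eG) (bcDiag (R₁ := R₁) eH) _ φ hφ₁
  · exact flat_surjective_of_injective (bcDiag (R₁ := R₁) eG) (bcDiag (R₁ := R₁) eH) _ φ hφ₁
  · exact isIso_of_bijective (bcDiag (R₁ := R₁) eG) (bcDiag (R₁ := R₁) eH) _ φ hφ₁
  · intro hnt
    refine ⟨?_, ?_, ?_⟩
    · exact surjective_of_mono (bcDiag (R₁ := R₁) eG) (bcDiag (R₁ := R₁) eH) _ φ hφ₁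
    · exact injective_of_flat_surjective (bcDiag (R₁ := R₁) eG) (bcDiag (R₁ := R₁) eH) _ φ hφ₁
    · exact bijective_of_isIso (bcDiag (R₁ := R₁) eG) (bcDiag (R₁ := R₁) eH) _ φ hφ₁

end

end Groth.Agent.Lib.Helper14.DiagHom4
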