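import Mathlib
import Groth.Prelude.Def_AlgGrp
import Groth.Prelude.Def_Red
import Groth.Prelude.Def_SGA3x
import Groth.Agent.Lib.Helper14.BCGrp
import Groth.Agent.Lib.Helper14.DiagHom4
import Groth.Agent.Lib.Helper14.DiagHomG2
import Groth.Agent.Lib.Helper14.MultNilGlobal

/-!
# helper14: the local step for homomorphisms of groups of multiplicative type: near a point of the
covering the property `P` of the base changes of `u` is constant
-/

set_option autoImplicit false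
universe u
open CategoryTheory CategoryTheory.Limits AlgebraicGeometry MonoidalCategory
  CartesianMonoidalCategory MonObj

namespace Groth.Agent.Lib.Helper14.DiagHomG4

noncomputable section

open Groth.Agent.Lib.Helper14.BCGrp Groth.Agent.Lib.Helper14.DiagHom2
  Groth.Agent.Lib.Helper14.DiagHom4 Groth.Agent.Lib.Helper14.DiagHomG1
  Groth.Agent.Lib.Helper14.DiagHomG2 Groth.Agent.Lib.Helper14.MultNilGlobal

/-- local structure hypothesis for a property of morphisms -/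
def HLoc (P : MorphismProperty Scheme.{u}) : Prop :=
  ∀ (R : Type u) [CommRing R] (M N : Type) [AddCommGroup M] [AddCommGroup N] [AddGroup.FG N]
    (G H : Over (Spec (CommRingCat.of R))) [GrpObj G] [GrpObj H]
    (_ : Grp.mk G ≅ Grp.mk (Red.DS (Spec (CommRingCat.of R)) M))
    (_ : Grp.mk H ≅ Grp.mk (Red.DS (Spec (CommRingCat.of R)) N))
    (u : G ⟶ H) [IsMonHom u] (𝔭 : Ideal R) [𝔭.IsPrime],
    ∃ (h : R) (b : Prop), h ∉ 𝔭 ∧ ∀ (R₁ : Type u) [CommRing R₁] [Algebra R R₁],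
      IsUnit (algebraMap R R₁ h) →
        (b → P ((Over.pullback (kk R R₁)).map u).left) ∧
        (Nontrivial R₁ → P ((Over.pullback (kk R R₁)).map u).left → b)

theorem hLoc_mono : HLoc (MorphismProperty.monomorphisms Scheme.{u}) := by
  intro R _ M N _ _ _ G H _ _ eG eH u _ 𝔭 _
  obtain ⟨h, φ, hh, hφ⟩ := local_structure eG eH u 𝔭
  refine ⟨h, Function.Surjective φ, hh, fun R₁ _ _ hu => ⟨fun hb => ?_, fun hnt hP => ?_⟩⟩
  · exact (MorphismProperty.monomorphisms.iff _).mpr ((hφ R₁ hu).1 hb)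
  · exact ((hφ R₁ hu).2.2.2 hnt).1 ((MorphismProperty.monomorphisms.iff _).mp hP)

theorem hLoc_iso : HLoc (MorphismProperty.isomorphisms Scheme.{u}) := by
  intro R _ M N _ _ _ G H _ _ eG eH u _ 𝔭 _
  obtain ⟨h, φ, hh, hφ⟩ := local_structure eG eH u 𝔭
  refine ⟨h, Function.Bijective φ, hh, fun R₁ _ _ hu => ⟨fun hb => ?_, fun hnt hP => ?_⟩⟩
  · exact (MorphismProperty.isomorphisms.iff _).mpr ((hφ R₁ hu).2.2.1 hb)
  · exact ((hφ R₁ hu).2.2.2 hnt).2.2 ((MorphismProperty.isomorphisms.iff _).mp hP)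

theorem hLoc_flatSurj : HLoc (@Flat ⊓ @Surjective : MorphismProperty Scheme.{u}) := by
  intro R _ M N _ _ _ G H _ _ eG eH u _ 𝔭 _
  obtain ⟨h, φ, hh, hφ⟩ := local_structure eG eH u 𝔭
  refine ⟨h, Function.Injective φ, hh, fun R₁ _ _ hu => ⟨fun hb => ?_, fun hnt hP => ?_⟩⟩
  · exact (hφ R₁ hu).2.1 hb
  · exact ((hφ R₁ hu).2.2.2 hnt).2.1 hP.1 hP.2

section LocalStep

variable (P : MorphismProperty Scheme.{u}) [P.RespectsIso] [P.IsStableUnderBaseChange]
  (hP : HLoc P)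
  {S S' : Scheme.{u}} (f : S' ⟶ S) {G H : Over S} [GrpObj G] [GrpObj H] (u : G ⟶ H) [IsMonHom u]

include hP in
/-- near a point of `S'` where both groups are diagonalisable, the property of the base changes
of `u` is constant -/
theorem local_step (s' : S') (U₀ : S'.Opens) (hs' : s' ∈ U₀) (M N : Type) [AddCommGroup M]
    [AddCommGroup N] [AddGroup.FG N]
    (eG₀ : Grp.mk (Red.bc (U₀.ι ≫ f) G) ≅ Grp.mk (Red.DS U₀ M))
    (eH₀ : Grp.mk (Red.bc (U₀.ι ≫ f) H) ≅ Grp.mk (Red.DS U₀ N)) :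
    ∃ O : S'.Opens, s' ∈ O ∧ ∃ b : Prop, (b → PAt P u (O.ι ≫ f)) ∧
      ∀ t ∈ O, (PAt P u (S'.fromSpecResidueField t ≫ f) ↔ b) := by
  obtain ⟨U₁, hU₁, hs'U₁, hU₁le⟩ := exists_affine_nbhd S' U₀ s' hs'
  let v : Spec Γ(S', U₁) ⟶ S := hU₁.fromSpec ≫ f
  have hrU : Set.range hU₁.fromSpec.base ⊆ Set.range U₀.ι.base := by
    rw [hU₁.range_fromSpec, Scheme.Opens.range_ι]
    exact fun z hz => hU₁le hz
  let w : Spec Γ(S', U₁) ⟶ (U₀ : Scheme.{u}) := IsOpenImmersion.lift U₀.ι hU₁.fromSpec hrU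
  have hw : w ≫ U₀.ι = hU₁.fromSpec := IsOpenImmersion.lift_fac _ _ _
  have hvw : v = w ≫ U₀.ι ≫ f := by rw [← Category.assoc, hw]
  let eG : Grp.mk (Red.bc v G) ≅ Grp.mk (Red.DS (Spec Γ(S', U₁)) M) :=
    bcGrpIsoOfEq hvw G ≪≫ diagBC w (U₀.ι ≫ f) G M eG₀
  let eH : Grp.mk (Red.bc v H) ≅ Grp.mk (Red.DS (Spec Γ(S', U₁)) N) :=
    bcGrpIsoOfEq hvw H ≪≫ diagBC w (U₀.ι ≫ f) H N eH₀
  let uR : Red.bc v G ⟶ Red.bc v H := (Over.pullback v).map u
  haveI : IsMonHom uR := Functor.map.instIsMonHom _ _ _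
  let 𝔭 : PrimeSpectrum Γ(S', U₁) := hU₁.primeIdealOf ⟨s', hs'U₁⟩
  have h𝔭 : hU₁.fromSpec 𝔭 = s' := hU₁.fromSpec_primeIdealOf ⟨s', hs'U₁⟩
  obtain ⟨h, b, hh, hloc⟩ := hP Γ(S', U₁) M N (Red.bc v G) (Red.bc v H) eG eH uR 𝔭.asIdeal
  let Rh := Localization.Away h
  let kh : Spec (CommRingCat.of Rh) ⟶ Spec Γ(S', U₁) := kk Γ(S', U₁) Rh
  haveI : IsOpenImmersion kh :=
    inferInstanceAs (IsOpenImmersion (Spec.map (CommRingCat.ofHom
      (algebraMap Γ(S', U₁) (Localization.Away h)))))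
  let j : Spec (CommRingCat.of Rh) ⟶ S' := kh ≫ hU₁.fromSpec
  have hunit : IsUnit (algebraMap Γ(S', U₁) Rh h) := IsLocalization.Away.algebraMap_isUnit h
  have hkrange : Set.range kh.base = (PrimeSpectrum.basicOpen h : Set (PrimeSpectrum Γ(S', U₁))) :=
    PrimeSpectrum.localization_away_comap_range (Localization.Away h) h
  refine ⟨j.opensRange, ?_, b, ?_, ?_⟩
  · have h1 : 𝔭 ∈ Set.range kh.base := by
      rw [hkrange]
      exact hh
    obtain ⟨t₀, ht₀⟩ := h1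
    refine ⟨t₀, ?_⟩
    rw [Scheme.Hom.comp_base, TopCat.comp_app]
    rw [show kh.base t₀ = 𝔭 from ht₀]
    exact h𝔭
  · intro hb
    have h1 : P ((Over.pullback kh).map uR).left := (hloc Rh hunit).1 hb
    have h2 : PAt P u (kh ≫ v) := (PAt_pullback_iff P u kh v).mpr h1
    have h3 : PAt P u (j ≫ f) := by
      have e : j ≫ f = kh ≫ v := Category.assoc _ _ _
      rw [e]; exact h2
    have e : j.opensRange.ι ≫ f = (j.isoOpensRange.inv ≫ j) ≫ f := by
      congr 1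
      rw [Scheme.Hom.isoOpensRange_inv_comp]
    rw [e, Category.assoc]
    exact h3.comp _
  · intro t ht
    let κ := S'.residueField t
    have hr : Set.range (S'.fromSpecResidueField t).base ⊆ Set.range j.base := by
      rw [Scheme.range_fromSpecResidueField]
      rintro _ rfl
      exact ht
    let l' : Spec κ ⟶ Spec (CommRingCat.of Rh) :=
      IsOpenImmersion.lift j (S'.fromSpecResidueField t) hr
    have hl' : l' ≫ j = S'.fromSpecResidueField t := IsOpenImmersion.lift_fac _ _ _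
    let ρ' : Rh →+* κ := (Spec.preimage l').hom
    have hρ' : Spec.map (CommRingCat.ofHom ρ') = l' := by
      rw [CommRingCat.ofHom_hom]
      exact Spec.map_preimage l'
    letI : Algebra Γ(S', U₁) κ := (ρ'.comp (algebraMap Γ(S', U₁) Rh)).toAlgebra
    have hk : kk Γ(S', U₁) κ = l' ≫ kh := by
      rw [← hρ']
      show Spec.map (CommRingCat.ofHom (ρ'.comp (algebraMap Γ(S', U₁) Rh))) =
        Spec.map (CommRingCat.ofHom ρ') ≫
          Spec.map (CommRingCat.ofHom (algebraMap Γ(S', U₁) Rh))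
      rw [← Spec.map_comp]
      rfl
    have hunit' : IsUnit (algebraMap Γ(S', U₁) κ h) := hunit.map ρ'
    have hkv : kk Γ(S', U₁) κ ≫ v = S'.fromSpecResidueField t ≫ f := by
      rw [hk, ← hl']
      simp only [Category.assoc, j, v]
    have hiff : PAt P u (kk Γ(S', U₁) κ ≫ v) ↔
        P ((Over.pullback (kk Γ(S', U₁) κ)).map uR).left := PAt_pullback_iff P u _ v
    rw [← hkv, hiff]
    exact ⟨(hloc κ hunit').2 inferInstance, (hloc κ hunit').1⟩

end LocalStep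

end

end Groth.Agent.Lib.Helper14.DiagHomG4
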