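import Mathlib
import Groth.Prelude.Def_AlgGrp
import Groth.Prelude.Def_Red
import Groth.Prelude.Def_SGA3x
import Groth.Agent.Lib.Helper14.DiagHomG3
import Groth.Agent.Lib.Helper14.DiagHomG4

/-!
# helper14: the locus where a homomorphism of groups of multiplicative type of finite type has a
property `P` on the fibres is open and closed, and `P` holds over it (generic statement)
-/

set_option autoImplicit false
universe u
open CategoryTheory CategoryTheory.Limits AlgebraicGeometry MonoidalCategory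
  CartesianMonoidalCategory MonObj

namespace Groth.Agent.Lib.Helper14.DiagHomG5

noncomputable section

open Groth.Agent.Lib.Helper14.DiagHomG1 Groth.Agent.Lib.Helper14.DiagHomG2
  Groth.Agent.Lib.Helper14.DiagHomG3 Groth.Agent.Lib.Helper14.DiagHomG4
  Groth.Agent.Lib.Helper14.MultNilGlobal

lemma qfpqc_id (X : Scheme.{u}) : Qfpqc.{u} (𝟙 X) :=
  ⟨⟨inferInstance, inferInstance⟩, inferInstance⟩

variable (P : MorphismProperty Scheme.{u}) [P.RespectsIso] [P.IsStableUnderBaseChange]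
  [IsZariskiLocalAtTarget P] [P.DescendsAlong Qfpqc.{u}] (hP : HLoc P)

include hP in
theorem main {S : Scheme.{u}} (G H : Over S) [GrpObj G] [GrpObj H]
    (hG : SGA3x.IsMultTypeFT G) (hH : SGA3x.IsMultTypeFT H) (u : G ⟶ H) [IsMonHom u] :
    ∃ U : S.Opens, IsClosed (U : Set S) ∧
      (∀ s : S, s ∈ U ↔ PAt P u (S.fromSpecResidueField s)) ∧ PAt P u U.ι := by
  obtain ⟨S', f, hflat, hsurj, hcov, hloc⟩ := exists_common_cover' hG hH
  haveI := hflat
  haveI := hsurj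
  -- the local step at every point of `S'`
  have key : ∀ s' : S', ∃ O : S'.Opens, s' ∈ O ∧ ∃ b : Prop, (b → PAt P u (O.ι ≫ f)) ∧
      ∀ t ∈ O, (PAt P u (S'.fromSpecResidueField t ≫ f) ↔ b) := by
    intro s'
    obtain ⟨U₀, hs', M, N, _, _, hfgM, hfgN, ⟨eG₀⟩, ⟨eH₀⟩⟩ := hloc s'
    haveI := hfgN
    exact local_step P hP f u s' U₀ hs' M N eG₀ eH₀
  choose O hO b hb hOb using key
  let Uset : Set S := {s | PAt P u (S.fromSpecResidueField s)}
  have hpre : ∀ t : S', f t ∈ Uset ↔ PAt P u (S'.fromSpecResidueField t ≫ f) :=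
    fun t => (PAt_fibre_iff P f u t).symm
  have hopen₁ : IsOpen (f.base ⁻¹' Uset) := by
    rw [isOpen_iff_forall_mem_open]
    intro t ht
    have hbt : b t := (hOb t t (hO t)).mp ((hpre t).mp ht)
    refine ⟨(O t : Set S'), ?_, (O t).2, hO t⟩
    intro t' ht'
    exact (hpre t').mpr ((hOb t t' ht').mpr hbt)
  have hopen₂ : IsOpen (f.base ⁻¹' Usetᶜ) := by
    rw [isOpen_iff_forall_mem_open]
    intro t ht
    have hbt : ¬ b t := fun hbt => ht ((hpre t).mpr ((hOb t t (hO t)).mpr hbt))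
    refine ⟨(O t : Set S'), ?_, (O t).2, hO t⟩
    intro t' ht' hmem
    exact hbt ((hOb t t' ht').mp ((hpre t').mp hmem))
  have hUopen : IsOpen Uset := isOpen_of_isOpen_preimage f hcov Uset hopen₁
  have hUclosed : IsClosed Uset := ⟨isOpen_of_isOpen_preimage f hcov Usetᶜ hopen₂⟩
  let U : S.Opens := ⟨Uset, hUopen⟩
  refine ⟨U, hUclosed, fun s => Iff.rfl, ?_⟩
  apply PAt.of_local (P := P) (u := u) U.ι
  intro x
  obtain ⟨V₀, hV₀, hxV₀, hV₀le⟩ := exists_affine_nbhd S U (U.ι x) x.2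
  obtain ⟨W, hWc, hWV⟩ := hcov V₀ hV₀
  let V : (U : Scheme.{u}).Opens := U.ι ⁻¹ᵁ V₀
  have hVaff : IsAffineOpen V :=
    hV₀.preimage_of_isOpenImmersion U.ι (by rw [Scheme.Opens.opensRange_ι]; exact hV₀le)
  have hfW : ∀ w : (W : Scheme.{u}), f (W.ι w) ∈ V₀ := by
    intro w
    have : f (W.ι w) ∈ f.base '' (W : Set S') := ⟨W.ι w, w.2, rfl⟩
    rw [hWV] at this
    exact this
  have hsub₀ : Set.range (W.ι ≫ f).base ⊆ Set.range U.ι.base := by
    rintro _ ⟨w, rfl⟩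
    rw [Scheme.Opens.range_ι]
    exact hV₀le (hfW w)
  let b₀ : (W : Scheme.{u}) ⟶ (U : Scheme.{u}) := IsOpenImmersion.lift U.ι (W.ι ≫ f) hsub₀
  have hb₀ : b₀ ≫ U.ι = W.ι ≫ f := IsOpenImmersion.lift_fac _ _ _
  have hsub₁ : Set.range b₀.base ⊆ Set.range V.ι.base := by
    rintro _ ⟨w, rfl⟩
    rw [Scheme.Opens.range_ι]
    show U.ι (b₀ w) ∈ V₀
    rw [← Scheme.Hom.comp_apply, hb₀]
    exact hfW w
  let b' : (W : Scheme.{u}) ⟶ (V : Scheme.{u}) := IsOpenImmersion.lift V.ι b₀ hsub₁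
  have hb' : b' ≫ V.ι = b₀ := IsOpenImmersion.lift_fac _ _ _
  have hb'' : (b' ≫ V.ι) ≫ U.ι = W.ι ≫ f := by rw [hb', hb₀]
  haveI : IsAffine (V : Scheme.{u}) := hVaff
  haveI : CompactSpace ↥(W : Scheme.{u}) := isCompact_iff_compactSpace.mp hWc
  haveI : QuasiCompact b' := (quasiCompact_iff_compactSpace b').mpr inferInstance
  haveI : Flat b' := MorphismProperty.of_postcomp (W := @Flat) (W' := @IsOpenImmersion) b'
    (V.ι ≫ U.ι) inferInstance (by rw [← Category.assoc, hb'']; infer_instance)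
  haveI : Surjective b' := by
    refine ⟨fun v => ?_⟩
    have hv : U.ι (V.ι v) ∈ f.base '' (W : Set S') := by rw [hWV]; exact v.2
    obtain ⟨w, hw, hwv⟩ := hv
    refine ⟨⟨w, hw⟩, ?_⟩
    apply V.ι.injective
    apply U.ι.injective
    rw [← Scheme.Hom.comp_apply, ← Scheme.Hom.comp_apply, ← Category.assoc, hb'',
      Scheme.Hom.comp_apply]
    exact hwv
  refine ⟨V, hxV₀, (W : Scheme.{u}), b', ⟨⟨inferInstance, inferInstance⟩, inferInstance⟩, ?_⟩
  rw [hb'']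
  -- the property over `W`, by Zariski localisation on `W`
  apply PAt.of_local (P := P) (u := u) (W.ι ≫ f)
  intro y
  let t : S' := W.ι y
  have htU : f t ∈ Uset := hV₀le (hfW y)
  have hbt : b t := (hOb t t (hO t)).mp ((hpre t).mp htU)
  have hPO : PAt P u ((O t).ι ≫ f) := hb t hbt
  let V' : (W : Scheme.{u}).Opens := W.ι ⁻¹ᵁ (O t)
  have hsub₂ : Set.range (V'.ι ≫ W.ι).base ⊆ Set.range (O t).ι.base := by
    rintro _ ⟨z, rfl⟩
    rw [Scheme.Opens.range_ι]
    exact z.2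
  let k : (V' : Scheme.{u}) ⟶ (O t : Scheme.{u}) :=
    IsOpenImmersion.lift (O t).ι (V'.ι ≫ W.ι) hsub₂
  have hk : k ≫ (O t).ι = V'.ι ≫ W.ι := IsOpenImmersion.lift_fac _ _ _
  refine ⟨V', hO t, (V' : Scheme.{u}), 𝟙 _, qfpqc_id _, ?_⟩
  have e : (𝟙 (V' : Scheme.{u}) ≫ V'.ι) ≫ W.ι ≫ f = k ≫ (O t).ι ≫ f := by
    rw [Category.id_comp, ← Category.assoc, ← hk, Category.assoc]
  rw [e]
  exact hPO.comp k

end

end Groth.Agent.Lib.Helper14.DiagHomG5
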