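import Mathlib
import Groth.Prelude.Def_AlgGrp
import Groth.Prelude.Def_Red
import Groth.Prelude.Def_SGA3x
import Groth.Agent.Lib.Helper14.DiagHomG5

/-!
# helper14: a monomorphism of tori with the same rank on the geometric fibres is an isomorphism
-/

set_option autoImplicit false
universe u
open CategoryTheory CategoryTheory.Limits AlgebraicGeometry MonoidalCategory
  CartesianMonoidalCategory MonObj

namespace Groth.Agent.Lib.Helper14.TorusMonoIso

noncomputable section

open Groth.Agent.Lib.Helper14.DiagHom2 Groth.Agent.Lib.Helper14.DiagHom4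
  Groth.Agent.Lib.Helper14.DiagHomG1 Groth.Agent.Lib.Helper14.DiagHomG2
  Groth.Agent.Lib.Helper14.DiagHomG4 Groth.Agent.Lib.Helper14.DiagHomG5

theorem isMultTypeFT_of_isTorus {S : Scheme.{u}} {T : Over S} [GrpObj T] (hT : Red.IsTorus T) :
    SGA3x.IsMultTypeFT T := by
  obtain ⟨S', f, hfl, hs, hc, hloc⟩ := hT
  refine ⟨S', f, hfl, hs, hc, fun s' => ?_⟩
  obtain ⟨U, hU, r, ⟨e⟩⟩ := hloc s'
  exact ⟨U, hU, Fin r → ℤ, inferInstance, Module.Finite.iff_addGroup_fg.mp inferInstance, ⟨e⟩⟩

/-- a field extension gives an fpqc morphism of spectra -/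
theorem qfpqc_field (k K : Type u) [Field k] [Field K] [Algebra k K] : Qfpqc.{u} (kk k K) := by
  refine ⟨⟨?_, ?_⟩, inferInstance⟩
  · refine ⟨fun y => ?_⟩
    haveI : Subsingleton (Spec (CommRingCat.of k)) :=
      inferInstanceAs (Subsingleton (PrimeSpectrum k))
    haveI : Nonempty (Spec (CommRingCat.of K)) :=
      inferInstanceAs (Nonempty (PrimeSpectrum K))
    obtain ⟨x⟩ := ‹Nonempty (Spec (CommRingCat.of K))›
    exact ⟨x, Subsingleton.elim _ _⟩
  · show Flat (Spec.map (CommRingCat.ofHom (algebraMap k K)))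
    rw [HasRingHomProperty.Spec_iff (P := @Flat)]
    show (algebraMap k K).Flat
    rw [RingHom.flat_algebraMap_iff]
    infer_instance

/-- a surjective endomorphism of `ℤ^r` (written multiplicatively) is bijective -/
theorem bijective_of_surjective (r : ℕ)
    (φ : Multiplicative (Fin r → ℤ) →* Multiplicative (Fin r → ℤ)) (hφ : Function.Surjective φ) :
    Function.Bijective φ := by
  let ψ : (Fin r → ℤ) →ₗ[ℤ] (Fin r → ℤ) := (MonoidHom.toAdditive φ).toIntLinearMap
  have hψ : ∀ x, ψ x = (φ (Multiplicative.ofAdd x)).toAdd := fun x => rfl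
  have hsurj : Function.Surjective ψ := by
    intro y
    obtain ⟨x, hx⟩ := hφ (Multiplicative.ofAdd y)
    refine ⟨x.toAdd, ?_⟩
    rw [hψ]
    show (φ x).toAdd = y
    rw [hx]; rfl
  have hinj : Function.Injective ψ := OrzechProperty.injective_of_surjective_endomorphism ψ hsurj
  refine ⟨fun a b hab => ?_, hφ⟩
  have : ψ a.toAdd = ψ b.toAdd := by
    rw [hψ, hψ]
    exact congrArg Multiplicative.toAdd hab
  exact congrArg Multiplicative.ofAdd (hinj this)

/-- over a field, a monomorphism between split tori of the same rank is an isomorphism -/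
theorem fibre_iso {S : Scheme.{u}} {T T' : Over S} [GrpObj T] [GrpObj T'] (f : T ⟶ T') [IsMonHom f]
    [Mono f] (K : Type u) [Field K] (g : Spec (CommRingCat.of K) ⟶ S) (r : ℕ)
    (eT : Grp.mk (Red.bc g T) ≅ Grp.mk (Red.DS (Spec (CommRingCat.of K)) (Fin r → ℤ)))
    (eT' : Grp.mk (Red.bc g T') ≅ Grp.mk (Red.DS (Spec (CommRingCat.of K)) (Fin r → ℤ))) :
    PAt (MorphismProperty.isomorphisms Scheme.{u}) f (kk K K ≫ g) := by
  let uK : Red.bc g T ⟶ Red.bc g T' := (Over.pullback g).map f
  haveI : IsMonHom uK := Functor.map.instIsMonHom _ _ _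
  haveI : (⊥ : Ideal K).IsPrime := Ideal.bot_prime
  obtain ⟨h, φ, hh, hφ⟩ := local_structure eT eT' uK (⊥ : Ideal K)
  have hu : IsUnit (algebraMap K K h) := by
    have h0 : h ≠ 0 := fun h0 => hh (by rw [h0]; exact Ideal.zero_mem _)
    exact isUnit_iff_ne_zero.mpr h0
  obtain ⟨-, -, hiso, hconv⟩ := hφ K hu
  haveI : Mono uK := inferInstance
  haveI : Mono ((Over.pullback (kk K K)).map uK) := inferInstance
  have hmono : Mono ((Over.pullback (kk K K)).map uK).left := inferInstance
  have hsurj : Function.Surjective φ := (hconv inferInstance).1 hmono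
  have hbij : Function.Bijective φ := bijective_of_surjective r φ hsurj
  rw [PAt_pullback_iff]
  exact (MorphismProperty.isomorphisms.iff _).mpr (hiso hbij)

lemma qfpqc_of_isIso {X Y : Scheme.{u}} (g : X ⟶ Y) [IsIso g] : Qfpqc.{u} g :=
  ⟨⟨inferInstance, inferInstance⟩, inferInstance⟩

lemma qfpqc_comp {X Y Z : Scheme.{u}} (g : X ⟶ Y) (g' : Y ⟶ Z) (hg : Qfpqc.{u} g)
    (hg' : Qfpqc.{u} g') : Qfpqc.{u} (g ≫ g') := by
  haveI := hg.1.1
  haveI := hg.1.2
  haveI := hg.2
  haveI := hg'.1.1
  haveI := hg'.1.2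
  haveI := hg'.2
  exact ⟨⟨inferInstance, inferInstance⟩, inferInstance⟩

/-- the property over the identity gives the property of the morphism itself -/
theorem isIso_of_PAt_id {S : Scheme.{u}} {G H : Over S} (u : G ⟶ H)
    (h : PAt (MorphismProperty.isomorphisms Scheme.{u}) u (𝟙 S)) : IsIso u := by
  have h1 : IsIso ((Over.pullback (𝟙 S)).map u).left := (MorphismProperty.isomorphisms.iff _).mp h
  haveI : IsIso ((Over.forget S).map ((Over.pullback (𝟙 S)).map u)) := h1
  haveI : IsIso ((Over.pullback (𝟙 S)).map u) := isIso_of_reflects_iso _ (Over.forget S)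
  have nat := (Over.pullbackId (X := S)).hom.naturality u
  have e : u = (Over.pullbackId (X := S)).inv.app G ≫ (Over.pullback (𝟙 S)).map u ≫
      (Over.pullbackId (X := S)).hom.app H := by
    rw [nat]
    simp
  rw [e]
  infer_instance

theorem isIso_of_mono {S : Scheme.{u}} {T T' : Over S} [GrpObj T] [GrpObj T']
    (hT : Red.IsTorus T) (hT' : Red.IsTorus T') (f : T ⟶ T') [IsMonHom f] [Mono f]
    (hrk : ∀ s : ↥S, ∃ r : ℕ, Red.IsSplitTorusWith (Fin r → ℤ) (Red.geomFibre s T) ∧
      Red.IsSplitTorusWith (Fin r → ℤ) (Red.geomFibre s T')) : IsIso f := by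
  obtain ⟨U, hUc, hiff, hPU⟩ := main (MorphismProperty.isomorphisms Scheme.{u}) hLoc_iso T T'
    (isMultTypeFT_of_isTorus hT) (isMultTypeFT_of_isTorus hT') f
  have hfib : ∀ s : S,
      PAt (MorphismProperty.isomorphisms Scheme.{u}) f (S.fromSpecResidueField s) := by
    intro s
    obtain ⟨r, ⟨eT⟩, ⟨eT'⟩⟩ := hrk s
    have h1 := fibre_iso f (AlgebraicClosure (S.residueField s)) (Red.geomPt s) r eT eT'
    have e : kk (AlgebraicClosure (S.residueField s)) (AlgebraicClosure (S.residueField s)) ≫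
        Red.geomPt s =
        (kk (AlgebraicClosure (S.residueField s)) (AlgebraicClosure (S.residueField s)) ≫
          kk (S.residueField s) (AlgebraicClosure (S.residueField s))) ≫
          S.fromSpecResidueField s := by
      rw [Category.assoc]
    rw [e] at h1
    refine PAt.of_comp _ ?_ h1
    exact qfpqc_comp _ _ (qfpqc_field _ _) (qfpqc_field _ _)
  have hU : U = ⊤ := by
    ext s
    simp only [SetLike.mem_coe, TopologicalSpace.Opens.coe_top, Set.mem_univ, iff_true]
    exact (hiff s).mpr (hfib s)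
  subst hU
  have h2 : PAt (MorphismProperty.isomorphisms Scheme.{u}) f ((⊤ : S.Opens).ι ≫ 𝟙 S) := by
    rw [Category.comp_id]; exact hPU
  haveI : IsIso (⊤ : S.Opens).ι := inferInstanceAs (IsIso S.topIso.hom)
  exact isIso_of_PAt_id f (PAt.of_comp _ (qfpqc_of_isIso _) h2)

end

end Groth.Agent.Lib.Helper14.TorusMonoIso
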