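import Mathlib
import Groth.Prelude.Def_AlgGrp
import Groth.Prelude.Def_Red
import Groth.Prelude.Def_Red2
import Groth.Prelude.Def_RedSub
import Groth.Agent.Lib.Helper15.DSPts
import Groth.Agent.Lib.Helper15.DSMap
import Groth.Agent.Lib.Helper15.GroupAlgFree

/-!
# helper14: for an exact sequence `0 → K → M → N → 0` of abelian groups (`K`, `M` finitely
generated), `D_S(M) ⟶ D_S(K)` is the fppf quotient of `D_S(M)` by `D_S(N)`
-/

set_option autoImplicit false
universe u
open CategoryTheory CategoryTheory.Limits AlgebraicGeometry MonoidalCategory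
  CartesianMonoidalCategory MonObj

namespace Groth.Agent.Lib.Helper14.ModelQuot

noncomputable section

open Groth.Agent.Lib.helper15.DSPts

variable {S : Scheme.{u}} {M N K : Type} [AddCommGroup M] [AddCommGroup N] [AddCommGroup K]

lemma dsFn_one {X : Over S} (m : M) : dsFn (1 : X ⟶ Red.DS S M) m = 1 := by
  have h1 : dsFn (1 : X ⟶ Red.DS S M) m * dsFn (1 : X ⟶ Red.DS S M) m =
      dsFn (1 : X ⟶ Red.DS S M) m := by
    have e : (1 : X ⟶ Red.DS S M) * 1 = 1 := _root_.mul_one (1 : X ⟶ Red.DS S M)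
    calc dsFn (1 : X ⟶ Red.DS S M) m * dsFn (1 : X ⟶ Red.DS S M) m
        = dsFn ((1 : X ⟶ Red.DS S M) * 1) m := (dsFn_mul _ _ _).symm
      _ = dsFn (1 : X ⟶ Red.DS S M) m := by rw [e]
  have h2 : dsFn (1 : X ⟶ Red.DS S M) m * dsFn (1 : X ⟶ Red.DS S M) (-m) = 1 := by
    rw [← dsFn_add, add_neg_cancel, dsFn_zero]
  calc dsFn (1 : X ⟶ Red.DS S M) m
      = dsFn (1 : X ⟶ Red.DS S M) m * (dsFn (1 : X ⟶ Red.DS S M) m *
          dsFn (1 : X ⟶ Red.DS S M) (-m)) := by rw [h2, _root_.mul_one]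
    _ = (dsFn (1 : X ⟶ Red.DS S M) m * dsFn (1 : X ⟶ Red.DS S M) m) *
          dsFn (1 : X ⟶ Red.DS S M) (-m) := by rw [_root_.mul_assoc]
    _ = 1 := by rw [h1, h2]

variable (j : K →+ M) (φ : M →+ N)

theorem model_comp (hex : ∀ m, φ m = 0 ↔ m ∈ Set.range j) :
    Red.DSmap S φ ≫ Red.DSmap S j = 1 := by
  apply dsFn_injective
  intro k
  rw [dsFn_DSmap, ← Category.id_comp (Red.DSmap S φ), dsFn_DSmap, dsFn_one]
  have : φ (j k) = 0 := (hex _).mpr ⟨k, rfl⟩
  rw [this, dsFn_zero]

theorem model_unique (hφ : Function.Surjective φ) {X : Over S} (z z' : X ⟶ Red.DS S N)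
    (h : z ≫ Red.DSmap S φ = z' ≫ Red.DSmap S φ) : z = z' := by
  apply dsFn_injective
  intro n
  obtain ⟨m, rfl⟩ := hφ n
  rw [← dsFn_DSmap, ← dsFn_DSmap, h]

theorem model_exists (hφ : Function.Surjective φ) (hex : ∀ m, φ m = 0 ↔ m ∈ Set.range j)
    {X : Over S} (c : X ⟶ Red.DS S M) (hc : c ≫ Red.DSmap S j = 1) :
    ∃ z : X ⟶ Red.DS S N, z ≫ Red.DSmap S φ = c := by
  have hker : ∀ m, φ m = 0 → dsFn c m = 1 := by
    intro m hm
    obtain ⟨k, rfl⟩ := (hex m).mp hm
    rw [← dsFn_DSmap, hc, dsFn_one]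
  have hwd : ∀ m m', φ m = φ m' → dsFn c m = dsFn c m' := by
    intro m m' h
    have h1 : m = m' + (m - m') := by abel
    rw [h1, dsFn_add, hker (m - m') (by rw [map_sub, h, sub_self]), _root_.mul_one]
  let ψ : Multiplicative N →* Γ(X.left, ⊤) :=
    { toFun := fun n => dsFn c (Function.surjInv hφ n.toAdd)
      map_one' := by
        show dsFn c (Function.surjInv hφ (0 : N)) = 1
        rw [hwd _ 0 (by rw [Function.surjInv_eq hφ, map_zero]), dsFn_zero]
      map_mul' := by
        intro a b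
        show dsFn c (Function.surjInv hφ (a.toAdd + b.toAdd)) =
          dsFn c (Function.surjInv hφ a.toAdd) * dsFn c (Function.surjInv hφ b.toAdd)
        rw [← dsFn_add]
        apply hwd
        rw [map_add, Function.surjInv_eq hφ, Function.surjInv_eq hφ, Function.surjInv_eq hφ] }
  obtain ⟨z, hz⟩ := exists_dsFn_eq (S := S) (X := X) ψ
  refine ⟨z, ?_⟩
  apply dsFn_injective
  intro m
  rw [dsFn_DSmap, hz]
  show dsFn c (Function.surjInv hφ (φ m)) = dsFn c m
  apply hwd
  rw [Function.surjInv_eq hφ]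

theorem model_isPullback (hφ : Function.Surjective φ)
    (hex : ∀ m, φ m = 0 ↔ m ∈ Set.range j) :
    IsPullback (fst (Red.DS S M) (Red.DS S N))
      ((Red.DS S M ◁ Red.DSmap S φ) ≫ μ[Red.DS S M]) (Red.DSmap S j) (Red.DSmap S j) :=
  isPullback_of_kernel _ _ (fun _ c hc => model_exists j φ hφ hex c hc)
    (fun _ z z' h => model_unique φ hφ z z' h) (model_comp j φ hex)

theorem model_cover (hj : Function.Injective j) [AddGroup.FG M] [AddGroup.FG K] :
    Flat (Red.DSmap S j).left ∧ Surjective (Red.DSmap S j).left ∧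
      LocallyOfFinitePresentation (Red.DSmap S j).left := by
  have hinj : Function.Injective (AddMonoidHom.toMultiplicative j) := fun a b h =>
    Multiplicative.toAdd.injective (hj (congrArg Multiplicative.toAdd h))
  have hff := Groth.Agent.Lib.helper15.GroupAlgFree.faithfullyFlat_mapDomain (ULift.{u} ℤ)
    (AddMonoidHom.toMultiplicative j) hinj
  have hnoeth : IsNoetherianRing (ULift.{u} ℤ) :=
    isNoetherianRing_of_ringEquiv ℤ ULift.ringEquiv.symm
  haveI : Group.FG (Multiplicative M) := AddGroup.fg_iff_mul_fg.mp inferInstance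
  haveI : Group.FG (Multiplicative K) := AddGroup.fg_iff_mul_fg.mp inferInstance
  have hfp := Groth.Agent.Lib.helper15.GroupAlgFree.finitePresentation_mapDomain (ULift.{u} ℤ)
    (AddMonoidHom.toMultiplicative j)
  have h1 := (flat_and_surjective_SpecMap_iff (CommRingCat.ofHom
    (MonoidAlgebra.mapDomainAlgHom (ULift.{u} ℤ) (ULift.{u} ℤ)
      (AddMonoidHom.toMultiplicative j)).toRingHom)).mpr hff
  have h2 : LocallyOfFinitePresentation (Spec.map (CommRingCat.ofHom
    (MonoidAlgebra.mapDomainAlgHom (ULift.{u} ℤ) (ULift.{u} ℤ)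
      (AddMonoidHom.toMultiplicative j)).toRingHom)) :=
    (HasRingHomProperty.Spec_iff (P := @LocallyOfFinitePresentation)).mpr hfp
  refine ⟨?_, ?_, ?_⟩
  · exact Groth.Agent.Lib.helper15.DSMap.pullback_map_left_of_stable @Flat _ _ h1.1
  · exact Groth.Agent.Lib.helper15.DSMap.pullback_map_left_of_stable @Surjective _ _ h1.2
  · exact Groth.Agent.Lib.helper15.DSMap.pullback_map_left_of_stable
      @LocallyOfFinitePresentation _ _ h2

theorem model_isQuotient (hj : Function.Injective j) (hφ : Function.Surjective φ)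
    (hex : ∀ m, φ m = 0 ↔ m ∈ Set.range j) [AddGroup.FG M] [AddGroup.FG K] :
    RedSub.IsQuotient (Red.DSmap S φ) (Red.DSmap S j) := by
  obtain ⟨h1, h2, h3⟩ := model_cover (S := S) j hj
  exact ⟨h2, h1, h3, model_isPullback j φ hφ hex⟩

end

end Groth.Agent.Lib.Helper14.ModelQuot
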