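import Mathlib
import Groth.Prelude.Def_AlgGrp
import Groth.Prelude.Def_Red
import Groth.Prelude.Def_RedSub
import Groth.Agent.Lib.Helper15.DSMap

/-!
# helper14: fppf quotients of group schemes are compatible with base change
-/

set_option autoImplicit false
universe u
open CategoryTheory CategoryTheory.Limits AlgebraicGeometry MonoidalCategory
  CartesianMonoidalCategory MonObj

namespace Groth.Agent.Lib.Helper14.QuotBC

noncomputable section

open Groth.Agent.Lib.helper15.DSMap

theorem isQuotient_bc {S S' : Scheme.{u}} (g : S' ⟶ S) {H G Q : Over S} [GrpObj H] [GrpObj G]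
    (i : H ⟶ G) (q : G ⟶ Q) (hq : RedSub.IsQuotient i q) :
    RedSub.IsQuotient ((Over.pullback g).map i) ((Over.pullback g).map q) := by
  obtain ⟨h1, h2, h3, hk⟩ := hq
  refine ⟨pullback_map_left_of_stable @Surjective g q h1,
    pullback_map_left_of_stable @Flat g q h2,
    pullback_map_left_of_stable @LocallyOfFinitePresentation g q h3, ?_⟩
  have hF : IsPullback ((Over.pullback g).map (fst G H))
      ((Over.pullback g).map ((G ◁ i) ≫ μ[G])) ((Over.pullback g).map q)
      ((Over.pullback g).map q) := hk.map (Over.pullback g)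
  have hμ : (μ[Red.bc g G] : Red.bc g G ⊗ Red.bc g G ⟶ Red.bc g G) =
      Functor.LaxMonoidal.μ (Over.pullback g) G G ≫ (Over.pullback g).map μ[G] := rfl
  refine IsPullback.of_iso hF (Functor.Monoidal.μIso (Over.pullback g) G H).symm (Iso.refl _)
    (Iso.refl _) (Iso.refl _) ?_ ?_ (by simp) (by simp)
  · rw [Iso.refl_hom, Category.comp_id, Iso.symm_hom, Iso.eq_inv_comp]
    exact Functor.Monoidal.μ_fst (Over.pullback g) G H
  · rw [Iso.refl_hom, Category.comp_id, Iso.symm_hom, Iso.eq_inv_comp]
    show Functor.LaxMonoidal.μ (Over.pullback g) G H ≫ (Over.pullback g).map ((G ◁ i) ≫ μ[G]) =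
      (Red.bc g G ◁ (Over.pullback g).map i) ≫ μ[Red.bc g G]
    rw [hμ, Functor.map_comp, ← Category.assoc, ← Category.assoc,
      Functor.LaxMonoidal.μ_natural_right]

end

end Groth.Agent.Lib.Helper14.QuotBC
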