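import Groth.Agent.Lib.Helper14.GrpQuot2
import Mathlib.Tactic.Group

/-!
# Group structure on a quotient `G ⟶ Q` with kernel pair `G × H`, explicit epi hypotheses (helper14)
-/

set_option autoImplicit false

universe v u

open CategoryTheory CategoryTheory.Limits MonoidalCategory CartesianMonoidalCategory MonObj

namespace Groth.Agent.Lib.Helper14.GrpQuot

variable {𝒮 : Type u} [Category.{v} 𝒮] [CartesianMonoidalCategory 𝒮]

theorem comp_mul_eq' {G : 𝒮} [MonObj G] {Y : 𝒮} (a : Y ⟶ G ⊗ G) :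
    a ≫ μ = (a ≫ fst G G) * (a ≫ snd G G) := by
  rw [MonObj.mul_eq_mul, MonObj.comp_mul]

theorem epi_whiskerLeft_unit {G Q : 𝒮} (π : G ⟶ Q) [Epi π] : Epi ((𝟙_ 𝒮) ◁ π) := by
  have : (𝟙_ 𝒮) ◁ π = (λ_ G).hom ≫ π ≫ (λ_ Q).inv := by
    rw [← Category.assoc, ← leftUnitor_naturality, Category.assoc, Iso.hom_inv_id, Category.comp_id]
  rw [this]
  infer_instance

theorem epi_whiskerRight_unit {G Q : 𝒮} (π : G ⟶ Q) [Epi π] : Epi (π ▷ (𝟙_ 𝒮)) := by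
  have : π ▷ (𝟙_ 𝒮) = (ρ_ G).hom ≫ π ≫ (ρ_ Q).inv := by
    rw [← Category.assoc, ← rightUnitor_naturality, Category.assoc, Iso.hom_inv_id,
      Category.comp_id]
  rw [this]
  infer_instance

section OfEpi'

variable {G Q : 𝒮} [GrpObj G] (π : G ⟶ Q) [Epi π] [Epi ((π ⊗ₘ π) ⊗ₘ π)] (m : Q ⊗ Q ⟶ Q)
  (hm : (π ⊗ₘ π) ≫ m = μ[G] ≫ π) (i : Q ⟶ Q) (hi : π ≫ i = ι[G] ≫ π)

/-- A group structure descends along an epimorphism compatible with multiplication and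
inverse (explicit epi hypotheses). -/
@[reducible] def grpObjOfEpi' : GrpObj Q where
  one := η[G] ≫ π
  mul := m
  one_mul := by
    have := epi_whiskerLeft_unit π
    rw [← cancel_epi ((𝟙_ 𝒮) ◁ π)]
    rw [comp_whiskerRight, Category.assoc, whisker_exchange_assoc, ← tensorHom_def'_assoc, hm,
      MonObj.one_mul_assoc, leftUnitor_naturality]
  mul_one := by
    have := epi_whiskerRight_unit π
    rw [← cancel_epi (π ▷ (𝟙_ 𝒮))]
    rw [whiskerLeft_comp, Category.assoc, ← whisker_exchange_assoc, ← tensorHom_def_assoc, hm,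
      MonObj.mul_one_assoc, rightUnitor_naturality]
  mul_assoc := by
    rw [← cancel_epi ((π ⊗ₘ π) ⊗ₘ π)]
    have e1 : ((π ⊗ₘ π) ⊗ₘ π) ≫ m ▷ Q = (μ[G] ▷ G) ≫ (π ⊗ₘ π) := by
      rw [← tensorHom_id, tensorHom_comp_tensorHom, hm, Category.comp_id, ← tensorHom_id,
        tensorHom_comp_tensorHom, Category.id_comp]
    have e2 : (π ⊗ₘ (π ⊗ₘ π)) ≫ Q ◁ m = (G ◁ μ[G]) ≫ (π ⊗ₘ π) := by
      rw [← id_tensorHom, tensorHom_comp_tensorHom, hm, Category.comp_id, ← id_tensorHom,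
        tensorHom_comp_tensorHom, Category.id_comp]
    calc ((π ⊗ₘ π) ⊗ₘ π) ≫ m ▷ Q ≫ m = (μ[G] ▷ G) ≫ (π ⊗ₘ π) ≫ m := by
          rw [← Category.assoc, e1, Category.assoc]
      _ = (μ[G] ▷ G) ≫ μ[G] ≫ π := by rw [hm]
      _ = (α_ G G G).hom ≫ (G ◁ μ[G]) ≫ μ[G] ≫ π := by rw [MonObj.mul_assoc_assoc]
      _ = (α_ G G G).hom ≫ (G ◁ μ[G]) ≫ (π ⊗ₘ π) ≫ m := by rw [hm]
      _ = (α_ G G G).hom ≫ (π ⊗ₘ (π ⊗ₘ π)) ≫ Q ◁ m ≫ m := by
          rw [← Category.assoc (G ◁ μ[G]), ← e2, Category.assoc]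
      _ = ((π ⊗ₘ π) ⊗ₘ π) ≫ (α_ Q Q Q).hom ≫ Q ◁ m ≫ m := by
          rw [associator_naturality_assoc]
  inv := i
  left_inv := by
    rw [← cancel_epi π]
    rw [comp_lift_assoc, hi, Category.comp_id]
    have : lift (ι[G] ≫ π) π = lift ι[G] (𝟙 G) ≫ (π ⊗ₘ π) := by simp
    rw [this, Category.assoc, hm, GrpObj.left_inv_assoc, comp_toUnit_assoc]
  right_inv := by
    rw [← cancel_epi π]
    rw [comp_lift_assoc, hi, Category.comp_id]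
    have : lift π (ι[G] ≫ π) = lift (𝟙 G) ι[G] ≫ (π ⊗ₘ π) := by simp
    rw [this, Category.assoc, hm, GrpObj.right_inv_assoc, comp_toUnit_assoc]

end OfEpi'

section Quot

variable {H G Q : 𝒮} [GrpObj H] [GrpObj G] (u : H ⟶ G) (π : G ⟶ Q)
  (hk : IsPullback (fst G H) ((G ◁ u) ≫ μ[G]) π π)

include hk

omit [GrpObj H] in
theorem eq_iff_of_isPullback {Y : 𝒮} (a b : Y ⟶ G) :
    a ≫ π = b ≫ π ↔ ∃ h : Y ⟶ H, a * (h ≫ u) = b := by
  rw [← quot_rel_iff]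
  constructor
  · intro h
    exact ⟨hk.lift a b h, hk.lift_fst a b h, hk.lift_snd a b h⟩
  · rintro ⟨r, rfl, rfl⟩
    rw [Category.assoc, hk.w]
    simp only [Category.assoc]

variable [IsMonHom u]
  (hn : ∀ (Y : 𝒮) (g : Y ⟶ G) (h : Y ⟶ H), ∃ h' : Y ⟶ H, g * (h ≫ u) * g⁻¹ = h' ≫ u)

include hn

theorem mul_desc_condition' {Y : 𝒮} (a b : Y ⟶ G ⊗ G) (h : a ≫ (π ⊗ₘ π) = b ≫ (π ⊗ₘ π)) :
    a ≫ μ ≫ π = b ≫ μ ≫ π := by
  have h1 : (a ≫ fst G G) ≫ π = (b ≫ fst G G) ≫ π := by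
    have := congrArg (fun f => f ≫ fst Q Q) h
    simpa using this
  have h2 : (a ≫ snd G G) ≫ π = (b ≫ snd G G) ≫ π := by
    have := congrArg (fun f => f ≫ snd Q Q) h
    simpa using this
  obtain ⟨k₁, hk₁⟩ := (eq_iff_of_isPullback u π hk _ _).1 h1
  obtain ⟨k₂, hk₂⟩ := (eq_iff_of_isPullback u π hk _ _).1 h2
  obtain ⟨k', hk'⟩ := hn Y (a ≫ snd G G)⁻¹ k₁
  rw [← Category.assoc, ← Category.assoc, eq_iff_of_isPullback u π hk]
  refine ⟨k' * k₂, ?_⟩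
  rw [comp_mul_eq', comp_mul_eq', ← hk₁, ← hk₂, MonObj.mul_comp, ← hk']
  group

theorem inv_desc_condition' {Y : 𝒮} (a b : Y ⟶ G) (h : a ≫ π = b ≫ π) :
    a ≫ ι ≫ π = b ≫ ι ≫ π := by
  obtain ⟨k, hk₁⟩ := (eq_iff_of_isPullback u π hk _ _).1 h
  obtain ⟨k', hk'⟩ := hn Y a k⁻¹
  rw [← Category.assoc, ← Category.assoc, eq_iff_of_isPullback u π hk]
  refine ⟨k', ?_⟩
  rw [← Hom.inv_def, ← Hom.inv_def, ← hk₁, ← hk', GrpObj.inv_comp]
  group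

/-- S5236, abstract form. -/
theorem existsUnique_grpObj' [EffectiveEpi π] [EffectiveEpi (π ⊗ₘ π)] [Epi ((π ⊗ₘ π) ⊗ₘ π)] :
    ∃! str : GrpObj Q, @IsMonHom 𝒮 _ _ G Q _ str.toMonObj π := by
  let m := EffectiveEpi.desc (π ⊗ₘ π) (μ[G] ≫ π)
    (fun a b h => mul_desc_condition' u π hk hn a b h)
  have hm : (π ⊗ₘ π) ≫ m = μ[G] ≫ π := EffectiveEpi.fac _ _ _
  let i := EffectiveEpi.desc π (ι[G] ≫ π) (fun a b h => inv_desc_condition' u π hk hn a b h)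
  have hi : π ≫ i = ι[G] ≫ π := EffectiveEpi.fac _ _ _
  refine ⟨grpObjOfEpi' π m hm i hi, @IsMonHom.mk 𝒮 _ _ G Q _ (grpObjOfEpi' π m hm i hi).toMonObj π
    rfl hm.symm, ?_⟩
  intro str' h'
  apply GrpObj.ext
  apply MonObj.ext
  rw [← cancel_epi (π ⊗ₘ π)]
  have h1 := @IsMonHom.mul_hom 𝒮 _ _ G Q _ str'.toMonObj π h'
  exact h1.symm.trans hm.symm

end Quot

section Desc

variable {H G Q K : 𝒮} [GrpObj H] [GrpObj G] [GrpObj Q] [GrpObj K] (u : H ⟶ G) (π : G ⟶ Q)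
  [IsMonHom π] (hk : IsPullback (fst G H) ((G ◁ u) ≫ μ[G]) π π)

include hk in
/-- S5237, abstract form. -/
theorem existsUnique_hom_desc [EffectiveEpi π] [Epi (π ⊗ₘ π)] (f : G ⟶ K) [IsMonHom f]
    (hf : u ≫ f = 1) : ∃! g : Q ⟶ K, π ≫ g = f ∧ IsMonHom g := by
  have hcond : ∀ {Y : 𝒮} (a b : Y ⟶ G), a ≫ π = b ≫ π → a ≫ f = b ≫ f := by
    intro Y a b h
    obtain ⟨k, rfl⟩ := (eq_iff_of_isPullback u π hk _ _).1 h
    rw [MonObj.mul_comp, Category.assoc, hf, MonObj.comp_one, _root_.mul_one]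
  refine ⟨EffectiveEpi.desc π f hcond, ⟨EffectiveEpi.fac π f hcond, ?_⟩, ?_⟩
  · constructor
    · have h1 : η[Q] = η[G] ≫ π := (IsMonHom.one_hom π).symm
      rw [h1, Category.assoc, EffectiveEpi.fac, IsMonHom.one_hom]
    · rw [← cancel_epi (π ⊗ₘ π)]
      rw [← Category.assoc, ← IsMonHom.mul_hom π, Category.assoc, EffectiveEpi.fac,
        tensorHom_comp_tensorHom_assoc, EffectiveEpi.fac, IsMonHom.mul_hom f]
  · rintro g ⟨hg, -⟩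
    rw [← cancel_epi π, hg, EffectiveEpi.fac]

end Desc

end Groth.Agent.Lib.Helper14.GrpQuot
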