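import Groth.Agent.Lib.Helper14.GrpQuot1
import Mathlib.AlgebraicGeometry.Sites.Fpqc
import Mathlib.AlgebraicGeometry.Pullbacks
import Mathlib.AlgebraicGeometry.Morphisms.Flat
import Mathlib.AlgebraicGeometry.Morphisms.FinitePresentation
import Mathlib.CategoryTheory.Limits.Constructions.Over.Connected

/-!
# fppf morphisms in `Over S` are effective epimorphisms, stable under products (helper14)
-/

set_option autoImplicit false

universe v u

open CategoryTheory CategoryTheory.Limits MonoidalCategory CartesianMonoidalCategory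
  AlgebraicGeometry

namespace Groth.Agent.Lib.Helper14.GrpQuot

/-- A morphism in an over category whose underlying morphism is an effective epimorphism is an
effective epimorphism. -/
theorem effectiveEpi_over_of_left {C : Type u} [Category.{v} C] {S : C} {X Y : Over S}
    (f : X ⟶ Y) [EffectiveEpi f.left] : EffectiveEpi f := by
  have hcond : ∀ {W : Over S} (e : X ⟶ W)
      (_ : ∀ {Z : Over S} (g₁ g₂ : Z ⟶ X), g₁ ≫ f = g₂ ≫ f → g₁ ≫ e = g₂ ≫ e)
      {Z : C} (g₁ g₂ : Z ⟶ X.left), g₁ ≫ f.left = g₂ ≫ f.left → g₁ ≫ e.left = g₂ ≫ e.left := by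
    intro W e h Z g₁ g₂ hg
    have hX : g₂ ≫ X.hom = g₁ ≫ X.hom := by
      rw [← Over.w f, ← Category.assoc, ← Category.assoc, hg]
    let Z' : Over S := Over.mk (g₁ ≫ X.hom)
    let a : Z' ⟶ X := Over.homMk g₁ rfl
    let b : Z' ⟶ X := Over.homMk g₂ hX
    have hab : a ≫ f = b ≫ f := by
      ext
      simpa [a, b] using hg
    have := congrArg (fun t => t.left) (h a b hab)
    simpa [a, b] using this
  refine ⟨⟨{ desc := fun {W} e h => Over.homMk (EffectiveEpi.desc f.left e.left (hcond e h)) ?_
             fac := fun {W} e h => ?_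
             uniq := fun {W} e h m hm => ?_ }⟩⟩
  · rw [← cancel_epi f.left, ← Category.assoc, EffectiveEpi.fac, Over.w, Over.w]
  · ext
    simp
  · ext
    simp only [Over.homMk_left]
    apply EffectiveEpi.uniq
    rw [← hm]
    simp

variable {S : Scheme.{u}}

/-- A morphism over `S` whose underlying morphism of schemes is an fppf covering. -/
structure IsFppf {X Y : Over S} (f : X ⟶ Y) : Prop where
  surj : Surjective f.left
  flat : Flat f.left
  lfp : LocallyOfFinitePresentation f.left

theorem IsFppf.effectiveEpi {X Y : Over S} {f : X ⟶ Y} (h : IsFppf f) : EffectiveEpi f := by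
  have := h.surj
  have := h.flat
  have := h.lfp
  exact effectiveEpi_over_of_left f

theorem IsFppf.comp {X Y Z : Over S} {f : X ⟶ Y} {g : Y ⟶ Z} (hf : IsFppf f) (hg : IsFppf g) :
    IsFppf (f ≫ g) := by
  have := hf.surj
  have := hf.flat
  have := hf.lfp
  have := hg.surj
  have := hg.flat
  have := hg.lfp
  exact ⟨by rw [Over.comp_left]; infer_instance, by rw [Over.comp_left]; infer_instance,
    by rw [Over.comp_left]; infer_instance⟩

theorem IsFppf.of_isPullback {X' Y' X Y : Over S} {f' : X' ⟶ Y'} {i₁ : X' ⟶ X} {i₂ : Y' ⟶ Y}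
    {f : X ⟶ Y} (h : IsPullback f' i₁ i₂ f) (hf : IsFppf f) : IsFppf f' := by
  have h' := (h.map (Over.forget S)).flip
  exact ⟨MorphismProperty.of_isPullback (P := @Surjective) h' hf.surj,
    MorphismProperty.of_isPullback (P := @Flat) h' hf.flat,
    MorphismProperty.of_isPullback (P := @LocallyOfFinitePresentation) h' hf.lfp⟩

theorem IsFppf.whiskerLeft (G : Over S) {X Y : Over S} {f : X ⟶ Y} (hf : IsFppf f) :
    IsFppf (G ◁ f) :=
  IsFppf.of_isPullback (isPullback_whiskerLeft G f) hf

theorem IsFppf.whiskerRight (G : Over S) {X Y : Over S} {f : X ⟶ Y} (hf : IsFppf f) :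
    IsFppf (f ▷ G) :=
  IsFppf.of_isPullback (isPullback_whiskerRight G f) hf

theorem IsFppf.tensorHom {X Y X' Y' : Over S} {f : X ⟶ Y} {g : X' ⟶ Y'} (hf : IsFppf f)
    (hg : IsFppf g) : IsFppf (f ⊗ₘ g) := by
  rw [tensorHom_def]
  exact (hf.whiskerRight _).comp (hg.whiskerLeft _)

end Groth.Agent.Lib.Helper14.GrpQuot
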