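import Mathlib
import Groth.Prelude.Def_AlgGrp
import Groth.Prelude.Def_Red
import Groth.Prelude.Def_RedSub
import Groth.Agent.Lib.Helper14.GrpQuot8
import Groth.Agent.Lib.Helper14.OverFppf

/-!
# helper14: fppf quotients of a group scheme by a subgroup are unique up to a unique isomorphism of
groups; transport of `IsQuotient` along isomorphisms
-/

set_option autoImplicit false
universe u
open CategoryTheory CategoryTheory.Limits AlgebraicGeometry MonoidalCategory
  CartesianMonoidalCategory MonObj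

namespace Groth.Agent.Lib.Helper14.QuotUnique

noncomputable section

open Groth.Agent.Lib.Helper14.GrpQuot

variable {S : Scheme.{u}}

theorem comp_eq_one {H G Q : Over S} [GrpObj H] [GrpObj G] [GrpObj Q] (i : H ⟶ G) (q : G ⟶ Q)
    [IsMonHom q] (hk : IsPullback (fst G H) ((G ◁ i) ≫ μ[G]) q q) : i ≫ q = 1 := by
  have h1 := (eq_iff_of_isPullback i q hk (1 : H ⟶ G) i).2
    ⟨𝟙 H, by rw [Category.id_comp, _root_.one_mul]⟩
  rw [← h1, MonObj.one_comp]

/-- two fppf quotients of `G` by the same subgroup are isomorphic as groups -/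
theorem exists_iso {H G Q Q' : Over S} [GrpObj H] [GrpObj G] [GrpObj Q] [GrpObj Q']
    (i : H ⟶ G) (q : G ⟶ Q) [IsMonHom q] (q' : G ⟶ Q') [IsMonHom q']
    (hq : RedSub.IsQuotient i q) (hq' : RedSub.IsQuotient i q') :
    ∃ e : Q ≅ Q', IsMonHom e.hom ∧ q ≫ e.hom = q' := by
  obtain ⟨h1, h2, h3, hk⟩ := hq
  obtain ⟨h1', h2', h3', hk'⟩ := hq'
  have hfp : IsFppf q := ⟨h1, h2, h3⟩
  have hfp' : IsFppf q' := ⟨h1', h2', h3'⟩
  haveI : EffectiveEpi q := hfp.effectiveEpi
  haveI : EffectiveEpi (q ⊗ₘ q) := (hfp.tensorHom hfp).effectiveEpi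
  haveI : EffectiveEpi q' := hfp'.effectiveEpi
  haveI : EffectiveEpi (q' ⊗ₘ q') := (hfp'.tensorHom hfp').effectiveEpi
  obtain ⟨g, ⟨hg, hgm⟩, -⟩ := existsUnique_hom_desc i q hk q' (comp_eq_one i q' hk')
  obtain ⟨g', ⟨hg', hgm'⟩, -⟩ := existsUnique_hom_desc i q' hk' q (comp_eq_one i q hk)
  refine ⟨⟨g, g', ?_, ?_⟩, hgm, hg⟩
  · rw [← cancel_epi q, ← Category.assoc, hg, hg', Category.comp_id]
  · rw [← cancel_epi q', ← Category.assoc, hg', hg, Category.comp_id]

/-- transport of a quotient along isomorphisms of the three groups -/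
theorem isQuotient_of_iso {H G Q H' G' : Over S} [GrpObj H] [GrpObj G] [GrpObj H']
    [GrpObj G'] (i : H ⟶ G) (q : G ⟶ Q) (hq : RedSub.IsQuotient i q)
    (eH : H' ≅ H) (eG : G' ≅ G) [IsMonHom eG.hom] (i' : H' ⟶ G') (hi : i' ≫ eG.hom = eH.hom ≫ i) :
    RedSub.IsQuotient i' (eG.hom ≫ q) := by
  obtain ⟨h1, h2, h3, hk⟩ := hq
  haveI := h1
  haveI := h2
  haveI := h3
  haveI : IsIso eG.hom.left := (Over.forget S).map_isIso eG.hom
  refine ⟨by rw [Over.comp_left]; infer_instance, by rw [Over.comp_left]; infer_instance,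
    by rw [Over.comp_left]; infer_instance, ?_⟩
  -- the square for `(i', eG ≫ q)` is isomorphic to the square for `(i, q)`
  have key : (eG.hom ⊗ₘ eH.hom) ≫ (G ◁ i) ≫ μ[G] = ((G' ◁ i') ≫ μ[G']) ≫ eG.hom := by
    rw [Category.assoc, IsMonHom.mul_hom, ← id_tensorHom, ← id_tensorHom, ← Category.assoc,
      ← Category.assoc, tensorHom_comp_tensorHom, tensorHom_comp_tensorHom]
    simp only [Category.comp_id, Category.id_comp, hi]
  have hsq : IsPullback (fst G' H' ≫ eG.hom) (((G' ◁ i') ≫ μ[G']) ≫ eG.hom) q q := by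
    refine IsPullback.of_iso hk (tensorIso eG eH).symm (Iso.refl _) (Iso.refl _) (Iso.refl _)
      ?_ ?_ ?_ ?_
    · simp
    · rw [Iso.refl_hom, Category.comp_id, Iso.symm_hom, tensorIso_inv, ← key,
        ← Category.assoc, tensorHom_comp_tensorHom, Iso.inv_hom_id, Iso.inv_hom_id,
        tensorHom_id, id_whiskerRight, Category.id_comp]
    · simp
    · simp
  refine IsPullback.of_iso hsq (Iso.refl _) eG.symm eG.symm (Iso.refl _) ?_ ?_ ?_ ?_
  · simp
  · simp
  · simp
  · simp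

end

end Groth.Agent.Lib.Helper14.QuotUnique
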