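import Mathlib
import Groth.Prelude.Def_AlgGrp
import Groth.Prelude.Def_Red
import Groth.Prelude.Def_Red2
import Groth.Prelude.Def_RedSub
import Groth.Agent.Lib.Helper14.DiagHom4
import Groth.Agent.Lib.Helper14.ModelQuot
import Groth.Agent.Lib.Helper14.QuotUnique
import Groth.Agent.Lib.Helper14.QuotBC

/-!
# helper14: local form of a homomorphism of diagonalisable groups as `D(φ)`, kernels of maps out of
`ℤ^r`, and the quotient of a diagonalisable group `D(ℤ^r)` by a diagonalisable subgroup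
-/

set_option autoImplicit false
universe u
open CategoryTheory CategoryTheory.Limits AlgebraicGeometry MonoidalCategory
  CartesianMonoidalCategory MonObj

namespace Groth.Agent.Lib.Helper14.TorusQuot

noncomputable section

open Groth.Agent.Lib.Helper14.MultNilAff Groth.Agent.Lib.Helper14.DiagHom1
  Groth.Agent.Lib.Helper14.DiagHom2 Groth.Agent.Lib.Helper14.DiagHom3
  Groth.Agent.Lib.Helper14.DiagHom4 Groth.Agent.Lib.Helper14.ModelQuot
  Groth.Agent.Lib.Helper14.QuotUnique Groth.Agent.Lib.Helper14.QuotBC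

section LocalForm

variable {R : Type u} [CommRing R] {M N : Type} [AddCommGroup M] [AddCommGroup N]
  {G H : Over (Spec (CommRingCat.of R))} [GrpObj G] [GrpObj H]
  (eG : Grp.mk G ≅ Grp.mk (Red.DS (Spec (CommRingCat.of R)) M))
  (eH : Grp.mk H ≅ Grp.mk (Red.DS (Spec (CommRingCat.of R)) N))
  (u : G ⟶ H) [IsMonHom u] [AddGroup.FG N]

/-- near a prime, a homomorphism of diagonalisable groups is `D(φ)` -/
theorem local_DSmap (𝔭 : Ideal R) [𝔭.IsPrime] :
    ∃ (h : R) (φ : Multiplicative N →* Multiplicative M), h ∉ 𝔭 ∧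
      ∀ (R₁ : Type u) [CommRing R₁] [Algebra R R₁], IsUnit (algebraMap R R₁ h) →
        ((Over.pullback (kk R R₁)).map u =
          eh (bcDiag (R₁ := R₁) eG) ≫ Red.DSmap _ (phiAdd φ) ≫ ei (bcDiag (R₁ := R₁) eH)) ∧
        (Nontrivial R₁ → Mono ((Over.pullback (kk R R₁)).map u).left → Function.Surjective φ) := by
  obtain ⟨h, φ, hh, hφ⟩ := local_const eG eH u 𝔭
  refine ⟨h, φ, hh, fun R₁ _ _ hu => ⟨?_, fun hnt => ?_⟩⟩
  · exact eq_DSmap (bcDiag (R₁ := R₁) eG) (bcDiag (R₁ := R₁) eH) _ φ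
      (points_bc eG eH u h φ hφ R₁ hu)
  · exact surjective_of_mono (bcDiag (R₁ := R₁) eG) (bcDiag (R₁ := R₁) eH) _ φ
      (points_bc eG eH u h φ hφ R₁ hu)

end LocalForm

/-- the kernel of a homomorphism out of `ℤ^r` is free of rank at most `r` -/
theorem exists_kernel_basis (r : ℕ) {N : Type} [AddCommGroup N] (ψ : (Fin r → ℤ) →+ N) :
    ∃ (r' : ℕ) (jK : (Fin r' → ℤ) →+ (Fin r → ℤ)), r' ≤ r ∧ Function.Injective jK ∧
      ∀ m, ψ m = 0 ↔ m ∈ Set.range jK := by
  let N' : Submodule ℤ (Fin r → ℤ) := AddSubgroup.toIntSubmodule ψ.ker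
  obtain ⟨n, ⟨b⟩⟩ := N'.nonempty_basis_of_pid (Pi.basisFun ℤ (Fin r))
  let e : N' ≃ₗ[ℤ] (Fin n → ℤ) := b.equivFun
  refine ⟨n, (N'.subtype.comp e.symm.toLinearMap).toAddMonoidHom, ?_, ?_, ?_⟩
  · have h1 : Module.finrank ℤ N' = n := by
      rw [Module.finrank_eq_card_basis b, Fintype.card_fin]
    have h2 : Module.finrank ℤ (Fin r → ℤ) = r := Module.finrank_fin_fun ℤ
    have h3 := Submodule.finrank_le N'
    omega
  · intro a a' h
    have h1 : N'.subtype (e.symm a) = N'.subtype (e.symm a') := h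
    exact e.symm.injective (N'.injective_subtype h1)
  · intro m
    constructor
    · intro hm
      have hmem : m ∈ N' := hm
      refine ⟨e ⟨m, hmem⟩, ?_⟩
      show N'.subtype (e.symm (e ⟨m, hmem⟩)) = m
      rw [LinearEquiv.symm_apply_apply]
      rfl
    · rintro ⟨a, rfl⟩
      exact (e.symm a).2

/-- the quotient of `D(ℤ^r)` by a subgroup `D(N)` embedded through `D(ψ)` is a split torus -/
theorem quot_of_DSmap {B : Scheme.{u}} {T H Q : Over B} [GrpObj T] [GrpObj H] [GrpObj Q]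
    (r : ℕ) {N : Type} [AddCommGroup N]
    (eT : T ≅ Red.DS B (Fin r → ℤ)) [IsMonHom eT.hom] (eH : H ≅ Red.DS B N)
    (i : H ⟶ T) (q : T ⟶ Q) [IsMonHom q] (hq : RedSub.IsQuotient i q)
    (ψ : (Fin r → ℤ) →+ N) (hψ : Function.Surjective ψ)
    (hi : i ≫ eT.hom = eH.hom ≫ Red.DSmap B ψ) :
    ∃ r' : ℕ, r' ≤ r ∧ Red.IsSplitTorusWith (Fin r' → ℤ) Q := by
  obtain ⟨r', jK, hle, hinj, hex⟩ := exists_kernel_basis r ψ
  haveI : AddGroup.FG (Fin r → ℤ) := Module.Finite.iff_addGroup_fg.mp inferInstance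
  haveI : AddGroup.FG (Fin r' → ℤ) := Module.Finite.iff_addGroup_fg.mp inferInstance
  have hmodel : RedSub.IsQuotient (Red.DSmap B ψ) (Red.DSmap B jK) :=
    model_isQuotient jK ψ hinj hψ hex
  have h2 := isQuotient_of_iso (Red.DSmap B ψ) (Red.DSmap B jK) hmodel eH eT i hi
  obtain ⟨e, he, -⟩ := exists_iso i q (eT.hom ≫ Red.DSmap B jK) hq h2
  exact ⟨r', hle, ⟨Grp.mkIso' e⟩⟩

end

end Groth.Agent.Lib.Helper14.TorusQuot
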