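import Mathlib
import Groth.Prelude.Def_AlgGrp
import Groth.Prelude.Def_Red
import Groth.Prelude.Def_Red2
import Groth.Prelude.Def_SGA3x
import Groth.Agent.Lib.Helper14.TorusQuot1
import Groth.Agent.Lib.Helper14.TorusMonoIso
import Groth.Agent.Lib.Helper14.MultNilGlobal

/-!
# helper14: ranks of split tori: a monomorphism `D(ℤ^r) ⟶ D(N)` forces `r ≤` the number of
generators of `N`; split tori are tori
-/

set_option autoImplicit false
universe u
open CategoryTheory CategoryTheory.Limits AlgebraicGeometry MonoidalCategory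
  CartesianMonoidalCategory MonObj

namespace Groth.Agent.Lib.Helper14.MaxSplit

noncomputable section

open Groth.Agent.Lib.Helper14.MultNilAff Groth.Agent.Lib.Helper14.DiagHom1
  Groth.Agent.Lib.Helper14.DiagHom2 Groth.Agent.Lib.Helper14.DiagHom3
  Groth.Agent.Lib.Helper14.DiagHom4 Groth.Agent.Lib.Helper14.BCGrp
  Groth.Agent.Lib.Helper14.MultNilGlobal Groth.Agent.Lib.Helper14.TorusQuot

/-- base change of a diagonalisation -/
def splitBC {S' S'' : Scheme.{u}} (w : S'' ⟶ S') {T : Over S'} [GrpObj T] (M : Type)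
    [AddCommGroup M] (e : Grp.mk T ≅ Grp.mk (Red.DS S' M)) :
    Grp.mk (Red.bc w T) ≅ Grp.mk (Red.DS S'' M) :=
  bcGrpMapIso w e ≪≫ DSbcIso w M

theorem rank_le_of_mono {B : Scheme.{u}} [Nonempty B] (r n : ℕ) {N : Type} [AddCommGroup N]
    (gen : (Fin n → ℤ) →+ N) (hgen : Function.Surjective gen)
    {T G : Over B} [GrpObj T] [GrpObj G]
    (eT : Grp.mk T ≅ Grp.mk (Red.DS B (Fin r → ℤ))) (eG : Grp.mk G ≅ Grp.mk (Red.DS B N))
    (j : T ⟶ G) [IsMonHom j] [Mono j] : r ≤ n := by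
  obtain ⟨b⟩ := ‹Nonempty B›
  obtain ⟨U₁, hU₁, hbU₁, -⟩ := exists_affine_nbhd B ⊤ b trivial
  let v : Spec Γ(B, U₁) ⟶ B := hU₁.fromSpec
  let eT' : Grp.mk (Red.bc v T) ≅ Grp.mk (Red.DS (Spec Γ(B, U₁)) (Fin r → ℤ)) :=
    splitBC v _ eT
  let eG' : Grp.mk (Red.bc v G) ≅ Grp.mk (Red.DS (Spec Γ(B, U₁)) N) := splitBC v _ eG
  let jR : Red.bc v T ⟶ Red.bc v G := (Over.pullback v).map j
  haveI : IsMonHom jR := Functor.map.instIsMonHom _ _ _
  haveI : AddGroup.FG (Fin n → ℤ) := Module.Finite.iff_addGroup_fg.mp inferInstance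
  haveI : AddGroup.FG N := AddGroup.fg_of_surjective hgen
  let 𝔭 : PrimeSpectrum Γ(B, U₁) := hU₁.primeIdealOf ⟨b, hbU₁⟩
  obtain ⟨h, φ, hh, hloc⟩ := local_DSmap (R := Γ(B, U₁)) eT' eG' jR 𝔭.asIdeal
  have hu : IsUnit (algebraMap Γ(B, U₁) 𝔭.asIdeal.ResidueField h) := by
    rw [isUnit_iff_ne_zero]
    intro h0
    exact hh (Ideal.algebraMap_residueField_eq_zero.mp h0)
  obtain ⟨-, hsurj⟩ := hloc 𝔭.asIdeal.ResidueField hu
  haveI : Mono jR := inferInstance
  haveI : Mono ((Over.pullback (kk Γ(B, U₁) 𝔭.asIdeal.ResidueField)).map jR) := inferInstance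
  have hφ : Function.Surjective φ := hsurj inferInstance inferInstance
  have hψ : Function.Surjective ((phiAdd φ).comp gen).toIntLinearMap := by
    intro y
    obtain ⟨x, hx⟩ := phiAdd_surjective φ hφ y
    obtain ⟨z, rfl⟩ := hgen x
    exact ⟨z, hx⟩
  have h2 := LinearMap.finrank_le_finrank_of_surjective hψ
  rw [Module.finrank_fin_fun, Module.finrank_fin_fun] at h2
  exact h2

end

end Groth.Agent.Lib.Helper14.MaxSplit
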