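import Mathlib
import Groth.Prelude.Def_AlgGrp
import Groth.Prelude.Def_Red
import Groth.Prelude.Def_Red2
import Groth.Agent.Lib.Helper14.DiagHom2
import Groth.Agent.Lib.Helper14.MaxSplit1

/-!
# helper14: naturality of the base change isomorphisms `D_{S'}(M)_{S''} ≅ D_{S''}(M)` in `M`, and
compatible diagonalisations stay compatible after base change
-/

set_option autoImplicit false
universe u
open CategoryTheory CategoryTheory.Limits AlgebraicGeometry MonoidalCategory
  CartesianMonoidalCategory MonObj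

namespace Groth.Agent.Lib.Helper14.BCNat

noncomputable section

open Groth.Agent.Lib.Helper14.BCGrp Groth.Agent.Lib.Helper14.DiagHom2
  Groth.Agent.Lib.Helper14.MaxSplit

variable {S' S'' : Scheme.{u}} (w : S'' ⟶ S') {M K : Type} [AddCommGroup M] [AddCommGroup K]

theorem DSmap_fst (S : Scheme.{u}) (j : K →+ M) :
    (Red.DSmap S j).left ≫ pullback.fst _ _ = pullback.fst _ _ ≫ (Red.diagMap (ULift.{u} ℤ) j).left :=
  pb_map_fst _ _

theorem DSbcIso_natural (j : K →+ M) :
    (Over.pullback w).map (Red.DSmap S' j) ≫ (DSbcIso w K).hom.hom.hom =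
      (DSbcIso w M).hom.hom.hom ≫ Red.DSmap S'' j := by
  apply Over.OverMorphism.ext
  apply pullback.hom_ext
  · rw [Over.comp_left, Over.comp_left, Category.assoc, Category.assoc, DSbcIso_fst, DSmap_fst,
      ← Category.assoc, pb_map_fst, Category.assoc, DSmap_fst, ← Category.assoc,
      ← Category.assoc, DSbcIso_fst]
  · have h1 := Over.w ((Over.pullback w).map (Red.DSmap S' j) ≫ (DSbcIso w K).hom.hom.hom)
    have h2 := Over.w ((DSbcIso w M).hom.hom.hom ≫ Red.DSmap S'' j)
    exact h1.trans h2.symm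

theorem splitBC_hom {T : Over S'} [GrpObj T] (e : Grp.mk T ≅ Grp.mk (Red.DS S' M)) :
    (splitBC w M e).hom.hom.hom =
      (Over.pullback w).map e.hom.hom.hom ≫ (DSbcIso w M).hom.hom.hom := rfl

/-- compatible diagonalisations stay compatible after base change -/
theorem splitBC_natural {T T' : Over S'} [GrpObj T] [GrpObj T']
    (e : Grp.mk T ≅ Grp.mk (Red.DS S' M)) (e' : Grp.mk T' ≅ Grp.mk (Red.DS S' K))
    (a : T ⟶ T') (j : K →+ M)
    (h : a ≫ e'.hom.hom.hom = e.hom.hom.hom ≫ Red.DSmap S' j) :
    (Over.pullback w).map a ≫ (splitBC w K e').hom.hom.hom =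
      (splitBC w M e).hom.hom.hom ≫ Red.DSmap S'' j := by
  rw [splitBC_hom, splitBC_hom, ← Category.assoc, ← Functor.map_comp, h, Functor.map_comp,
    Category.assoc, DSbcIso_natural, Category.assoc]

end

end Groth.Agent.Lib.Helper14.BCNat
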