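import Mathlib
import Groth.Prelude.Def_AlgGrp
import Groth.Prelude.Def_Red
import Groth.Prelude.Def_ChGrp
import Groth.Agent.Lib.Helper14.BCActAdj
import Groth.Agent.Lib.Helper14.BCSolv

/-!
# helper14: base change of a pairing `K ⊗ H₁ ⟶ H₂` and the adjunction `Over.map v ⊣ Over.pullback v`
-/

set_option autoImplicit false
universe u
open CategoryTheory CategoryTheory.Limits AlgebraicGeometry MonoidalCategory
  CartesianMonoidalCategory MonObj

namespace Groth.Agent.Lib.Helper14.BCPair

noncomputable section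

open Groth.Agent.Lib.Helper14.BCSolv

variable {S S' : Scheme.{u}} (v : S' ⟶ S) {K H₁ H₂ : Over S} (β : K ⊗ H₁ ⟶ H₂)

/-- base change of a pairing -/
def bcPair : Red.bc v K ⊗ Red.bc v H₁ ⟶ Red.bc v H₂ :=
  Functor.LaxMonoidal.μ (Over.pullback v) K H₁ ≫ (Over.pullback v).map β

theorem adj_pair (T : Over S') (g' : (Over.map v).obj T ⟶ K) (x' : (Over.map v).obj T ⟶ H₁) :
    (Over.mapPullbackAdj v).homEquiv T H₂ (lift g' x' ≫ β) =
      lift ((Over.mapPullbackAdj v).homEquiv T K g') ((Over.mapPullbackAdj v).homEquiv T H₁ x') ≫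
        bcPair v β := by
  rw [Adjunction.homEquiv_unit, Adjunction.homEquiv_unit, Adjunction.homEquiv_unit]
  change _ = _ ≫ Functor.LaxMonoidal.μ (Over.pullback v) K H₁ ≫ (Over.pullback v).map β
  rw [← comp_lift, Category.assoc, Functor.Monoidal.lift_μ_assoc, ← Functor.map_comp]

/-- multiplicativity in the second variable is stable under base change -/
theorem bc_hmul [GrpObj H₁] [GrpObj H₂]
    (hmul : ∀ (T : Over S) (g : T ⟶ K) (h h' : T ⟶ H₁),
      lift g (h * h') ≫ β = (lift g h ≫ β) * (lift g h' ≫ β))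
    (T' : Over S') (g : T' ⟶ Red.bc v K) (h h' : T' ⟶ Red.bc v H₁) :
    lift g (h * h') ≫ bcPair v β = (lift g h ≫ bcPair v β) * (lift g h' ≫ bcPair v β) := by
  obtain ⟨g0, rfl⟩ := ((Over.mapPullbackAdj v).homEquiv T' K).surjective g
  obtain ⟨h0, rfl⟩ := (homMulEquiv v H₁ T').surjective h
  obtain ⟨h0', rfl⟩ := (homMulEquiv v H₁ T').surjective h'
  rw [← map_mul]
  change lift _ ((Over.mapPullbackAdj v).homEquiv T' H₁ (h0 * h0')) ≫ _ =
    (lift _ ((Over.mapPullbackAdj v).homEquiv T' H₁ h0) ≫ _) *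
      (lift _ ((Over.mapPullbackAdj v).homEquiv T' H₁ h0') ≫ _)
  rw [← adj_pair, ← adj_pair, ← adj_pair, hmul]
  exact map_mul (homMulEquiv v H₂ T') _ _

/-- if the base-changed pairing does not depend on the first variable at the adjoint points, neither
does the pairing -/
theorem pair_eq_of_bc (T : Over S') (g' g'' : (Over.map v).obj T ⟶ K)
    (x' : (Over.map v).obj T ⟶ H₁)
    (h : lift ((Over.mapPullbackAdj v).homEquiv T K g') ((Over.mapPullbackAdj v).homEquiv T H₁ x') ≫
        bcPair v β =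
      lift ((Over.mapPullbackAdj v).homEquiv T K g'') ((Over.mapPullbackAdj v).homEquiv T H₁ x') ≫
        bcPair v β) :
    lift g' x' ≫ β = lift g'' x' ≫ β := by
  apply ((Over.mapPullbackAdj v).homEquiv T H₂).injective
  rw [adj_pair, adj_pair, h]

end

end Groth.Agent.Lib.Helper14.BCPair
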