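import Mathlib
import Groth.Prelude.Def_EGA4Misc

/-!
# Birational morphisms (in the sense of `RadPt.IsBirational`) and flat base change (helper14)

* generic point lemmas (copied from helper9's `UOTop`, to avoid its import closure);
* `exists_fiber_iso`: for a cartesian square and a point `x` of `X` with trivial residue field
  extension over `f x`, the fibre of `g'` over `x` is isomorphic to the fibre of `g` over `f x`;
* consequences: `f'` restricted to the fibres is injective/surjective/reflects specialization and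
  induces isomorphisms of residue fields;
* `isBirational_of_isPullback_flat`: `RadPt.IsBirational` is stable under flat base change.
-/

set_option autoImplicit false
set_option linter.style.haveILetI false

namespace Groth.Agent.Lib.Helper14.BiratBC

open AlgebraicGeometry CategoryTheory Limits

universe u

section Top

variable {α β : Type*} [TopologicalSpace α] [TopologicalSpace β]

theorem mem_genericPoints_of_forall [QuasiSober α] (x : α) (h : ∀ x' : α, x' ⤳ x → x' = x) :
    x ∈ genericPoints α := by
  refine ⟨isIrreducible_singleton.closure, fun Z hZ hle => ?_⟩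
  obtain ⟨ζ, hζ⟩ := QuasiSober.sober hZ.closure isClosed_closure
  have hxZ : x ∈ closure Z := subset_closure (hle (subset_closure rfl))
  have := h ζ (hζ.specializes hxZ)
  subst this
  rw [hζ.def]
  exact subset_closure

theorem eq_of_specializes_of_mem_genericPoints [T0Space α] {x x' : α} (hx : x ∈ genericPoints α)
    (h : x' ⤳ x) : x' = x := by
  have h1 : closure ({x} : Set α) ≤ closure ({x'} : Set α) :=
    closure_minimal (Set.singleton_subset_iff.mpr h.mem_closure) isClosed_closure
  have h2 : closure ({x'} : Set α) ≤ closure ({x} : Set α) :=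
    hx.2 isIrreducible_singleton.closure h1
  have h3 : x ⤳ x' := by
    rw [specializes_iff_mem_closure]
    exact h2 (subset_closure rfl)
  exact (h.antisymm h3).eq

theorem map_mem_genericPoints_of_generalizingMap [T0Space α] [QuasiSober β] {f : α → β}
    (hf : GeneralizingMap f) {ξ : α} (hξ : ξ ∈ genericPoints α) : f ξ ∈ genericPoints β := by
  apply mem_genericPoints_of_forall
  intro y hy
  obtain ⟨ξ', hξ', rfl⟩ := hf hy
  rw [eq_of_specializes_of_mem_genericPoints hξ hξ']

end Top

section Sch

/-- Residue field maps of preimmersions are bijective. -/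
theorem bijective_residueFieldMap_of_isPreimmersion {Z W : Scheme.{u}} (i : Z ⟶ W)
    [IsPreimmersion i] (z : Z) : Function.Bijective (i.residueFieldMap z).hom := by
  refine ⟨(i.residueFieldMap z).hom.injective, ?_⟩
  intro b
  obtain ⟨s, rfl⟩ := Z.residue_surjective z b
  obtain ⟨r, rfl⟩ := i.stalkMap_surjective z s
  refine ⟨W.residue (i z) r, ?_⟩
  have := congr($(Scheme.residue_residueFieldMap i z) r)
  exact this

variable {X Y X' Y' : Scheme.{u}} {f : X ⟶ Y} {g : Y' ⟶ Y} {f' : X' ⟶ Y'} {g' : X' ⟶ X}

/-- For a cartesian square and a point `x` of `X` whose residue field is that of `f x`, the fibre of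
`g'` over `x` identifies with the fibre of `g` over `f x`. -/
theorem exists_fiber_iso (sq : IsPullback g' f' f g) (x : X)
    (hx : Function.Bijective (f.residueFieldMap x).hom) :
    ∃ φ : g'.fiber x ≅ g.fiber (f x), φ.hom ≫ g.fiberι (f x) = g'.fiberι x ≫ f' := by
  haveI : IsIso (f.residueFieldMap x) := (ConcreteCategory.isIso_iff_bijective _).mpr hx
  have h1 : IsPullback (g'.fiberι x) (g'.fiberToSpecResidueField x) g'
      (X.fromSpecResidueField x) := IsPullback.of_hasPullback _ _
  have h2 : IsPullback (g'.fiberι x ≫ f') (g'.fiberToSpecResidueField x) g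
      (X.fromSpecResidueField x ≫ f) := h1.paste_horiz sq.flip
  have h3 : IsPullback (g.fiberι (f x)) (g.fiberToSpecResidueField (f x)) g
      (Y.fromSpecResidueField (f x)) := IsPullback.of_hasPullback _ _
  have h2' : IsPullback (g'.fiberι x ≫ f')
      (g'.fiberToSpecResidueField x ≫ Spec.map (f.residueFieldMap x)) g
      (Y.fromSpecResidueField (f x)) := by
    refine IsPullback.of_iso h2 (Iso.refl _) (Iso.refl _) (asIso (Spec.map (f.residueFieldMap x)))
      (Iso.refl _) (by simp) (by simp) (by simp) ?_
    simp [Scheme.Hom.SpecMap_residueFieldMap_fromSpecResidueField]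
  exact ⟨h2'.isoIsPullback _ _ h3, IsPullback.isoIsPullback_hom_fst _ _ _ _⟩

/-- Injectivity of `f'` on the fibre of `g'` over `x`. -/
theorem eq_of_fiber (sq : IsPullback g' f' f g) (x : X)
    (hx : Function.Bijective (f.residueFieldMap x).hom) {a' b' : X'} (ha : g' a' = x)
    (hb : g' b' = x) (hab : f' a' = f' b') : a' = b' := by
  obtain ⟨φ, hφ⟩ := exists_fiber_iso sq x hx
  obtain ⟨ta, rfl⟩ : a' ∈ Set.range (g'.fiberι x) := by rw [Scheme.Hom.range_fiberι]; exact ha
  obtain ⟨tb, rfl⟩ : b' ∈ Set.range (g'.fiberι x) := by rw [Scheme.Hom.range_fiberι]; exact hb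
  have h1 : ∀ t, f' (g'.fiberι x t) = g.fiberι (f x) (φ.hom t) := fun t => by
    rw [← Scheme.Hom.comp_apply, ← hφ, Scheme.Hom.comp_apply]
  rw [h1, h1] at hab
  have h2 := (g.fiberι (f x)).isEmbedding.injective hab
  have h3 : ta = tb := by
    have := congrArg φ.inv h2
    simpa using this
  rw [h3]

/-- Surjectivity of `f'` from the fibre of `g'` over `x` onto the fibre of `g` over `f x`. -/
theorem exists_of_fiber (sq : IsPullback g' f' f g) (x : X)
    (hx : Function.Bijective (f.residueFieldMap x).hom) {y' : Y'} (hy : g y' = f x) :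
    ∃ a' : X', g' a' = x ∧ f' a' = y' := by
  obtain ⟨φ, hφ⟩ := exists_fiber_iso sq x hx
  obtain ⟨s, rfl⟩ : y' ∈ Set.range (g.fiberι (f x)) := by rw [Scheme.Hom.range_fiberι]; exact hy
  refine ⟨g'.fiberι x (φ.inv s), ?_, ?_⟩
  · have : g'.fiberι x (φ.inv s) ∈ g' ⁻¹' {x} := by
      rw [← Scheme.Hom.range_fiberι]; exact ⟨_, rfl⟩
    exact this
  · rw [← Scheme.Hom.comp_apply, ← hφ, Scheme.Hom.comp_apply]
    congr 1
    simp

/-- `f'` reflects specializations on the fibre of `g'` over `x`. -/
theorem specializes_of_fiber (sq : IsPullback g' f' f g) (x : X)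
    (hx : Function.Bijective (f.residueFieldMap x).hom) {a' b' : X'} (ha : g' a' = x)
    (hb : g' b' = x) (hab : f' a' ⤳ f' b') : a' ⤳ b' := by
  obtain ⟨φ, hφ⟩ := exists_fiber_iso sq x hx
  obtain ⟨ta, rfl⟩ : a' ∈ Set.range (g'.fiberι x) := by rw [Scheme.Hom.range_fiberι]; exact ha
  obtain ⟨tb, rfl⟩ : b' ∈ Set.range (g'.fiberι x) := by rw [Scheme.Hom.range_fiberι]; exact hb
  have h1 : ∀ t, f' (g'.fiberι x t) = g.fiberι (f x) (φ.hom t) := fun t => by
    rw [← Scheme.Hom.comp_apply, ← hφ, Scheme.Hom.comp_apply]
  rw [h1, h1] at hab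
  have h2 : φ.hom ta ⤳ φ.hom tb :=
    (g.fiberι (f x)).isEmbedding.isInducing.specializes_iff.mp hab
  have h3 : ta ⤳ tb := by
    have := h2.map φ.inv.continuous
    simpa using this
  exact h3.map (g'.fiberι x).continuous

/-- `f'` induces isomorphisms of residue fields at the points of the fibre of `g'` over a point
`x` whose residue field is that of `f x`. -/
theorem bijective_residueFieldMap_of_fiber (sq : IsPullback g' f' f g) (x' : X')
    (hx : Function.Bijective (f.residueFieldMap (g' x')).hom) :
    Function.Bijective (f'.residueFieldMap x').hom := by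
  obtain ⟨φ, hφ⟩ := exists_fiber_iso sq (g' x') hx
  have hpre : ∀ {Z W : Scheme.{u}} (i : Z ⟶ W) [IsPreimmersion i] (z : Z),
      IsIso (i.residueFieldMap z) := fun i _ z =>
    (ConcreteCategory.isIso_iff_bijective _).mpr (bijective_residueFieldMap_of_isPreimmersion i z)
  obtain ⟨t, htx⟩ : ∃ t, g'.fiberι (g' x') t = x' := ⟨_, g'.fiberι_asFiber x'⟩
  have i1 : IsIso ((g.fiberι (f (g' x'))).residueFieldMap (φ.hom t)) := hpre _ _
  have i2 : IsIso (φ.hom.residueFieldMap t) := inferInstance
  have i3 : IsIso ((g'.fiberι (g' x')).residueFieldMap t) := hpre _ _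
  have e1 : IsIso ((φ.hom ≫ g.fiberι (f (g' x'))).residueFieldMap t) := by
    rw [Scheme.residueFieldMap_comp]
    exact @IsIso.comp_isIso _ _ _ _ _ _ _ i1 i2
  have e2 : IsIso ((g'.fiberι (g' x') ≫ f').residueFieldMap t) := by
    rw [Scheme.Hom.residueFieldMap_congr hφ] at e1
    exact @IsIso.of_isIso_comp_left _ _ _ _ _ _ _ inferInstance e1
  rw [Scheme.residueFieldMap_comp] at e2
  have e3 : IsIso (f'.residueFieldMap (g'.fiberι (g' x') t)) :=
    @IsIso.of_isIso_comp_right _ _ _ _ _ _ _ i3 e2
  have e4 := (ConcreteCategory.isIso_iff_bijective _).mp e3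
  exact htx ▸ e4

/-- `RadPt.IsBirational` is stable under flat base change. -/
theorem isBirational_of_isPullback_flat [Flat g] (sq : IsPullback g' f' f g)
    (hf : RadPt.IsBirational f) : RadPt.IsBirational f' := by
  haveI : Flat g' := MorphismProperty.of_isPullback (P := @Flat) sq.flip inferInstance
  have Fg : ∀ {y' : Y'}, y' ∈ genericPoints Y' → g y' ∈ genericPoints Y := fun h =>
    map_mem_genericPoints_of_generalizingMap (Flat.generalizingMap g) h
  have Fg' : ∀ {x' : X'}, x' ∈ genericPoints X' → g' x' ∈ genericPoints X := fun h =>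
    map_mem_genericPoints_of_generalizingMap (Flat.generalizingMap g') h
  have hw : ∀ x' : X', f (g' x') = g (f' x') := fun x' => by
    rw [← Scheme.Hom.comp_apply, ← Scheme.Hom.comp_apply, sq.w]
  -- residue field triviality at points of `X` over generic points of `Y`
  have hres : ∀ x : X, f x ∈ genericPoints Y → Function.Bijective (f.residueFieldMap x).hom :=
    fun x hx => (hf.2 (f x) hx).2 x rfl
  refine ⟨⟨?_, ?_, ?_⟩, ?_⟩
  · -- maps generic points to generic points
    intro x' hx'
    have hx := Fg' hx'
    have hy : f (g' x') ∈ genericPoints Y := hf.1.mapsTo hx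
    apply mem_genericPoints_of_forall
    intro η' hη'
    have h1 : g η' = f (g' x') := by
      have : g η' ⤳ g (f' x') := hη'.map g.continuous
      rw [← hw] at this
      exact eq_of_specializes_of_mem_genericPoints hy this
    obtain ⟨ξ', hξ1, hξ2⟩ := exists_of_fiber sq (g' x') (hres _ hy) h1
    have h2 : ξ' ⤳ x' := specializes_of_fiber sq (g' x') (hres _ hy) hξ1 rfl (hξ2 ▸ hη')
    have h3 := eq_of_specializes_of_mem_genericPoints hx' h2
    rw [← hξ2, h3]
  · -- injective on generic points
    intro a' ha' b' hb' hab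
    have hxa := Fg' ha'
    have hxb := Fg' hb'
    have h1 : g' a' = g' b' := hf.1.injOn hxa hxb (by rw [hw, hw, hab])
    exact eq_of_fiber sq (g' b') (hres _ (hf.1.mapsTo hxb)) h1 rfl hab
  · -- surjective onto generic points
    intro y' hy'
    have hy := Fg hy'
    obtain ⟨x, hx, hxy⟩ := hf.1.surjOn hy
    have hres' := hres x (hxy ▸ hy)
    obtain ⟨x', hx'1, hx'2⟩ := exists_of_fiber sq x hres' hxy.symm
    refine ⟨x', ?_, hx'2⟩
    apply mem_genericPoints_of_forall
    intro ξ' hξ'
    have h1 : g' ξ' = x := by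
      have : g' ξ' ⤳ g' x' := hξ'.map g'.continuous
      rw [hx'1] at this
      exact eq_of_specializes_of_mem_genericPoints hx this
    have h2 : f' ξ' = f' x' := by
      have : f' ξ' ⤳ f' x' := hξ'.map f'.continuous
      rw [hx'2] at this ⊢
      exact eq_of_specializes_of_mem_genericPoints hy' this
    exact eq_of_fiber sq x hres' h1 hx'1 h2
  · intro y' hy'
    have hy := Fg hy'
    refine ⟨?_, ?_⟩
    · intro a' b' ha hb
      have h1 : f (g' a') = g y' := by rw [hw, ha]
      have h2 : f (g' b') = g y' := by rw [hw, hb]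
      have h3 : g' a' = g' b' := (hf.2 _ hy).1 _ _ h1 h2
      exact eq_of_fiber sq (g' b') (hres _ (h2 ▸ hy)) h3 rfl (ha.trans hb.symm)
    · intro x' hx'
      have h1 : f (g' x') = g y' := by rw [hw, hx']
      exact bijective_residueFieldMap_of_fiber sq x' (hres _ (h1 ▸ hy))

end Sch

end Groth.Agent.Lib.Helper14.BiratBC
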