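import Mathlib

set_option autoImplicit false

namespace Groth.Agent.Lib.helper14.BiratRat

open AlgebraicGeometry CategoryTheory

universe u

variable {X Y : Scheme.{u}}

/-- the partial map underlying a partial isomorphism is dominant -/
instance isDominant_toPartialMap_hom (e : X.PartialIso Y) : IsDominant e.toPartialMap.hom := by
  show IsDominant (e.iso.hom ≫ e.target.ι)
  have := Opens.isDominant_ι e.dense_target
  infer_instance

section Fwd

variable [IrreducibleSpace X] [IrreducibleSpace Y]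

lemma comp_equiv_id_of (f : X.PartialMap Y) [IsDominant f.hom] (g : Y.PartialMap X)
    (s : f.domain.toScheme ⟶ g.domain.toScheme) (h1 : s ≫ g.domain.ι = f.hom)
    (h2 : s ≫ g.hom = f.domain.ι) : (f.comp g).equiv (Scheme.PartialMap.id X) := by
  refine ⟨(f.comp g).domain, (f.comp g).dense_domain, le_rfl, le_top, ?_⟩
  have key : f.hom ∣_ g.domain = (f.hom ⁻¹ᵁ g.domain).ι ≫ s := by
    apply (cancel_mono g.domain.ι).1
    rw [morphismRestrict_ι, Category.assoc, h1]
  simp only [Scheme.PartialMap.restrict_hom, Scheme.PartialMap.comp_hom, key, Category.assoc, h2,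
    Scheme.Hom.isoImage_inv_ι]
  erw [Scheme.homOfLE_ι]
  simp only [Scheme.Hom.toPartialMap_hom, Category.comp_id, Scheme.topIso_hom]
  exact (Scheme.homOfLE_ι X _).symm

lemma comp_symm_equiv_id (e : X.PartialIso Y) :
    (e.toPartialMap.comp e.symm.toPartialMap).equiv (Scheme.PartialMap.id X) :=
  comp_equiv_id_of e.toPartialMap e.symm.toPartialMap e.iso.hom rfl
    (Iso.hom_inv_id_assoc e.iso e.source.ι)

end Fwd

section Bwd

variable [IrreducibleSpace X] [IrreducibleSpace Y]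

lemma exists_lift_of_comp_equiv_id (f : X.PartialMap Y) [IsDominant f.hom] (g : Y.PartialMap X)
    (h : (f.comp g).equiv (Scheme.PartialMap.id X)) :
    ∃ (W : X.Opens) (_ : Dense (W : Set X)) (hWf : W ≤ f.domain)
      (a' : W.toScheme ⟶ g.domain.toScheme),
      a' ≫ g.domain.ι = X.homOfLE hWf ≫ f.hom ∧ a' ≫ g.hom = W.ι := by
  obtain ⟨W, hW, hWl, hWr, e⟩ := h
  have hWl' : W ≤ f.domain.ι ''ᵁ f.hom ⁻¹ᵁ g.domain := hWl
  have hWf : W ≤ f.domain := hWl'.trans (Scheme.Opens.ι_image_le _ _)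
  refine ⟨W, hW, hWf, X.homOfLE hWl' ≫ (f.domain.ι.isoImage _).inv ≫ f.hom ∣_ g.domain, ?_, ?_⟩
  · simp only [Category.assoc, morphismRestrict_ι]
    have : X.homOfLE hWl' ≫ (f.domain.ι.isoImage (f.hom ⁻¹ᵁ g.domain)).inv ≫
        (f.hom ⁻¹ᵁ g.domain).ι = X.homOfLE hWf := by
      apply (cancel_mono f.domain.ι).1
      simp only [Category.assoc, Scheme.Hom.isoImage_inv_ι, Scheme.homOfLE_ι]
    rw [← this]
    simp only [Category.assoc]
  · simp only [Scheme.PartialMap.restrict_hom, Scheme.PartialMap.comp_hom,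
      Scheme.Hom.toPartialMap_hom, Category.comp_id, Scheme.topIso_hom] at e
    simp only [Category.assoc]
    erw [e]
    exact Scheme.homOfLE_ι X _

/-- abstract gluing step: the key identity `(a ∣_ W') ≫ b = ι ≫ ι`. -/
lemma restrict_comp_eq {W : X.Opens} {W' D : Y.Opens} (hWg : W' ≤ D) (a : W.toScheme ⟶ Y)
    (a' : W.toScheme ⟶ D.toScheme) (gh : D.toScheme ⟶ X) (A1 : a' ≫ D.ι = a)
    (A2 : a' ≫ gh = W.ι) :
    (a ∣_ W') ≫ Y.homOfLE hWg ≫ gh = (a ⁻¹ᵁ W').ι ≫ W.ι := by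
  have : (a ∣_ W') ≫ Y.homOfLE hWg = (a ⁻¹ᵁ W').ι ≫ a' := by
    apply (cancel_mono D.ι).1
    simp only [Category.assoc, Scheme.homOfLE_ι, morphismRestrict_ι, A1]
  rw [← Category.assoc, this, Category.assoc, A2]

/-- one half of the mutually inverse pair. -/
lemma exists_lift_restrict {W : X.Opens} {W' : Y.Opens} (a : W.toScheme ⟶ Y)
    (b : W'.toScheme ⟶ X) (h1 : (a ∣_ W') ≫ b = (a ⁻¹ᵁ W').ι ≫ W.ι) :
    ∃ φ : (a ⁻¹ᵁ W').toScheme ⟶ (b ⁻¹ᵁ W).toScheme, φ ≫ (b ⁻¹ᵁ W).ι = a ∣_ W' := by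
  refine ⟨IsOpenImmersion.lift (b ⁻¹ᵁ W).ι (a ∣_ W') ?_, IsOpenImmersion.lift_fac _ _ _⟩
  rw [Scheme.Opens.range_ι]
  rintro _ ⟨x, rfl⟩
  show b ((a ∣_ W') x) ∈ W
  have : b ((a ∣_ W') x) = ((a ⁻¹ᵁ W').ι ≫ W.ι) x := by
    rw [← h1]; rfl
  rw [this]
  exact (((a ⁻¹ᵁ W').ι x) : W).2

lemma nonempty_iso_of_restrict {W : X.Opens} {W' : Y.Opens} (a : W.toScheme ⟶ Y)
    (b : W'.toScheme ⟶ X) (h1 : (a ∣_ W') ≫ b = (a ⁻¹ᵁ W').ι ≫ W.ι)
    (h2 : (b ∣_ W) ≫ a = (b ⁻¹ᵁ W).ι ≫ W'.ι) :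
    Nonempty ((a ⁻¹ᵁ W').toScheme ≅ (b ⁻¹ᵁ W).toScheme) := by
  obtain ⟨φ, hφ⟩ := exists_lift_restrict a b h1
  obtain ⟨ψ, hψ⟩ := exists_lift_restrict b a h2
  refine ⟨⟨φ, ψ, ?_, ?_⟩⟩
  · apply (cancel_mono (a ⁻¹ᵁ W').ι).1
    apply (cancel_mono W.ι).1
    simp only [Category.assoc, Category.id_comp]
    rw [reassoc_of% hψ, morphismRestrict_ι, reassoc_of% hφ, h1]
  · apply (cancel_mono (b ⁻¹ᵁ W).ι).1
    apply (cancel_mono W'.ι).1
    simp only [Category.assoc, Category.id_comp]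
    rw [reassoc_of% hφ, morphismRestrict_ι, reassoc_of% hψ, h2]

end Bwd

section Main

variable [IsIntegral X] [IsIntegral Y]

lemma dense_preimage_of_dominant {W : X.Opens} [Nonempty W] {W' : Y.Opens}
    (hW' : Dense (W' : Set Y)) (a : W.toScheme ⟶ Y) [IsDominant a] :
    Dense ((a ⁻¹ᵁ W' : W.toScheme.Opens) : Set W.toScheme) := by
  refine (a ⁻¹ᵁ W').2.dense ?_
  have := a.denseRange.inter_open_nonempty _ W'.2 hW'.nonempty
  obtain ⟨_, hy, x, rfl⟩ := this
  exact ⟨x, hy⟩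

theorem birational_of_partialMaps (f : X.PartialMap Y) [IsDominant f.hom] (g : Y.PartialMap X)
    [IsDominant g.hom] (h1 : (f.comp g).equiv (Scheme.PartialMap.id X))
    (h2 : (g.comp f).equiv (Scheme.PartialMap.id Y)) : Scheme.Birational X Y := by
  obtain ⟨W, hW, hWf, a', A1, A2⟩ := exists_lift_of_comp_equiv_id f g h1
  obtain ⟨W', hW', hWg, b', B1, B2⟩ := exists_lift_of_comp_equiv_id g f h2
  have : Nonempty W := by
    obtain ⟨x, hx⟩ := hW.nonempty
    exact ⟨⟨x, hx⟩⟩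
  have : Nonempty W' := by
    obtain ⟨x, hx⟩ := hW'.nonempty
    exact ⟨⟨x, hx⟩⟩
  have : IsDominant (X.homOfLE hWf) := Opens.isDominant_homOfLE hW hWf
  have : IsDominant (Y.homOfLE hWg) := Opens.isDominant_homOfLE hW' hWg
  have k1 := restrict_comp_eq hWg (X.homOfLE hWf ≫ f.hom) a' g.hom A1 A2
  have k2 := restrict_comp_eq hWf (Y.homOfLE hWg ≫ g.hom) b' f.hom B1 B2
  obtain ⟨e⟩ := nonempty_iso_of_restrict _ _ k1 k2
  have hWW' : Scheme.Birational W.toScheme W'.toScheme :=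
    ⟨{ source := _
       dense_source := dense_preimage_of_dominant hW' (X.homOfLE hWf ≫ f.hom)
       target := _
       dense_target := dense_preimage_of_dominant hW (Y.homOfLE hWg ≫ g.hom)
       iso := e }⟩
  exact ((Scheme.Opens.birational_of_dense W hW).symm.trans hWW').trans
    (Scheme.Opens.birational_of_dense W' hW')

theorem birational_iff :
    Scheme.Birational X Y ↔
      ∃ (f : X ⤏ Y) (g : Y ⤏ X) (_ : f.IsDominant) (_ : g.IsDominant),
        f.comp g = Scheme.RationalMap.id X ∧ g.comp f = Scheme.RationalMap.id Y := by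
  constructor
  · rintro ⟨e⟩
    refine ⟨e.toRationalMap, e.symm.toRationalMap, inferInstance, inferInstance, ?_, ?_⟩
    · rw [Scheme.RationalMap.toRationalMap_comp, Scheme.PartialMap.toRationalMap_eq_iff]
      exact comp_symm_equiv_id e
    · rw [Scheme.RationalMap.toRationalMap_comp, Scheme.PartialMap.toRationalMap_eq_iff]
      exact comp_symm_equiv_id e.symm
  · rintro ⟨f, g, hf, hg, h1, h2⟩
    refine birational_of_partialMaps f.representative g.representative ?_ ?_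
    · rw [← Scheme.PartialMap.toRationalMap_eq_iff, ← Scheme.RationalMap.comp_def,
        Scheme.RationalMap.toRationalMap_representative]
      exact h1
    · rw [← Scheme.PartialMap.toRationalMap_eq_iff, ← Scheme.RationalMap.comp_def,
        Scheme.RationalMap.toRationalMap_representative]
      exact h2

end Main

end Groth.Agent.Lib.helper14.BiratRat
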