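import Mathlib
import Groth.Agent.Lib.Helper14.Rigid3
import Groth.Agent.Lib.Helper8.FibrationFlat

/-!
# helper14: factorization through a proper surjection with `O_S ≅ p_* O_X`

* `surjective_of_isIso_app`: proper + `O_S(V) ≅ O_X(p⁻¹V)` ⇒ surjective.
* `eq_of_comp_eq`: such a `p` is an epimorphism of schemes.
* `exists_factor`: a morphism `f : X ⟶ Y` which is constant on the (topological) fibres of `p`
  factors through `p`.
-/

set_option autoImplicit false
universe u
open CategoryTheory CategoryTheory.Limits AlgebraicGeometry Opposite TopologicalSpace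

namespace Groth.Agent.Lib.Helper14.SteinFactor

open Groth.Agent.Lib.Helper14.Rigid

variable {X S Y : Scheme.{u}}

theorem surjective_of_isIso_app (f : X ⟶ S) [IsProper f] (hf : ∀ U : S.Opens, IsIso (f.app U)) :
    Surjective f := by
  refine ⟨fun y => ?_⟩
  by_contra hy
  have hcl : IsClosed (Set.range f) := f.isClosedMap.isClosed_range
  let V : S.Opens := ⟨(Set.range f)ᶜ, hcl.isOpen_compl⟩
  have hyV : y ∈ V := hy
  have hempty : f ⁻¹ᵁ V = ⊥ := by
    ext x
    simp [V]
  haveI : Nonempty V := ⟨⟨y, hyV⟩⟩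
  haveI := hf V
  have h1 : Subsingleton Γ(X, f ⁻¹ᵁ V) := by
    rw [hempty]
    infer_instance
  have h2 : Function.Injective (f.app V).hom :=
    ((ConcreteCategory.isIso_iff_bijective (f.app V)).mp inferInstance).1
  haveI : Subsingleton Γ(S, V) := h2.subsingleton
  exact not_subsingleton Γ(S, V) inferInstance

/-- A surjective morphism with `O_S(V) ≅ O_X(p⁻¹V)` for all opens is an epimorphism of schemes. -/
theorem eq_of_comp_eq (p : X ⟶ S) [Surjective p] (hp : ∀ V : S.Opens, IsIso (p.app V))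
    {t t' : S ⟶ Y} (h : p ≫ t = p ≫ t') : t = t' := by
  apply Scheme.hom_ext_of_forall
  intro z
  obtain ⟨x, rfl⟩ := p.surjective z
  have hz : t.base (p.base x) = t'.base (p.base x) := by
    have := congrArg (fun φ : X ⟶ Y => φ.base x) h
    simpa using this
  obtain ⟨_, ⟨(U : Y.Opens), (hU : IsAffineOpen U), rfl⟩, hxU, -⟩ :=
    Y.isBasis_affineOpens.exists_subset_of_mem_open
      (Set.mem_univ (t.base (p.base x))) isOpen_univ
  let V : S.Opens := t ⁻¹ᵁ U ⊓ t' ⁻¹ᵁ U
  have hxV : p.base x ∈ V := ⟨hxU, by show t'.base _ ∈ U; rw [← hz]; exact hxU⟩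
  refine ⟨V, hxV, ?_⟩
  haveI : IsAffine U.toScheme := hU
  have hr1 : Set.range (V.ι ≫ t).base ⊆ Set.range U.ι.base := by
    rintro _ ⟨w, rfl⟩
    rw [Scheme.Opens.range_ι]
    exact w.2.1
  have hr2 : Set.range (V.ι ≫ t').base ⊆ Set.range U.ι.base := by
    rintro _ ⟨w, rfl⟩
    rw [Scheme.Opens.range_ι]
    exact w.2.2
  let φ := IsOpenImmersion.lift U.ι (V.ι ≫ t) hr1
  let φ' := IsOpenImmersion.lift U.ι (V.ι ≫ t') hr2
  have hφ : φ ≫ U.ι = V.ι ≫ t := IsOpenImmersion.lift_fac _ _ _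
  have hφ' : φ' ≫ U.ι = V.ι ≫ t' := IsOpenImmersion.lift_fac _ _ _
  have hpp : (p ∣_ V) ≫ φ = (p ∣_ V) ≫ φ' := by
    rw [← cancel_mono U.ι, Category.assoc, Category.assoc, hφ, hφ', morphismRestrict_ι_assoc,
      morphismRestrict_ι_assoc, h]
  haveI : IsIso (p ∣_ V).appTop := by
    have := hp V
    rw [restrict_appTop_eq]
    infer_instance
  have hφφ : φ = φ' := by
    apply ext_of_isAffine
    have := congrArg Scheme.Hom.appTop hpp
    rw [Scheme.Hom.comp_appTop, Scheme.Hom.comp_appTop] at this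
    exact (cancel_mono _).mp this
  rw [← hφ, ← hφ', hφφ]

theorem epi_of_isIso_app (p : X ⟶ S) [Surjective p] (hp : ∀ V : S.Opens, IsIso (p.app V)) :
    Epi p := ⟨fun _ _ h => eq_of_comp_eq p hp h⟩

theorem comp_eq_of_local_factor (p : X ⟶ S) (f : X ⟶ Y) (V : S.Opens) (t : V.toScheme ⟶ Y)
    (ht : (p ⁻¹ᵁ V).ι ≫ f = (p ∣_ V) ≫ t) {W' : Scheme.{u}} (x : W' ⟶ X) (w : W' ⟶ V.toScheme)
    (h : x ≫ p = w ≫ V.ι) : x ≫ f = w ≫ t := by
  have hr : Set.range x.base ⊆ Set.range (p ⁻¹ᵁ V).ι.base := by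
    rintro _ ⟨a, rfl⟩
    rw [Scheme.Opens.range_ι]
    show p.base (x.base a) ∈ V
    have h1 := congrArg (fun φ : W' ⟶ S => φ.base a) h
    simp only [Scheme.Hom.comp_base, TopCat.comp_app] at h1
    rw [h1]
    exact (w.base a).2
  let l := IsOpenImmersion.lift (p ⁻¹ᵁ V).ι x hr
  have hl : l ≫ (p ⁻¹ᵁ V).ι = x := IsOpenImmersion.lift_fac _ _ _
  have hl2 : l ≫ (p ∣_ V) = w := by
    rw [← cancel_mono V.ι, Category.assoc, morphismRestrict_ι, ← Category.assoc, hl, h]
  rw [← hl, Category.assoc, ht, ← Category.assoc, hl2]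

/-- **Factorization.** `p` proper surjective with `O_S ≅ p_* O_X`; a morphism constant on the
fibres of `p` factors through `p`. -/
theorem exists_factor (p : X ⟶ S) [IsProper p] [Surjective p]
    (hp : ∀ V : S.Opens, IsIso (p.app V)) (f : X ⟶ Y) (hTT : ∀ s, s ∈ TT p f) :
    ∃ t : S ⟶ Y, f = p ≫ t := by
  choose V hsV t ht using fun s => exists_local_factor_of_mem_TT p f hp s (hTT s)
  have hcov : IsOpenCover V := by
    rw [IsOpenCover, eq_top_iff]
    intro s _
    exact Opens.mem_iSup.mpr ⟨s, hsV s⟩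
  let 𝒰 : S.OpenCover := S.openCoverOfIsOpenCover V hcov
  have hcompat : ∀ s s', pullback.fst (𝒰.f s) (𝒰.f s') ≫ t s = pullback.snd _ _ ≫ t s' := by
    intro s s'
    let j : pullback (𝒰.f s) (𝒰.f s') ⟶ S := pullback.fst _ _ ≫ 𝒰.f s
    have hj : j = pullback.snd _ _ ≫ 𝒰.f s' := pullback.condition
    haveI : IsOpenImmersion j := by dsimp only [j]; infer_instance
    have hst : ∀ U, IsIso ((pullback.snd p j).app U) :=
      Groth.Agent.Lib.helper8.FibFlat.isIso_app_of_isPullback_of_flat p j (pullback.fst p j)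
        (pullback.snd p j) (IsPullback.of_hasPullback p j) hp
    haveI : Surjective (pullback.snd p j) := inferInstance
    apply eq_of_comp_eq (pullback.snd p j) hst
    have e1 : pullback.fst p j ≫ f = pullback.snd p j ≫ pullback.fst _ _ ≫ t s :=
      comp_eq_of_local_factor p f (V s) (t s) (ht s) (pullback.fst p j)
        (pullback.snd p j ≫ pullback.fst _ _) (by
          rw [pullback.condition, Category.assoc]; rfl)
    have e2 : pullback.fst p j ≫ f = pullback.snd p j ≫ pullback.snd _ _ ≫ t s' :=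
      comp_eq_of_local_factor p f (V s') (t s') (ht s') (pullback.fst p j)
        (pullback.snd p j ≫ pullback.snd _ _) (by
          rw [pullback.condition, hj, Category.assoc]; rfl)
    exact e1.symm.trans e2
  refine ⟨𝒰.glueMorphisms t hcompat, ?_⟩
  refine Scheme.Cover.hom_ext (𝒰.pullback₁ p) _ _ (fun s => ?_)
  have e1 : pullback.fst p (𝒰.f s) ≫ f = pullback.snd p (𝒰.f s) ≫ t s :=
    comp_eq_of_local_factor p f (V s) (t s) (ht s) (pullback.fst p (𝒰.f s))
      (pullback.snd p (𝒰.f s)) (by rw [pullback.condition]; rfl)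
  show pullback.fst p (𝒰.f s) ≫ f = pullback.fst p (𝒰.f s) ≫ p ≫ 𝒰.glueMorphisms t hcompat
  rw [e1, pullback.condition_assoc, Scheme.Cover.ι_glueMorphisms]

end Groth.Agent.Lib.Helper14.SteinFactor
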