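import Mathlib
import Groth.Agent.Lib.Helper14.SteinFactor

/-!
# helper14: rigidity without separatedness of the target (Jacobson base)

`p : P ⟶ S` flat, locally of finite presentation, with local factorizations on the collapse set
`TT p Φ` of `Φ : P ⟶ Y` (no separatedness assumption on `Y`).  If the fibres of `p` over closed points
are connected and `S` is a connected Jacobson space, then `TT p Φ` is everything as soon as it is
non-empty.

* `eq_of_eq_on_closedPoints`: two continuous maps from a Jacobson space to a T0 space agreeing on the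
  closed points are equal.
* `mem_TT_of_mem_closure`, `TT_eq_univ_of_jacobson`.
-/

set_option autoImplicit false
universe u
open CategoryTheory CategoryTheory.Limits AlgebraicGeometry Opposite TopologicalSpace

namespace Groth.Agent.Lib.Helper14.Blanchard

open Groth.Agent.Lib.Helper14.Rigid Groth.Agent.Lib.Helper14.SteinFactor

theorem eq_of_eq_on_closedPoints {P Y : Type*} [TopologicalSpace P] [JacobsonSpace P]
    [TopologicalSpace Y] [T0Space Y] (u₁ u₂ : P → Y) (h₁ : Continuous u₁) (h₂ : Continuous u₂)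
    (h : ∀ z, IsClosed ({z} : Set P) → u₁ z = u₂ z) (z : P) : u₁ z = u₂ z := by
  have key : ∀ (v₁ v₂ : P → Y), Continuous v₁ → Continuous v₂ →
      (∀ z, IsClosed ({z} : Set P) → v₁ z = v₂ z) → ∀ O : Set Y, IsOpen O → ∀ z, v₁ z ∈ O →
      v₂ z ∈ O := by
    intro v₁ v₂ hv₁ hv₂ hv O hO z hz
    by_contra hcon
    have hne : (v₁ ⁻¹' O ∩ (v₂ ⁻¹' O)ᶜ).Nonempty := ⟨z, hz, hcon⟩
    have hlc : IsLocallyClosed (v₁ ⁻¹' O ∩ (v₂ ⁻¹' O)ᶜ) :=
      (hO.preimage hv₁).isLocallyClosed.inter (hO.preimage hv₂).isClosed_compl.isLocallyClosed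
    obtain ⟨c, ⟨hc1, hc2⟩, hc3⟩ := nonempty_inter_closedPoints hne hlc
    apply hc2
    show v₂ c ∈ O
    rw [← hv c hc3]
    exact hc1
  apply Inseparable.eq
  rw [inseparable_iff_forall_isOpen]
  intro O hO
  exact ⟨key u₁ u₂ h₁ h₂ h O hO z, key u₂ u₁ h₂ h₁ (fun z hz => (h z hz).symm) O hO z⟩

section

variable {P S Y : Scheme.{u}} (p : P ⟶ S) (Φ : P ⟶ Y)

/-- if `Φ` is constant on the fibres of `p` over points of a set whose closure contains `g`, and
the fibre over `g` is connected, then `Φ` is constant on the fibre over `g`. -/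
theorem mem_TT_of_mem_closure [Flat p] [LocallyOfFinitePresentation p]
    (hloc : ∀ s ∈ TT p Φ, ∃ V : S.Opens, s ∈ V ∧ ∃ t : V.toScheme ⟶ Y,
      (p ⁻¹ᵁ V).ι ≫ Φ = (p ∣_ V) ≫ t)
    (g : S) (hconn : _root_.IsPreconnected (p.base ⁻¹' {g})) (hg : g ∈ closure (TT p Φ)) :
    g ∈ TT p Φ := by
  -- local constancy
  have hlc : ∀ x₀ : P, p.base x₀ = g → ∃ O : Set P, IsOpen O ∧ x₀ ∈ O ∧
      ∀ x x' : P, x ∈ O → x' ∈ O → p.base x = g → p.base x' = g → Φ.base x = Φ.base x' := by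
    intro x₀ hx₀
    obtain ⟨_, ⟨(U : Y.Opens), (hU : IsAffineOpen U), rfl⟩, hxU, -⟩ :=
      Y.isBasis_affineOpens.exists_subset_of_mem_open (Set.mem_univ (Φ.base x₀)) isOpen_univ
    haveI : IsAffine U.toScheme := hU
    let V : P.Opens := Φ ⁻¹ᵁ U
    refine ⟨V, V.isOpen, hxU, ?_⟩
    intro x x' hxV hx'V hx hx'
    let pV : V.toScheme ⟶ S := V.ι ≫ p
    have hr : Set.range (V.ι ≫ Φ).base ⊆ Set.range U.ι.base := by
      rintro _ ⟨w, rfl⟩
      rw [Scheme.Opens.range_ι]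
      exact w.2
    let φ : V.toScheme ⟶ U.toScheme := IsOpenImmersion.lift U.ι (V.ι ≫ Φ) hr
    have hφ : φ ≫ U.ι = V.ι ≫ Φ := IsOpenImmersion.lift_fac _ _ _
    have hpx : pV.base ⟨x, hxV⟩ = pV.base ⟨x', hx'V⟩ := by
      show p.base x = p.base x'
      rw [hx, hx']
    obtain ⟨w, hw1, hw2⟩ := Scheme.Pullback.exists_preimage_pullback (f := pV) (g := pV)
      ⟨x, hxV⟩ ⟨x', hx'V⟩ hpx
    let c₁ : pullback pV pV ⟶ U.toScheme := pullback.fst pV pV ≫ φ
    let c₂ : pullback pV pV ⟶ U.toScheme := pullback.snd pV pV ≫ φ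
    let ρ : pullback pV pV ⟶ S := pullback.fst pV pV ≫ pV
    have hρw : ρ.base w = g := by
      show pV.base ((pullback.fst pV pV).base w) = g
      rw [hw1]
      exact hx
    haveI : UniversallyOpen ρ := by dsimp only [ρ, pV]; infer_instance
    have hCCclosed : IsClosed (Set.range (equalizer.ι c₁ c₂).base) :=
      (equalizer.ι c₁ c₂).isClosedEmbedding.isClosed_range
    have hA : ρ.base ⁻¹' (TT p Φ) ⊆ Set.range (equalizer.ι c₁ c₂).base := by
      intro w' hw'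
      obtain ⟨Vs, hsVs, t, ht⟩ := hloc _ hw'
      let O : (pullback pV pV).Opens := ρ ⁻¹ᵁ Vs
      have hrO : Set.range (O.ι ≫ ρ).base ⊆ Set.range Vs.ι.base := by
        rintro _ ⟨a, rfl⟩
        rw [Scheme.Opens.range_ι]
        exact a.2
      let wl : O.toScheme ⟶ Vs.toScheme := IsOpenImmersion.lift Vs.ι (O.ι ≫ ρ) hrO
      have hwl : wl ≫ Vs.ι = O.ι ≫ ρ := IsOpenImmersion.lift_fac _ _ _
      have e1 : (O.ι ≫ pullback.fst pV pV ≫ V.ι) ≫ Φ = wl ≫ t :=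
        comp_eq_of_local_factor p Φ Vs t ht _ wl (by
          rw [hwl]; simp only [Category.assoc]; rfl)
      have e2 : (O.ι ≫ pullback.snd pV pV ≫ V.ι) ≫ Φ = wl ≫ t :=
        comp_eq_of_local_factor p Φ Vs t ht _ wl (by
          rw [hwl]
          simp only [Category.assoc]
          show O.ι ≫ pullback.snd pV pV ≫ pV = O.ι ≫ pullback.fst pV pV ≫ pV
          rw [pullback.condition])
      have e3 : O.ι ≫ c₁ = O.ι ≫ c₂ := by
        rw [← cancel_mono U.ι]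
        simp only [c₁, c₂, Category.assoc, hφ]
        simp only [Category.assoc] at e1 e2
        rw [e1, e2]
      have hl : equalizer.lift O.ι e3 ≫ equalizer.ι c₁ c₂ = O.ι := equalizer.lift_ι _ _
      refine ⟨(equalizer.lift O.ι e3).base ⟨w', hsVs⟩, ?_⟩
      have := congrArg (fun ψ : O.toScheme ⟶ pullback pV pV => ψ.base ⟨w', hsVs⟩) hl
      exact this
    have hB : w ∈ Set.range (equalizer.ι c₁ c₂).base := by
      have h1 : w ∈ ρ.base ⁻¹' closure (TT p Φ) := by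
        show ρ.base w ∈ closure (TT p Φ)
        rw [hρw]; exact hg
      have h2 := ρ.isOpenMap.preimage_closure_subset_closure_preimage h1
      exact hCCclosed.closure_subset_iff.mpr hA h2
    obtain ⟨e, rfl⟩ := hB
    have hc : c₁.base ((equalizer.ι c₁ c₂).base e) = c₂.base ((equalizer.ι c₁ c₂).base e) := by
      have := congrArg (fun ψ : equalizer c₁ c₂ ⟶ U.toScheme => ψ.base e) (equalizer.condition c₁ c₂)
      simpa using this
    have hΦx : Φ.base x = U.ι.base (c₁.base ((equalizer.ι c₁ c₂).base e)) := by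
      show Φ.base x = U.ι.base (φ.base ((pullback.fst pV pV).base _))
      rw [hw1]
      have := congrArg (fun ψ : V.toScheme ⟶ Y => ψ.base ⟨x, hxV⟩) hφ
      exact this.symm
    have hΦx' : Φ.base x' = U.ι.base (c₂.base ((equalizer.ι c₁ c₂).base e)) := by
      show Φ.base x' = U.ι.base (φ.base ((pullback.snd pV pV).base _))
      rw [hw2]
      have := congrArg (fun ψ : V.toScheme ⟶ Y => ψ.base ⟨x', hx'V⟩) hφ
      exact this.symm
    rw [hΦx, hΦx', hc]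
  -- conclude by connectedness
  intro x₁ x₂ hx₁ hx₂
  by_contra hne
  choose O hO hxO hconst using hlc
  let u : Set P := ⋃ (x : P) (hx : p.base x = g) (_ : Φ.base x = Φ.base x₁), O x hx
  let v : Set P := ⋃ (x : P) (hx : p.base x = g) (_ : Φ.base x ≠ Φ.base x₁), O x hx
  have hu : IsOpen u := isOpen_iUnion fun x => isOpen_iUnion fun hx => isOpen_iUnion fun _ => hO x hx
  have hv : IsOpen v := isOpen_iUnion fun x => isOpen_iUnion fun hx => isOpen_iUnion fun _ => hO x hx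
  have hsub : p.base ⁻¹' {g} ⊆ u ∪ v := by
    intro x hx
    by_cases hxx : Φ.base x = Φ.base x₁
    · exact Or.inl (Set.mem_iUnion.mpr ⟨x, Set.mem_iUnion.mpr ⟨hx, Set.mem_iUnion.mpr ⟨hxx, hxO x hx⟩⟩⟩)
    · exact Or.inr (Set.mem_iUnion.mpr ⟨x, Set.mem_iUnion.mpr ⟨hx, Set.mem_iUnion.mpr ⟨hxx, hxO x hx⟩⟩⟩)
  have h1 : (p.base ⁻¹' {g} ∩ u).Nonempty :=
    ⟨x₁, hx₁, Set.mem_iUnion.mpr ⟨x₁, Set.mem_iUnion.mpr ⟨hx₁, Set.mem_iUnion.mpr ⟨rfl, hxO x₁ hx₁⟩⟩⟩⟩
  have h2 : (p.base ⁻¹' {g} ∩ v).Nonempty :=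
    ⟨x₂, hx₂, Set.mem_iUnion.mpr ⟨x₂, Set.mem_iUnion.mpr ⟨hx₂, Set.mem_iUnion.mpr
      ⟨fun h => hne h.symm, hxO x₂ hx₂⟩⟩⟩⟩
  obtain ⟨x₃, hx₃, hx₃u, hx₃v⟩ := hconn u v hu hv hsub h1 h2
  obtain ⟨a, ha⟩ := Set.mem_iUnion.mp hx₃u
  obtain ⟨ha1, ha⟩ := Set.mem_iUnion.mp ha
  obtain ⟨ha2, ha3⟩ := Set.mem_iUnion.mp ha
  obtain ⟨b, hb⟩ := Set.mem_iUnion.mp hx₃v
  obtain ⟨hb1, hb⟩ := Set.mem_iUnion.mp hb
  obtain ⟨hb2, hb3⟩ := Set.mem_iUnion.mp hb
  apply hb2
  rw [← ha2, hconst b hb1 b x₃ (hxO b hb1) hb3 hb1 hx₃, hconst a ha1 a x₃ (hxO a ha1) ha3 ha1 hx₃]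

theorem TT_eq_univ_of_jacobson [JacobsonSpace S] [ConnectedSpace S] [Flat p]
    [LocallyOfFinitePresentation p]
    (hloc : ∀ s ∈ TT p Φ, ∃ V : S.Opens, s ∈ V ∧ ∃ t : V.toScheme ⟶ Y,
      (p ⁻¹ᵁ V).ι ≫ Φ = (p ∣_ V) ≫ t)
    (hconn : ∀ g : S, IsClosed ({g} : Set S) → _root_.IsPreconnected (p.base ⁻¹' {g}))
    (s₀ : S) (hs₀ : s₀ ∈ TT p Φ) (s : S) : s ∈ TT p Φ := by
  have hopen : IsOpen (TT p Φ) := by
    rw [isOpen_iff_forall_mem_open]
    intro s hs
    obtain ⟨V, hsV, t, ht⟩ := hloc s hs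
    exact ⟨V, subset_TT_of_local_factor p Φ V t ht, V.isOpen, hsV⟩
  have hclosed : IsClosed (TT p Φ) := by
    rw [← closure_subset_iff_isClosed]
    by_contra hcon
    have hne : (closure (TT p Φ) ∩ (TT p Φ)ᶜ).Nonempty := by
      rw [Set.not_subset] at hcon
      obtain ⟨a, ha, ha'⟩ := hcon
      exact ⟨a, ha, ha'⟩
    have hlc : IsLocallyClosed (closure (TT p Φ) ∩ (TT p Φ)ᶜ) :=
      (isClosed_closure.inter hopen.isClosed_compl).isLocallyClosed
    obtain ⟨g, ⟨hg1, hg2⟩, hg3⟩ := nonempty_inter_closedPoints hne hlc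
    exact hg2 (mem_TT_of_mem_closure p Φ hloc g (hconn g hg3) hg1)
  have := IsClopen.eq_univ ⟨hclosed, hopen⟩ ⟨s₀, hs₀⟩
  rw [this]
  trivial

end

end Groth.Agent.Lib.Helper14.Blanchard
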