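import Mathlib
import Groth.Agent.Lib.Helper3.ConsNhds

/-!
# helper14: the image of a quasi-compact schematically dominant morphism contains a nonempty open

* `flat_fromSpecStalk` (copy of helper11's lemma): `Spec 𝒪_{X,x} ⟶ X` is flat.
* `exists_forall_specializes_eq`: a nonempty scheme has a point without proper generizations.
* `mem_range_of_forall_specializes_eq`: a quasi-compact schematically dominant morphism hits every
  point without proper generizations.
* `exists_open_subset_range`: the image of a quasi-compact, locally finitely presented,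
  schematically dominant morphism to a nonempty scheme contains a nonempty open subset.
-/

set_option autoImplicit false
universe u
open CategoryTheory CategoryTheory.Limits AlgebraicGeometry Topology

namespace Groth.Agent.Lib.Helper14.HomImage

/-- `Spec 𝒪_{X,x} ⟶ X` is flat. -/
theorem flat_fromSpecStalk {X : Scheme.{u}} (x : X) : Flat (X.fromSpecStalk x) := by
  obtain ⟨_, ⟨U, hU, rfl⟩, hxU, -⟩ :=
    X.isBasis_affineOpens.exists_subset_of_mem_open (Set.mem_univ x) isOpen_univ
  rw [← hU.fromSpecStalk_eq_fromSpecStalk hxU, IsAffineOpen.fromSpecStalk]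
  have : Flat (Spec.map (X.presheaf.germ U x hxU)) := by
    rw [Flat.SpecMap_iff]
    letI : Algebra Γ(X, U) (X.presheaf.stalk x) := (X.presheaf.germ U x hxU).hom.toAlgebra
    haveI := hU.isLocalization_stalk ⟨x, hxU⟩
    exact RingHom.flat_algebraMap_iff.mpr
      (IsLocalization.flat _ (hU.primeIdealOf ⟨x, hxU⟩).asIdeal.primeCompl)
  infer_instance

/-- A nonempty scheme has a point without proper generizations. -/
theorem exists_forall_specializes_eq (Z : Scheme.{u}) [Nonempty Z] :
    ∃ η : Z, ∀ y : Z, y ⤳ η → y = η := by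
  obtain ⟨z⟩ := ‹Nonempty Z›
  obtain ⟨p, hp⟩ := Ideal.nonempty_minimalPrimes (I := (⊥ : Ideal (Z.presheaf.stalk z)))
    (by exact bot_ne_top)
  haveI : p.IsPrime := hp.1.1
  let ξ₀ : Spec (Z.presheaf.stalk z) := (⟨p, inferInstance⟩ : PrimeSpectrum (Z.presheaf.stalk z))
  let ξ : Z := (Z.fromSpecStalk z) ξ₀
  have hξz : ξ ⤳ z := by
    have : ξ ∈ Set.range (Z.fromSpecStalk z) := ⟨ξ₀, rfl⟩
    rw [Scheme.range_fromSpecStalk] at this
    exact this
  refine ⟨ξ, fun t htξ => ?_⟩
  have htz : t ⤳ z := htξ.trans hξz
  have : t ∈ Set.range (Z.fromSpecStalk z) := by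
    rw [Scheme.range_fromSpecStalk]
    exact htz
  obtain ⟨t₀, ht₀⟩ := this
  have h1 : t₀ ⤳ ξ₀ := by
    rw [← (Z.fromSpecStalk z).isEmbedding.specializes_iff, ht₀]
    exact htξ
  have h2 : t₀.asIdeal ≤ ξ₀.asIdeal :=
    (PrimeSpectrum.asIdeal_le_asIdeal _ _).mpr
      ((PrimeSpectrum.le_iff_specializes (R := Z.presheaf.stalk z) t₀ ξ₀).mpr h1)
  have h3 : t₀ = ξ₀ := by
    apply PrimeSpectrum.ext
    exact le_antisymm h2 (hp.2 ⟨t₀.isPrime, bot_le⟩ h2)
  rw [← ht₀, h3]

/-- A quasi-compact schematically dominant morphism hits every point without proper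
generizations. -/
theorem mem_range_of_forall_specializes_eq {H K : Scheme.{u}} (g : H ⟶ K) [QuasiCompact g]
    [IsSchemeTheoreticallyDominant g] (η : K) (hη : ∀ y : K, y ⤳ η → y = η) :
    η ∈ Set.range g := by
  haveI := flat_fromSpecStalk η
  haveI : IsSchemeTheoreticallyDominant (pullback.snd g (K.fromSpecStalk η)) := inferInstance
  haveI : QuasiCompact (pullback.snd g (K.fromSpecStalk η)) := inferInstance
  haveI : IsDominant (pullback.snd g (K.fromSpecStalk η)) := inferInstance
  have hd : DenseRange (pullback.snd g (K.fromSpecStalk η)) :=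
    (pullback.snd g (K.fromSpecStalk η)).denseRange
  haveI : Nonempty (Spec (K.presheaf.stalk η)) :=
    inferInstanceAs (Nonempty (PrimeSpectrum (K.presheaf.stalk η)))
  obtain ⟨w⟩ : Nonempty ↥(pullback g (K.fromSpecStalk η)) := by
    by_contra hne
    rw [not_nonempty_iff] at hne
    have := hd.nonempty_iff.mpr ‹_›
    exact hne.false this.some
  refine ⟨(pullback.fst g (K.fromSpecStalk η)) w, ?_⟩
  have h1 : g ((pullback.fst g (K.fromSpecStalk η)) w) =
      (K.fromSpecStalk η) ((pullback.snd g (K.fromSpecStalk η)) w) := by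
    have := congrArg (fun φ : _ ⟶ K => φ w) (pullback.condition (f := g) (g := K.fromSpecStalk η))
    simpa using this
  have h2 : (K.fromSpecStalk η) ((pullback.snd g (K.fromSpecStalk η)) w) ∈
      Set.range (K.fromSpecStalk η) := ⟨_, rfl⟩
  rw [Scheme.range_fromSpecStalk] at h2
  rw [h1]
  exact hη _ h2

/-- The image of a quasi-compact, locally finitely presented, schematically dominant morphism to a
nonempty scheme contains a nonempty open subset. -/
theorem exists_open_subset_range {H K : Scheme.{u}} (g : H ⟶ K) [QuasiCompact g]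
    [LocallyOfFinitePresentation g] [IsSchemeTheoreticallyDominant g] [Nonempty K] :
    ∃ U : K.Opens, (U : Set K).Nonempty ∧ (U : Set K) ⊆ Set.range g := by
  obtain ⟨η, hη⟩ := exists_forall_specializes_eq K
  have hηE := mem_range_of_forall_specializes_eq g η hη
  have hE : IsLocallyConstructible (Set.range g) := by
    rw [← Set.image_univ]
    exact g.isLocallyConstructible_image IsLocallyConstructible.univ
  have hn : Set.range g ∈ nhds η :=
    Groth.Agent.Lib.helper3.ConsNhds.mem_nhds_of_isLocallyConstructible hE η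
      (fun y hy => by rw [hη y hy]; exact hηE)
  obtain ⟨U, hUE, hUo, hηU⟩ := mem_nhds_iff.mp hn
  exact ⟨⟨U, hUo⟩, ⟨η, hηU⟩, hUE⟩

end Groth.Agent.Lib.Helper14.HomImage
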