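import Mathlib
import Groth.Agent.Lib.Helper14.HomImage1

/-!
# helper14: the schematic image of a homomorphism of group schemes over a field

* `isPullback_whiskerRight'`, `isPullback_whiskerLeft'`: whiskering squares are cartesian.
* `dominant_whiskerRight`, `dominant_whiskerLeft`, `dominant_tensorHom`: over a field, products of
  quasi-compact schematically dominant morphisms are schematically dominant.
* `grpObjOfMono`: a group structure restricts along a monomorphism closed under the operations.
* `exists_div`: if `f = g ≫ i : H ⟶ K ⟶ G` is a homomorphism with `i` a closed immersion and `g`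
  quasi-compact and schematically dominant, then `(k₁, k₂) ↦ i(k₁)⁻¹ i(k₂)` factors through `i`.
* `surjective_of_dominant_hom`: a quasi-compact, locally finitely presented, schematically dominant
  homomorphism of group schemes over a field is surjective.
-/

set_option autoImplicit false
universe v u
open CategoryTheory CategoryTheory.Limits AlgebraicGeometry MonoidalCategory
  CartesianMonoidalCategory MonObj

namespace Groth.Agent.Lib.Helper14.HomImage

section Cat

variable {C : Type u} [Category.{v} C] [CartesianMonoidalCategory C]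

theorem isPullback_fst_snd' (Y T : C) :
    IsPullback (fst Y T) (snd Y T) (toUnit Y) (toUnit T) := by
  have h := IsPullback.of_is_product (tensorProductIsBinaryProduct Y T) isTerminalTensorUnit
  have e1 : isTerminalTensorUnit.from Y = toUnit Y := toUnit_unique _ _
  have e2 : isTerminalTensorUnit.from T = toUnit T := toUnit_unique _ _
  simpa [e1, e2] using h

theorem isPullback_whiskerLeft' (G : C) {T' T : C} (f : T' ⟶ T) :
    IsPullback (G ◁ f) (snd G T') (snd G T) f :=
  IsPullback.of_right (by simpa using isPullback_fst_snd' G T') (by simp)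
    (isPullback_fst_snd' G T)

theorem isPullback_whiskerRight' (G : C) {T' T : C} (f : T' ⟶ T) :
    IsPullback (f ▷ G) (fst T' G) (fst T G) f :=
  IsPullback.of_right (by simpa using (isPullback_fst_snd' T' G).flip) (by simp)
    (isPullback_fst_snd' T G).flip

section OfMono

variable {G P : C} [GrpObj G] (i : P ⟶ G) [Mono i] (o : 𝟙_ C ⟶ P) (ho : o ≫ i = η[G])
  (m : P ⊗ P ⟶ P) (hm : m ≫ i = (i ⊗ₘ i) ≫ μ[G]) (v : P ⟶ P) (hv : v ≫ i = i ≫ ι[G])

/-- A group structure restricts along a monomorphism closed under the operations. -/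
@[reducible] def grpObjOfMono : GrpObj P where
  one := o
  mul := m
  one_mul := by
    rw [← cancel_mono i, Category.assoc, hm, ← tensorHom_id, tensorHom_comp_tensorHom_assoc, ho,
      Category.id_comp, ← leftUnitor_naturality, ← MonObj.one_mul G, ← tensorHom_def'_assoc]
  mul_one := by
    rw [← cancel_mono i, Category.assoc, hm, ← id_tensorHom, tensorHom_comp_tensorHom_assoc, ho,
      Category.id_comp, ← rightUnitor_naturality, ← MonObj.mul_one G, ← tensorHom_def_assoc]
  mul_assoc := by
    rw [← cancel_mono i]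
    have e1 : m ▷ P ≫ (i ⊗ₘ i) = ((i ⊗ₘ i) ⊗ₘ i) ≫ (μ[G] ▷ G) := by
      rw [← tensorHom_id, tensorHom_comp_tensorHom, hm, Category.id_comp, ← tensorHom_id,
        tensorHom_comp_tensorHom, Category.comp_id]
    have e2 : P ◁ m ≫ (i ⊗ₘ i) = (i ⊗ₘ (i ⊗ₘ i)) ≫ (G ◁ μ[G]) := by
      rw [← id_tensorHom, tensorHom_comp_tensorHom, hm, Category.id_comp, ← id_tensorHom,
        tensorHom_comp_tensorHom, Category.comp_id]
    calc (m ▷ P ≫ m) ≫ i = m ▷ P ≫ (i ⊗ₘ i) ≫ μ[G] := by rw [Category.assoc, hm]
      _ = ((i ⊗ₘ i) ⊗ₘ i) ≫ (μ[G] ▷ G) ≫ μ[G] := by rw [← Category.assoc, e1, Category.assoc]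
      _ = ((i ⊗ₘ i) ⊗ₘ i) ≫ (α_ G G G).hom ≫ (G ◁ μ[G]) ≫ μ[G] := by rw [MonObj.mul_assoc]
      _ = (α_ P P P).hom ≫ (i ⊗ₘ (i ⊗ₘ i)) ≫ (G ◁ μ[G]) ≫ μ[G] := by
          rw [associator_naturality_assoc]
      _ = (α_ P P P).hom ≫ P ◁ m ≫ (i ⊗ₘ i) ≫ μ[G] := by
          rw [← Category.assoc (i ⊗ₘ (i ⊗ₘ i)), ← e2, Category.assoc]
      _ = ((α_ P P P).hom ≫ P ◁ m ≫ m) ≫ i := by rw [← hm]; simp only [Category.assoc]
  inv := v
  left_inv := by
    rw [← cancel_mono i, Category.assoc, hm]
    have : lift v (𝟙 P) ≫ (i ⊗ₘ i) = i ≫ lift ι[G] (𝟙 G) := by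
      apply CartesianMonoidalCategory.hom_ext <;> simp [hv]
    rw [← Category.assoc, this, Category.assoc, GrpObj.left_inv, Category.assoc, ho]
    simp
  right_inv := by
    rw [← cancel_mono i, Category.assoc, hm]
    have : lift (𝟙 P) v ≫ (i ⊗ₘ i) = i ≫ lift (𝟙 G) ι[G] := by
      apply CartesianMonoidalCategory.hom_ext <;> simp [hv]
    rw [← Category.assoc, this, Category.assoc, GrpObj.right_inv, Category.assoc, ho]
    simp

end OfMono

/-- From a unit and a division map on a subobject of a group object, a group structure for which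
the inclusion is a homomorphism. -/
theorem exists_grpObj_of_div {G P : C} [GrpObj G] (i : P ⟶ G) [Mono i]
    (e : 𝟙_ C ⟶ P) (he : e ≫ i = η[G])
    (d : P ⊗ P ⟶ P) (hd : d ≫ i = (fst P P ≫ i)⁻¹ * (snd P P ≫ i)) :
    ∃ str : GrpObj P, @IsMonHom C _ _ _ _ str.toMonObj _ i := by
  obtain ⟨v, hvi⟩ : ∃ v : P ⟶ P, v ≫ i = i ≫ ι[G] := by
    refine ⟨lift (𝟙 P) (toUnit P ≫ e) ≫ d, ?_⟩
    rw [Category.assoc, hd, comp_mul, GrpObj.comp_inv, ← Category.assoc, lift_fst,
      ← Category.assoc, lift_snd, Category.id_comp, Category.assoc, he, ← Hom.one_def,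
      _root_.mul_one, Hom.inv_def]
  obtain ⟨m, hmi⟩ : ∃ m : P ⊗ P ⟶ P, m ≫ i = (i ⊗ₘ i) ≫ μ[G] := by
    refine ⟨lift (fst P P ≫ v) (snd P P) ≫ d, ?_⟩
    rw [Category.assoc, hd, comp_mul, GrpObj.comp_inv, ← Category.assoc, lift_fst,
      ← Category.assoc, lift_snd, Category.assoc, hvi, ← Category.assoc, ← Hom.inv_def, inv_inv,
      Hom.mul_def]
    congr 1
    apply CartesianMonoidalCategory.hom_ext <;> simp
  exact ⟨grpObjOfMono i e he m hmi v hvi,
    @IsMonHom.mk C _ _ _ _ (grpObjOfMono i e he m hmi v hvi).toMonObj _ i he hmi⟩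

end Cat

section Field

variable {k : Type u} [Field k]

theorem isPullback_left' (X T : Over (Spec (CommRingCat.of k))) :
    IsPullback (fst X T).left (snd X T).left X.hom T.hom := by
  have h := (isPullback_fst_snd' X T).map (Over.forget _)
  simpa using h

theorem flat_fst (X T : Over (Spec (CommRingCat.of k))) : Flat (fst X T).left :=
  MorphismProperty.of_isPullback (P := @Flat) (isPullback_left' X T).flip inferInstance

theorem flat_snd (X T : Over (Spec (CommRingCat.of k))) : Flat (snd X T).left :=
  MorphismProperty.of_isPullback (P := @Flat) (isPullback_left' X T) inferInstance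

theorem dominant_whiskerRight {H K : Over (Spec (CommRingCat.of k))} (g : H ⟶ K)
    [QuasiCompact g.left] [IsSchemeTheoreticallyDominant g.left]
    (T : Over (Spec (CommRingCat.of k))) :
    IsSchemeTheoreticallyDominant (g ▷ T).left ∧ QuasiCompact (g ▷ T).left := by
  have sq : IsPullback (g ▷ T).left (fst H T).left (fst K T).left g.left := by
    have h := (isPullback_whiskerRight' T g).map (Over.forget _)
    simpa using h
  haveI := flat_fst K T
  exact ⟨IsSchemeTheoreticallyDominant.of_isPullback sq.flip,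
    MorphismProperty.of_isPullback (P := @QuasiCompact) sq.flip inferInstance⟩

theorem dominant_whiskerLeft {H K : Over (Spec (CommRingCat.of k))} (g : H ⟶ K)
    [QuasiCompact g.left] [IsSchemeTheoreticallyDominant g.left]
    (T : Over (Spec (CommRingCat.of k))) :
    IsSchemeTheoreticallyDominant (T ◁ g).left ∧ QuasiCompact (T ◁ g).left := by
  have sq : IsPullback (T ◁ g).left (snd T H).left (snd T K).left g.left := by
    have h := (isPullback_whiskerLeft' T g).map (Over.forget _)
    simpa using h
  haveI := flat_snd T K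
  exact ⟨IsSchemeTheoreticallyDominant.of_isPullback sq.flip,
    MorphismProperty.of_isPullback (P := @QuasiCompact) sq.flip inferInstance⟩

theorem dominant_tensorHom {H K H' K' : Over (Spec (CommRingCat.of k))} (g : H ⟶ K)
    [QuasiCompact g.left] [IsSchemeTheoreticallyDominant g.left] (g' : H' ⟶ K')
    [QuasiCompact g'.left] [IsSchemeTheoreticallyDominant g'.left] :
    IsSchemeTheoreticallyDominant (g ⊗ₘ g').left := by
  obtain ⟨h1, -⟩ := dominant_whiskerRight g H'
  obtain ⟨h2, -⟩ := dominant_whiskerLeft g' K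
  have e : (g ⊗ₘ g').left = (g ▷ H').left ≫ (K ◁ g').left := by
    rw [← Over.comp_left, MonoidalCategory.tensorHom_def]
  rw [e]
  infer_instance

end Field

end Groth.Agent.Lib.Helper14.HomImage
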