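import Mathlib
import Groth.Prelude.Def_AlgGrp
import Groth.Agent.Lib.Helper14.SteinFactor
import Groth.Agent.Lib.Helper14.HomImage2

/-!
# helper14: descending an action along a proper morphism with `O_Y ≅ f_* O_X` (over a field)
-/

set_option autoImplicit false
universe u
open CategoryTheory MonoidalCategory CartesianMonoidalCategory MonObj GrpObj AlgebraicGeometry
  CategoryTheory.Limits

namespace Groth.Agent.Lib.Helper14.SteinAct

open Groth.Agent.Lib.Helper14.SteinFactor Groth.Agent.Lib.Helper14.Rigid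

variable {k : Type u} [Field k]

section

variable {X Y : Over (Spec (CommRingCat.of k))} (f : X ⟶ Y)

theorem isPullback_whiskerLeft_left (H : Over (Spec (CommRingCat.of k))) :
    IsPullback (snd H X).left (H ◁ f).left f.left (snd H Y).left := by
  have h := (Groth.Agent.Lib.Helper14.HomImage.isPullback_whiskerLeft' H f).map (Over.forget _)
  exact h.flip

variable [IsProper f.left] (hf : ∀ U : Y.left.Opens, IsIso (f.left.app U))

include hf

theorem stein_whiskerLeft (H : Over (Spec (CommRingCat.of k))) (U : (H ⊗ Y).left.Opens) :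
    IsIso ((H ◁ f).left.app U) := by
  haveI : Flat (snd H Y).left := Groth.Agent.Lib.Helper14.HomImage.flat_snd H Y
  exact Groth.Agent.Lib.helper8.FibFlat.isIso_app_of_isPullback_of_flat f.left (snd H Y).left
    (snd H X).left (H ◁ f).left (isPullback_whiskerLeft_left f H) hf U

omit hf in
theorem isProper_whiskerLeft (H : Over (Spec (CommRingCat.of k))) : IsProper (H ◁ f).left :=
  MorphismProperty.of_isPullback (P := @IsProper) (isPullback_whiskerLeft_left f H) inferInstance

theorem surjective_whiskerLeft (H : Over (Spec (CommRingCat.of k))) : Surjective (H ◁ f).left := by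
  haveI : Surjective f.left := surjective_of_isIso_app f.left hf
  exact MorphismProperty.of_isPullback (P := @Surjective) (isPullback_whiskerLeft_left f H)
    inferInstance

theorem epi_whiskerLeft (H : Over (Spec (CommRingCat.of k))) : Epi (H ◁ f) := by
  haveI := surjective_whiskerLeft f hf H
  haveI : Epi (H ◁ f).left := epi_of_isIso_app _ (stein_whiskerLeft f hf H)
  exact Over.epi_of_epi_left _

/-- a morphism `H × X ⟶ Z` which is constant on the fibres of `H × X ⟶ H × Y` descends. -/
theorem exists_desc (H Z : Over (Spec (CommRingCat.of k))) (h : H ⊗ X ⟶ Z)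
    (hc : ∀ p q : ↥(H ⊗ X).left, (H ◁ f).left.base p = (H ◁ f).left.base q →
      h.left.base p = h.left.base q) :
    ∃ b : H ⊗ Y ⟶ Z, (H ◁ f) ≫ b = h := by
  haveI := surjective_whiskerLeft f hf H
  haveI := isProper_whiskerLeft f H
  haveI : Epi (H ◁ f).left := epi_of_isIso_app _ (stein_whiskerLeft f hf H)
  obtain ⟨t, ht⟩ := exists_factor (H ◁ f).left (stein_whiskerLeft f hf H) h.left
    (fun s x x' hx hx' => hc x x' (hx.trans hx'.symm))
  have hw : t ≫ Z.hom = (H ⊗ Y).hom := by
    rw [← cancel_epi (H ◁ f).left, ← Category.assoc, ← ht, Over.w, Over.w]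
  refine ⟨Over.homMk t hw, ?_⟩
  ext
  simpa using ht.symm

theorem exists_action (G : Over (Spec (CommRingCat.of k))) [GrpObj G] (a : AlgGrp.Action G X)
    (hc : ∀ p q : ↥(G ⊗ X).left, (G ◁ f).left.base p = (G ◁ f).left.base q →
      (a.act ≫ f).left.base p = (a.act ≫ f).left.base q) :
    ∃ b : AlgGrp.Action G Y, (G ◁ f) ≫ b.act = a.act ≫ f := by
  obtain ⟨b₀, hb₀⟩ := exists_desc f hf G Y (a.act ≫ f) hc
  refine ⟨⟨b₀, ?_, ?_⟩, hb₀⟩
  · haveI := epi_whiskerLeft f hf (𝟙_ _)
    rw [← cancel_epi (𝟙_ (Over (Spec (CommRingCat.of k))) ◁ f), ← Category.assoc,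
      whisker_exchange, Category.assoc, hb₀, ← Category.assoc, a.one_act,
      leftUnitor_naturality]
  · haveI := epi_whiskerLeft f hf (G ⊗ G)
    rw [← cancel_epi ((G ⊗ G) ◁ f), ← Category.assoc, whisker_exchange, Category.assoc, hb₀,
      ← Category.assoc, a.mul_act, ← Category.assoc ((G ⊗ G) ◁ f), associator_naturality_right]
    have e1 : G ◁ G ◁ f ≫ G ◁ b₀ = G ◁ a.act ≫ G ◁ f := by
      rw [← MonoidalCategory.whiskerLeft_comp, hb₀, MonoidalCategory.whiskerLeft_comp]
    simp only [Category.assoc]
    rw [← Category.assoc (G ◁ G ◁ f), e1, Category.assoc, hb₀]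

theorem action_unique (G : Over (Spec (CommRingCat.of k))) [GrpObj G] (a : AlgGrp.Action G X)
    (b b' : AlgGrp.Action G Y) (hb : (G ◁ f) ≫ b.act = a.act ≫ f)
    (hb' : (G ◁ f) ≫ b'.act = a.act ≫ f) : b = b' := by
  haveI := epi_whiskerLeft f hf G
  have h : b.act = b'.act := by
    rw [← cancel_epi (G ◁ f), hb, hb']
  cases b
  cases b'
  congr

end

end Groth.Agent.Lib.Helper14.SteinAct
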