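import Mathlib
import Groth.Prelude.Def_AlgGrp
import Groth.Agent.S4368
import Groth.Agent.Lib.Helper14.Blanchard1
import Groth.Agent.Lib.Helper14.SteinAct
import Groth.Agent.Lib.Helper14.FibreH0
import Groth.Agent.Lib.Helper8.ZConn5

/-!
# helper14: Blanchard's lemma, the reduced fibre over a rational point
-/

set_option autoImplicit false
universe u
open CategoryTheory MonoidalCategory CartesianMonoidalCategory MonObj GrpObj AlgebraicGeometry
  CategoryTheory.Limits

namespace Groth.Agent.Lib.Helper14.Blanchard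

open Groth.Agent.Lib.Helper14.Rigid Groth.Agent.Lib.Helper14.SteinFactor

variable {k : Type u} [Field k]

section Fibre

variable {X Y : Over (Spec (CommRingCat.of k))} (f : X ⟶ Y)
  (y : 𝟙_ (Over (Spec (CommRingCat.of k))) ⟶ Y)

/-- the scheme-theoretic fibre of `f` over the rational point `y`. -/
noncomputable abbrev F₀ : Scheme.{u} := pullback f.left y.left

/-- the reduced fibre as an object over `Spec k`. -/
noncomputable def Fo : Over (Spec (CommRingCat.of k)) :=
  Over.mk ((F₀ f y).nilradical.subschemeι ≫ pullback.snd f.left y.left)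

theorem fst_hom : pullback.fst f.left y.left ≫ X.hom = pullback.snd f.left y.left := by
  have h1 : X.hom = f.left ≫ Y.hom := (Over.w f).symm
  have h2 : y.left ≫ Y.hom = 𝟙 _ := Over.w y
  rw [h1, ← Category.assoc, pullback.condition, Category.assoc, h2, Category.comp_id]

/-- the inclusion of the reduced fibre. -/
noncomputable def jF : Fo f y ⟶ X :=
  Over.homMk ((F₀ f y).nilradical.subschemeι ≫ pullback.fst f.left y.left) (by
    show ((F₀ f y).nilradical.subschemeι ≫ pullback.fst f.left y.left) ≫ X.hom =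
      (F₀ f y).nilradical.subschemeι ≫ pullback.snd f.left y.left
    rw [Category.assoc, fst_hom])

instance : IsReduced (Fo f y).left :=
  (Groth.Agent.S4368.result (F₀ f y) (F₀ f y).nilradical (Scheme.support_nilradical _)).2 rfl

theorem surjective_redι (Z : Scheme.{u}) : Function.Surjective Z.nilradical.subschemeι.base := by
  rw [← Set.range_eq_univ, Scheme.IdealSheafData.range_subschemeι, Scheme.support_nilradical]
  rfl

instance [IsProper f.left] : IsProper (Fo f y).hom := by
  show IsProper ((F₀ f y).nilradical.subschemeι ≫ pullback.snd f.left y.left)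
  infer_instance

theorem range_jF : Set.range (jF f y).left.base = f.left.base ⁻¹' Set.range y.left.base := by
  show Set.range ((F₀ f y).nilradical.subschemeι ≫ pullback.fst f.left y.left).base = _
  rw [Scheme.Hom.comp_base, TopCat.coe_comp, Set.range_comp, (surjective_redι _).range_eq,
    Set.image_univ]
  exact Scheme.Pullback.range_fst f.left y.left

theorem connectedSpace_Fo [IsProper f.left] [IsLocallyNoetherian Y.left]
    (hf : ∀ U : Y.left.Opens, IsIso (f.left.app U)) : ConnectedSpace (Fo f y).left := by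
  haveI : ConnectedSpace ↥(pullback f.left y.left) :=
    Groth.Agent.Lib.helper8.ZConn.connectedSpace_pullback f.left hf k y.left
  have hcl : Topology.IsClosedEmbedding (F₀ f y).nilradical.subschemeι.base :=
    (F₀ f y).nilradical.subschemeι.isClosedEmbedding
  let e : (Fo f y).left ≃ₜ ↥(F₀ f y) :=
    (hcl.isEmbedding.toHomeomorphOfSurjective (surjective_redι _))
  exact e.symm.surjective.connectedSpace e.symm.continuous

end Fibre

section Main

variable [IsAlgClosed k] {G X Y : Over (Spec (CommRingCat.of k))} [GrpObj G] (f : X ⟶ Y)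
  (a : AlgGrp.Action G X) (y : 𝟙_ (Over (Spec (CommRingCat.of k))) ⟶ Y)

theorem jF_comp : jF f y ≫ f = toUnit _ ≫ y := by
  apply Over.OverMorphism.ext
  show ((F₀ f y).nilradical.subschemeι ≫ pullback.fst f.left y.left) ≫ f.left =
    (toUnit (Fo f y)).left ≫ y.left
  rw [Over.toUnit_left, Category.assoc, pullback.condition]
  rfl

variable [IsProper f.left] [IsLocallyNoetherian Y.left]
  (hf : ∀ U : Y.left.Opens, IsIso (f.left.app U))

include hf

theorem isIso_appTop_Fo : IsIso (Fo f y).hom.appTop := by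
  haveI := connectedSpace_Fo f y hf
  have hF : IsField Γ((Fo f y).left, ⊤) :=
    Groth.Agent.Lib.Helper14.FibreH0.isField_appTop k (Fo f y).hom
  haveI : IsDomain Γ((Fo f y).left, ⊤) := hF.isDomain
  have hb : Function.Bijective
      ((Scheme.ΓSpecIso (CommRingCat.of k)).inv ≫ (Fo f y).hom.appTop).hom := by
    apply IsAlgClosed.ringHom_bijective_of_isIntegral
    apply RingHom.isIntegral_respectsIso.2 (e := (Scheme.ΓSpecIso _).symm.commRingCatIsoToRingEquiv)
    exact isIntegral_appTop_of_universallyClosed (Fo f y).hom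
  have h1 : IsIso ((Scheme.ΓSpecIso (CommRingCat.of k)).inv ≫ (Fo f y).hom.appTop) :=
    (ConcreteCategory.isIso_iff_bijective _).mpr hb
  exact IsIso.of_isIso_comp_left (Scheme.ΓSpecIso (CommRingCat.of k)).inv _

theorem stein_fst (U : G.left.Opens) : IsIso ((fst G (Fo f y)).left.app U) := by
  haveI := isIso_appTop_Fo f y hf
  have H : IsPullback (snd G (Fo f y)).left (fst G (Fo f y)).left (Fo f y).hom G.hom :=
    (Groth.Agent.Lib.Helper14.HomImage.isPullback_left' G (Fo f y)).flip
  refine Groth.Agent.Lib.helper8.FibFlat.isIso_app_of_basis _ (fun U x hx => ?_) U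
  obtain ⟨_, ⟨(B : G.left.Opens), (hB : IsAffineOpen B), rfl⟩, hxB, hBle⟩ :=
    G.left.isBasis_affineOpens.exists_subset_of_mem_open hx U.isOpen
  refine ⟨B, hxB, hBle, ?_⟩
  haveI : IsIso ((Fo f y).hom.app ⊤) := ‹IsIso (Fo f y).hom.appTop›
  haveI := Groth.Agent.Lib.helper8.FibFlat.isIso_app_of_isPullback_of_flat_of_affine
    (Fo f y).hom G.hom _ _ H B hB ⊤ (isAffineOpen_top _) (fun _ _ => trivial) inferInstance
  exact (ConcreteCategory.isIso_iff_bijective _).mp inferInstance

omit [IsAlgClosed k] [GrpObj G] [IsLocallyNoetherian Y.left] hf in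
theorem isProper_fst : IsProper (fst G (Fo f y)).left :=
  MorphismProperty.of_isPullback (P := @IsProper)
    (Groth.Agent.Lib.Helper14.HomImage.isPullback_left' G (Fo f y)).flip inferInstance

omit [IsLocallyNoetherian Y.left] hf [IsProper f.left] [GrpObj G] in
/-- the fibre of `G × F ⟶ G` over a closed point is the image of `F`. -/
theorem preimage_eq_range (gp : 𝟙_ (Over (Spec (CommRingCat.of k))) ⟶ G) (g : G.left)
    (hgp : ∀ z, gp.left.base z = g) (F : Over (Spec (CommRingCat.of k))) :
    (fst G F).left.base ⁻¹' {g} = Set.range ((λ_ F).inv ≫ (gp ▷ F)).left.base := by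
  have sq : IsPullback (gp ▷ F).left (fst (𝟙_ _) F).left (fst G F).left gp.left :=
    (Groth.Agent.Lib.Helper14.HomImage.isPullback_whiskerRight' F gp).map (Over.forget _)
  ext w
  constructor
  · intro hw
    have hw' : (fst G F).left.base w = g := hw
    obtain ⟨z⟩ : Nonempty ↥(𝟙_ (Over (Spec (CommRingCat.of k)))).left :=
      ⟨IsLocalRing.closedPoint k⟩
    obtain ⟨o, ho1, -⟩ := Scheme.exists_preimage_of_isPullback sq w z
      (by rw [hw', hgp])
    refine ⟨(λ_ F).hom.left.base o, ?_⟩
    rw [← ho1]
    have h1 : (λ_ F).hom ≫ (λ_ F).inv ≫ (gp ▷ F) = gp ▷ F := by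
      rw [Iso.hom_inv_id_assoc]
    have h2 : ((λ_ F).hom ≫ (λ_ F).inv ≫ (gp ▷ F)).left.base o = (gp ▷ F).left.base o := by
      rw [h1]
    exact h2
  · rintro ⟨v, rfl⟩
    show (fst G F).left.base _ = g
    have h1 : ((λ_ F).inv ≫ (gp ▷ F)) ≫ fst G F = ((λ_ F).inv ≫ fst _ F) ≫ gp := by
      rw [Category.assoc, whiskerRight_fst, Category.assoc]
    have h2 := congrArg (fun ψ : F ⟶ G => ψ.left.base v) h1
    simp only [Over.comp_left, Scheme.Hom.comp_base, TopCat.comp_app] at h2 ⊢
    rw [h2, hgp]

theorem const_on_fibre [LocallyOfFiniteType G.hom] [ConnectedSpace G.left]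
    (w w' : ↥(G ⊗ Fo f y).left)
    (h : (fst G (Fo f y)).left.base w = (fst G (Fo f y)).left.base w') :
    ((G ◁ jF f y) ≫ a.act ≫ f).left.base w = ((G ◁ jF f y) ≫ a.act ≫ f).left.base w' := by
  haveI := connectedSpace_Fo f y hf
  haveI := isProper_fst (G := G) f y
  haveI : Flat (fst G (Fo f y)).left := Groth.Agent.Lib.Helper14.HomImage.flat_fst G (Fo f y)
  haveI : IsLocallyNoetherian G.left := LocallyOfFiniteType.isLocallyNoetherian G.hom
  haveI : LocallyOfFinitePresentation (fst G (Fo f y)).left :=
    LocallyOfFinitePresentation.iff_locallyOfFiniteType.mpr inferInstance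
  haveI : JacobsonSpace ↥G.left := LocallyOfFiniteType.jacobsonSpace (Y := Spec _) G.hom
  have hloc := exists_local_factor_of_mem_TT (fst G (Fo f y)).left
    ((G ◁ jF f y) ≫ a.act ≫ f).left (stein_fst f y hf)
  have hconn : ∀ g : ↥G.left, IsClosed ({g} : Set ↥G.left) →
      _root_.IsPreconnected ((fst G (Fo f y)).left.base ⁻¹' {g}) := by
    intro g hg
    let gp : 𝟙_ (Over (Spec (CommRingCat.of k))) ⟶ G :=
      Over.homMk (pointOfClosedPoint G.hom g hg) (by simp)
    rw [preimage_eq_range gp g (fun z => pointOfClosedPoint_apply G.hom g hg z) (Fo f y)]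
    exact isPreconnected_range (Scheme.Hom.continuous _)
  -- the unit lies in `TT`
  haveI : Subsingleton ↥(𝟙_ (Over (Spec (CommRingCat.of k)))).left :=
    inferInstanceAs (Subsingleton (PrimeSpectrum k))
  let pt : ↥(𝟙_ (Over (Spec (CommRingCat.of k)))).left := IsLocalRing.closedPoint k
  have he : η[G].left.base pt ∈ TT (fst G (Fo f y)).left ((G ◁ jF f y) ≫ a.act ≫ f).left := by
    have key : ∀ w : ↥(G ⊗ Fo f y).left, (fst G (Fo f y)).left.base w = η[G].left.base pt →
        ((G ◁ jF f y) ≫ a.act ≫ f).left.base w = y.left.base pt := by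
      intro w hw
      have hmem : w ∈ (fst G (Fo f y)).left.base ⁻¹' {η[G].left.base pt} := hw
      rw [preimage_eq_range η[G] (η[G].left.base pt)
        (fun z => congrArg _ (Subsingleton.elim z pt)) (Fo f y)] at hmem
      obtain ⟨v, rfl⟩ := hmem
      have h1 : ((λ_ (Fo f y)).inv ≫ (η[G] ▷ Fo f y)) ≫ (G ◁ jF f y) ≫ a.act ≫ f =
          toUnit _ ≫ y := by
        rw [Category.assoc, ← Category.assoc (η[G] ▷ Fo f y), ← whisker_exchange, Category.assoc,
          ← Category.assoc (η[G] ▷ X), a.one_act, ← Category.assoc (𝟙_ _ ◁ jF f y),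
          leftUnitor_naturality, Category.assoc, Iso.inv_hom_id_assoc, jF_comp]
      have h2 := congrArg (fun ψ : Fo f y ⟶ Y => ψ.left.base v) h1
      simp only [Over.comp_left, Scheme.Hom.comp_base, TopCat.comp_app] at h2 ⊢
      rw [h2]
      exact congrArg _ (Subsingleton.elim _ pt)
    intro w w' hw hw'
    rw [key w hw, key w' hw']
  have hall := TT_eq_univ_of_jacobson (fst G (Fo f y)).left ((G ◁ jF f y) ≫ a.act ≫ f).left
    (fun s hs => hloc s hs) hconn _ he
  exact hall _ w w' h rfl

end Main

end Groth.Agent.Lib.Helper14.Blanchard
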