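import Mathlib
import Groth.Agent.Lib.Helper14.Blanchard2

/-!
# helper14: Blanchard's lemma — the composite `G × X ⟶ X ⟶ Y` is constant on the fibres of
`G × X ⟶ G × Y` (algebraically closed base field, `G` connected, everything of finite type,
no separatedness assumption).
-/

set_option autoImplicit false
universe u
open CategoryTheory MonoidalCategory CartesianMonoidalCategory MonObj GrpObj AlgebraicGeometry
  CategoryTheory.Limits

namespace Groth.Agent.Lib.Helper14.Blanchard

variable {k : Type u} [Field k] [IsAlgClosed k]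
  {G X Y : Over (Spec (CommRingCat.of k))} [GrpObj G] (f : X ⟶ Y) (a : AlgGrp.Action G X)

theorem fibres_const [LocallyOfFiniteType G.hom] [ConnectedSpace G.left]
    [LocallyOfFiniteType X.hom] [LocallyOfFiniteType Y.hom] [IsProper f.left]
    (hf : ∀ U : Y.left.Opens, IsIso (f.left.app U))
    (p q : ↥(G ⊗ X).left) (hpq : (G ◁ f).left.base p = (G ◁ f).left.base q) :
    (a.act ≫ f).left.base p = (a.act ≫ f).left.base q := by
  haveI : IsLocallyNoetherian Y.left := LocallyOfFiniteType.isLocallyNoetherian Y.hom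
  haveI : Subsingleton ↥(𝟙_ (Over (Spec (CommRingCat.of k)))).left :=
    inferInstanceAs (Subsingleton (PrimeSpectrum k))
  let pt : ↥(𝟙_ (Over (Spec (CommRingCat.of k)))).left := IsLocalRing.closedPoint k
  set π := (G ◁ f).left with hπ
  obtain ⟨z, hz1, hz2⟩ := Scheme.Pullback.exists_preimage_pullback (f := π) (g := π) p q hpq
  let str : pullback π π ⟶ Spec (CommRingCat.of k) := pullback.fst π π ≫ (G ⊗ X).hom
  have hstr2 : pullback.snd π π ≫ (G ⊗ X).hom = str := by
    show pullback.snd π π ≫ (G ⊗ X).hom = pullback.fst π π ≫ (G ⊗ X).hom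
    rw [← Over.w (G ◁ f), ← Category.assoc, ← Category.assoc, pullback.condition]
  haveI : LocallyOfFiniteType (G ⊗ X).hom := by
    show LocallyOfFiniteType (pullback.fst G.hom X.hom ≫ G.hom)
    infer_instance
  haveI : LocallyOfFiniteType π := by
    haveI : LocallyOfFiniteType (π ≫ (G ⊗ Y).hom) := by
      rw [hπ, Over.w]; infer_instance
    exact locallyOfFiniteType_of_comp π (G ⊗ Y).hom
  haveI : LocallyOfFiniteType str := by dsimp only [str]; infer_instance
  haveI : JacobsonSpace ↥(pullback π π) := LocallyOfFiniteType.jacobsonSpace (Y := Spec _) str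
  have key : ∀ z : ↥(pullback π π), IsClosed ({z} : Set ↥(pullback π π)) →
      (pullback.fst π π ≫ (a.act ≫ f).left).base z = (pullback.snd π π ≫ (a.act ≫ f).left).base z := by
    intro z hz
    let c : Spec (CommRingCat.of k) ⟶ pullback π π := pointOfClosedPoint str z hz
    have hc : c ≫ str = 𝟙 _ := pointOfClosedPoint_comp str z hz
    have hcz : c.base pt = z := pointOfClosedPoint_apply str z hz pt
    let ζ₁ : 𝟙_ (Over (Spec (CommRingCat.of k))) ⟶ G ⊗ X :=
      Over.homMk (c ≫ pullback.fst π π) (by rw [Category.assoc]; exact hc)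
    let ζ₂ : 𝟙_ (Over (Spec (CommRingCat.of k))) ⟶ G ⊗ X :=
      Over.homMk (c ≫ pullback.snd π π) (by rw [Category.assoc, hstr2]; exact hc)
    have hζ : ζ₁ ≫ (G ◁ f) = ζ₂ ≫ (G ◁ f) := by
      apply Over.OverMorphism.ext
      show (c ≫ pullback.fst π π) ≫ π = (c ≫ pullback.snd π π) ≫ π
      rw [Category.assoc, Category.assoc, pullback.condition]
    let y : 𝟙_ (Over (Spec (CommRingCat.of k))) ⟶ Y := ζ₁ ≫ snd G X ≫ f
    have hy1 : (ζ₁ ≫ snd G X) ≫ f = y := Category.assoc _ _ _
    have hy2 : (ζ₂ ≫ snd G X) ≫ f = y := by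
      rw [Category.assoc, ← whiskerLeft_snd, ← Category.assoc, ← hζ, Category.assoc,
        whiskerLeft_snd]
    have hg : ζ₁ ≫ fst G X = ζ₂ ≫ fst G X := by
      rw [← whiskerLeft_fst G f, ← Category.assoc, hζ, Category.assoc]
    -- points of the reduced fibre
    have hmem : ∀ ζ : 𝟙_ (Over (Spec (CommRingCat.of k))) ⟶ G ⊗ X, (ζ ≫ snd G X) ≫ f = y →
        ∃ w : ↥(G ⊗ Fo f y).left, (G ◁ jF f y).left.base w = ζ.left.base pt := by
      intro ζ hζy
      have h1 : (ζ ≫ snd G X).left.base pt ∈ Set.range (jF f y).left.base := by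
        rw [range_jF]
        refine ⟨pt, ?_⟩
        have := congrArg (fun ψ : 𝟙_ _ ⟶ Y => ψ.left.base pt) hζy
        exact this.symm
      obtain ⟨v, hv⟩ := h1
      have sq := Groth.Agent.Lib.Helper14.SteinAct.isPullback_whiskerLeft_left (jF f y) G
      obtain ⟨w, -, hw⟩ := Scheme.exists_preimage_of_isPullback sq v (ζ.left.base pt) hv
      exact ⟨w, hw⟩
    obtain ⟨w₁, hw₁⟩ := hmem ζ₁ hy1
    obtain ⟨w₂, hw₂⟩ := hmem ζ₂ hy2
    have hfst : ∀ (ζ : 𝟙_ (Over (Spec (CommRingCat.of k))) ⟶ G ⊗ X) (w : ↥(G ⊗ Fo f y).left),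
        (G ◁ jF f y).left.base w = ζ.left.base pt →
        (fst G (Fo f y)).left.base w = (ζ ≫ fst G X).left.base pt := by
      intro ζ w hw
      have h1 : fst G (Fo f y) = (G ◁ jF f y) ≫ fst G X := (whiskerLeft_fst G (jF f y)).symm
      rw [h1]
      show (fst G X).left.base ((G ◁ jF f y).left.base w) = _
      rw [hw]
      rfl
    have hww : (fst G (Fo f y)).left.base w₁ = (fst G (Fo f y)).left.base w₂ := by
      rw [hfst ζ₁ w₁ hw₁, hfst ζ₂ w₂ hw₂, hg]
    have hcf := const_on_fibre f a y hf w₁ w₂ hww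
    have e1 : ((G ◁ jF f y) ≫ a.act ≫ f).left.base w₁ =
        (pullback.fst π π ≫ (a.act ≫ f).left).base z := by
      show (a.act ≫ f).left.base ((G ◁ jF f y).left.base w₁) = _
      rw [hw₁, ← hcz]
      rfl
    have e2 : ((G ◁ jF f y) ≫ a.act ≫ f).left.base w₂ =
        (pullback.snd π π ≫ (a.act ≫ f).left).base z := by
      show (a.act ≫ f).left.base ((G ◁ jF f y).left.base w₂) = _
      rw [hw₂, ← hcz]
      rfl
    rw [← e1, ← e2, hcf]
  have hall := eq_of_eq_on_closedPoints
    (fun z => (pullback.fst π π ≫ (a.act ≫ f).left).base z)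
    (fun z => (pullback.snd π π ≫ (a.act ≫ f).left).base z)
    (Scheme.Hom.continuous _) (Scheme.Hom.continuous _) key z
  have e1 : (pullback.fst π π ≫ (a.act ≫ f).left).base z = (a.act ≫ f).left.base p := by
    rw [← hz1]; rfl
  have e2 : (pullback.snd π π ≫ (a.act ≫ f).left).base z = (a.act ≫ f).left.base q := by
    rw [← hz2]; rfl
  rw [← e1, ← e2]
  exact hall

end Groth.Agent.Lib.Helper14.Blanchard
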