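import Mathlib
import Groth.Agent.S1537
import Groth.Agent.Lib.Helper3.ResMap

/-!
# helper14: a connected scheme over a field with a rational point is geometrically connected
-/

set_option autoImplicit false
universe u
open CategoryTheory MonoidalCategory CartesianMonoidalCategory AlgebraicGeometry
  CategoryTheory.Limits

namespace Groth.Agent.Lib.Helper14.RatPtGeomConn

variable {k : Type u} [Field k]

theorem resMap_surjective (X : Scheme.{u}) [X.Over (Spec (CommRingCat.of k))]
    (σ : Spec (CommRingCat.of k) ⟶ X) (hσ : σ ≫ (X ↘ Spec (CommRingCat.of k)) = 𝟙 _) :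
    Function.Surjective (Curv2.resMap k X (σ (IsLocalRing.closedPoint k))) := by
  set x := σ (IsLocalRing.closedPoint k) with hx
  let φ : X.residueField x ⟶ CommRingCat.of k :=
    X.descResidueField (Scheme.stalkClosedPointTo σ)
  have h1 : Spec.map φ ≫ X.fromSpecResidueField x = σ :=
    Scheme.descResidueField_stalkClosedPointTo_fromSpecResidueField k X σ
  have h2 : Spec.map φ ≫ Spec.map (CommRingCat.ofHom (Curv2.resMap k X x)) = 𝟙 _ := by
    have e := Groth.Agent.Lib.helper3.ResMap.specMap_resMap k X x
    calc Spec.map φ ≫ Spec.map (CommRingCat.ofHom (Curv2.resMap k X x))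
        = Spec.map φ ≫ (X.fromSpecResidueField x ≫ (X ↘ Spec (CommRingCat.of k))) :=
          congrArg (fun t => Spec.map φ ≫ t) e
      _ = 𝟙 _ := by rw [← Category.assoc, h1, hσ]
  have h3 : CommRingCat.ofHom (Curv2.resMap k X x) ≫ φ = 𝟙 _ := by
    apply Spec.map_injective
    exact (Spec.map_comp _ _).trans (h2.trans (Spec.map_id _).symm)
  have h4 : ∀ c : k, φ.hom (Curv2.resMap k X x c) = c := by
    intro c
    have := congrArg (fun ψ : CommRingCat.of k ⟶ CommRingCat.of k => ψ.hom c) h3
    exact this
  intro b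
  refine ⟨φ.hom b, ?_⟩
  have hinj : Function.Injective φ.hom := φ.hom.injective
  apply hinj
  rw [h4]

theorem geometricallyConnected_of_section (X : Over (Spec (CommRingCat.of k)))
    [ConnectedSpace X.left] (σ : 𝟙_ (Over (Spec (CommRingCat.of k))) ⟶ X) :
    GeometricallyConnected X.hom := by
  letI : X.left.Over (Spec (CommRingCat.of k)) := ⟨X.hom⟩
  have hσ : σ.left ≫ (X.left ↘ Spec (CommRingCat.of k)) = 𝟙 _ := Over.w σ
  have hs := resMap_surjective X.left σ.left hσ
  exact Groth.Agent.S1537.result k X.left (σ.left (IsLocalRing.closedPoint k))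
    (fun b _ => by
      obtain ⟨c, hc⟩ := hs b
      exact ⟨c, hc⟩)

end Groth.Agent.Lib.Helper14.RatPtGeomConn
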