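import Mathlib
import Groth.Agent.Lib.Helper14.Blanchard3
import Groth.Agent.Lib.Helper14.BCAct
import Groth.Agent.Lib.Helper14.RatPtGeomConn

/-!
# helper14: Blanchard's lemma over an arbitrary base field, by base change to an algebraic closure
-/

set_option autoImplicit false
universe u
open CategoryTheory MonoidalCategory CartesianMonoidalCategory MonObj GrpObj AlgebraicGeometry
  CategoryTheory.Limits

namespace Groth.Agent.Lib.Helper14.Blanchard

open Groth.Agent.Lib.Helper14.BCAct

variable {k : Type u} [Field k]
  {G X Y : Over (Spec (CommRingCat.of k))} [GrpObj G] (f : X ⟶ Y) (a : AlgGrp.Action G X)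

theorem fibres_const_field [LocallyOfFiniteType G.hom] [ConnectedSpace G.left]
    [LocallyOfFiniteType X.hom] [LocallyOfFiniteType Y.hom] [IsProper f.left]
    (hf : ∀ U : Y.left.Opens, IsIso (f.left.app U))
    (p q : ↥(G ⊗ X).left) (hpq : (G ◁ f).left.base p = (G ◁ f).left.base q) :
    (a.act ≫ f).left.base p = (a.act ≫ f).left.base q := by
  let K := AlgebraicClosure k
  let g : Spec (CommRingCat.of K) ⟶ Spec (CommRingCat.of k) :=
    Spec.map (CommRingCat.ofHom (algebraMap k K))
  haveI : Surjective g := inferInstance
  haveI : Flat g := inferInstance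
  -- the base-changed data
  let f' : Red.bc g X ⟶ Red.bc g Y := (Over.pullback g).map f
  let a' := bcAction g a
  haveI : LocallyOfFiniteType (Red.bc g G).hom :=
    inferInstanceAs (LocallyOfFiniteType (pullback.snd G.hom g))
  haveI : LocallyOfFiniteType (Red.bc g X).hom :=
    inferInstanceAs (LocallyOfFiniteType (pullback.snd X.hom g))
  haveI : LocallyOfFiniteType (Red.bc g Y).hom :=
    inferInstanceAs (LocallyOfFiniteType (pullback.snd Y.hom g))
  haveI : ConnectedSpace (Red.bc g G).left := by
    haveI := Groth.Agent.Lib.Helper14.RatPtGeomConn.geometricallyConnected_of_section G η[G]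
    haveI : GeometricallyConnected (pullback.snd G.hom g) := inferInstance
    haveI : Subsingleton (Spec (CommRingCat.of K)) :=
      inferInstanceAs (Subsingleton (PrimeSpectrum K))
    haveI : Nonempty (Spec (CommRingCat.of K)) :=
      inferInstanceAs (Nonempty (PrimeSpectrum K))
    exact GeometricallyConnected.connectedSpace_of_subsingleton (f := pullback.snd G.hom g)
  have sq := isPullback_map_left g f
  haveI : IsProper f'.left := MorphismProperty.of_isPullback (P := @IsProper) sq inferInstance
  haveI : Flat (prL g Y) := flat_prL g Y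
  have hf' : ∀ U : (Red.bc g Y).left.Opens, IsIso (f'.left.app U) := fun U =>
    Groth.Agent.Lib.helper8.FibFlat.isIso_app_of_isPullback_of_flat f.left (prL g Y) (prL g X)
      f'.left sq hf U
  -- lift the points
  haveI := surjective_prT g G Y
  obtain ⟨z', hz'⟩ := (prT g G Y).surjective ((G ◁ f).left.base p)
  have sqT := isPullback_whiskerLeft_prT g (G := G) f
  obtain ⟨p', hp'1, hp'2⟩ := Scheme.exists_preimage_of_isPullback sqT p z' hz'.symm
  obtain ⟨q', hq'1, hq'2⟩ := Scheme.exists_preimage_of_isPullback sqT q z' (hpq ▸ hz'.symm)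
  have key := fibres_const f' a' hf' p' q' (hp'2.trans hq'2.symm)
  -- push down
  have hcomp : (a'.act ≫ f').left ≫ prL g Y = prT g G X ≫ (a.act ≫ f).left := by
    rw [Over.comp_left, Category.assoc, map_left_prL, ← Category.assoc, bcAction_act_prL,
      Category.assoc, Over.comp_left]
  have h1 := congrArg (fun t => (prL g Y).base t) key
  have e1 : (prL g Y).base ((a'.act ≫ f').left.base p') = (a.act ≫ f).left.base p := by
    have := congrArg (fun t : (Red.bc g G ⊗ Red.bc g X).left ⟶ Y.left => t.base p') hcomp
    simp only [Scheme.Hom.comp_base, TopCat.comp_app] at this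
    rw [this, hp'1]
  have e2 : (prL g Y).base ((a'.act ≫ f').left.base q') = (a.act ≫ f).left.base q := by
    have := congrArg (fun t : (Red.bc g G ⊗ Red.bc g X).left ⟶ Y.left => t.base q') hcomp
    simp only [Scheme.Hom.comp_base, TopCat.comp_app] at this
    rw [this, hq'1]
  rw [← e1, ← e2]
  exact h1

end Groth.Agent.Lib.Helper14.Blanchard
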