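import Groth.Agent.Lib.Helper14.Topos17
import Mathlib.CategoryTheory.Sites.Canonical

/-!
# The canonical topology of a sheaf topos: jointly surjective sieves (helper14)
-/

set_option autoImplicit false

universe u w

open CategoryTheory CategoryTheory.Limits Opposite

namespace Groth.Agent.Lib.Helper14.CanTop

open ToposFin Groth.Agent.Lib.Helper14.Topos

variable {C : Type u} [SmallCategory C] {J : GrothendieckTopology C}

theorem epsMap_secMap (X : Sh J) {U V : C} (f : V ⟶ U) (x : X.obj.obj (op U)) :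
    epsMap J f ≫ secMap X x = secMap X (X.obj.map f.op x) := by
  rw [epsMap_eq_secMap, secMap_comp, secMap_secOf]

theorem map_comp_sec (X : Sh J) {U V W : C} (f : V ⟶ U) (g : W ⟶ V) (x : X.obj.obj (op U)) :
    X.obj.map (g ≫ f).op x = X.obj.map g.op (X.obj.map f.op x) := by
  rw [op_comp, Functor.map_comp_apply]

/-- The sieve of arrows along which the restriction of the section `x` lies in `S`. -/
def secSieve {X : Sh J} (S : Sieve X) {U : C} (x : X.obj.obj (op U)) : Sieve U where
  arrows V f := S (secMap X (X.obj.map f.op x))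
  downward_closed := by
    intro V W f hf g
    have e : secMap X (X.obj.map (g ≫ f).op x) = epsMap J g ≫ secMap X (X.obj.map f.op x) := by
      rw [epsMap_secMap, map_comp_sec]
    change S (secMap X (X.obj.map (g ≫ f).op x))
    rw [e]
    exact S.downward_closed hf _

/-- A sieve in the topos is jointly (locally) surjective. -/
def JS {X : Sh J} (S : Sieve X) : Prop :=
  ∀ (U : C) (x : X.obj.obj (op U)), secSieve S x ∈ J U

theorem JS.pullback {X X' : Sh J} {S : Sieve X} (h : JS S) (φ : X' ⟶ X) : JS (S.pullback φ) := by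
  intro U x'
  have h1 := h U (φ.hom.app (op U) x')
  have e : secSieve (S.pullback φ) x' = secSieve S (φ.hom.app (op U) x') := by
    ext V f
    change S (secMap X' (X'.obj.map f.op x') ≫ φ) ↔
      S (secMap X (X.obj.map f.op (φ.hom.app _ x')))
    rw [secMap_comp, sec_naturality]
  rw [e]
  exact h1

theorem JS.of_jsurj {ι : Type w} {F : ι → Sh J} {X : Sh J} {π : ∀ i, F i ⟶ X} (h : JSurj π)
    (S : Sieve X) (hS : ∀ i, S (π i)) : JS S := by
  intro U x
  obtain ⟨T, hT, hx⟩ := h U x
  refine J.superset_covering ?_ hT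
  intro V f hf
  obtain ⟨i, y, hy⟩ := hx f hf
  change S (secMap X (X.obj.map f.op x))
  rw [← hy, ← secMap_comp]
  exact S.downward_closed (hS i) _

theorem JS.of_le {X : Sh J} {S S' : Sieve X} (h : JS S) (hle : S ≤ S') : JS S' := by
  intro U x
  refine J.superset_covering ?_ (h U x)
  intro V f hf
  exact hle _ hf

theorem JS.top (X : Sh J) : JS (⊤ : Sieve X) := by
  intro U x
  refine J.superset_covering ?_ (J.top_mem U)
  intro V f _
  trivial

/-- The (small) index type of the sections lying in the sieve. -/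
structure SecIdx {X : Sh J} (S : Sieve X) : Type u where
  U : C
  x : X.obj.obj (op U)
  mem : S (secMap X x)

theorem JS.jsurj {X : Sh J} {S : Sieve X} (h : JS S) :
    JSurj (fun a : SecIdx S => secMap X a.x) := by
  intro U x
  refine ⟨secSieve S x, h U x, fun V f hf => ?_⟩
  exact ⟨⟨V, X.obj.map f.op x, hf⟩, secOf J (𝟙 V), secMap_secOf_id X _⟩

theorem JS.of_mem_canonical {X : Sh J} {S : Sieve X}
    (hS : S ∈ Sheaf.canonicalTopology (Sh J) X) : JS S := by
  let ι := Σ Y : Sh J, {h : Y ⟶ X // S h}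
  have hj : JSurj (fun a : ι => a.2.1) := by
    apply jsurj_of_jepi
    intro Z a b hab
    have hsh := Sheaf.isSheaf_yoneda_obj Z S hS
    apply hsh.isSeparatedFor.ext
    intro Y h hh
    exact hab ⟨Y, h, hh⟩
  exact JS.of_jsurj hj S (fun a => a.2.2)

section Glue

variable {X Z : Sh J} {T : Sieve X} (hT : JS T)
  (a : ∀ ⦃Y : Sh J⦄ (h : Y ⟶ X), T h → (Y ⟶ Z))
  (ha : ∀ ⦃Y Y' : Sh J⦄ (g : Y' ⟶ Y) (h : Y ⟶ X) (hh : T h),
    a (g ≫ h) (T.downward_closed hh g) = g ≫ a h hh)

theorem fam_congr {X Z : Sh J} {T : Sieve X} (a : ∀ ⦃Y : Sh J⦄ (h : Y ⟶ X), T h → (Y ⟶ Z))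
    {Y : Sh J} {h h' : Y ⟶ X} (e : h = h') (hh : T h) (hh' : T h') :
    a h hh = a h' hh' := by
  subst e
  rfl

/-- The local family attached to a section. -/
noncomputable def locFam {U : C} (x : X.obj.obj (op U)) :
    Presieve.FamilyOfElements Z.obj (secSieve T x).arrows :=
  fun V f hf => (a (secMap X (X.obj.map f.op x)) hf).hom.app (op V) (secOf J (𝟙 V))

include ha in
theorem locFam_compatible {U : C} (x : X.obj.obj (op U)) : (locFam a x).Compatible := by
  rw [Presieve.compatible_iff_sieveCompatible]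
  intro V W f g hf
  have e : secMap X (X.obj.map (g ≫ f).op x) = epsMap J g ≫ secMap X (X.obj.map f.op x) := by
    rw [epsMap_secMap, map_comp_sec]
  change (a (secMap X (X.obj.map (g ≫ f).op x)) _).hom.app (op W) (secOf J (𝟙 W)) =
    Z.obj.map g.op ((a (secMap X (X.obj.map f.op x)) hf).hom.app (op V) (secOf J (𝟙 V)))
  rw [fam_congr a e _ (T.downward_closed hf _), ha, sec_comp, epsMap_secOf, Category.id_comp,
    ← sec_naturality, map_secOf, Category.comp_id]

include hT ha in
theorem isSheafFor_secSieve {U : C} (x : X.obj.obj (op U)) :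
    Presieve.IsSheafFor Z.obj (secSieve T x).arrows :=
  (isSheaf_iff_isSheaf_of_type _ _).1 Z.2 _ (hT U x)

/-- The glued section. -/
noncomputable def glueSec {U : C} (x : X.obj.obj (op U)) : Z.obj.obj (op U) :=
  (isSheafFor_secSieve hT a ha x).amalgamate (locFam a x) (locFam_compatible a ha x)

theorem map_glueSec {U V : C} (x : X.obj.obj (op U)) (f : V ⟶ U)
    (hf : T (secMap X (X.obj.map f.op x))) :
    Z.obj.map f.op (glueSec hT a ha x) =
      (a (secMap X (X.obj.map f.op x)) hf).hom.app (op V) (secOf J (𝟙 V)) :=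
  (isSheafFor_secSieve hT a ha x).valid_glue (locFam_compatible a ha x) f hf

theorem glueSec_unique {U : C} (x : X.obj.obj (op U)) (z : Z.obj.obj (op U))
    (hz : ∀ ⦃V : C⦄ (f : V ⟶ U) (hf : T (secMap X (X.obj.map f.op x))),
      Z.obj.map f.op z = (a (secMap X (X.obj.map f.op x)) hf).hom.app (op V) (secOf J (𝟙 V))) :
    z = glueSec hT a ha x := by
  apply (isSheafFor_secSieve hT a ha x).isSeparatedFor.ext
  intro V f hf
  rw [hz f hf, map_glueSec hT a ha x f hf]

theorem glueSec_map {U U' : C} (k : U' ⟶ U) (x : X.obj.obj (op U)) :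
    Z.obj.map k.op (glueSec hT a ha x) = glueSec hT a ha (X.obj.map k.op x) := by
  apply glueSec_unique
  intro V f hf
  have e : secMap X (X.obj.map f.op (X.obj.map k.op x)) = secMap X (X.obj.map (f ≫ k).op x) := by
    rw [map_comp_sec]
  have hf' : T (secMap X (X.obj.map (f ≫ k).op x)) := by rw [← e]; exact hf
  rw [fam_congr a e hf hf', ← map_glueSec hT a ha x (f ≫ k) hf', op_comp,
    Functor.map_comp_apply]

/-- The glued morphism. -/
noncomputable def glueHom : X ⟶ Z :=
  ⟨{ app := fun U => TypeCat.ofHom (fun x => glueSec hT a ha (U := U.unop) x)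
     naturality := by
      intro U U' k
      ext x
      exact (glueSec_map hT a ha k.unop x).symm }⟩

theorem glueHom_app {U : C} (x : X.obj.obj (op U)) :
    (glueHom hT a ha).hom.app (op U) x = glueSec hT a ha x := rfl

theorem comp_glueHom {Y : Sh J} (h : Y ⟶ X) (hh : T h) : h ≫ glueHom hT a ha = a h hh := by
  ext U y
  change (glueHom hT a ha).hom.app (op U.unop) (h.hom.app (op U.unop) y) = _
  rw [glueHom_app]
  symm
  apply glueSec_unique
  intro V f hf
  have e : secMap X (X.obj.map f.op (h.hom.app (op U.unop) y)) =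
      secMap Y (Y.obj.map f.op y) ≫ h := by
    rw [secMap_comp, sec_naturality]
  rw [fam_congr a e hf (T.downward_closed hh _), ha _ _ hh, sec_comp, secMap_secOf_id,
    sec_naturality]
  rfl

theorem glueHom_unique (α : X ⟶ Z) (hα : ∀ ⦃Y : Sh J⦄ (h : Y ⟶ X) (hh : T h), h ≫ α = a h hh) :
    α = glueHom hT a ha := by
  ext U x
  change α.hom.app (op U.unop) x = (glueHom hT a ha).hom.app (op U.unop) x
  rw [glueHom_app]
  apply glueSec_unique
  intro V f hf
  rw [← hα _ hf, sec_comp, secMap_secOf_id, sec_naturality]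

end Glue

theorem JS.isSheafFor_yoneda {X : Sh J} {T : Sieve X} (hT : JS T) (Z : Sh J) :
    Presieve.IsSheafFor (yoneda.obj Z) T.arrows := by
  intro a ha
  rw [Presieve.compatible_iff_sieveCompatible] at ha
  let a' : ∀ ⦃Y : Sh J⦄ (h : Y ⟶ X), T h → (Y ⟶ Z) := fun Y h hh => a h hh
  have ha' : ∀ ⦃Y Y' : Sh J⦄ (g : Y' ⟶ Y) (h : Y ⟶ X) (hh : T h),
      a' (g ≫ h) (T.downward_closed hh g) = g ≫ a' h hh := fun Y Y' g h hh => ha h g hh
  refine ⟨glueHom hT a' ha', ?_, ?_⟩
  · intro Y h hh
    exact comp_glueHom hT a' ha' h hh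
  · intro α hα
    exact glueHom_unique hT a' ha' α (fun Y h hh => hα h hh)

theorem JS.mem_canonical {X : Sh J} {S : Sieve X} (h : JS S) :
    S ∈ Sheaf.canonicalTopology (Sh J) X := by
  apply Sheaf.mem_finestTopology_of_forall_isSheafFor
  rintro P ⟨Z, rfl⟩ Y f
  exact (h.pullback f).isSheafFor_yoneda Z

theorem mem_canonical_iff {X : Sh J} (S : Sieve X) :
    S ∈ Sheaf.canonicalTopology (Sh J) X ↔ JS S :=
  ⟨JS.of_mem_canonical, JS.mem_canonical⟩

end Groth.Agent.Lib.Helper14.CanTop
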