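import Groth.Agent.Lib.Helper14.CanTop1
import Mathlib.CategoryTheory.Limits.Opposites
import Mathlib.CategoryTheory.Limits.Types.Limits

/-!
# The canonical topology of a sheaf topos: limit-preserving presheaves are sheaves (helper14)
-/

set_option autoImplicit false

universe u w

open CategoryTheory CategoryTheory.Limits Opposite

namespace Groth.Agent.Lib.Helper14.CanTop

open ToposFin Groth.Agent.Lib.Helper14.Topos

variable {C : Type u} [SmallCategory C] {J : GrothendieckTopology C}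

/-- `G` turns the cocone `c` into a limit cone (elementwise formulation). -/
def TurnsIntoLimit (G : (Sh J)ᵒᵖ ⥤ Type w) {I : Type u} [Category.{u} I] {K : I ⥤ Sh J}
    (c : Cocone K) : Prop :=
  ∀ (s : ∀ i, G.obj (op (K.obj i))), (∀ ⦃i j : I⦄ (φ : i ⟶ j), G.map (K.map φ).op (s j) = s i) →
    ∃! t : G.obj (op c.pt), ∀ i, G.map (c.ι.app i).op t = s i

theorem turnsIntoLimit_of_preserves (G : (Sh J)ᵒᵖ ⥤ Type w) [PreservesLimitsOfSize.{u, u} G]
    {I : Type u} [Category.{u} I] {K : I ⥤ Sh J} (c : Cocone K) (hc : IsColimit c) :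
    TurnsIntoLimit G c := by
  intro s hs
  have hl : IsLimit (G.mapCone c.op) := isLimitOfPreserves G hc.op
  obtain ⟨x, hx, hux⟩ := (Types.isLimit_iff (G.mapCone c.op)).1 ⟨hl⟩ (fun i => s i.unop)
    (fun {i j} f => hs f.unop)
  exact ⟨x, fun i => hx (op i), fun y hy => hux y (fun j => hy j.unop)⟩

theorem preserves_of_turnsIntoLimit (G : (Sh J)ᵒᵖ ⥤ Type w)
    (h : ∀ (I : Type u) [Category.{u} I] (K : I ⥤ Sh J) (c : Cocone K), IsColimit c →
      TurnsIntoLimit G c) : PreservesLimitsOfSize.{u, u} G := by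
  refine ⟨fun {I'} _ => ⟨fun {K'} => ?_⟩⟩
  let c := colimit.cocone K'.leftOp
  have hc : IsColimit c := colimit.isColimit _
  refine preservesLimit_of_preserves_limit_cone (isLimitConeOfCoconeLeftOp K' hc) ?_
  apply Nonempty.some
  rw [Types.isLimit_iff]
  intro s hs
  obtain ⟨x, hx, hux⟩ := h I'ᵒᵖ K'.leftOp c hc (fun i => s i.unop) (fun {i j} φ => hs φ.unop)
  exact ⟨x, fun i => hx (op i), fun y hy => hux y (fun j => hy j.unop)⟩

section SecCat

variable {X : Sh J} (T : Sieve X)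

/-- Morphisms of the small category of sections lying in a sieve. -/
@[ext]
structure SecHom (a b : SecIdx T) where
  hom : eps J a.U ⟶ eps J b.U
  w : hom ≫ secMap X b.x = secMap X a.x

noncomputable instance : Category.{u} (SecIdx T) where
  Hom a b := SecHom T a b
  id a := ⟨𝟙 _, Category.id_comp _⟩
  comp f g := ⟨f.hom ≫ g.hom, by rw [Category.assoc, g.w, f.w]⟩
  id_comp f := SecHom.ext (Category.id_comp _)
  comp_id f := SecHom.ext (Category.comp_id _)
  assoc f g h := SecHom.ext (Category.assoc _ _ _)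

/-- The diagram of the `eps J U`. -/
noncomputable def secDiagram : SecIdx T ⥤ Sh J where
  obj a := eps J a.U
  map f := f.hom
  map_id _ := rfl
  map_comp _ _ := rfl

/-- The canonical cocone. -/
noncomputable def secCocone : Cocone (secDiagram T) where
  pt := X
  ι := { app := fun a => secMap X a.x
         naturality := fun a b f => by
          change f.hom ≫ secMap X b.x = secMap X a.x ≫ 𝟙 X
          rw [Category.comp_id, f.w] }

/-- The sieve generated by the sections lying in `T`. -/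
def genSieve : Sieve X where
  arrows Y h := ∃ (a : SecIdx T) (g : Y ⟶ eps J a.U), g ≫ secMap X a.x = h
  downward_closed := by
    rintro Y Y' h ⟨a, g, rfl⟩ g'
    exact ⟨a, g' ≫ g, Category.assoc _ _ _⟩

variable {T}

theorem genSieve_JS (hT : JS T) : JS (genSieve T) :=
  JS.of_jsurj hT.jsurj _ (fun a => ⟨a, 𝟙 _, Category.id_comp _⟩)

theorem secCocone_welldef {W : Sh J} (m : ∀ a : SecIdx T, eps J a.U ⟶ W)
    (hm : ∀ ⦃a b : SecIdx T⦄ (f : a ⟶ b), f.hom ≫ m b = m a) {Y : Sh J} {a₁ a₂ : SecIdx T}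
    (g₁ : Y ⟶ eps J a₁.U) (g₂ : Y ⟶ eps J a₂.U)
    (h : g₁ ≫ secMap X a₁.x = g₂ ≫ secMap X a₂.x) :
    g₁ ≫ m a₁ = g₂ ≫ m a₂ := by
  apply (jsurj_secMap Y).jepi
  rintro ⟨V, y⟩
  change secMap Y y ≫ g₁ ≫ m a₁ = secMap Y y ≫ g₂ ≫ m a₂
  let k₁ := secMap Y y ≫ g₁
  let k₂ := secMap Y y ≫ g₂
  let x₀ := (k₁ ≫ secMap X a₁.x).hom.app (op V) (secOf J (𝟙 V))
  have e₁ : k₁ ≫ secMap X a₁.x = secMap X x₀ := eq_secMap _
  have e₂ : k₂ ≫ secMap X a₂.x = secMap X x₀ := by
    rw [← e₁]
    change (secMap Y y ≫ g₂) ≫ _ = (secMap Y y ≫ g₁) ≫ _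
    rw [Category.assoc, Category.assoc, h]
  have hmem : T (secMap X x₀) := by
    rw [← e₁]
    exact T.downward_closed a₁.mem _
  let a₀ : SecIdx T := ⟨V, x₀, hmem⟩
  let f₁ : a₀ ⟶ a₁ := ⟨k₁, e₁⟩
  let f₂ : a₀ ⟶ a₂ := ⟨k₂, e₂⟩
  have w₁ : k₁ ≫ m a₁ = m a₀ := hm f₁
  have w₂ : k₂ ≫ m a₂ = m a₀ := hm f₂
  rw [← Category.assoc, ← Category.assoc]
  exact w₁.trans w₂.symm

section Desc

variable (hT : JS T) {W : Sh J} (m : ∀ a : SecIdx T, eps J a.U ⟶ W)
  (hm : ∀ ⦃a b : SecIdx T⦄ (f : a ⟶ b), f.hom ≫ m b = m a)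

/-- The family of morphisms on the generated sieve induced by a cocone. -/
noncomputable def coconeFam :
    ∀ ⦃Y : Sh J⦄ (h : Y ⟶ X), genSieve T h → (Y ⟶ W) :=
  fun _ _ hh => hh.choose_spec.choose ≫ m hh.choose

include hm in
theorem coconeFam_eq {Y : Sh J} (a : SecIdx T)
    (g : Y ⟶ eps J a.U) (h : Y ⟶ X) (e : g ≫ secMap X a.x = h) (hh : genSieve T h) :
    coconeFam m h hh = g ≫ m a := by
  apply secCocone_welldef m hm
  rw [hh.choose_spec.choose_spec, e]

include hm in
theorem coconeFam_comp ⦃Y Y' : Sh J⦄ (g : Y' ⟶ Y) (h : Y ⟶ X)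
    (hh : genSieve T h) :
    coconeFam m (g ≫ h) ((genSieve T).downward_closed hh g) = g ≫ coconeFam m h hh := by
  obtain ⟨a, g₀, e⟩ := hh
  rw [coconeFam_eq m hm a g₀ h e, coconeFam_eq m hm a (g ≫ g₀) (g ≫ h) (by rw [Category.assoc, e]),
    Category.assoc]

/-- The induced morphism. -/
noncomputable def secDesc : X ⟶ W :=
  glueHom (genSieve_JS hT) (coconeFam m) (coconeFam_comp m hm)

theorem secMap_secDesc (a : SecIdx T) : secMap X a.x ≫ secDesc hT m hm = m a := by
  have hh : genSieve T (secMap X a.x) := ⟨a, 𝟙 _, Category.id_comp _⟩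
  unfold secDesc
  rw [comp_glueHom _ _ _ _ hh, coconeFam_eq m hm a (𝟙 _) _ (Category.id_comp _), Category.id_comp]

theorem secDesc_unique (d : X ⟶ W) (hd : ∀ a : SecIdx T, secMap X a.x ≫ d = m a) :
    d = secDesc hT m hm := by
  apply glueHom_unique
  rintro Y h ⟨a, g, rfl⟩
  rw [coconeFam_eq m hm a g _ rfl, Category.assoc, hd]

end Desc

/-- The canonical cocone is a colimit. -/
noncomputable def secCoconeIsColimit (hT : JS T) : IsColimit (secCocone T) where
  desc s := secDesc hT (fun a => s.ι.app a) (fun a b f => s.w f)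
  fac s a := secMap_secDesc hT (fun a => s.ι.app a) (fun a b f => s.w f) a
  uniq s d hd := secDesc_unique hT (fun a => s.ι.app a) (fun a b f => s.w f) d hd

end SecCat

section Sheaf

variable (G : (Sh J)ᵒᵖ ⥤ Type w) [PreservesLimitsOfSize.{u, u} G]

theorem existsUnique_of_JS {X : Sh J} {T : Sieve X} (hT : JS T)
    (s : ∀ a : SecIdx T, G.obj (op (eps J a.U)))
    (hs : ∀ ⦃a b : SecIdx T⦄ (f : a ⟶ b), G.map f.hom.op (s b) = s a) :
    ∃! t : G.obj (op X), ∀ a : SecIdx T, G.map (secMap X a.x).op t = s a :=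
  turnsIntoLimit_of_preserves G (secCocone T) (secCoconeIsColimit hT) s hs

theorem map_injective_of_secMap (Y : Sh J) (t t' : G.obj (op Y))
    (h : ∀ (U : C) (y : Y.obj.obj (op U)), G.map (secMap Y y).op t = G.map (secMap Y y).op t') :
    t = t' := by
  obtain ⟨t₀, -, hu⟩ := existsUnique_of_JS G (JS.top Y)
    (fun a => G.map (secMap Y a.x).op t) (by
    intro a b f
    change G.map f.hom.op (G.map (secMap Y b.x).op t) = G.map (secMap Y a.x).op t
    rw [← Functor.map_comp_apply, ← op_comp, f.w])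
  rw [hu t (fun a => rfl), hu t' (fun a => (h _ _).symm)]

theorem isSheafFor_of_JS {X : Sh J} {T : Sieve X} (hT : JS T) :
    Presieve.IsSheafFor G T.arrows := by
  intro t ht
  rw [Presieve.compatible_iff_sieveCompatible] at ht
  obtain ⟨s, hs, hu⟩ := existsUnique_of_JS G hT (fun a => t (secMap X a.x) a.mem) (by
    intro a b f
    change G.map f.hom.op (t (secMap X b.x) b.mem) = t (secMap X a.x) a.mem
    rw [← ht]
    congr 1
    exact f.w)
  refine ⟨s, ?_, ?_⟩
  · intro Y h hh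
    apply map_injective_of_secMap G Y
    intro U y
    have e : secMap Y y ≫ h = secMap X (h.hom.app (op U) y) := secMap_comp h y
    have hm : T (secMap X (h.hom.app (op U) y)) := by
      rw [← e]; exact T.downward_closed hh _
    have h1 : G.map (secMap X (h.hom.app (op U) y)).op s = t _ hm := hs ⟨U, _, hm⟩
    rw [← Functor.map_comp_apply, ← op_comp, ← ht h (secMap Y y) hh]
    refine Eq.trans ?_ (h1.trans ?_)
    · rw [e]
    · congr 1
      exact e.symm
  · intro s' hs'
    apply hu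
    intro a
    exact hs' _ a.mem

theorem isSheaf_canonical_of_preserves :
    Presieve.IsSheaf (Sheaf.canonicalTopology (Sh J)) G := by
  intro X S hS
  exact isSheafFor_of_JS G (JS.of_mem_canonical hS)

end Sheaf

end Groth.Agent.Lib.Helper14.CanTop
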