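import Groth.Agent.Lib.Helper14.CanTop2
import Mathlib.CategoryTheory.Limits.Types.Colimits
import Mathlib.CategoryTheory.Limits.Yoneda
import Mathlib.CategoryTheory.Sites.Limits

/-!
# The canonical topology of a sheaf topos: sheaves preserve limits (helper14)
-/

set_option autoImplicit false

universe w' v' u w

open CategoryTheory CategoryTheory.Limits Opposite

namespace Groth.Agent.Lib.Helper14.CanTop

open ToposFin Groth.Agent.Lib.Helper14.Topos

variable {C : Type u} [SmallCategory C] {J : GrothendieckTopology C}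

/-- Equality of sections in a colimit of sheaves holds locally in the colimit of the sections. -/
theorem exists_cover_of_colimit_eq {I : Type u} [Category.{u} I] {K : I ⥤ Sh J} (c : Cocone K)
    (hc : IsColimit c) {i j : I} {U : C} (y : (K.obj i).obj.obj (op U))
    (y' : (K.obj j).obj.obj (op U))
    (h : (c.ι.app i).hom.app (op U) y = (c.ι.app j).hom.app (op U) y') :
    ∃ T ∈ J U, ∀ ⦃V : C⦄ (f : V ⟶ U), T f → ∀ {M : Type w}
      (v : ∀ k, (K.obj k).obj.obj (op V) → M)
      (_ : ∀ ⦃k k' : I⦄ (φ : k ⟶ k') (z : (K.obj k).obj.obj (op V)),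
        v k' ((K.map φ).hom.app (op V) z) = v k z),
      v i ((K.obj i).obj.map f.op y) = v j ((K.obj j).obj.map f.op y') := by
  let Kp := K ⋙ sheafToPresheaf J (Type u)
  let cL := colimit.cocone Kp
  have hL : IsColimit cL := colimit.isColimit Kp
  let c' := Sheaf.sheafifyCocone cL
  have hc' : IsColimit c' := Sheaf.isColimitSheafifyCocone cL hL
  let e := hc.coconePointUniqueUpToIso hc'
  have he : ∀ k, c.ι.app k ≫ e.hom = c'.ι.app k :=
    fun k => IsColimit.comp_coconePointUniqueUpToIso_hom hc hc' k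
  have h' : (c'.ι.app i).hom.app (op U) y = (c'.ι.app j).hom.app (op U) y' := by
    rw [← he, ← he, sec_comp, sec_comp, h]
  have hι : ∀ k (z : (K.obj k).obj.obj (op U)), (c'.ι.app k).hom.app (op U) z =
      (toSheafify J cL.pt).app (op U) ((cL.ι.app k).app (op U) z) := by
    intro k z
    have := Sheaf.sheafifyCocone_ι_app_val cL k
    exact congrFun (congrArg (fun m => (ConcreteCategory.hom (m.app (op U)) : _ → _)) this) z
  rw [hι, hι] at h'
  refine ⟨_, Presheaf.equalizerSieve_mem J (toSheafify J cL.pt) (X := op U) _ _ h', ?_⟩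
  intro V f hf M v hv
  have hf' : cL.pt.map f.op ((cL.ι.app i).app (op U) y) =
      cL.pt.map f.op ((cL.ι.app j).app (op U) y') := hf
  rw [← NatTrans.naturality_apply, ← NatTrans.naturality_apply] at hf'
  let ev := (evaluation Cᵒᵖ (Type u)).obj (op V)
  have hev : IsColimit (ev.mapCocone cL) := isColimitOfPreserves ev hL
  have hct := (Types.isColimit_iff_coconeTypesIsColimit _).1 ⟨hev⟩
  let c'' : (Kp ⋙ ev).CoconeTypes.{w} :=
    { pt := M
      ι := fun k z => v k z
      ι_naturality := by
        intro k k' φ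
        funext z
        exact hv φ z }
  have h1 := hct.fac_apply c'' i ((K.obj i).obj.map f.op y)
  have h2 := hct.fac_apply c'' j ((K.obj j).obj.map f.op y')
  change v i _ = v j _
  refine h1.symm.trans (Eq.trans ?_ h2)
  congr 1

section Sheaf

variable (G : (Sh J)ᵒᵖ ⥤ Type w) (hG : Presieve.IsSheaf (Sheaf.canonicalTopology (Sh J)) G)

include hG in
theorem ext_of_jsurj {ι : Type w'} {F : ι → Sh J} {X : Sh J} {π : ∀ i, F i ⟶ X} (h : JSurj π)
    (t t' : G.obj (op X)) (ht : ∀ i, G.map (π i).op t = G.map (π i).op t') : t = t' := by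
  have hmem : Sieve.ofArrows F π ∈ Sheaf.canonicalTopology (Sh J) X :=
    (JS.of_jsurj h _ (fun i => Sieve.ofArrows_mk F π i)).mem_canonical
  apply (hG _ hmem).isSeparatedFor.ext
  intro Y f hf
  obtain ⟨i, g, rfl⟩ := (Sieve.mem_ofArrows_iff _ _ _).1 hf
  rw [op_comp, Functor.map_comp_apply, Functor.map_comp_apply, ht]

include hG in
theorem turnsIntoLimit_of_isSheaf {I : Type u} [Category.{u} I] {K : I ⥤ Sh J} (c : Cocone K)
    (hc : IsColimit c) : TurnsIntoLimit G c := by
  intro s hs
  have hjs : JSurj (fun i => c.ι.app i) :=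
    jsurj_of_jepi (fun Z a b hab => hc.hom_ext hab)
  have hmem : Sieve.ofArrows (fun i => K.obj i) (fun i => c.ι.app i) ∈
      Sheaf.canonicalTopology (Sh J) c.pt :=
    (JS.of_jsurj hjs _ (fun i => Sieve.ofArrows_mk _ _ i)).mem_canonical
  have hsh : Presieve.IsSheafFor G (Presieve.ofArrows (fun i => K.obj i) (fun i => c.ι.app i)) :=
    (Presieve.isSheafFor_iff_generate _).2 (hG _ hmem)
  rw [Presieve.isSheafFor_arrows_iff] at hsh
  apply hsh s
  -- the key claims
  have claim3 : ∀ {i j : I} {U : C} (z : (K.obj i).obj.obj (op U)) (z' : (K.obj j).obj.obj (op U)),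
      (c.ι.app i).hom.app (op U) z = (c.ι.app j).hom.app (op U) z' →
      G.map (secMap (K.obj i) z).op (s i) = G.map (secMap (K.obj j) z').op (s j) := by
    intro i j U z z' h
    obtain ⟨T, hT, hT'⟩ := exists_cover_of_colimit_eq c hc z z' h
    have hcov : Sieve.ofArrows (fun p : (Σ V : C, {f : V ⟶ U // T f}) => p.1)
        (fun p => p.2.1) ∈ J U := by
      refine J.superset_covering ?_ hT
      intro V f hf
      exact Sieve.ofArrows_mk (fun p : (Σ V : C, {f : V ⟶ U // T f}) => p.1)
        (fun p => p.2.1) ⟨V, f, hf⟩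
    apply ext_of_jsurj G hG (jsurj_epsMap_of_mem _ _ hcov)
    rintro ⟨V, f, hf⟩
    change G.map (epsMap J f).op _ = G.map (epsMap J f).op _
    rw [← Functor.map_comp_apply, ← Functor.map_comp_apply, ← op_comp, ← op_comp,
      epsMap_secMap, epsMap_secMap]
    apply hT' f hf (M := G.obj (op (eps J V)))
      (v := fun k z => G.map (secMap (K.obj k) z).op (s k))
    intro k k' φ z
    change G.map (secMap (K.obj k') ((K.map φ).hom.app (op V) z)).op (s k') = _
    rw [← secMap_comp, op_comp, Functor.map_comp_apply, hs]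
  intro i j Y gi gj hg
  apply ext_of_jsurj G hG (jsurj_secMap Y)
  rintro ⟨V, y⟩
  change G.map (secMap Y y).op _ = G.map (secMap Y y).op _
  rw [← Functor.map_comp_apply, ← Functor.map_comp_apply, ← op_comp, ← op_comp,
    secMap_comp, secMap_comp]
  apply claim3
  have := sec_congr hg (op V) y
  rwa [sec_comp, sec_comp] at this

include hG in
theorem preserves_of_isSheaf : PreservesLimitsOfSize.{u, u} G :=
  preserves_of_turnsIntoLimit G (fun _ _ _ c hc => turnsIntoLimit_of_isSheaf G hG c hc)

end Sheaf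

theorem isSheaf_canonical_iff_preserves (G : (Sh J)ᵒᵖ ⥤ Type w) :
    Presieve.IsSheaf (Sheaf.canonicalTopology (Sh J)) G ↔ PreservesLimitsOfSize.{u, u} G :=
  ⟨fun h => preserves_of_isSheaf G h, fun _ => isSheaf_canonical_of_preserves G⟩

/-- S3079. -/
theorem presheaf_isSheaf_canonical_iff {E' : Type v'} [Category.{w} E'] (F : (Sh J)ᵒᵖ ⥤ E') :
    Presheaf.IsSheaf (Sheaf.canonicalTopology (Sh J)) F ↔ PreservesLimitsOfSize.{u, u} F := by
  constructor
  · intro h
    have h1 : ∀ T : E', PreservesLimitsOfSize.{u, u} (F ⋙ coyoneda.obj (op T)) :=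
      fun T => (isSheaf_canonical_iff_preserves _).1 (h T)
    refine ⟨fun {I} _ => ⟨fun {K} => ⟨fun {c} hc => ⟨?_⟩⟩⟩⟩
    apply coyonedaJointlyReflectsLimits
    intro T
    have := h1 T.unop
    exact isLimitOfPreserves (F ⋙ coyoneda.obj (op T.unop)) hc
  · intro h T
    rw [isSheaf_canonical_iff_preserves]
    infer_instance

end Groth.Agent.Lib.Helper14.CanTop
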