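import Groth.Agent.Lib.Helper14.CanTop3
import Mathlib.CategoryTheory.Sites.Continuous
import Mathlib.CategoryTheory.Limits.Preserves.Opposites

/-!
# Colimit preserving functors between sheaf topoi are the continuous ones (helper14)
-/

set_option autoImplicit false

universe u

open CategoryTheory CategoryTheory.Limits Opposite

namespace Groth.Agent.Lib.Helper14.CanTop

open ToposFin Groth.Agent.Lib.Helper14.Topos

variable {C D : Type u} [SmallCategory C] [SmallCategory D]
  (J : GrothendieckTopology C) (K : GrothendieckTopology D) (f : Sh J ⥤ Sh K)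

theorem isContinuous_of_preservesColimits [PreservesColimitsOfSize.{u, u} f] :
    f.IsContinuous (Sheaf.canonicalTopology (Sh J)) (Sheaf.canonicalTopology (Sh K)) where
  op_comp_isSheaf_of_types G := by
    have h1 : PreservesLimitsOfSize.{u, u} G.obj :=
      (isSheaf_canonical_iff_preserves G.obj).1 ((isSheaf_iff_isSheaf_of_type _ _).1 G.property)
    have h2 : PreservesLimitsOfSize.{u, u} f.op := preservesLimitsOfSize_op f
    rw [isSheaf_canonical_iff_preserves]
    infer_instance

theorem preservesColimits_of_isContinuous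
    [f.IsContinuous (Sheaf.canonicalTopology (Sh J)) (Sheaf.canonicalTopology (Sh K))] :
    PreservesColimitsOfSize.{u, u} f := by
  have key : ∀ Z : Sh K, PreservesLimitsOfSize.{u, u} (f.op ⋙ yoneda.obj Z) := by
    intro Z
    rw [← isSheaf_canonical_iff_preserves]
    exact f.op_comp_isSheaf_of_types (Sheaf.canonicalTopology (Sh J))
      (Sheaf.canonicalTopology (Sh K))
      ⟨yoneda.obj Z, (isSheaf_iff_isSheaf_of_type _ _).2 (Sheaf.isSheaf_yoneda_obj Z)⟩
  refine ⟨fun {I} _ => ⟨fun {Kd} => ⟨fun {c} hc => ⟨?_⟩⟩⟩⟩
  refine (Cocone.isColimitYonedaEquiv (f.mapCocone c)).symm (fun Z => ?_)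
  have := key Z
  exact isLimitOfPreserves (f.op ⋙ yoneda.obj Z) hc.op

theorem preservesColimits_iff_isContinuous :
    PreservesColimitsOfSize.{u, u} f ↔
      f.IsContinuous (Sheaf.canonicalTopology (Sh J)) (Sheaf.canonicalTopology (Sh K)) :=
  ⟨fun _ => isContinuous_of_preservesColimits J K f,
    fun _ => preservesColimits_of_isContinuous J K f⟩

end Groth.Agent.Lib.Helper14.CanTop
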