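import Groth.Agent.Lib.Helper14.CanTop4
import Mathlib.CategoryTheory.Sites.DenseSubsite.Basic
import Mathlib.CategoryTheory.Sites.CoverPreserving
import Mathlib.CategoryTheory.Functor.Flat

/-!
# Left exact functors between sheaf topoi preserving epimorphic families (helper14)
-/

set_option autoImplicit false

universe u w

open CategoryTheory CategoryTheory.Limits Opposite

namespace Groth.Agent.Lib.Helper14.CanTop

open ToposFin Groth.Agent.Lib.Helper14.Topos

section Eps

variable {C : Type u} [SmallCategory C] (J : GrothendieckTopology C)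

theorem functorPushforward_epsF_mem {U : C} (R : Sieve U) (hR : R ∈ J U) :
    R.functorPushforward (epsF J) ∈ Sheaf.canonicalTopology (Sh J) (eps J U) := by
  have hcov : Sieve.ofArrows (fun p : (Σ V : C, {f : V ⟶ U // R f}) => p.1)
      (fun p => p.2.1) ∈ J U := by
    refine J.superset_covering ?_ hR
    intro V f hf
    exact Sieve.ofArrows_mk (fun p : (Σ V : C, {f : V ⟶ U // R f}) => p.1)
      (fun p => p.2.1) ⟨V, f, hf⟩
  refine (JS.of_jsurj (jsurj_epsMap_of_mem _ _ hcov) _ ?_).mem_canonical
  rintro ⟨V, f, hf⟩
  exact Sieve.image_mem_functorPushforward (epsF J) R hf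

instance : (epsF J).IsCoverDense (Sheaf.canonicalTopology (Sh J)) where
  is_cover X := by
    refine (JS.of_jsurj (jsurj_secMap X) _ ?_).mem_canonical
    rintro ⟨U, x⟩
    exact ⟨⟨U, 𝟙 _, secMap X x, Category.id_comp _⟩⟩

theorem imageSieve_epsF_mem {U V : C} (f : eps J U ⟶ eps J V) :
    (epsF J).imageSieve f ∈ J U := by
  obtain ⟨T, hT, hT'⟩ := exists_cover_secOf J (f.hom.app (op U) (secOf J (𝟙 U)))
  refine J.superset_covering ?_ hT
  intro W w hw
  obtain ⟨m, hm⟩ := hT' w hw
  refine ⟨m, ?_⟩
  change epsMap J m = epsMap J w ≫ f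
  apply eps_hom_ext
  rw [epsMap_secOf, Category.id_comp, hm, sec_comp, epsMap_secOf, Category.id_comp,
    ← sec_naturality, map_secOf, Category.comp_id]

instance : (epsF J).IsLocallyFull (Sheaf.canonicalTopology (Sh J)) where
  functorPushforward_imageSieve_mem {U V} f :=
    functorPushforward_epsF_mem J _ (imageSieve_epsF_mem J f)

instance : (epsF J).IsLocallyFaithful (Sheaf.canonicalTopology (Sh J)) where
  functorPushforward_equalizer_mem {U V} f₁ f₂ h := by
    apply functorPushforward_epsF_mem
    have h' : secOf J f₁ = secOf J f₂ := by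
      have := sec_congr (show epsMap J f₁ = epsMap J f₂ from h) (op U) (secOf J (𝟙 U))
      rwa [epsMap_secOf, epsMap_secOf, Category.id_comp, Category.id_comp] at this
    obtain ⟨T, hT, hT'⟩ := exists_cover_of_secOf_eq J f₁ f₂ h'
    refine J.superset_covering ?_ hT
    intro W w hw
    exact hT' w hw

theorem coverPreserving_epsF :
    CoverPreserving J (Sheaf.canonicalTopology (Sh J)) (epsF J) where
  cover_preserve hS := functorPushforward_epsF_mem J _ hS

instance isContinuous_epsF : (epsF J).IsContinuous J (Sheaf.canonicalTopology (Sh J)) :=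
  Functor.IsCoverDense.isContinuous J (Sheaf.canonicalTopology (Sh J)) (epsF J)
    (coverPreserving_epsF J)

end Eps

section Lex

variable {C D : Type u} [SmallCategory C] [SmallCategory D]
  (J : GrothendieckTopology C) (K : GrothendieckTopology D) (f : Sh J ⥤ Sh K)

theorem coverPreserving_of_preservesEpiFamilies
    (hf : SGA4.PreservesEpiFamilies.{u + 1, u + 1, u} f) :
    CoverPreserving (Sheaf.canonicalTopology (Sh J)) (Sheaf.canonicalTopology (Sh K)) f where
  cover_preserve {X S} hS := by
    have h1 : JS S := JS.of_mem_canonical hS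
    have h2 : SGA4.IsEpiFamily (fun a : SecIdx S => secMap X a.x) :=
      fun Z a b hab => h1.jsurj.jepi a b hab
    have h3 := hf _ _ _ _ h2
    have h4 : JSurj (fun a : SecIdx S => f.map (secMap X a.x)) := jsurj_of_jepi h3
    exact (JS.of_jsurj h4 _
      (fun a => Sieve.image_mem_functorPushforward f S a.mem)).mem_canonical

theorem isContinuous_of_lex [PreservesFiniteLimits f]
    (hf : SGA4.PreservesEpiFamilies.{u + 1, u + 1, u} f) :
    f.IsContinuous (Sheaf.canonicalTopology (Sh J)) (Sheaf.canonicalTopology (Sh K)) := by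
  have : RepresentablyFlat f := flat_of_preservesFiniteLimits f
  exact (Functor.isContinuous_iff_coverPreserving).2
    (coverPreserving_of_preservesEpiFamilies J K f hf)

end Lex

end Groth.Agent.Lib.Helper14.CanTop
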