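import Groth.Agent.Lib.Helper14.CanTop5
import Mathlib.CategoryTheory.Adjunction.Basic

/-!
# Colimit preserving functors between sheaf topoi are left adjoints (helper14)
-/

set_option autoImplicit false

universe u w

open CategoryTheory CategoryTheory.Limits Opposite

namespace Groth.Agent.Lib.Helper14.CanTop

open ToposFin Groth.Agent.Lib.Helper14.Topos

variable {C D : Type u} [SmallCategory C] [SmallCategory D]
  {J : GrothendieckTopology C} {K : GrothendieckTopology D} (f : Sh J ⥤ Sh K)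

/-- The presheaf `X ↦ Hom(f X, Z)` on the topos. -/
abbrev homPsh (Z : Sh K) : (Sh J)ᵒᵖ ⥤ Type u := f.op ⋙ yoneda.obj Z

variable [PreservesColimitsOfSize.{u, u} f]

instance (Z : Sh K) : PreservesLimitsOfSize.{u, u} (homPsh f Z) := by
  have := preservesLimitsOfSize_op f
  infer_instance

theorem homPsh_isSheaf (Z : Sh K) :
    Presieve.IsSheaf (Sheaf.canonicalTopology (Sh J)) (homPsh f Z) :=
  isSheaf_canonical_of_preserves _

/-- The right adjoint on objects. -/
noncomputable def gObj (Z : Sh K) : Sh J :=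
  ⟨(epsF J).op ⋙ homPsh f Z, (isSheaf_iff_isSheaf_of_type _ _).2
    ((epsF J).op_comp_isSheaf_of_types J (Sheaf.canonicalTopology (Sh J))
      ⟨homPsh f Z, (isSheaf_iff_isSheaf_of_type _ _).2 (homPsh_isSheaf f Z)⟩)⟩

/-- Sections of `gObj f Z` are morphisms. -/
def ofSec {Z : Sh K} {U : C} (s : (gObj f Z).obj.obj (op U)) : f.obj (eps J U) ⟶ Z := s

/-- Morphisms are sections of `gObj f Z`. -/
def toSec {Z : Sh K} {U : C} (φ : f.obj (eps J U) ⟶ Z) : (gObj f Z).obj.obj (op U) := φ

theorem gObj_map {Z : Sh K} {U V : C} (m : V ⟶ U) (s : (gObj f Z).obj.obj (op U)) :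
    ofSec f ((gObj f Z).obj.map m.op s) = f.map (epsMap J m) ≫ ofSec f s := rfl

theorem secMap_injective (X : Sh J) {U : C} {x x' : X.obj.obj (op U)}
    (h : secMap X x = secMap X x') : x = x' := by
  rw [← secMap_secOf_id X x, ← secMap_secOf_id X x', h]

/-- Compatibility of a morphism `X ⟶ gObj f Z` with all morphisms between the `eps J U`. -/
theorem compat_of_hom {X : Sh J} {Z : Sh K} (ψ : X ⟶ gObj f Z) {U₁ U₂ : C}
    (x₁ : X.obj.obj (op U₁)) (x₂ : X.obj.obj (op U₂)) (k : eps J U₁ ⟶ eps J U₂)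
    (hk : k ≫ secMap X x₂ = secMap X x₁) :
    f.map k ≫ ofSec f (ψ.hom.app (op U₂) x₂) = ofSec f (ψ.hom.app (op U₁) x₁) := by
  have hT := imageSieve_epsF_mem J k
  have hcov : Sieve.ofArrows
      (fun p : (Σ V : C, {w : V ⟶ U₁ // (epsF J).imageSieve k w}) => p.1)
      (fun p => p.2.1) ∈ J U₁ := by
    refine J.superset_covering ?_ hT
    intro V w hw
    exact Sieve.ofArrows_mk
      (fun p : (Σ V : C, {w : V ⟶ U₁ // (epsF J).imageSieve k w}) => p.1)
      (fun p => p.2.1) ⟨V, w, hw⟩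
  apply ext_of_jsurj (homPsh f Z) (homPsh_isSheaf f Z) (jsurj_epsMap_of_mem _ _ hcov)
  rintro ⟨V, w, m, hm⟩
  have hm' : epsMap J m = epsMap J w ≫ k := hm
  change f.map (epsMap J w) ≫ f.map k ≫ ofSec f (ψ.hom.app (op U₂) x₂) =
    f.map (epsMap J w) ≫ ofSec f (ψ.hom.app (op U₁) x₁)
  rw [← Category.assoc, ← f.map_comp, ← hm', ← gObj_map, ← gObj_map, ← sec_naturality,
    ← sec_naturality]
  congr 2
  apply secMap_injective
  rw [← epsMap_secMap, ← epsMap_secMap, hm', Category.assoc, hk]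

section Equiv

variable (X : Sh J) (Z : Sh K)

/-- The forward map of the adjunction bijection. -/
noncomputable def homTo (φ : f.obj X ⟶ Z) : X ⟶ gObj f Z :=
  ⟨{ app := fun U => TypeCat.ofHom (fun x => toSec f (f.map (secMap X (U := U.unop) x) ≫ φ))
     naturality := by
      intro U U' k
      ext x
      change toSec f (f.map (secMap X (X.obj.map k.unop.op x)) ≫ φ) =
        (gObj f Z).obj.map k.unop.op (toSec f (f.map (secMap X x) ≫ φ))
      rw [← epsMap_secMap, f.map_comp, Category.assoc]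
      rfl }⟩

theorem homTo_app (φ : f.obj X ⟶ Z) {U : C} (x : X.obj.obj (op U)) :
    ofSec f ((homTo f X Z φ).hom.app (op U) x) = f.map (secMap X x) ≫ φ := rfl

theorem existsUnique_homInv (ψ : X ⟶ gObj f Z) :
    ∃! t : f.obj X ⟶ Z, ∀ a : SecIdx (⊤ : Sieve X),
      f.map (secMap X a.x) ≫ t = ofSec f (ψ.hom.app (op a.U) a.x) := by
  have := existsUnique_of_JS (homPsh f Z) (JS.top X)
    (fun a => ofSec f (ψ.hom.app (op a.U) a.x))
    (fun a b k => compat_of_hom f ψ a.x b.x k.hom k.w)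
  exact this

/-- The adjunction bijection. -/
noncomputable def homEquiv : (f.obj X ⟶ Z) ≃ (X ⟶ gObj f Z) where
  toFun := homTo f X Z
  invFun ψ := (existsUnique_homInv f X Z ψ).choose
  left_inv φ := by
    symm
    apply (existsUnique_homInv f X Z (homTo f X Z φ)).choose_spec.2
    intro a
    rfl
  right_inv ψ := by
    have h := (existsUnique_homInv f X Z ψ).choose_spec.1
    ext U x
    exact h ⟨U.unop, x, trivial⟩

end Equiv

theorem homEquiv_naturality (X' X : Sh J) (Z : Sh K) (h : X' ⟶ X) (φ : f.obj X ⟶ Z) :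
    homEquiv f X' Z (f.map h ≫ φ) = h ≫ homEquiv f X Z φ := by
  ext U x'
  change toSec f (f.map (secMap X' x') ≫ f.map h ≫ φ) =
    toSec f (f.map (secMap X (h.hom.app U x')) ≫ φ)
  rw [← Category.assoc, ← f.map_comp, secMap_comp]

theorem isLeftAdjoint_of_preservesColimits : f.IsLeftAdjoint :=
  ⟨_, ⟨Adjunction.adjunctionOfEquivRight (fun X Z => homEquiv f X Z)
    (fun X' X Z h φ => homEquiv_naturality f X' X Z h φ)⟩⟩

end Groth.Agent.Lib.Helper14.CanTop
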