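import Mathlib.CategoryTheory.Sites.Over
import Mathlib.CategoryTheory.Sites.IsSheafFor
import Mathlib.CategoryTheory.Sites.Sheaf

set_option autoImplicit false
open CategoryTheory Limits Opposite
universe w v₁ u₁
namespace Groth.Agent.Lib.Helper14.CechSingle

variable {C : Type u₁} [Category.{v₁} C] (J : GrothendieckTopology C) (G : Cᵒᵖ ⥤ Type w)

theorem gmap_map {X Y Z : C} (k : Y ⟶ X) (l : Z ⟶ Y) (x : G.obj (op X)) :
    G.map l.op (G.map k.op x) = G.map (l ≫ k).op x := by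
  rw [op_comp, G.map_comp]
  rfl

variable {G} {Y W W' : C} (v : W ⟶ Y) (e₀ e₁ : W' ⟶ W)

/-- the sieve of maps along which two maps to `W` factor compatibly through `W'` -/
def ovSieve {Z : C} (p₁ p₂ : Z ⟶ W) : Sieve Z where
  arrows Z'' h := ∃ k : Z'' ⟶ W', h ≫ p₁ = k ≫ e₀ ∧ h ≫ p₂ = k ≫ e₁
  downward_closed := by
    rintro Z₁ Z₂ h ⟨k, h1, h2⟩ g
    exact ⟨g ≫ k, by rw [Category.assoc, h1, Category.assoc],
      by rw [Category.assoc, h2, Category.assoc]⟩

/-- the sheaf condition for a single covering map `v : W ⟶ Y` whose "double overlaps" are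
covered by `W'` -/
theorem equalizer_of_cover (hG : Presieve.IsSheaf J G)
    (hv : Sieve.generate (Presieve.singleton v) ∈ J Y)
    (hov : ∀ ⦃Z : C⦄ (p₁ p₂ : Z ⟶ W), p₁ ≫ v = p₂ ≫ v → ovSieve e₀ e₁ p₁ p₂ ∈ J Z) :
    Function.Injective (G.map v.op) ∧
      ∀ x : G.obj (op W), G.map e₀.op x = G.map e₁.op x → ∃ y, G.map v.op y = x := by
  have h1 := hG _ hv
  rw [← Presieve.isSheafFor_iff_generate, Presieve.isSheafFor_singleton] at h1
  constructor
  · intro y y' hyy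
    obtain ⟨t, _, ht⟩ := h1 (G.map v.op y) (fun p₁ p₂ hp => by
      rw [gmap_map, gmap_map, hp])
    rw [ht y rfl, ht y' hyy.symm]
  · intro x hx
    obtain ⟨y, hy, _⟩ := h1 x (fun {Z} p₁ p₂ hp => by
      refine ((hG _ (hov p₁ p₂ hp)).isSeparatedFor).ext ?_
      rintro Z'' h ⟨k, hk1, hk2⟩
      rw [gmap_map, gmap_map, hk1, hk2, ← gmap_map, ← gmap_map, hx])
    exact ⟨y, hy⟩

end Groth.Agent.Lib.Helper14.CechSingle
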