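import Mathlib
import Groth.Prelude.Def_AlgGrp
import Groth.Prelude.Def_Red
import Groth.Prelude.Def_Red2
import Groth.Prelude.Def_SGA3x
import Groth.Agent.Lib.Helper14.DiagHomG5

/-!
# helper14: properties of the structure morphism of a group of multiplicative type of finite type
(fpqc-local properties descend from `D(M)`): flatness, …
-/

set_option autoImplicit false
universe u
open CategoryTheory CategoryTheory.Limits AlgebraicGeometry MonoidalCategory
  CartesianMonoidalCategory MonObj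

namespace Groth.Agent.Lib.Helper14.MTProps

noncomputable section

open Groth.Agent.Lib.Helper14.DiagHomG1 Groth.Agent.Lib.Helper14.DiagHomG2
  Groth.Agent.Lib.Helper14.DiagHomG5 Groth.Agent.Lib.Helper14.MultNilGlobal

section Cover

variable (P : MorphismProperty Scheme.{u}) [P.RespectsIso] [P.IsStableUnderBaseChange]
  [IsZariskiLocalAtTarget P] [P.DescendsAlong Qfpqc.{u}]

/-- a property holds for `u` as soon as it holds Zariski-locally on an fpqc covering -/
theorem PAt_id_of_cover {S S' : Scheme.{u}} (f : S' ⟶ S) [Flat f]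
    (hcov : ∀ V : S.Opens, IsAffineOpen V → ∃ W : S'.Opens, IsCompact (W : Set S') ∧
      f.base '' (W : Set S') = (V : Set S))
    {G H : Over S} (u : G ⟶ H)
    (h : ∀ t : S', ∃ O : S'.Opens, t ∈ O ∧ PAt P u (O.ι ≫ f)) : PAt P u (𝟙 S) := by
  apply PAt.of_local (P := P) (u := u) (𝟙 S)
  intro x
  obtain ⟨V₀, hV₀, hxV₀, -⟩ := exists_affine_nbhd S ⊤ x trivial
  obtain ⟨W, hWc, hWV⟩ := hcov V₀ hV₀
  have hfW : ∀ w : (W : Scheme.{u}), f (W.ι w) ∈ V₀ := by
    intro w
    have : f (W.ι w) ∈ f.base '' (W : Set S') := ⟨W.ι w, w.2, rfl⟩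
    rw [hWV] at this
    exact this
  have hsub : Set.range (W.ι ≫ f).base ⊆ Set.range V₀.ι.base := by
    rintro _ ⟨w, rfl⟩
    rw [Scheme.Opens.range_ι]
    exact hfW w
  let b' : (W : Scheme.{u}) ⟶ (V₀ : Scheme.{u}) := IsOpenImmersion.lift V₀.ι (W.ι ≫ f) hsub
  have hb' : b' ≫ V₀.ι = W.ι ≫ f := IsOpenImmersion.lift_fac _ _ _
  haveI : IsAffine (V₀ : Scheme.{u}) := hV₀
  haveI : CompactSpace ↥(W : Scheme.{u}) := isCompact_iff_compactSpace.mp hWc
  haveI : QuasiCompact b' := (quasiCompact_iff_compactSpace b').mpr inferInstance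
  haveI : Flat b' := MorphismProperty.of_postcomp (W := @Flat) (W' := @IsOpenImmersion) b'
    V₀.ι inferInstance (by rw [hb']; infer_instance)
  haveI : Surjective b' := by
    refine ⟨fun v => ?_⟩
    have hv : V₀.ι v ∈ f.base '' (W : Set S') := by rw [hWV]; exact v.2
    obtain ⟨w, hw, hwv⟩ := hv
    refine ⟨⟨w, hw⟩, ?_⟩
    apply V₀.ι.injective
    rw [← Scheme.Hom.comp_apply, hb', Scheme.Hom.comp_apply]
    exact hwv
  refine ⟨V₀, hxV₀, (W : Scheme.{u}), b', ⟨⟨inferInstance, inferInstance⟩, inferInstance⟩, ?_⟩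
  rw [Category.comp_id, hb']
  apply PAt.of_local (P := P) (u := u) (W.ι ≫ f)
  intro y
  obtain ⟨O, hO, hPO⟩ := h (W.ι y)
  let V' : (W : Scheme.{u}).Opens := W.ι ⁻¹ᵁ O
  have hsub₂ : Set.range (V'.ι ≫ W.ι).base ⊆ Set.range O.ι.base := by
    rintro _ ⟨z, rfl⟩
    rw [Scheme.Opens.range_ι]
    exact z.2
  let k : (V' : Scheme.{u}) ⟶ (O : Scheme.{u}) := IsOpenImmersion.lift O.ι (V'.ι ≫ W.ι) hsub₂
  have hk : k ≫ O.ι = V'.ι ≫ W.ι := IsOpenImmersion.lift_fac _ _ _
  refine ⟨V', hO, (V' : Scheme.{u}), 𝟙 _, qfpqc_id _, ?_⟩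
  have e : (𝟙 (V' : Scheme.{u}) ≫ V'.ι) ≫ W.ι ≫ f = k ≫ O.ι ≫ f := by
    rw [Category.id_comp, ← Category.assoc, ← hk, Category.assoc]
  rw [e]
  exact hPO.comp k

/-- the structure morphism as a morphism to the terminal object -/
def toTerm {S : Scheme.{u}} (K : Over S) : K ⟶ Over.mk (𝟙 S) := Over.homMk K.hom (by simp)

theorem PAt_toTerm_iff {S X : Scheme.{u}} (K : Over S) (g : X ⟶ S) :
    PAt P (toTerm K) g ↔ P (pullback.snd K.hom g) := by
  have h1 : ((Over.pullback g).map (toTerm K)).left ≫ pullback.snd (𝟙 S) g =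
      pullback.snd K.hom g := pullback.lift_snd _ _ _
  haveI : IsIso (pullback.snd (𝟙 S) g) := inferInstance
  unfold PAt
  rw [← h1]
  exact (P.cancel_right_of_respectsIso _ _).symm

/-- fpqc-local properties of the structure morphism of a group of multiplicative type, checked on
the diagonalisable groups -/
theorem hom_prop_of_isMultTypeFT
    (hD : ∀ (B : Scheme.{u}) (M : Type) [AddCommGroup M], AddGroup.FG M → P (Red.DS B M).hom)
    {S : Scheme.{u}} (K : Over S) [GrpObj K] (hK : SGA3x.IsMultTypeFT K) : P K.hom := by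
  obtain ⟨S', f, hfl, hsurj, hcov, hloc⟩ := hK
  haveI := hfl
  have h1 : PAt P (toTerm K) (𝟙 S) := by
    apply PAt_id_of_cover P f hcov
    intro t
    obtain ⟨O, hO, M, _, hfg, ⟨e⟩⟩ := hloc t
    refine ⟨O, hO, (PAt_toTerm_iff P K (O.ι ≫ f)).mpr ?_⟩
    let e' : Red.bc (O.ι ≫ f) K ≅ Red.DS O M :=
      ⟨e.hom.hom.hom, e.inv.hom.hom, congrArg (fun t => t.hom.hom) e.hom_inv_id,
        congrArg (fun t => t.hom.hom) e.inv_hom_id⟩
    have h2 : (Red.bc (O.ι ≫ f) K).hom = e'.hom.left ≫ (Red.DS O M).hom := (Over.w _).symm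
    haveI : IsIso e'.hom.left := (Over.forget _).map_isIso e'.hom
    show P (Red.bc (O.ι ≫ f) K).hom
    rw [h2]
    exact (P.cancel_left_of_respectsIso _ _).mpr (hD _ M hfg)
  have h2 := (PAt_toTerm_iff P K (𝟙 S)).mp h1
  have h3 : pullback.fst K.hom (𝟙 S) ≫ K.hom = pullback.snd K.hom (𝟙 S) := by
    rw [pullback.condition, Category.comp_id]
  haveI : IsIso (pullback.fst K.hom (𝟙 S)) := inferInstance
  rw [← h3] at h2
  exact (P.cancel_left_of_respectsIso _ _).mp h2

end Cover

section DS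

variable (B : Scheme.{u}) (M : Type) [AddCommGroup M]

theorem flat_DS : Flat (Red.DS B M).hom := by
  have h : Flat (Red.diag (ULift.{u} ℤ) M).hom := by
    show Flat (Spec.map (CommRingCat.ofHom (algebraMap (ULift.{u} ℤ)
      (MonoidAlgebra (ULift.{u} ℤ) (Multiplicative M)))))
    rw [HasRingHomProperty.Spec_iff (P := @Flat)]
    exact RingHom.flat_algebraMap_iff.2 inferInstance
  exact MorphismProperty.pullback_snd _ _ h

theorem locallyOfFinitePresentation_DS [AddGroup.FG M] :
    LocallyOfFinitePresentation (Red.DS B M).hom := by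
  have h : LocallyOfFinitePresentation (Red.diag (ULift.{u} ℤ) M).hom := by
    show LocallyOfFinitePresentation (Spec.map (CommRingCat.ofHom (algebraMap (ULift.{u} ℤ)
      (MonoidAlgebra (ULift.{u} ℤ) (Multiplicative M)))))
    rw [HasRingHomProperty.Spec_iff (P := @LocallyOfFinitePresentation)]
    haveI : IsNoetherianRing (ULift.{u} ℤ) :=
      isNoetherianRing_of_ringEquiv ℤ ULift.ringEquiv.symm
    haveI : Group.FG (Multiplicative M) := AddGroup.fg_iff_mul_fg.mp inferInstance
    have h2 : Algebra.FiniteType (ULift.{u} ℤ) (MonoidAlgebra (ULift.{u} ℤ) (Multiplicative M)) :=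
      MonoidAlgebra.finiteType_iff_group_fg.mpr inferInstance
    have h3 : Algebra.FinitePresentation (ULift.{u} ℤ)
        (MonoidAlgebra (ULift.{u} ℤ) (Multiplicative M)) :=
      Algebra.FinitePresentation.of_finiteType.mp h2
    exact RingHom.finitePresentation_algebraMap.mpr h3
  exact MorphismProperty.pullback_snd _ _ h

end DS

/-- a group of multiplicative type of finite type is flat over the base -/
theorem flat_of_isMultTypeFT {S : Scheme.{u}} (K : Over S) [GrpObj K]
    (hK : SGA3x.IsMultTypeFT K) : Flat K.hom :=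
  hom_prop_of_isMultTypeFT @Flat (fun B M _ _ => flat_DS B M) K hK

end

end Groth.Agent.Lib.Helper14.MTProps
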