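import Mathlib
import Groth.Prelude.Def_AlgGrp
import Groth.Prelude.Def_Red
import Groth.Agent.Lib.Helper14.DiagHomG2
import Groth.Agent.Lib.Helper15.MultGa
import Groth.Agent.Lib.Helper14.DiagHom2

/-!
# helper14: the property "the base change of `u : A ⟶ B` along `g : X ⟶ S` is the unit
homomorphism", in points form; base change, fpqc descent, Zariski localisation, and comparison
with `(Over.pullback g).map u = 1`
-/

set_option autoImplicit false
universe u
open CategoryTheory CategoryTheory.Limits AlgebraicGeometry MonoidalCategory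
  CartesianMonoidalCategory MonObj

namespace Groth.Agent.Lib.Helper14.TrivLoc

open Groth.Agent.Lib.Helper14.DiagHomG1 Groth.Agent.Lib.Helper14.DiagHom2

variable {S : Scheme.{u}} {A B : Over S} [GrpObj B] (u : A ⟶ B)

/-- `u` is trivial on all points of `A` lying over `g : X ⟶ S` -/
def PT {X : Scheme.{u}} (g : X ⟶ S) : Prop :=
  ∀ (Y : Over S) (p : Y.left ⟶ X), p ≫ g = Y.hom → ∀ y : Y ⟶ A, y ≫ u = 1

variable {u}

theorem PT.comp {X X' : Scheme.{u}} (g : X ⟶ S) (k : X' ⟶ X) (h : PT u g) : PT u (k ≫ g) := by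
  intro Y p hp y
  exact h Y (p ≫ k) (by rw [Category.assoc, hp]) y

/-- a jointly surjective flat family of morphisms over `S` is jointly epimorphic -/
theorem hom_ext_over {Y Z : Over S} {I : Type u} (W : I → Over S) (π : ∀ i, W i ⟶ Y)
    [∀ i, Flat (π i).left] (hsurj : ⋃ i, Set.range (π i).left = Set.univ) (a b : Y ⟶ Z)
    (h : ∀ i, π i ≫ a = π i ≫ b) : a = b := by
  apply Over.OverMorphism.ext
  refine Groth.Agent.Lib.helper15.MultGa.hom_ext_of_flat_family (fun i => (π i).left) hsurj _ _ ?_
  intro i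
  have := congrArg (fun t => t.left) (h i)
  simpa only [Over.comp_left] using this

theorem PT.desc {X X' : Scheme.{u}} (g : X ⟶ S) (k : X' ⟶ X) (hk : Qfpqc.{u} k)
    (h : PT u (k ≫ g)) : PT u g := by
  intro Y p hp y
  haveI : Flat k := hk.1.2
  haveI : Surjective k := hk.1.1
  let Y' : Over S := Over.mk (pullback.fst p k ≫ Y.hom)
  let π : Y' ⟶ Y := Over.homMk (pullback.fst p k) rfl
  have h1 : (π ≫ y) ≫ u = 1 := by
    refine h Y' (pullback.snd p k) ?_ (π ≫ y)
    show pullback.snd p k ≫ k ≫ g = pullback.fst p k ≫ Y.hom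
    rw [← hp, ← Category.assoc, ← pullback.condition, Category.assoc]
  haveI : Flat (π).left := inferInstanceAs (Flat (pullback.fst p k))
  have hs : Surjective (pullback.fst p k) := inferInstance
  refine hom_ext_over (I := PUnit.{u+1}) (fun _ => Y') (fun _ => π) ?_ _ _ ?_
  · ext z
    simp only [Set.mem_iUnion, Set.mem_univ, iff_true]
    obtain ⟨w, hw⟩ := hs.surj z
    exact ⟨PUnit.unit, w, hw⟩
  · intro _
    rw [MonObj.comp_one, ← Category.assoc]
    exact h1

theorem PT.zar {X : Scheme.{u}} (g : X ⟶ S)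
    (h : ∀ x : X, ∃ V : X.Opens, x ∈ V ∧ PT u (V.ι ≫ g)) : PT u g := by
  intro Y p hp y
  choose V hxV hV using h
  let Vz : Y.left → Y.left.Opens := fun z => p ⁻¹ᵁ (V (p z))
  let Yz : Y.left → Over S := fun z => Over.mk ((Vz z).ι ≫ Y.hom)
  let ιz : ∀ z, Yz z ⟶ Y := fun z => Over.homMk (Vz z).ι rfl
  haveI : ∀ z, Flat (ιz z).left := fun z => inferInstanceAs (Flat (Vz z).ι)
  refine hom_ext_over (I := Y.left) Yz ιz ?_ _ _ ?_
  · ext z
    simp only [Set.mem_iUnion, Set.mem_univ, iff_true]
    refine ⟨z, ?_⟩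
    show z ∈ Set.range (Vz z).ι
    rw [Scheme.Opens.range_ι]
    exact hxV (p z)
  · intro z
    rw [MonObj.comp_one, ← Category.assoc]
    refine hV (p z) (Yz z) (p ∣_ (V (p z))) ?_ (ιz z ≫ y)
    show (p ∣_ (V (p z))) ≫ (V (p z)).ι ≫ g = (Vz z).ι ≫ Y.hom
    rw [← Category.assoc, (isPullback_morphismRestrict p (V (p z))).w, Category.assoc, hp]

section Compare

open scoped Obj

theorem pullback_map_one {X : Scheme.{u}} (g : X ⟶ S) :
    (Over.pullback g).map (1 : A ⟶ B) = 1 :=
  Functor.map_one (Over.pullback g)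

/-- two base changes agree iff they agree on the first projections -/
theorem pullback_map_eq_iff {X : Scheme.{u}} (g : X ⟶ S) (a b : A ⟶ B) :
    (Over.pullback g).map a = (Over.pullback g).map b ↔
      pullback.fst A.hom g ≫ a.left = pullback.fst A.hom g ≫ b.left := by
  constructor
  · intro h
    rw [← pb_map_fst, ← pb_map_fst, h]
  · intro h
    apply Over.OverMorphism.ext
    apply pullback.hom_ext
    · rw [pb_map_fst, pb_map_fst, h]
    · have h1 := Over.w ((Over.pullback g).map a)
      have h2 := Over.w ((Over.pullback g).map b)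
      exact h1.trans h2.symm

theorem PT_iff_map_eq_one {X : Scheme.{u}} (g : X ⟶ S) :
    PT u g ↔ (Over.pullback g).map u = 1 := by
  rw [← pullback_map_one (A := A) (B := B) g, pullback_map_eq_iff]
  constructor
  · intro h
    let Y : Over S := Over.mk (pullback.snd A.hom g ≫ g)
    let y : Y ⟶ A := Over.homMk (pullback.fst A.hom g) pullback.condition
    have h1 : y ≫ u = 1 := h Y (pullback.snd A.hom g) rfl y
    have h2 : y ≫ u = y ≫ (1 : A ⟶ B) := by rw [h1, MonObj.comp_one]
    have h3 := congrArg (fun t => t.left) h2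
    simp only [Over.comp_left] at h3
    exact h3
  · intro h Y p hp y
    have hy : y.left ≫ A.hom = p ≫ g := by rw [Over.w y, hp]
    have h1 : y.left = pullback.lift y.left p hy ≫ pullback.fst A.hom g :=
      (pullback.lift_fst _ _ _).symm
    have h2 : y ≫ u = y ≫ (1 : A ⟶ B) := by
      apply Over.OverMorphism.ext
      rw [Over.comp_left, Over.comp_left, h1, Category.assoc, Category.assoc, h]
    rw [h2, MonObj.comp_one]

theorem map_eq_map_iff_of_iso {C D : Type*} [Category C] [Category D] {F G : C ⥤ D} (α : F ≅ G)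
    {X Y : C} (a b : X ⟶ Y) : F.map a = F.map b ↔ G.map a = G.map b := by
  constructor
  · intro h
    have h1 := α.hom.naturality a
    have h2 := α.hom.naturality b
    rw [h] at h1
    have h3 : α.hom.app X ≫ G.map a = α.hom.app X ≫ G.map b := h1.symm.trans h2
    exact (cancel_epi _).mp h3
  · intro h
    have h1 := α.inv.naturality a
    have h2 := α.inv.naturality b
    rw [h] at h1
    have h3 : α.inv.app X ≫ F.map a = α.inv.app X ≫ F.map b := h1.symm.trans h2
    exact (cancel_epi _).mp h3

/-- base change in two steps -/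
theorem PT_comp_iff {X X' : Scheme.{u}} (k : X' ⟶ X) (v : X ⟶ S) :
    PT u (k ≫ v) ↔ PT ((Over.pullback v).map u) k := by
  rw [PT_iff_map_eq_one, PT_iff_map_eq_one, ← pullback_map_one (A := A) (B := B) (k ≫ v),
    ← pullback_map_one (A := (Over.pullback v).obj A) (B := (Over.pullback v).obj B) k,
    ← pullback_map_one (A := A) (B := B) v]
  exact map_eq_map_iff_of_iso (Over.pullbackComp k v) u 1

end Compare

end Groth.Agent.Lib.Helper14.TrivLoc
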