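import Mathlib
import Groth.Prelude.Def_AlgGrp
import Groth.Prelude.Def_Red
import Groth.Prelude.Def_Red2
import Groth.Prelude.Def_SGA3x
import Groth.Agent.Lib.Helper14.TrivLoc1
import Groth.Agent.Lib.Helper14.AbsMain
import Groth.Agent.Lib.Helper14.TorusQuot1
import Groth.Agent.Lib.Helper14.DiagHomG3

/-!
# helper14: the locus where a homomorphism of groups of multiplicative type of finite type is
trivial on the fibres is open and closed, and the homomorphism is trivial over it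
-/

set_option autoImplicit false
universe u
open CategoryTheory CategoryTheory.Limits AlgebraicGeometry MonoidalCategory
  CartesianMonoidalCategory MonObj

namespace Groth.Agent.Lib.Helper14.TrivLoc

noncomputable section

open Groth.Agent.Lib.Helper14.MultNilAff Groth.Agent.Lib.Helper14.DiagHom1
  Groth.Agent.Lib.Helper14.DiagHom2 Groth.Agent.Lib.Helper14.DiagHom3
  Groth.Agent.Lib.Helper14.DiagHom4 Groth.Agent.Lib.Helper14.BCGrp
  Groth.Agent.Lib.Helper14.MultNilGlobal Groth.Agent.Lib.Helper14.TorusQuot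
  Groth.Agent.Lib.helper15.DSPts Groth.Agent.Lib.Helper14.DiagHomG1

theorem DSmap_zero (S : Scheme.{u}) (M N : Type) [AddCommGroup M] [AddCommGroup N] :
    Red.DSmap S (0 : M →+ N) = 1 := by
  apply dsFn_injective
  intro m
  rw [← Category.id_comp (Red.DSmap S (0 : M →+ N)), dsFn_DSmap,
    Groth.Agent.Lib.Helper14.ModelQuot.dsFn_one]
  show dsFn (𝟙 _) (0 : N) = 1
  exact dsFn_zero _

section Affine

variable {R : Type u} [CommRing R] {M N : Type} [AddCommGroup M] [AddCommGroup N]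
  {G H : Over (Spec (CommRingCat.of R))} [GrpObj G] [GrpObj H]
  (eG : Grp.mk G ≅ Grp.mk (Red.DS (Spec (CommRingCat.of R)) M))
  (eH : Grp.mk H ≅ Grp.mk (Red.DS (Spec (CommRingCat.of R)) N))
  (u : G ⟶ H) [IsMonHom u] [AddGroup.FG N]

instance isMonHom_ei : IsMonHom (ei eG) := inferInstanceAs (IsMonHom eG.inv.hom.hom)

include eG eH in
/-- near a prime, triviality of the base changes of a homomorphism of diagonalisable groups is
constant -/
theorem local_triv (𝔭 : Ideal R) [𝔭.IsPrime] :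
    ∃ (h : R) (b : Prop), h ∉ 𝔭 ∧
      ∀ (R₁ : Type u) [CommRing R₁] [Algebra R R₁], IsUnit (algebraMap R R₁ h) →
        (b → (Over.pullback (kk R R₁)).map u = 1) ∧
        (Nontrivial R₁ → (Over.pullback (kk R R₁)).map u = 1 → b) := by
  obtain ⟨h, φ, hh, hloc⟩ := local_DSmap eG eH u 𝔭
  refine ⟨h, phiAdd φ = 0, hh, fun R₁ _ _ hu => ?_⟩
  obtain ⟨heq, -⟩ := hloc R₁ hu
  refine ⟨fun hb => ?_, fun hnt h1 => ?_⟩
  · rw [heq, hb, DSmap_zero, MonObj.one_comp, MonObj.comp_one]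
  · have h2 : Red.DSmap (Spec (CommRingCat.of R₁)) (phiAdd φ) =
        ei (bcDiag (R₁ := R₁) eG) ≫ (Over.pullback (kk R R₁)).map u ≫ eh (bcDiag (R₁ := R₁) eH) := by
      rw [heq]
      simp only [Category.assoc, ei_eh, Category.comp_id]
      rw [← Category.assoc, ei_eh, Category.id_comp]
    haveI : IsMonHom (eh (bcDiag (R₁ := R₁) eH)) :=
      inferInstanceAs (IsMonHom (bcDiag (R₁ := R₁) eH).hom.hom.hom)
    rw [h1] at h2
    have h3 : (1 : Red.bc (kk R R₁) G ⟶ Red.bc (kk R R₁) H) ≫ eh (bcDiag (R₁ := R₁) eH) = 1 :=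
      MonObj.one_comp _
    rw [h3, MonObj.comp_one, ← DSmap_zero] at h2
    exact DSmap_injective _ _ h2

end Affine

section LocalStep

variable {S S' : Scheme.{u}} (f : S' ⟶ S) {G H : Over S} [GrpObj G] [GrpObj H] (u : G ⟶ H)
  [IsMonHom u]

/-- near a point of `S'` where both groups are diagonalisable, triviality of the base changes
of `u` is constant -/
theorem local_step_triv (s' : S') (U₀ : S'.Opens) (hs' : s' ∈ U₀) (M N : Type) [AddCommGroup M]
    [AddCommGroup N] [AddGroup.FG N]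
    (eG₀ : Grp.mk (Red.bc (U₀.ι ≫ f) G) ≅ Grp.mk (Red.DS U₀ M))
    (eH₀ : Grp.mk (Red.bc (U₀.ι ≫ f) H) ≅ Grp.mk (Red.DS U₀ N)) :
    ∃ O : S'.Opens, s' ∈ O ∧ ∃ b : Prop, (b → PT u (O.ι ≫ f)) ∧
      ∀ t ∈ O, (PT u (S'.fromSpecResidueField t ≫ f) ↔ b) := by
  obtain ⟨U₁, hU₁, hs'U₁, hU₁le⟩ := exists_affine_nbhd S' U₀ s' hs'
  let v : Spec Γ(S', U₁) ⟶ S := hU₁.fromSpec ≫ f
  have hrU : Set.range hU₁.fromSpec.base ⊆ Set.range U₀.ι.base := by
    rw [hU₁.range_fromSpec, Scheme.Opens.range_ι]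
    exact fun z hz => hU₁le hz
  let w : Spec Γ(S', U₁) ⟶ (U₀ : Scheme.{u}) := IsOpenImmersion.lift U₀.ι hU₁.fromSpec hrU
  have hw : w ≫ U₀.ι = hU₁.fromSpec := IsOpenImmersion.lift_fac _ _ _
  have hvw : v = w ≫ U₀.ι ≫ f := by rw [← Category.assoc, hw]
  let eG : Grp.mk (Red.bc v G) ≅ Grp.mk (Red.DS (Spec Γ(S', U₁)) M) :=
    bcGrpIsoOfEq hvw G ≪≫ diagBC w (U₀.ι ≫ f) G M eG₀
  let eH : Grp.mk (Red.bc v H) ≅ Grp.mk (Red.DS (Spec Γ(S', U₁)) N) :=
    bcGrpIsoOfEq hvw H ≪≫ diagBC w (U₀.ι ≫ f) H N eH₀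
  let uR : Red.bc v G ⟶ Red.bc v H := (Over.pullback v).map u
  haveI : IsMonHom uR := Functor.map.instIsMonHom _ _ _
  let 𝔭 : PrimeSpectrum Γ(S', U₁) := hU₁.primeIdealOf ⟨s', hs'U₁⟩
  have h𝔭 : hU₁.fromSpec 𝔭 = s' := hU₁.fromSpec_primeIdealOf ⟨s', hs'U₁⟩
  obtain ⟨h, b, hh, hloc⟩ := local_triv (R := Γ(S', U₁)) eG eH uR 𝔭.asIdeal
  let Rh := Localization.Away h
  let kh : Spec (CommRingCat.of Rh) ⟶ Spec Γ(S', U₁) := kk Γ(S', U₁) Rh
  haveI : IsOpenImmersion kh :=
    inferInstanceAs (IsOpenImmersion (Spec.map (CommRingCat.ofHom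
      (algebraMap Γ(S', U₁) (Localization.Away h)))))
  let j : Spec (CommRingCat.of Rh) ⟶ S' := kh ≫ hU₁.fromSpec
  have hunit : IsUnit (algebraMap Γ(S', U₁) Rh h) := IsLocalization.Away.algebraMap_isUnit h
  have hkrange : Set.range kh.base = (PrimeSpectrum.basicOpen h : Set (PrimeSpectrum Γ(S', U₁))) :=
    PrimeSpectrum.localization_away_comap_range (Localization.Away h) h
  refine ⟨j.opensRange, ?_, b, ?_, ?_⟩
  · have h1 : 𝔭 ∈ Set.range kh.base := by
      rw [hkrange]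
      exact hh
    obtain ⟨t₀, ht₀⟩ := h1
    refine ⟨t₀, ?_⟩
    rw [Scheme.Hom.comp_base, TopCat.comp_app]
    rw [show kh.base t₀ = 𝔭 from ht₀]
    exact h𝔭
  · intro hb
    have h1 : (Over.pullback kh).map uR = 1 := (hloc Rh hunit).1 hb
    have h2 : PT u (kh ≫ v) := (PT_comp_iff kh v).mpr ((PT_iff_map_eq_one kh).mpr h1)
    have h3 : PT u (j ≫ f) := by
      have e : j ≫ f = kh ≫ v := Category.assoc _ _ _
      rw [e]; exact h2
    have e : j.opensRange.ι ≫ f = (j.isoOpensRange.inv ≫ j) ≫ f := by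
      congr 1
      rw [Scheme.Hom.isoOpensRange_inv_comp]
    rw [e, Category.assoc]
    exact h3.comp _ _
  · intro t ht
    let κ := S'.residueField t
    have hr : Set.range (S'.fromSpecResidueField t).base ⊆ Set.range j.base := by
      rw [Scheme.range_fromSpecResidueField]
      rintro _ rfl
      exact ht
    let l' : Spec κ ⟶ Spec (CommRingCat.of Rh) :=
      IsOpenImmersion.lift j (S'.fromSpecResidueField t) hr
    have hl' : l' ≫ j = S'.fromSpecResidueField t := IsOpenImmersion.lift_fac _ _ _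
    let ρ' : Rh →+* κ := (Spec.preimage l').hom
    have hρ' : Spec.map (CommRingCat.ofHom ρ') = l' := by
      rw [CommRingCat.ofHom_hom]
      exact Spec.map_preimage l'
    letI : Algebra Γ(S', U₁) κ := (ρ'.comp (algebraMap Γ(S', U₁) Rh)).toAlgebra
    have hk : kk Γ(S', U₁) κ = l' ≫ kh := by
      rw [← hρ']
      show Spec.map (CommRingCat.ofHom (ρ'.comp (algebraMap Γ(S', U₁) Rh))) =
        Spec.map (CommRingCat.ofHom ρ') ≫
          Spec.map (CommRingCat.ofHom (algebraMap Γ(S', U₁) Rh))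
      rw [← Spec.map_comp]
      rfl
    have hunit' : IsUnit (algebraMap Γ(S', U₁) κ h) := hunit.map ρ'
    have hkv : kk Γ(S', U₁) κ ≫ v = S'.fromSpecResidueField t ≫ f := by
      rw [hk, ← hl']
      simp only [Category.assoc, j, v]
    have hiff : PT u (kk Γ(S', U₁) κ ≫ v) ↔
        (Over.pullback (kk Γ(S', U₁) κ)).map uR = 1 :=
      (PT_comp_iff _ v).trans (PT_iff_map_eq_one _)
    rw [← hkv, hiff]
    exact ⟨(hloc κ hunit').2 inferInstance, (hloc κ hunit').1⟩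

end LocalStep

/-- **The trivial locus of a homomorphism of groups of multiplicative type of finite type.** -/
theorem trivial_locus {S : Scheme.{u}} (G H : Over S) [GrpObj G] [GrpObj H]
    (hG : SGA3x.IsMultTypeFT G) (hH : SGA3x.IsMultTypeFT H) (u : G ⟶ H) [IsMonHom u] :
    ∃ U : S.Opens, IsClosed (U : Set S) ∧
      (∀ s : S, s ∈ U ↔ (Over.pullback (S.fromSpecResidueField s)).map u = 1) ∧
      (Over.pullback U.ι).map u = 1 := by
  obtain ⟨S', f, hflat, hsurj, hcov, hloc⟩ :=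
    Groth.Agent.Lib.Helper14.DiagHomG3.exists_common_cover' hG hH
  haveI := hflat
  haveI := hsurj
  have key : ∀ s' : S', ∃ O : S'.Opens, s' ∈ O ∧ ∃ b : Prop, (b → PT u (O.ι ≫ f)) ∧
      ∀ t ∈ O, (PT u (S'.fromSpecResidueField t ≫ f) ↔ b) := by
    intro s'
    obtain ⟨U₀, hs', M, N, _, _, hfgM, hfgN, ⟨eG₀⟩, ⟨eH₀⟩⟩ := hloc s'
    haveI := hfgN
    exact local_step_triv f u s' U₀ hs' M N eG₀ eH₀
  obtain ⟨U, hU, hiff, hPU⟩ := Groth.Agent.Lib.Helper14.AbsMain.main_abs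
    (fun {X} g => PT u g) (fun g k h => PT.comp g k h) (fun g k hk h => PT.desc g k hk h)
    (fun g h => PT.zar g h) f hcov key
  exact ⟨U, hU, fun s => (hiff s).trans (PT_iff_map_eq_one _), (PT_iff_map_eq_one _).mp hPU⟩

end

end Groth.Agent.Lib.Helper14.TrivLoc
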