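import Mathlib
import Groth.Prelude.Def_AlgGrp
import Groth.Prelude.Def_Red
import Groth.Prelude.Def_SGA3x
import Groth.Agent.Lib.Helper14.TrivLoc2
import Groth.Agent.Lib.Helper14.DiagHomG5
import Groth.Agent.Lib.Helper14.TorusMonoIso
import Groth.Agent.Lib.Helper14.MTProps

/-!
# helper14: dichotomy for characters of tori — a character `T ⟶ 𝔾ₘ` of a torus is, fpqc locally
on the base, either trivial or faithfully flat
-/

set_option autoImplicit false
universe u
open CategoryTheory CategoryTheory.Limits AlgebraicGeometry MonoidalCategory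
  CartesianMonoidalCategory MonObj

namespace Groth.Agent.Lib.Helper14.CharDich

noncomputable section

open Groth.Agent.Lib.Helper14.MultNilAff Groth.Agent.Lib.Helper14.DiagHom1
  Groth.Agent.Lib.Helper14.DiagHom2 Groth.Agent.Lib.Helper14.DiagHom3
  Groth.Agent.Lib.Helper14.DiagHom4 Groth.Agent.Lib.Helper14.BCGrp
  Groth.Agent.Lib.Helper14.MultNilGlobal Groth.Agent.Lib.Helper14.TorusQuot
  Groth.Agent.Lib.Helper14.DiagHomG1 Groth.Agent.Lib.Helper14.DiagHomG2
  Groth.Agent.Lib.Helper14.TrivLoc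

theorem int_hom_zero_or_injective {M : Type} [AddCommGroup M] [IsAddTorsionFree M]
    (ψ : ℤ →+ M) : ψ = 0 ∨ Function.Injective ψ := by
  by_cases h : ψ 1 = 0
  · left
    ext
    simpa using h
  · right
    rw [injective_iff_map_eq_zero]
    intro n hn
    by_contra hn0
    apply h
    have h1 : n • ψ 1 = n • (0 : M) := by
      rw [← map_zsmul, smul_eq_mul, _root_.mul_one, hn, smul_zero]
    exact zsmul_right_injective hn0 h1

section Affine

variable {R : Type u} [CommRing R] {M : Type} [AddCommGroup M]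
  {G H : Over (Spec (CommRingCat.of R))} [GrpObj G] [GrpObj H]
  (eG : Grp.mk G ≅ Grp.mk (Red.DS (Spec (CommRingCat.of R)) M))
  (eH : Grp.mk H ≅ Grp.mk (Red.DS (Spec (CommRingCat.of R)) ℤ))
  (u : G ⟶ H) [IsMonHom u]

include eG eH in
/-- near a prime, a character of a split torus is either trivial or faithfully flat -/
theorem local_dich [IsAddTorsionFree M] (𝔭 : Ideal R) [𝔭.IsPrime] :
    ∃ h : R, h ∉ 𝔭 ∧ ∀ (R₁ : Type u) [CommRing R₁] [Algebra R R₁], IsUnit (algebraMap R R₁ h) →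
      ((Over.pullback (kk R R₁)).map u = 1 ∨
        (Flat ((Over.pullback (kk R R₁)).map u).left ∧
          Surjective ((Over.pullback (kk R R₁)).map u).left)) := by
  obtain ⟨h, φ, hh, hφ⟩ := local_const eG eH u 𝔭
  refine ⟨h, hh, fun R₁ _ _ hu => ?_⟩
  have hφ₁ := points_bc eG eH u h φ hφ R₁ hu
  rcases int_hom_zero_or_injective (phiAdd φ) with hz | hinj
  · left
    rw [eq_DSmap (bcDiag (R₁ := R₁) eG) (bcDiag (R₁ := R₁) eH) _ φ hφ₁, hz, DSmap_zero,
      MonObj.one_comp, MonObj.comp_one]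
  · right
    exact flat_surjective_of_injective (bcDiag (R₁ := R₁) eG) (bcDiag (R₁ := R₁) eH) _ φ hφ₁
      (injective_of_phiAdd φ hinj)

end Affine

section LocalStep

variable {S S' : Scheme.{u}} (f : S' ⟶ S) {G H : Over S} [GrpObj G] [GrpObj H] (u : G ⟶ H)
  [IsMonHom u]

/-- near a point of `S'` where `G` is a split torus and `H` is `𝔾ₘ`, the base change of `u` is
either trivial or faithfully flat -/
theorem local_step_dich (s' : S') (U₀ : S'.Opens) (hs' : s' ∈ U₀) (M : Type) [AddCommGroup M]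
    [IsAddTorsionFree M]
    (eG₀ : Grp.mk (Red.bc (U₀.ι ≫ f) G) ≅ Grp.mk (Red.DS U₀ M))
    (eH₀ : Grp.mk (Red.bc (U₀.ι ≫ f) H) ≅ Grp.mk (Red.DS U₀ ℤ)) :
    ∃ O : S'.Opens, s' ∈ O ∧
      (PT u (O.ι ≫ f) ∨ PAt (@Flat ⊓ @Surjective : MorphismProperty Scheme.{u}) u (O.ι ≫ f)) := by
  obtain ⟨U₁, hU₁, hs'U₁, hU₁le⟩ := exists_affine_nbhd S' U₀ s' hs'
  let v : Spec Γ(S', U₁) ⟶ S := hU₁.fromSpec ≫ f
  have hrU : Set.range hU₁.fromSpec.base ⊆ Set.range U₀.ι.base := by
    rw [hU₁.range_fromSpec, Scheme.Opens.range_ι]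
    exact fun z hz => hU₁le hz
  let w : Spec Γ(S', U₁) ⟶ (U₀ : Scheme.{u}) := IsOpenImmersion.lift U₀.ι hU₁.fromSpec hrU
  have hw : w ≫ U₀.ι = hU₁.fromSpec := IsOpenImmersion.lift_fac _ _ _
  have hvw : v = w ≫ U₀.ι ≫ f := by rw [← Category.assoc, hw]
  let eG : Grp.mk (Red.bc v G) ≅ Grp.mk (Red.DS (Spec Γ(S', U₁)) M) :=
    bcGrpIsoOfEq hvw G ≪≫ diagBC w (U₀.ι ≫ f) G M eG₀
  let eH : Grp.mk (Red.bc v H) ≅ Grp.mk (Red.DS (Spec Γ(S', U₁)) ℤ) :=
    bcGrpIsoOfEq hvw H ≪≫ diagBC w (U₀.ι ≫ f) H ℤ eH₀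
  let uR : Red.bc v G ⟶ Red.bc v H := (Over.pullback v).map u
  haveI : IsMonHom uR := Functor.map.instIsMonHom _ _ _
  let 𝔭 : PrimeSpectrum Γ(S', U₁) := hU₁.primeIdealOf ⟨s', hs'U₁⟩
  have h𝔭 : hU₁.fromSpec 𝔭 = s' := hU₁.fromSpec_primeIdealOf ⟨s', hs'U₁⟩
  obtain ⟨h, hh, hloc⟩ := local_dich (R := Γ(S', U₁)) eG eH uR 𝔭.asIdeal
  let Rh := Localization.Away h
  let kh : Spec (CommRingCat.of Rh) ⟶ Spec Γ(S', U₁) := kk Γ(S', U₁) Rh
  haveI : IsOpenImmersion kh :=
    inferInstanceAs (IsOpenImmersion (Spec.map (CommRingCat.ofHom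
      (algebraMap Γ(S', U₁) (Localization.Away h)))))
  let j : Spec (CommRingCat.of Rh) ⟶ S' := kh ≫ hU₁.fromSpec
  have hunit : IsUnit (algebraMap Γ(S', U₁) Rh h) := IsLocalization.Away.algebraMap_isUnit h
  have hkrange : Set.range kh.base = (PrimeSpectrum.basicOpen h : Set (PrimeSpectrum Γ(S', U₁))) :=
    PrimeSpectrum.localization_away_comap_range (Localization.Away h) h
  refine ⟨j.opensRange, ?_, ?_⟩
  · have h1 : 𝔭 ∈ Set.range kh.base := by
      rw [hkrange]
      exact hh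
    obtain ⟨t₀, ht₀⟩ := h1
    refine ⟨t₀, ?_⟩
    rw [Scheme.Hom.comp_base, TopCat.comp_app]
    rw [show kh.base t₀ = 𝔭 from ht₀]
    exact h𝔭
  · have e : j.opensRange.ι ≫ f = (j.isoOpensRange.inv ≫ j) ≫ f := by
      congr 1
      rw [Scheme.Hom.isoOpensRange_inv_comp]
    have e' : j ≫ f = kh ≫ v := Category.assoc _ _ _
    rcases hloc Rh hunit with h1 | h1
    · left
      have h2 : PT u (kh ≫ v) := (PT_comp_iff kh v).mpr ((PT_iff_map_eq_one kh).mpr h1)
      have h3 : PT u (j ≫ f) := by rw [e']; exact h2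
      rw [e, Category.assoc]
      exact h3.comp _ _
    · right
      have h2 : PAt (@Flat ⊓ @Surjective : MorphismProperty Scheme.{u}) u (kh ≫ v) :=
        (PAt_pullback_iff _ u kh v).mpr ⟨h1.1, h1.2⟩
      have h3 : PAt (@Flat ⊓ @Surjective : MorphismProperty Scheme.{u}) u (j ≫ f) := by
        rw [e']; exact h2
      rw [e, Category.assoc]
      exact h3.comp _

end LocalStep

section Id

variable (P : MorphismProperty Scheme.{u}) [P.RespectsIso]

/-- the property over the identity is the property of the morphism itself -/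
theorem PAt_id_iff {S : Scheme.{u}} {G H : Over S} (u : G ⟶ H) : PAt P u (𝟙 S) ↔ P u.left := by
  have h1 := pb_map_fst (𝟙 S) u
  haveI : IsIso (pullback.fst G.hom (𝟙 S)) := inferInstance
  haveI : IsIso (pullback.fst H.hom (𝟙 S)) := inferInstance
  unfold PAt
  rw [← P.cancel_right_of_respectsIso _ (pullback.fst H.hom (𝟙 S)), h1,
    P.cancel_left_of_respectsIso]

theorem PAt_of_left [P.IsStableUnderBaseChange] {S X : Scheme.{u}} {G H : Over S} (u : G ⟶ H)
    (h : P u.left) (g : X ⟶ S) : PAt P u g := by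
  have h1 : PAt P u (g ≫ 𝟙 S) := ((PAt_id_iff P u).mpr h).comp g
  rwa [Category.comp_id] at h1

end Id

end

end Groth.Agent.Lib.Helper14.CharDich
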