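import Mathlib

/-!
# Open and closed maps with a finite fibre over a preconnected space (helper14)

* `exists_mem_connectedComponent_of_finite_fibre`: `f : X → Y` an open and closed map, `Y`
  preconnected, `p : Y` with `f ⁻¹' {p}` finite. Then every connected component of `X` meets the
  fibre over `p`. (No compactness hypothesis: every nonempty clopen of `X` meets the finite fibre,
  so there is a smallest clopen neighbourhood of `x` relative to the fibre, and it is preconnected.)
* `preconnectedSpace_of_isClosedMap_of_connected_fibres`: a continuous closed map with connected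
  fibres onto a preconnected space has preconnected source.
-/

namespace Groth.Agent.Lib.Helper14.ClopenFinFibre

open Set

theorem exists_mem_connectedComponent_of_finite_fibre {X Y : Type*} [TopologicalSpace X]
    [TopologicalSpace Y] [PreconnectedSpace Y] (f : X → Y) (hopen : IsOpenMap f)
    (hclosed : IsClosedMap f) (p : Y) (hfin : (f ⁻¹' {p}).Finite) (x : X) :
    ∃ y ∈ connectedComponent x, f y = p := by
  classical
  have key : ∀ W : Set X, IsClopen W → W.Nonempty → ∃ y ∈ W, f y = p := by
    intro W hW hne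
    have hcl : IsClopen (f '' W) := ⟨hclosed _ hW.1, hopen _ hW.2⟩
    have : f '' W = univ := by
      rcases isClopen_iff.mp hcl with h | h
      · exact absurd h (hne.image f).ne_empty
      · exact h
    have hp : p ∈ f '' W := by rw [this]; trivial
    exact hp
  -- choose separating clopens
  let Wsel : X → Set X := fun y =>
    if h : ∃ A : Set X, IsClopen A ∧ x ∈ A ∧ y ∉ A then h.choose else univ
  have hWsel_clopen : ∀ y, IsClopen (Wsel y) := by
    intro y
    by_cases h : ∃ A : Set X, IsClopen A ∧ x ∈ A ∧ y ∉ A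
    · simp only [Wsel, dif_pos h]; exact h.choose_spec.1
    · simp only [Wsel, dif_neg h]; exact isClopen_univ
  have hWsel_x : ∀ y, x ∈ Wsel y := by
    intro y
    by_cases h : ∃ A : Set X, IsClopen A ∧ x ∈ A ∧ y ∉ A
    · simp only [Wsel, dif_pos h]; exact h.choose_spec.2.1
    · simp only [Wsel, dif_neg h]; trivial
  have hWsel_sep : ∀ y, y ∈ Wsel y → ∀ A : Set X, IsClopen A → x ∈ A → y ∈ A := by
    intro y hy A hA hxA
    by_contra hyA
    have h : ∃ A : Set X, IsClopen A ∧ x ∈ A ∧ y ∉ A := ⟨A, hA, hxA, hyA⟩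
    simp only [Wsel, dif_pos h] at hy
    exact h.choose_spec.2.2 hy
  set W₀ : Set X := ⋂ y ∈ hfin.toFinset, Wsel y with hW₀
  have hW₀_clopen : IsClopen W₀ := isClopen_biInter_finset fun y _ => hWsel_clopen y
  have hxW₀ : x ∈ W₀ := by
    simp only [hW₀, mem_iInter]
    intro y _
    exact hWsel_x y
  have hprop : ∀ y ∈ W₀, f y = p → ∀ A : Set X, IsClopen A → x ∈ A → y ∈ A := by
    intro y hy hfy
    have hyF : y ∈ hfin.toFinset := by
      rw [Set.Finite.mem_toFinset]; exact hfy
    have : y ∈ Wsel y := by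
      simp only [hW₀, mem_iInter] at hy
      exact hy y hyF
    exact hWsel_sep y this
  have hpre : IsPreconnected W₀ := by
    rw [isPreconnected_iff_subset_of_disjoint]
    intro u v hu hv huv hdisj
    -- A = W₀ ∩ u and B = W₀ ∩ v are clopen
    have hAeq : W₀ ∩ u = W₀ ∩ vᶜ := by
      ext z
      constructor
      · rintro ⟨hz, hzu⟩
        refine ⟨hz, fun hzv => ?_⟩
        have : z ∈ W₀ ∩ (u ∩ v) := ⟨hz, hzu, hzv⟩
        rw [hdisj] at this; exact this
      · rintro ⟨hz, hzv⟩
        rcases huv hz with h | h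
        · exact ⟨hz, h⟩
        · exact absurd h hzv
    have hBeq : W₀ ∩ v = W₀ ∩ uᶜ := by
      ext z
      constructor
      · rintro ⟨hz, hzv⟩
        refine ⟨hz, fun hzu => ?_⟩
        have : z ∈ W₀ ∩ (u ∩ v) := ⟨hz, hzu, hzv⟩
        rw [hdisj] at this; exact this
      · rintro ⟨hz, hzu⟩
        rcases huv hz with h | h
        · exact absurd h hzu
        · exact ⟨hz, h⟩
    have hA : IsClopen (W₀ ∩ u) :=
      ⟨by rw [hAeq]; exact hW₀_clopen.1.inter hv.isClosed_compl, hW₀_clopen.2.inter hu⟩
    have hB : IsClopen (W₀ ∩ v) :=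
      ⟨by rw [hBeq]; exact hW₀_clopen.1.inter hu.isClosed_compl, hW₀_clopen.2.inter hv⟩
    rcases huv hxW₀ with hxu | hxv
    · left
      intro z hz
      by_contra hzu
      have hzv : z ∈ v := by
        rcases huv hz with h | h
        · exact absurd h hzu
        · exact h
      obtain ⟨y, hyB, hfy⟩ := key _ hB ⟨z, hz, hzv⟩
      have hyA : y ∈ W₀ ∩ u := hprop y hyB.1 hfy _ hA ⟨hxW₀, hxu⟩
      have : y ∈ W₀ ∩ (u ∩ v) := ⟨hyB.1, hyA.2, hyB.2⟩
      rw [hdisj] at this; exact this
    · right
      intro z hz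
      by_contra hzv
      have hzu : z ∈ u := by
        rcases huv hz with h | h
        · exact h
        · exact absurd h hzv
      obtain ⟨y, hyA, hfy⟩ := key _ hA ⟨z, hz, hzu⟩
      have hyB : y ∈ W₀ ∩ v := hprop y hyA.1 hfy _ hB ⟨hxW₀, hxv⟩
      have : y ∈ W₀ ∩ (u ∩ v) := ⟨hyA.1, hyA.2, hyB.2⟩
      rw [hdisj] at this; exact this
  obtain ⟨y, hy, hfy⟩ := key _ hW₀_clopen ⟨x, hxW₀⟩
  exact ⟨y, hpre.subset_connectedComponent hxW₀ hy, hfy⟩

theorem preconnectedSpace_of_isClosedMap_of_connected_fibres {X Y : Type*} [TopologicalSpace X]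
    [TopologicalSpace Y] [PreconnectedSpace Y] (f : X → Y) (hcont : Continuous f)
    (hclosed : IsClosedMap f) (hfib : ∀ y : Y, IsConnected (f ⁻¹' {y})) :
    PreconnectedSpace X := by
  have hsurj : Function.Surjective f := fun y => by
    obtain ⟨a, ha⟩ := (hfib y).nonempty
    exact ⟨a, ha⟩
  have hco : Topology.IsCoinducing f := (hclosed.isQuotientMap hcont hsurj).isCoinducing
  refine ⟨?_⟩
  rcases isEmpty_or_nonempty X with hX | ⟨⟨a⟩⟩
  · rw [Set.univ_eq_empty_iff.mpr hX]; exact isPreconnected_empty
  · have h := hco.preimage_connectedComponent hfib a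
    rw [PreconnectedSpace.connectedComponent_eq_univ, Set.preimage_univ] at h
    rw [h]
    exact isPreconnected_connectedComponent

end Groth.Agent.Lib.Helper14.ClopenFinFibre
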