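import Mathlib
import Groth.Prelude.Def_FEt

/-!
# helper14: covers of a proper scheme over a complete local ring coming from the base, part 1

General lemmas: `π₀`-maps and homeomorphisms, base change in commutative squares.
-/

set_option autoImplicit false
set_option linter.style.haveILetI false

namespace Groth.Agent.Lib.helper14.ClosedFibDesc

open AlgebraicGeometry CategoryTheory CategoryTheory.Limits

universe u

section Topology

variable {A B C : Type*} [TopologicalSpace A] [TopologicalSpace B] [TopologicalSpace C]

lemma bijective_ccMap_homeomorph (e : A ≃ₜ B) :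
    Function.Bijective e.continuous.connectedComponentsMap := by
  refine Function.bijective_iff_has_inverse.2 ⟨e.symm.continuous.connectedComponentsMap, ?_, ?_⟩
  · intro c
    obtain ⟨a, rfl⟩ := ConnectedComponents.surjective_coe c
    rw [Continuous.connectedComponentsMap_mk, Continuous.connectedComponentsMap_mk,
      Homeomorph.symm_apply_apply]
  · intro c
    obtain ⟨a, rfl⟩ := ConnectedComponents.surjective_coe c
    rw [Continuous.connectedComponentsMap_mk, Continuous.connectedComponentsMap_mk,
      Homeomorph.apply_symm_apply]

lemma bijective_ccMap_of_homeomorph_comp (e : A ≃ₜ B) {g : B → C} (hg : Continuous g) {h : A → C}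
    (hh : Continuous h) (heq : ∀ a, h a = g (e a))
    (hb : Function.Bijective hg.connectedComponentsMap) :
    Function.Bijective hh.connectedComponentsMap := by
  have hcomp : hh.connectedComponentsMap =
      hg.connectedComponentsMap ∘ e.continuous.connectedComponentsMap := by
    funext c
    obtain ⟨a, rfl⟩ := ConnectedComponents.surjective_coe c
    rw [Function.comp_apply, Continuous.connectedComponentsMap_mk,
      Continuous.connectedComponentsMap_mk, Continuous.connectedComponentsMap_mk, heq]
  rw [hcomp]
  exact hb.comp (bijective_ccMap_homeomorph e)

lemma connectedSpace_of_bijective_ccMap {g : A → B} (hg : Continuous g)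
    (hb : Function.Bijective hg.connectedComponentsMap) [ConnectedSpace B] : ConnectedSpace A := by
  obtain ⟨b⟩ : Nonempty B := inferInstance
  obtain ⟨c, -⟩ := hb.2 (b : ConnectedComponents B)
  obtain ⟨a, rfl⟩ := ConnectedComponents.surjective_coe c
  haveI : Nonempty A := ⟨a⟩
  haveI : PreconnectedSpace A := by
    constructor
    have hsub : ∀ x : A, x ∈ connectedComponent a := by
      intro x
      have h1 : hg.connectedComponentsMap (x : ConnectedComponents A) =
          hg.connectedComponentsMap (a : ConnectedComponents A) := by
        rw [Continuous.connectedComponentsMap_mk, Continuous.connectedComponentsMap_mk]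
        rw [ConnectedComponents.coe_eq_coe]
        rw [PreconnectedSpace.connectedComponent_eq_univ, PreconnectedSpace.connectedComponent_eq_univ]
      have h2 := ConnectedComponents.coe_eq_coe.1 (hb.1 h1)
      rw [← h2]
      exact mem_connectedComponent
    have : (Set.univ : Set A) = connectedComponent a := by
      ext x
      simp [hsub x]
    rw [this]
    exact isPreconnected_connectedComponent
  exact ConnectedSpace.mk ‹_›

end Topology

section Square

variable {X₀ X S₀ S : Scheme.{u}} (j : X₀ ⟶ X) (f : X ⟶ S) (f₀ : X₀ ⟶ S₀) (r : S₀ ⟶ S)

/-- base change along the two paths of a commutative square -/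
noncomputable def restrictSquareIso (h : j ≫ f = f₀ ≫ r) (T : FEt.Cat S) :
    (FEt.restrict j).obj ((FEt.restrict f).obj T) ≅
      (FEt.restrict f₀).obj ((FEt.restrict r).obj T) :=
  ((MorphismProperty.Over.pullbackComp (P := FEt.prop.{u}) (Q := ⊤) j f).symm ≪≫
    (MorphismProperty.Over.pullbackComp (P := FEt.prop.{u}) (Q := ⊤) f₀ r (j ≫ f) h)).app T

end Square

end Groth.Agent.Lib.helper14.ClosedFibDesc
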