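import Mathlib

/-!
# helper14: coefficient ideals for projective modules
-/

set_option autoImplicit false
universe u
open TensorProduct

namespace Groth.Agent.Lib.Helper14.FixCoeffProj

variable (R : Type u) [CommRing R] (M : Type u) [AddCommGroup M] [Module R M]
  [hP : Module.Projective R M]

/-- a chosen splitting `M → (M →₀ R)` of the canonical surjection -/
noncomputable def splitting : M →ₗ[R] M →₀ R :=
  (Module.projective_def.mp hP).choose

theorem splitting_spec (m : M) :
    Finsupp.linearCombination R (id : M → M) (splitting R M m) = m :=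
  (Module.projective_def.mp hP).choose_spec m

/-- the coefficient ideal of a subset of a projective module -/
noncomputable def coeffIdeal (K : Set M) : Ideal R :=
  Ideal.span {r | ∃ j ∈ K, ∃ m : M, splitting R M j m = r}

variable {R M}

theorem tmul_eq_zero_iff (R' : Type u) [CommRing R'] [Algebra R R'] (K : Set M) :
    (∀ j ∈ K, (1 : R') ⊗ₜ[R] j = 0) ↔ coeffIdeal R M K ≤ RingHom.ker (algebraMap R R') := by
  constructor
  · intro h
    rw [coeffIdeal, Ideal.span_le]
    rintro r ⟨j, hj, m, rfl⟩
    rw [SetLike.mem_coe, RingHom.mem_ker]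
    let ev : M →ₗ[R] R := (Finsupp.lapply m) ∘ₗ splitting R M
    have h1 : (TensorProduct.rid R R') ((ev.lTensor R') ((1 : R') ⊗ₜ[R] j)) =
        algebraMap R R' (splitting R M j m) := by
      rw [LinearMap.lTensor_tmul, TensorProduct.rid_tmul, Algebra.algebraMap_eq_smul_one]
      rfl
    rw [← h1, h j hj, map_zero, map_zero]
  · intro h j hj
    have hj' : ∀ m : M, algebraMap R R' (splitting R M j m) = 0 := fun m =>
      h (Ideal.subset_span ⟨j, hj, m, rfl⟩)
    conv_lhs => rw [← splitting_spec R M j]
    rw [Finsupp.linearCombination_apply, Finsupp.sum, TensorProduct.tmul_sum]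
    refine Finset.sum_eq_zero fun m _ => ?_
    rw [id, TensorProduct.tmul_smul, TensorProduct.smul_tmul', Algebra.smul_def, hj' m,
      zero_mul, TensorProduct.zero_tmul]

end Groth.Agent.Lib.Helper14.FixCoeffProj
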