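import Mathlib
import Groth.Agent.Lib.Helper14.AbsClosed2
import Groth.Agent.Lib.Helper14.FixCoeffProj

/-!
# helper14: "Weil restriction" of a closed condition along an affine morphism with projective
coordinate rings

`f : Z ⟶ X` is an affine morphism, `𝒬` a local predicate on points of `Z`. `Univ f 𝒬 x` says that
every point of `Z` lying over the point `x` of `X` satisfies `𝒬`. If on the charts
`Spec M ⟶ Z` over affine opens `Spec R ⊆ X` the predicate `𝒬` is cut out by an ideal of `M` and
`M` is a projective `R`-module, then `Univ f 𝒬` is represented by a closed subscheme of `X`.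
-/

set_option autoImplicit false
universe u
open CategoryTheory CategoryTheory.Limits AlgebraicGeometry TensorProduct

namespace Groth.Agent.Lib.Helper14.WeilClosed

open Groth.Agent.Lib.Helper14

variable {X Z : Scheme.{u}} (f : Z ⟶ X) (𝒬 : ∀ ⦃T : Scheme.{u}⦄, (T ⟶ Z) → Prop)

/-- every point of `Z` over the point `x` of `X` satisfies `𝒬` -/
def Univ ⦃T : Scheme.{u}⦄ (x : T ⟶ X) : Prop :=
  ∀ (T' : Scheme.{u}) (z : T' ⟶ Z) (t : T' ⟶ T), z ≫ f = t ≫ x → 𝒬 z

variable {f 𝒬}

theorem isLocalPred_univ (hQ : AbsClosed.IsLocalPred 𝒬) : AbsClosed.IsLocalPred (Univ f 𝒬) where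
  comp := fun T T' s x hx T'' z t hz => hx T'' z (t ≫ s) (by rw [hz, Category.assoc])
  of_openCover := fun T x 𝒰 H T' z t hz => by
    refine hQ.of_openCover z (𝒰.pullback₁ t) fun i => ?_
    refine H i _ ((𝒰.pullback₁ t).f i ≫ z) (pullback.snd t (𝒰.f i)) ?_
    rw [Category.assoc, hz, ← Category.assoc, ← Category.assoc]
    congr 1
    exact pullback.condition

variable (f 𝒬)

section Chart

variable [IsAffineHom f] {R : CommRingCat.{u}} (u : Spec R ⟶ X)

/-- the base change of `Z` to the chart `Spec R ⟶ X` -/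
noncomputable abbrev chW : Scheme.{u} := pullback f u

instance : IsAffine (chW f u) := isAffine_of_isAffineHom (pullback.snd f u)

/-- its coordinate ring -/
noncomputable abbrev chM : CommRingCat.{u} := Γ(chW f u, ⊤)

/-- `Spec M ≅ W` -/
noncomputable def chIso : Spec (chM f u) ⟶ chW f u := (chW f u).isoSpec.inv

instance : IsIso (chIso f u) := by
  unfold chIso
  infer_instance

/-- the structure map `R ⟶ M` -/
noncomputable def chφ : R ⟶ chM f u := Spec.preimage (chIso f u ≫ pullback.snd _ _)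

theorem chφ_spec : Spec.map (chφ f u) = chIso f u ≫ pullback.snd _ _ := Spec.map_preimage _

/-- the chart `Spec M ⟶ Z` -/
noncomputable def chart : Spec (chM f u) ⟶ Z := chIso f u ≫ pullback.fst _ _

theorem chart_comp : chart f u ≫ f = Spec.map (chφ f u) ≫ u := by
  rw [chart, chφ_spec, Category.assoc, Category.assoc, pullback.condition]

/-- `K` cuts out `𝒬` on the chart -/
def IsCutIdeal (K : Ideal (chM f u)) : Prop :=
  ∀ (C : CommRingCat.{u}) (θ : chM f u ⟶ C),
    𝒬 (Spec.map θ ≫ chart f u) ↔ K ≤ RingHom.ker θ.hom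

variable {f 𝒬 u}

/-- **Chart criterion.** -/
theorem chart_criterion (hQ : AbsClosed.IsLocalPred 𝒬) {K : Ideal (chM f u)}
    (hK : IsCutIdeal f 𝒬 u K)
    [Algebra R (chM f u)] (hφ : algebraMap R (chM f u) = (chφ f u).hom)
    [Module.Projective R (chM f u)] {R' : CommRingCat.{u}} (ρ : R ⟶ R') :
    Univ f 𝒬 (Spec.map ρ ≫ u) ↔
      FixCoeffProj.coeffIdeal R (chM f u) (K : Set (chM f u)) ≤ RingHom.ker ρ.hom := by
  letI algR' : Algebra R R' := ρ.hom.toAlgebra
  have hker : RingHom.ker ρ.hom = RingHom.ker (algebraMap R R') := rfl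
  rw [hker, ← FixCoeffProj.tmul_eq_zero_iff]
  constructor
  · intro H j hj
    let θ : chM f u ⟶ CommRingCat.of (R' ⊗[R] chM f u) := CommRingCat.ofHom
      (Algebra.TensorProduct.includeRight : chM f u →ₐ[R] R' ⊗[R] chM f u).toRingHom
    let τ : R' ⟶ CommRingCat.of (R' ⊗[R] chM f u) := CommRingCat.ofHom
      (Algebra.TensorProduct.includeLeft : R' →ₐ[R] R' ⊗[R] chM f u).toRingHom
    have hcomm : chφ f u ≫ θ = ρ ≫ τ := by
      ext r
      change (1 : R') ⊗ₜ[R] (chφ f u).hom r = (ρ.hom r) ⊗ₜ[R] (1 : chM f u)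
      rw [← hφ, Algebra.algebraMap_eq_smul_one, TensorProduct.tmul_smul,
        TensorProduct.smul_tmul', Algebra.smul_def, mul_one]
      rfl
    have hz : (Spec.map θ ≫ chart f u) ≫ f = Spec.map τ ≫ Spec.map ρ ≫ u := by
      rw [Category.assoc, chart_comp, ← Category.assoc, ← Spec.map_comp, hcomm, Spec.map_comp,
        Category.assoc]
    have key := H _ (Spec.map θ ≫ chart f u) (Spec.map τ) hz
    exact (hK _ θ).mp key hj
  · intro H T' z t hz
    refine hQ.of_openCover z T'.affineOpenCover.openCover fun i => ?_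
    change 𝒬 (T'.affineOpenCover.f i ≫ z)
    obtain ⟨τ, hτ⟩ : ∃ τ : R' ⟶ T'.affineOpenCover.X i,
        Spec.map τ = T'.affineOpenCover.f i ≫ t := ⟨Spec.preimage _, Spec.map_preimage _⟩
    have h' : (T'.affineOpenCover.f i ≫ z) ≫ f = (Spec.map τ ≫ Spec.map ρ) ≫ u := by
      rw [Category.assoc, hz, hτ]
      simp only [Category.assoc]
    obtain ⟨θ, hθ⟩ : ∃ θ : chM f u ⟶ T'.affineOpenCover.X i, Spec.map θ =
        pullback.lift (T'.affineOpenCover.f i ≫ z) (Spec.map τ ≫ Spec.map ρ) h' ≫
          (chW f u).isoSpec.hom := ⟨Spec.preimage _, Spec.map_preimage _⟩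
    have hθ' : Spec.map θ ≫ chIso f u =
        pullback.lift (T'.affineOpenCover.f i ≫ z) (Spec.map τ ≫ Spec.map ρ) h' := by
      rw [hθ, chIso, Category.assoc, Iso.hom_inv_id, Category.comp_id]
    have hz' : Spec.map θ ≫ chart f u = T'.affineOpenCover.f i ≫ z := by
      rw [chart, ← Category.assoc, hθ', pullback.lift_fst]
    rw [← hz']
    refine (hK _ θ).mpr ?_
    have hcomm : chφ f u ≫ θ = ρ ≫ τ := by
      apply Spec.map_injective
      rw [Spec.map_comp, chφ_spec, ← Category.assoc, hθ', pullback.lift_snd, Spec.map_comp]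
    letI algC : Algebra R (T'.affineOpenCover.X i) := (ρ ≫ τ).hom.toAlgebra
    let τA : R' →ₐ[R] T'.affineOpenCover.X i := { τ.hom with commutes' := fun r => rfl }
    let θA : chM f u →ₐ[R] T'.affineOpenCover.X i :=
      { θ.hom with
        commutes' := fun r => by
          change θ.hom (algebraMap R (chM f u) r) = (ρ ≫ τ).hom r
          rw [hφ, ← hcomm]
          rfl }
    let θ' : R' ⊗[R] chM f u →ₐ[R] T'.affineOpenCover.X i :=
      Algebra.TensorProduct.lift τA θA (fun _ _ => Commute.all _ _)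
    intro j hj
    rw [RingHom.mem_ker]
    have h1 : θ.hom j = θ' ((1 : R') ⊗ₜ[R] j) := by
      simp [θ', τA, θA]
    rw [h1, H j hj, map_zero]

end Chart

end Groth.Agent.Lib.Helper14.WeilClosed
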