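import Mathlib
import Groth.Agent.Lib.Helper14.WeilClosed1
import Groth.Agent.Lib.Helper14.AbsClosed3

/-!
# helper14: "Weil restriction" of a closed condition: existence theorems, finite presentation,
and the two standard sources of cut ideals (equalizers, factoring through a closed immersion)
-/

set_option autoImplicit false
universe u
open CategoryTheory CategoryTheory.Limits AlgebraicGeometry TensorProduct

namespace Groth.Agent.Lib.Helper14.WeilClosed

open Groth.Agent.Lib.Helper14

/-- the coefficient ideal of a finitely generated ideal of a module-finite projective algebra is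
finitely generated -/
theorem coeffIdeal_fg (R M : Type u) [CommRing R] [CommRing M] [Algebra R M] [Module.Finite R M]
    [Module.Projective R M] (K : Ideal M) (hK : K.FG) :
    (FixCoeffProj.coeffIdeal R M (K : Set M)).FG := by
  have h1 : (K.restrictScalars R).FG := by
    haveI : Module.Finite M K := Module.Finite.iff_fg.mpr hK
    haveI : Module.Finite R K := Module.Finite.trans M K
    exact Module.Finite.iff_fg.mp (inferInstanceAs (Module.Finite R K))
  obtain ⟨s, hs⟩ := h1
  classical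
  refine ⟨s.biUnion (fun j => (FixCoeffProj.splitting R M j).support.image
    (FixCoeffProj.splitting R M j)), ?_⟩
  apply le_antisymm
  · rw [Ideal.span_le]
    intro r hr
    simp only [Finset.coe_biUnion, Finset.coe_image, Set.mem_iUnion, Set.mem_image,
      Finset.mem_coe, exists_prop] at hr
    obtain ⟨j, hj, m, -, rfl⟩ := hr
    have hjK : j ∈ K.restrictScalars R := by
      rw [← hs]
      exact Submodule.subset_span hj
    exact Ideal.subset_span ⟨j, hjK, m, rfl⟩
  · rw [FixCoeffProj.coeffIdeal, Ideal.span_le]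
    rintro r ⟨j, hj, m, rfl⟩
    have hj' : j ∈ Submodule.span R (s : Set M) := by
      rw [hs]
      exact hj
    clear hj
    induction hj' using Submodule.span_induction with
    | mem x hx =>
      by_cases hm : m ∈ (FixCoeffProj.splitting R M x).support
      · apply Ideal.subset_span
        simp only [Finset.coe_biUnion, Finset.coe_image, Set.mem_iUnion, Set.mem_image,
          Finset.mem_coe, exists_prop]
        exact ⟨x, hx, m, hm, rfl⟩
      · rw [Finsupp.notMem_support_iff.mp hm]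
        exact Submodule.zero_mem _
    | zero =>
      rw [map_zero, Finsupp.zero_apply]
      exact Submodule.zero_mem _
    | add x y _ _ hx hy =>
      rw [map_add, Finsupp.add_apply]
      exact Submodule.add_mem _ hx hy
    | smul a x _ hx =>
      rw [map_smul, Finsupp.smul_apply]
      exact Ideal.mul_mem_left _ _ hx

section Exists

variable {X Z : Scheme.{u}} (f : Z ⟶ X) {𝒬 : ∀ ⦃T : Scheme.{u}⦄, (T ⟶ Z) → Prop}

/-- **Existence on a basis.** -/
theorem exists_closed_univ_on_basis [IsAffineHom f] (hQ : AbsClosed.IsLocalPred 𝒬) (𝓑 : Set X.affineOpens)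
    (hlow : ∀ U ∈ 𝓑, ∀ V : X.affineOpens, V.1 ≤ U.1 → V ∈ 𝓑)
    (hcov : ∀ x : X, ∃ U ∈ 𝓑, x ∈ U.1)
    (hproj : ∀ U ∈ 𝓑, @Module.Projective Γ(X, U) _ (chM f U.2.fromSpec) _
      (chφ f U.2.fromSpec).hom.toAlgebra.toModule)
    (hK : ∀ U ∈ 𝓑, ∃ K, IsCutIdeal f 𝒬 U.2.fromSpec K) :
    ∃ (T : Scheme.{u}) (t : T ⟶ X), IsClosedImmersion t ∧ Univ f 𝒬 t ∧
      ∀ (T' : Scheme.{u}) (x : T' ⟶ X), Univ f 𝒬 x → ∃ l : T' ⟶ T, l ≫ t = x := by
  refine AbsClosed.exists_closed_of_criterion_on_basis' 𝓑 hlow hcov (isLocalPred_univ hQ) ?_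
  intro U hU
  letI := (chφ f U.2.fromSpec).hom.toAlgebra
  haveI := hproj U hU
  exact ⟨_, fun R' ρ => chart_criterion hQ (hK U hU).choose_spec rfl ρ⟩

/-- **Existence, with finite presentation**, for `f` finite flat of finite presentation. -/
theorem exists_closed_univ_fp [IsFinite f] [Flat f] [LocallyOfFinitePresentation f]
    (hQ : AbsClosed.IsLocalPred 𝒬)
    (hK : ∀ U : X.affineOpens, ∃ K, K.FG ∧ IsCutIdeal f 𝒬 U.2.fromSpec K) :
    ∃ (T : Scheme.{u}) (t : T ⟶ X), IsClosedImmersion t ∧ LocallyOfFinitePresentation t ∧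
      Univ f 𝒬 t ∧
      ∀ (T' : Scheme.{u}) (x : T' ⟶ X), Univ f 𝒬 x → ∃ l : T' ⟶ T, l ≫ t = x := by
  have hfin : ∀ U : X.affineOpens,
      @Module.Finite Γ(X, U) (chM f U.2.fromSpec) _ _
        (chφ f U.2.fromSpec).hom.toAlgebra.toModule ∧
      @Module.Projective Γ(X, U) _ (chM f U.2.fromSpec) _
        (chφ f U.2.fromSpec).hom.toAlgebra.toModule := by
    intro U
    have h1 : IsFinite (Spec.map (chφ f U.2.fromSpec)) := by
      rw [chφ_spec]; infer_instance
    have h2 : Flat (Spec.map (chφ f U.2.fromSpec)) := by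
      rw [chφ_spec]; infer_instance
    have h3 : LocallyOfFinitePresentation (Spec.map (chφ f U.2.fromSpec)) := by
      rw [chφ_spec]; infer_instance
    rw [IsFinite.SpecMap_iff] at h1
    rw [Flat.SpecMap_iff] at h2
    rw [LocallyOfFinitePresentation.SpecMap_iff] at h3
    algebraize [(chφ f U.2.fromSpec).hom]
    haveI : Module.FinitePresentation Γ(X, U) (chM f U.2.fromSpec) :=
      Module.FinitePresentation.of_finite_of_finitePresentation _ _
    exact ⟨inferInstance, Module.Flat.projective_of_finitePresentation⟩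
  let I : ∀ U : X.affineOpens, Ideal Γ(X, U) := fun U =>
    letI := (chφ f U.2.fromSpec).hom.toAlgebra
    haveI := (hfin U).2
    FixCoeffProj.coeffIdeal Γ(X, U) (chM f U.2.fromSpec)
      ((hK U).choose : Set (chM f U.2.fromSpec))
  refine AbsClosed.exists_closed_of_criterion_fg (isLocalPred_univ hQ) I ?_ ?_
  · intro U R' ρ
    letI := (chφ f U.2.fromSpec).hom.toAlgebra
    haveI := (hfin U).2
    exact chart_criterion hQ (hK U).choose_spec.2 rfl ρ
  · intro U
    letI := (chφ f U.2.fromSpec).hom.toAlgebra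
    haveI := (hfin U).1
    haveI := (hfin U).2
    exact coeffIdeal_fg Γ(X, U) (chM f U.2.fromSpec) _ (hK U).choose_spec.1

end Exists

section Sources

variable {X Z : Scheme.{u}}

/-- ideals of closed subschemes of affine schemes -/
theorem exists_ideal_of_closedImmersion {A : CommRingCat.{u}} {E : Scheme.{u}} (ι : E ⟶ Spec A)
    [IsClosedImmersion ι] :
    ∃ K : Ideal A, (LocallyOfFinitePresentation ι → K.FG) ∧
      ∀ (C : CommRingCat.{u}) (θ : A ⟶ C),
        (∃ l : Spec C ⟶ E, l ≫ ι = Spec.map θ) ↔ K ≤ RingHom.ker θ.hom := by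
  obtain ⟨K, e, he⟩ := IsClosedImmersion.Spec_iff.mp (inferInstance : IsClosedImmersion ι)
  refine ⟨K, fun hfp => ?_, fun C θ => ⟨?_, fun h => ?_⟩⟩
  · have h1 : LocallyOfFinitePresentation (Spec.map (CommRingCat.ofHom (Ideal.Quotient.mk K))) := by
      have : Spec.map (CommRingCat.ofHom (Ideal.Quotient.mk K)) = e.inv ≫ ι := by
        rw [he, Iso.inv_hom_id_assoc]
      rw [this]
      infer_instance
    rw [LocallyOfFinitePresentation.SpecMap_iff] at h1
    have h2 : Algebra.FinitePresentation A (A ⧸ K) :=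
      RingHom.finitePresentation_algebraMap.mp h1
    have h3 := Algebra.FinitePresentation.ker_fG_of_surjective (Ideal.Quotient.mkₐ A K)
      (Ideal.Quotient.mkₐ_surjective A K)
    have h4 : RingHom.ker (Ideal.Quotient.mkₐ A K).toRingHom = K := Ideal.mk_ker
    rwa [h4] at h3
  · rintro ⟨l, hl⟩
    obtain ⟨τ, hτ⟩ : ∃ τ : CommRingCat.of (A ⧸ K) ⟶ C, Spec.map τ = l ≫ e.hom :=
      ⟨Spec.preimage (l ≫ e.hom), Spec.map_preimage _⟩
    have h1 : Spec.map θ = Spec.map (CommRingCat.ofHom (Ideal.Quotient.mk K) ≫ τ) := by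
      rw [Spec.map_comp, hτ, Category.assoc, ← he, hl]
    have h2 := Spec.map_injective h1
    intro r hr
    rw [RingHom.mem_ker, h2]
    change τ.hom (Ideal.Quotient.mk K r) = 0
    rw [Ideal.Quotient.eq_zero_iff_mem.mpr hr, map_zero]
  · let τ : CommRingCat.of (A ⧸ K) ⟶ C := CommRingCat.ofHom (Ideal.Quotient.lift K θ.hom
      (fun r hr => h hr))
    have h1 : θ = CommRingCat.ofHom (Ideal.Quotient.mk K) ≫ τ := by
      ext r
      rfl
    refine ⟨Spec.map τ ≫ e.inv, ?_⟩
    rw [h1, Spec.map_comp, he, Category.assoc, Iso.inv_hom_id_assoc]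

/-- the predicate "`z ≫ γ` factors through `j`" -/
def Factors {W E : Scheme.{u}} (j : E ⟶ W) (γ : Z ⟶ W) ⦃T : Scheme.{u}⦄ (z : T ⟶ Z) : Prop :=
  ∃ e : T ⟶ E, e ≫ j = z ≫ γ

theorem isLocalPred_factors {W E : Scheme.{u}} (j : E ⟶ W) [Mono j] (γ : Z ⟶ W) :
    AbsClosed.IsLocalPred (Factors j γ) where
  comp := fun T T' t z ⟨e, he⟩ => ⟨t ≫ e, by rw [Category.assoc, he, Category.assoc]⟩
  of_openCover := fun T z 𝒰 H => by
    choose e he using H
    have compat : ∀ i k : 𝒰.I₀, pullback.fst (𝒰.f i) (𝒰.f k) ≫ e i =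
        pullback.snd (𝒰.f i) (𝒰.f k) ≫ e k := by
      intro i k
      rw [← cancel_mono j, Category.assoc, Category.assoc, he, he, ← Category.assoc,
        ← Category.assoc, ← Category.assoc, ← Category.assoc, pullback.condition]
    refine ⟨𝒰.glueMorphisms e compat, ?_⟩
    refine Scheme.Cover.hom_ext 𝒰 _ _ fun i => ?_
    rw [← Category.assoc, 𝒰.ι_glueMorphisms, he, Category.assoc]

theorem exists_cutIdeal_factors (f : Z ⟶ X) [IsAffineHom f] {W E : Scheme.{u}} (j : E ⟶ W)
    [IsClosedImmersion j] (γ : Z ⟶ W) {R : CommRingCat.{u}} (u : Spec R ⟶ X) :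
    ∃ K, (LocallyOfFinitePresentation j → K.FG) ∧ IsCutIdeal f (Factors j γ) u K := by
  obtain ⟨K, hfg, hK⟩ := exists_ideal_of_closedImmersion (pullback.snd j (chart f u ≫ γ))
  refine ⟨K, fun h => hfg (by haveI := h; infer_instance), fun C θ => ?_⟩
  rw [← hK C θ]
  constructor
  · rintro ⟨e, he⟩
    exact ⟨pullback.lift e (Spec.map θ) (by rw [he, Category.assoc]), pullback.lift_snd _ _ _⟩
  · rintro ⟨l, hl⟩
    refine ⟨l ≫ pullback.fst _ _, ?_⟩
    rw [Category.assoc, pullback.condition, ← Category.assoc, hl, Category.assoc]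

/-- the predicate "`z` equalizes `α` and `β`" -/
def Equalizes {W : Scheme.{u}} (α β : Z ⟶ W) ⦃T : Scheme.{u}⦄ (z : T ⟶ Z) : Prop :=
  z ≫ α = z ≫ β

theorem isLocalPred_equalizes {W : Scheme.{u}} (α β : Z ⟶ W) :
    AbsClosed.IsLocalPred (Equalizes α β) where
  comp := fun T T' t z h => by
    change (t ≫ z) ≫ α = (t ≫ z) ≫ β
    rw [Category.assoc, h, Category.assoc]
  of_openCover := fun T z 𝒰 H => by
    refine Scheme.Cover.hom_ext 𝒰 _ _ fun i => ?_
    have := H i
    change (𝒰.f i ≫ z) ≫ α = (𝒰.f i ≫ z) ≫ β at this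
    rw [← Category.assoc, this, Category.assoc]

end Sources

end Groth.Agent.Lib.Helper14.WeilClosed
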