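import Mathlib
import Groth.Agent.Lib.Helper14.WeilClosed2

/-!
# helper14: closed subschemes of finite presentation representing universal conditions over a
finite flat finitely presented family, `Over S` form
-/

set_option autoImplicit false
universe u
open CategoryTheory CategoryTheory.Limits AlgebraicGeometry TensorProduct MonoidalCategory
  CartesianMonoidalCategory

namespace Groth.Agent.Lib.Helper14.WeilClosed

open Groth.Agent.Lib.Helper14

variable {S : Scheme.{u}} {Y G W E : Over S}

theorem univ_factors_iff_over (γ : Y ⊗ G ⟶ W) (j : E ⟶ W) {T : Over S} (g : T ⟶ G) :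
    Univ (pullback.snd Y.hom G.hom) (Factors j.left (γ.left : pullback Y.hom G.hom ⟶ W.left))
        g.left ↔
      ∀ (T' : Over S) (t : T' ⟶ T) (a : T' ⟶ Y), ∃ e : T' ⟶ E, e ≫ j = lift a (t ≫ g) ≫ γ := by
  constructor
  · intro H T' t a
    have hz : (lift a (t ≫ g)).left ≫ pullback.snd Y.hom G.hom = t.left ≫ g.left := by
      have := congrArg (fun φ => φ.left) (lift_snd a (t ≫ g))
      exact this
    obtain ⟨e, he⟩ := H T'.left (lift a (t ≫ g)).left t.left hz
    refine ⟨Over.homMk e ?_, ?_⟩
    · have h1 : e ≫ E.hom = e ≫ j.left ≫ W.hom := by rw [Over.w j]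
      rw [h1, ← Category.assoc, he, Category.assoc, Over.w γ, Over.w (lift a (t ≫ g))]
    · ext
      exact he
  · intro H T' z t hz
    let X' : Over S := Over.mk (t ≫ T.hom)
    let x : X' ⟶ T := Over.homMk t rfl
    let a : X' ⟶ Y := Over.homMk (z ≫ pullback.fst Y.hom G.hom) (by
      change (z ≫ pullback.fst Y.hom G.hom) ≫ Y.hom = t ≫ T.hom
      rw [Category.assoc, pullback.condition, ← Category.assoc, hz, Category.assoc, Over.w g])
    obtain ⟨e, he⟩ := H X' x a
    have hl : (lift a (x ≫ g)).left = z := by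
      apply pullback.hom_ext
      · have := congrArg (fun φ => φ.left) (lift_fst a (x ≫ g))
        exact this
      · have := congrArg (fun φ => φ.left) (lift_snd a (x ≫ g))
        exact this.trans hz.symm
    refine ⟨e.left, ?_⟩
    have := congrArg (fun φ => φ.left) he
    simp only [Over.comp_left] at this
    rw [this, hl]

/-- **Theorem A.** `Y` finite flat of finite presentation over `S`, `j : E ⟶ W` a closed
immersion, `γ : Y × G ⟶ W`. The points `g` of `G` with `γ (y, g) ∈ E` for all `y` form a closed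
subscheme of `G`, of finite presentation if `j` is. -/
theorem exists_closed_factors [IsFinite Y.hom] [Flat Y.hom] [LocallyOfFinitePresentation Y.hom]
    (γ : Y ⊗ G ⟶ W) (j : E ⟶ W) [IsClosedImmersion j.left]
    [LocallyOfFinitePresentation j.left] :
    ∃ (C : Over S) (c : C ⟶ G), IsClosedImmersion c.left ∧ LocallyOfFinitePresentation c.left ∧
      ∀ (T : Over S) (g : T ⟶ G), (∃ z : T ⟶ C, z ≫ c = g) ↔
        ∀ (T' : Over S) (t : T' ⟶ T) (a : T' ⟶ Y), ∃ e : T' ⟶ E,
          e ≫ j = lift a (t ≫ g) ≫ γ := by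
  obtain ⟨C, c, hc, hfp, hfix, huniv⟩ := exists_closed_univ_fp (pullback.snd Y.hom G.hom)
    (isLocalPred_factors j.left (γ.left : pullback Y.hom G.hom ⟶ W.left))
    (fun U => by
      obtain ⟨K, hfg, hK⟩ := exists_cutIdeal_factors (pullback.snd Y.hom G.hom) j.left
        (γ.left : pullback Y.hom G.hom ⟶ W.left) U.2.fromSpec
      exact ⟨K, hfg inferInstance, hK⟩)
  let CO : Over S := Over.mk (c ≫ G.hom)
  let cO : CO ⟶ G := Over.homMk c rfl
  refine ⟨CO, cO, hc, hfp, fun T g => ?_⟩
  rw [← univ_factors_iff_over]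
  constructor
  · rintro ⟨z, rfl⟩
    exact (isLocalPred_univ (isLocalPred_factors j.left
      (γ.left : pullback Y.hom G.hom ⟶ W.left))).comp z.left c hfix
  · intro h
    obtain ⟨l, hl⟩ := huniv T.left g.left h
    refine ⟨Over.homMk l ?_, ?_⟩
    · change l ≫ c ≫ G.hom = T.hom
      rw [← Category.assoc, hl, Over.w g]
    · ext
      exact hl

/-- **Theorem B.** `Y` finite flat of finite presentation over `S`, `W` separated and locally of
finite type over `S`, `α β : Y × G ⟶ W`. The points `g` of `G` with `α (y, g) = β (y, g)` for all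
`y` form a closed subscheme of `G` of finite presentation. -/
theorem exists_closed_equalizes [IsFinite Y.hom] [Flat Y.hom] [LocallyOfFinitePresentation Y.hom]
    [IsSeparated W.hom] [LocallyOfFiniteType W.hom] (α β : Y ⊗ G ⟶ W) :
    ∃ (C : Over S) (c : C ⟶ G), IsClosedImmersion c.left ∧ LocallyOfFinitePresentation c.left ∧
      ∀ (T : Over S) (g : T ⟶ G), (∃ z : T ⟶ C, z ≫ c = g) ↔
        ∀ (T' : Over S) (t : T' ⟶ T) (a : T' ⟶ Y),
          lift a (t ≫ g) ≫ α = lift a (t ≫ g) ≫ β := by
  have hd : (lift (𝟙 W) (𝟙 W) : W ⟶ W ⊗ W).left = pullback.diagonal W.hom := by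
    apply pullback.hom_ext
    · have := congrArg (fun φ => φ.left) (lift_fst (𝟙 W) (𝟙 W))
      simp only [Over.comp_left] at this
      rw [pullback.diagonal_fst]
      exact this
    · have := congrArg (fun φ => φ.left) (lift_snd (𝟙 W) (𝟙 W))
      simp only [Over.comp_left] at this
      rw [pullback.diagonal_snd]
      exact this
  haveI : IsClosedImmersion (lift (𝟙 W) (𝟙 W) : W ⟶ W ⊗ W).left := by
    rw [hd]
    infer_instance
  haveI : LocallyOfFinitePresentation (lift (𝟙 W) (𝟙 W) : W ⟶ W ⊗ W).left := by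
    rw [hd]
    haveI : LocallyOfFinitePresentation (pullback.diagonal W.hom ≫ pullback.fst W.hom W.hom) := by
      rw [pullback.diagonal_fst]
      infer_instance
    exact AbsClosed.locallyOfFinitePresentation_of_comp _ (pullback.fst W.hom W.hom)
  obtain ⟨C, c, hc, hfp, h⟩ := exists_closed_factors (lift α β : Y ⊗ G ⟶ W ⊗ W)
    (lift (𝟙 W) (𝟙 W) : W ⟶ W ⊗ W)
  refine ⟨C, c, hc, hfp, fun T g => ?_⟩
  rw [h T g]
  refine forall_congr' fun T' => forall_congr' fun t => forall_congr' fun a => ?_
  constructor
  · rintro ⟨e, he⟩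
    have h1 := congrArg (fun φ => φ ≫ fst W W) he
    have h2 := congrArg (fun φ => φ ≫ snd W W) he
    simp only [Category.assoc, lift_fst, lift_snd, Category.comp_id] at h1 h2
    rw [← h1, ← h2]
  · intro he
    refine ⟨lift a (t ≫ g) ≫ α, ?_⟩
    apply CartesianMonoidalCategory.hom_ext
    · simp only [Category.assoc, lift_fst, Category.comp_id]
    · simp only [Category.assoc, lift_snd, Category.comp_id]
      exact he

end Groth.Agent.Lib.Helper14.WeilClosed
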