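import Mathlib
import Groth.Agent.Lib.Helper14.WeilClosed3

/-!
# helper14: "Weil restriction" of closed conditions along `Y ×ₖ X ⟶ X` over a field `k`,
for an arbitrary `k`-scheme `Y`

* `univ_iff_forall_cover`: `Univ f 𝒬` can be tested on an open cover of the source of `f`.
* `projective_of_isPullback`: the coordinate ring of `Spec R ×ₖ Spec B` is projective over `R`.
* `exists_closed_univ`: for `𝒬` a local predicate on points of `Y ×ₖ X` cut out by ideals on the
  charts `V ×ₖ U`, the functor `Univ (pullback.snd fY fX) 𝒬` is a closed subscheme of `X`.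
* `exists_closed_factors`: `Over` form for `𝒬 = "γ(y, x) ∈ E"`, `E ⟶ W` a closed immersion.
-/

set_option autoImplicit false
universe u
open CategoryTheory CategoryTheory.Limits AlgebraicGeometry TensorProduct MonoidalCategory
  CartesianMonoidalCategory

namespace Groth.Agent.Lib.Helper14.WeilField

open Groth.Agent.Lib.Helper14 Groth.Agent.Lib.Helper14.WeilClosed

section Cover

variable {X Z : Scheme.{u}} (f : Z ⟶ X)

/-- restriction of a predicate along a morphism -/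
def restr {Z' : Scheme.{u}} (ι : Z' ⟶ Z) (𝒬 : ∀ ⦃T : Scheme.{u}⦄, (T ⟶ Z) → Prop) :
    ∀ ⦃T : Scheme.{u}⦄, (T ⟶ Z') → Prop := fun _ z => 𝒬 (z ≫ ι)

variable {𝒬 : ∀ ⦃T : Scheme.{u}⦄, (T ⟶ Z) → Prop}

theorem isLocalPred_restr {Z' : Scheme.{u}} (ι : Z' ⟶ Z) (hQ : AbsClosed.IsLocalPred 𝒬) :
    AbsClosed.IsLocalPred (restr ι 𝒬) where
  comp := fun T T' t z h => by
    change 𝒬 ((t ≫ z) ≫ ι)
    rw [Category.assoc]
    exact hQ.comp t _ h
  of_openCover := fun T z 𝒰 H => by
    change 𝒬 (z ≫ ι)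
    refine hQ.of_openCover _ 𝒰 fun i => ?_
    have := H i
    change 𝒬 ((𝒰.f i ≫ z) ≫ ι) at this
    rwa [Category.assoc] at this

theorem univ_iff_forall_cover (hQ : AbsClosed.IsLocalPred 𝒬) (𝒰 : Scheme.OpenCover.{u} Z) {T : Scheme.{u}}
    (x : T ⟶ X) :
    Univ f 𝒬 x ↔ ∀ i, Univ (𝒰.f i ≫ f) (restr (𝒰.f i) 𝒬) x := by
  constructor
  · intro H i T' z t hz
    exact H T' (z ≫ 𝒰.f i) t (by rw [Category.assoc, hz])
  · intro H T' z t hz
    refine hQ.of_openCover z (𝒰.pullback₁ z) fun i => ?_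
    have h1 : pullback.fst z (𝒰.f i) ≫ z = pullback.snd z (𝒰.f i) ≫ 𝒰.f i := pullback.condition
    change 𝒬 (pullback.fst z (𝒰.f i) ≫ z)
    rw [h1]
    refine H i _ (pullback.snd z (𝒰.f i)) (pullback.fst z (𝒰.f i) ≫ t) ?_
    calc pullback.snd z (𝒰.f i) ≫ 𝒰.f i ≫ f
        = (pullback.snd z (𝒰.f i) ≫ 𝒰.f i) ≫ f := (Category.assoc _ _ _).symm
      _ = (pullback.fst z (𝒰.f i) ≫ z) ≫ f := by rw [h1]
      _ = pullback.fst z (𝒰.f i) ≫ (z ≫ f) := Category.assoc _ _ _
      _ = pullback.fst z (𝒰.f i) ≫ (t ≫ x) := by rw [hz]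
      _ = (pullback.fst z (𝒰.f i) ≫ t) ≫ x := (Category.assoc _ _ _).symm

end Cover

section Proj

variable {k : Type u} [Field k]

/-- the coordinate ring of `Spec R ×ₖ Spec B` is a projective `R`-module -/
theorem projective_of_isPullback {R B M : CommRingCat.{u}} (ρ₀ : CommRingCat.of k ⟶ R)
    (β : CommRingCat.of k ⟶ B) (φ : R ⟶ M) (p : Spec M ⟶ Spec B)
    (h : IsPullback (Spec.map φ) p (Spec.map ρ₀) (Spec.map β)) :
    @Module.Projective R _ M _ φ.hom.toAlgebra.toModule := by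
  letI : Algebra k R := ρ₀.hom.toAlgebra
  letI : Algebra k B := β.hom.toAlgebra
  letI : Algebra R M := φ.hom.toAlgebra
  let e0 : pullback (Spec.map ρ₀) (Spec.map β) ≅ Spec (CommRingCat.of (R ⊗[k] B)) :=
    pullbackSpecIso k R B
  have he0 : e0.hom ≫ Spec.map (CommRingCat.ofHom
      (Algebra.TensorProduct.includeLeftRingHom : R →+* R ⊗[k] B)) = pullback.fst _ _ :=
    pullbackSpecIso_hom_fst k R B
  let e : Spec M ≅ Spec (CommRingCat.of (R ⊗[k] B)) := h.isoPullback ≪≫ e0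
  have he : e.hom ≫ Spec.map (CommRingCat.ofHom
      (Algebra.TensorProduct.includeLeftRingHom : R →+* R ⊗[k] B)) = Spec.map φ := by
    rw [Iso.trans_hom, Category.assoc, he0, IsPullback.isoPullback_hom_fst]
  obtain ⟨σ, hσ⟩ : ∃ σ : CommRingCat.of (R ⊗[k] B) ⟶ M, Spec.map σ = e.hom :=
    ⟨Spec.preimage e.hom, Spec.map_preimage _⟩
  obtain ⟨σ', hσ'⟩ : ∃ σ' : M ⟶ CommRingCat.of (R ⊗[k] B), Spec.map σ' = e.inv :=
    ⟨Spec.preimage e.inv, Spec.map_preimage _⟩
  have h1 : σ ≫ σ' = 𝟙 _ := Spec.map_injective (by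
    rw [Spec.map_comp, hσ, hσ', Iso.inv_hom_id, Spec.map_id])
  have h2 : σ' ≫ σ = 𝟙 _ := Spec.map_injective (by
    rw [Spec.map_comp, hσ, hσ', Iso.hom_inv_id, Spec.map_id])
  have h3 : CommRingCat.ofHom
      (Algebra.TensorProduct.includeLeftRingHom : R →+* R ⊗[k] B) ≫ σ = φ :=
    Spec.map_injective (by rw [Spec.map_comp, hσ, he])
  let E : (R ⊗[k] B) ≃ₗ[R] M :=
    { toFun := σ.hom
      map_add' := map_add _
      map_smul' := fun r x => by
        rw [RingHom.id_apply, Algebra.smul_def, Algebra.smul_def, map_mul]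
        congr 1
        exact congrArg (fun ψ => ψ.hom r) h3
      invFun := σ'.hom
      left_inv := fun x => congrArg (fun ψ => ψ.hom x) h1
      right_inv := fun x => congrArg (fun ψ => ψ.hom x) h2 }
  exact Module.Projective.of_equiv' E

end Proj

section Main

variable {k : Type u} [Field k] {X Y : Scheme.{u}} (fY : Y ⟶ Spec (CommRingCat.of k))
  (fX : X ⟶ Spec (CommRingCat.of k))

/-- the cover of `Y ×ₖ X` by the `V ×ₖ X`, `V` in the chosen affine cover of `Y` -/
noncomputable def prodCover : Scheme.OpenCover.{u} (pullback fY fX) :=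
  Y.affineOpenCover.openCover.pullback₁ (pullback.fst fY fX)

/-- the projection `V ×ₖ X ⟶ X` -/
noncomputable def prodProj (i : (prodCover fY fX).I₀) : (prodCover fY fX).X i ⟶ X :=
  (prodCover fY fX).f i ≫ pullback.snd fY fX

theorem isPullback_prodProj (i : (prodCover fY fX).I₀) :
    IsPullback (pullback.snd (pullback.fst fY fX) (Y.affineOpenCover.f i)) (prodProj fY fX i)
      (Y.affineOpenCover.f i ≫ fY) fX :=
  (IsPullback.of_hasPullback (pullback.fst fY fX) (Y.affineOpenCover.f i)).flip.paste_vert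
    (IsPullback.of_hasPullback fY fX)

instance (i : (prodCover fY fX).I₀) : IsAffineHom (prodProj fY fX i) :=
  MorphismProperty.of_isPullback (P := @IsAffineHom) (isPullback_prodProj fY fX i) inferInstance

theorem projective_chM (i : (prodCover fY fX).I₀) (U : X.affineOpens) :
    @Module.Projective Γ(X, U) _ (chM (prodProj fY fX i) U.2.fromSpec) _
      (chφ (prodProj fY fX i) U.2.fromSpec).hom.toAlgebra.toModule := by
  obtain ⟨ρ₀, hρ₀⟩ : ∃ ρ₀ : CommRingCat.of k ⟶ Γ(X, U), Spec.map ρ₀ = U.2.fromSpec ≫ fX :=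
    ⟨Spec.preimage _, Spec.map_preimage _⟩
  obtain ⟨β, hβ⟩ : ∃ β : CommRingCat.of k ⟶ Y.affineOpenCover.X i,
      Spec.map β = Y.affineOpenCover.f i ≫ fY := ⟨Spec.preimage _, Spec.map_preimage _⟩
  refine projective_of_isPullback ρ₀ β (chφ (prodProj fY fX i) U.2.fromSpec)
    (chIso (prodProj fY fX i) U.2.fromSpec ≫ pullback.fst (prodProj fY fX i) U.2.fromSpec ≫
      pullback.snd (pullback.fst fY fX) (Y.affineOpenCover.f i)) ?_
  rw [hρ₀, hβ]
  have s1 : IsPullback (chIso (prodProj fY fX i) U.2.fromSpec)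
      (Spec.map (chφ (prodProj fY fX i) U.2.fromSpec))
      (pullback.snd (prodProj fY fX i) U.2.fromSpec) (𝟙 _) :=
    IsPullback.of_horiz_isIso ⟨by rw [chφ_spec, Category.comp_id]⟩
  have s2 := (IsPullback.of_hasPullback (prodProj fY fX i) U.2.fromSpec).paste_horiz
    (isPullback_prodProj fY fX i)
  have s3 := (s1.paste_horiz s2).flip
  simpa only [Category.id_comp, Category.assoc] using s3

variable {fY fX}

/-- **Weil restriction of a closed condition along `Y ×ₖ X ⟶ X`, `k` a field.** -/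
theorem exists_closed_univ {𝒬 : ∀ ⦃T : Scheme.{u}⦄, (T ⟶ pullback fY fX) → Prop}
    (hQ : AbsClosed.IsLocalPred 𝒬)
    (hK : ∀ (i : (prodCover fY fX).I₀) (U : X.affineOpens), ∃ K,
      IsCutIdeal (prodProj fY fX i) (restr ((prodCover fY fX).f i) 𝒬) U.2.fromSpec K) :
    ∃ (T : Scheme.{u}) (t : T ⟶ X), IsClosedImmersion t ∧ Univ (pullback.snd fY fX) 𝒬 t ∧
      ∀ (T' : Scheme.{u}) (x : T' ⟶ X), Univ (pullback.snd fY fX) 𝒬 x →
        ∃ l : T' ⟶ T, l ≫ t = x := by
  have hcrit : ∀ U : X.affineOpens, ∃ I : Ideal Γ(X, U),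
      ∀ (R' : CommRingCat.{u}) (ρ : Γ(X, U) ⟶ R'),
        Univ (pullback.snd fY fX) 𝒬 (Spec.map ρ ≫ U.2.fromSpec) ↔ I ≤ RingHom.ker ρ.hom := by
    intro U
    have h1 : ∀ i : (prodCover fY fX).I₀, ∃ I : Ideal Γ(X, U),
        ∀ (R' : CommRingCat.{u}) (ρ : Γ(X, U) ⟶ R'),
          Univ (prodProj fY fX i) (restr ((prodCover fY fX).f i) 𝒬)
            (Spec.map ρ ≫ U.2.fromSpec) ↔ I ≤ RingHom.ker ρ.hom := by
      intro i
      letI := (chφ (prodProj fY fX i) U.2.fromSpec).hom.toAlgebra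
      haveI := projective_chM fY fX i U
      exact ⟨_, fun R' ρ => chart_criterion (isLocalPred_restr _ hQ) (hK i U).choose_spec rfl ρ⟩
    choose I hI using h1
    refine ⟨⨆ i, I i, fun R' ρ => ?_⟩
    rw [univ_iff_forall_cover (pullback.snd fY fX) hQ (prodCover fY fX), iSup_le_iff]
    exact forall_congr' fun i => hI i R' ρ
  choose I hI using hcrit
  exact AbsClosed.exists_closed_of_criterion (isLocalPred_univ hQ) I hI

end Main

end Groth.Agent.Lib.Helper14.WeilField
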