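import Mathlib
import Groth.Agent.Lib.Helper14.WeilField1
import Groth.Agent.Lib.Helper14.HomImage2

/-!
# helper14: closed subschemes cut out by universal conditions over a field, `Over` form

* `exists_closed_factors`: `Y, G, W, E` schemes over a field `k` (`Y` arbitrary), `j : E ⟶ W` a
  closed immersion, `φ : Y ⊗ G ⟶ W`. The points `g` of `G` with `φ (y, g) ∈ E` for all points `y`
  of `Y` (after any base change) form a closed subscheme of `G`.
* `exists_grpObj_of_pred`: a subobject of a group object whose points are described by a predicate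
  stable under `1` and `x⁻¹ * y` is a subgroup object.
-/

set_option autoImplicit false
universe v u
open CategoryTheory CategoryTheory.Limits AlgebraicGeometry TensorProduct MonoidalCategory
  CartesianMonoidalCategory MonObj

namespace Groth.Agent.Lib.Helper14.WeilField

open Groth.Agent.Lib.Helper14 Groth.Agent.Lib.Helper14.WeilClosed

section Field

variable {k : Type u} [Field k] {Y G W E : Over (Spec (CommRingCat.of k))}

/-- **Theorem A over a field.** -/
theorem exists_closed_factors (φ : Y ⊗ G ⟶ W) (j : E ⟶ W) [IsClosedImmersion j.left] :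
    ∃ (C : Over (Spec (CommRingCat.of k))) (c : C ⟶ G), IsClosedImmersion c.left ∧
      ∀ (T : Over (Spec (CommRingCat.of k))) (g : T ⟶ G), (∃ z : T ⟶ C, z ≫ c = g) ↔
        ∀ (T' : Over (Spec (CommRingCat.of k))) (t : T' ⟶ T) (a : T' ⟶ Y), ∃ e : T' ⟶ E,
          e ≫ j = lift a (t ≫ g) ≫ φ := by
  have hQ := isLocalPred_factors j.left (φ.left : pullback Y.hom G.hom ⟶ W.left)
  obtain ⟨C, c, hc, hfix, huniv⟩ := exists_closed_univ (fY := Y.hom) (fX := G.hom) hQ
    (fun i U => by
      obtain ⟨K, -, hK⟩ := exists_cutIdeal_factors (prodProj Y.hom G.hom i) j.left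
        ((prodCover Y.hom G.hom).f i ≫ (φ.left : pullback Y.hom G.hom ⟶ W.left)) U.2.fromSpec
      refine ⟨K, fun C θ => ?_⟩
      rw [← hK C θ]
      unfold restr Factors
      simp only [Category.assoc])
  let CO : Over (Spec (CommRingCat.of k)) := Over.mk (c ≫ G.hom)
  let cO : CO ⟶ G := Over.homMk c rfl
  refine ⟨CO, cO, hc, fun T g => ?_⟩
  rw [← univ_factors_iff_over]
  constructor
  · rintro ⟨z, rfl⟩
    exact (isLocalPred_univ hQ).comp z.left c hfix
  · intro h
    obtain ⟨l, hl⟩ := huniv T.left g.left h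
    refine ⟨Over.homMk l ?_, ?_⟩
    · change l ≫ c ≫ G.hom = T.hom
      rw [← Category.assoc, hl, Over.w g]
    · ext
      exact hl

end Field

section Cat

variable {C : Type u} [Category.{v} C] [CartesianMonoidalCategory C]

/-- a subobject of a group object whose points are described by a predicate stable under `1` and
`x⁻¹ * y` is a subgroup object -/
theorem exists_grpObj_of_pred {G Z : C} [GrpObj G] (n : Z ⟶ G) [Mono n]
    (P : ∀ T : C, (T ⟶ G) → Prop)
    (hP : ∀ (T : C) (g : T ⟶ G), (∃ z : T ⟶ Z, z ≫ n = g) ↔ P T g)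
    (h1 : P (𝟙_ C) η[G])
    (hdiv : ∀ (T : C) (x y : T ⟶ G), P T x → P T y → P T (x⁻¹ * y)) :
    ∃ str : GrpObj Z, @IsMonHom C _ _ _ _ str.toMonObj _ n := by
  obtain ⟨e, he⟩ := (hP _ _).mpr h1
  obtain ⟨d, hd⟩ := (hP _ _).mpr (hdiv (Z ⊗ Z) (fst Z Z ≫ n) (snd Z Z ≫ n)
    ((hP _ _).mp ⟨_, rfl⟩) ((hP _ _).mp ⟨_, rfl⟩))
  exact HomImage.exists_grpObj_of_div n e he d hd

end Cat

end Groth.Agent.Lib.Helper14.WeilField
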