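import Mathlib
import Groth.Prelude.Def_AlgGrp
import Groth.Agent.Lib.Helper14.HomFlat1
import Groth.Agent.Lib.Helper22.ActPts

/-!
# helper14: equivariant translation trick; a flat surjective quasi-compact homomorphism with
smooth kernel is smooth
-/

set_option autoImplicit false
universe u
open CategoryTheory MonoidalCategory CartesianMonoidalCategory MonObj GrpObj AlgebraicGeometry
  CategoryTheory.Limits

namespace Groth.Agent.Lib.Helper14.HomFlat

variable {S : Scheme.{u}}

/-- the action morphism of a flat group scheme is flat -/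
theorem flat_act {G Y : Over S} [GrpObj G] (b : AlgGrp.Action G Y) [Flat G.hom] :
    Flat b.act.left := by
  have hsnd : Flat (snd G Y).left := by
    change Flat (pullback.snd G.hom Y.hom); infer_instance
  have hiso : IsIso (Groth.Agent.Lib.helper22.shear b).hom.left := inferInstance
  rw [← Groth.Agent.Lib.helper22.shear_hom_snd b, Over.comp_left]
  infer_instance

/-- **Equivariant translation trick**: `f : G ⟶ Y` with `f (g g') = g · f g'` which becomes flat
after composition with `j : U ⟶ G`, `U` flat and surjective over `S`, is flat. -/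
theorem flat_of_flat_comp_equivariant {G Y U : Over S} [GrpObj G] (b : AlgGrp.Action G Y)
    (f : G ⟶ Y) (hf : (G ◁ f) ≫ b.act = μ[G] ≫ f) (j : U ⟶ G)
    [Flat G.hom] [Flat U.hom] [Surjective U.hom] [Flat (j ≫ f).left] : Flat f.left := by
  have hfst : Flat (fst G U).left := by
    change Flat (pullback.fst G.hom U.hom); infer_instance
  have hfsts : Surjective (fst G U).left := by
    change Surjective (pullback.fst G.hom U.hom); infer_instance
  have hiso1 : IsIso (shear j).hom.left := inferInstance
  have hm : ((G ◁ j) ≫ μ[G]).left = (shear j).hom.left ≫ (fst G U).left := by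
    rw [← Over.comp_left, shear_hom_fst]
  have hmflat : Flat ((G ◁ j) ≫ μ[G]).left := by rw [hm]; infer_instance
  have hmsurj : Surjective ((G ◁ j) ≫ μ[G]).left := by rw [hm]; infer_instance
  have hw : Flat (G ◁ (j ≫ f)).left := flat_whiskerLeft_left _
  have hb : Flat b.act.left := flat_act b
  have hcomp : ((G ◁ j) ≫ μ[G]).left ≫ f.left = (G ◁ (j ≫ f)).left ≫ b.act.left := by
    rw [← Over.comp_left, ← Over.comp_left, Category.assoc, ← hf, MonoidalCategory.whiskerLeft_comp,
      Category.assoc]
  have hcf : Flat (((G ◁ j) ≫ μ[G]).left ≫ f.left) := by rw [hcomp]; infer_instance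
  exact Groth.Agent.Lib.helper22.flat_of_flat_comp ((G ◁ j) ≫ μ[G]).left f.left

variable {G H N : Over S} [GrpObj G] [GrpObj H]

/-- `G ⊗ N` with `(g, n) ↦ g` and `(g, n) ↦ g * i n` is the fibre product of `φ` with itself, for `N`
the kernel of `φ` -/
theorem isPullback_kernel (φ : G ⟶ H) [IsMonHom φ] (i : N ⟶ G) (hN : AlgGrp.IsKernel i φ) :
    IsPullback (fst G N) (fst G N * (snd G N ≫ i)) φ φ := by
  have hw : i ≫ φ = toUnit N ≫ η[H] := hN.w
  have hmono : Mono i := by
    haveI : Mono η[H] := by
      have : η[H] ≫ toUnit H = 𝟙 _ := toUnit_unique _ _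
      exact mono_of_mono_fac this
    exact hN.mono_fst_of_mono
  apply Groth.Agent.Lib.helper22.isPullback_of_points
  · rw [MonObj.mul_comp, Category.assoc, hw, ← Category.assoc,
      toUnit_unique (snd G N ≫ toUnit N) (toUnit _), ← Hom.one_def, _root_.mul_one]
  · intro T s t hst
    have h1 : (s⁻¹ * t) ≫ φ = toUnit T ≫ η[H] := by
      rw [MonObj.mul_comp, GrpObj.inv_comp, hst, inv_mul_cancel, Hom.one_def]
    refine ⟨lift s (hN.lift (s⁻¹ * t) (toUnit T) h1), lift_fst _ _, ?_⟩
    rw [MonObj.comp_mul, lift_fst, ← Category.assoc, lift_snd, hN.lift_fst, mul_inv_cancel_left]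
  · intro T l l' h1 h2
    apply CartesianMonoidalCategory.hom_ext _ _ h1
    rw [MonObj.comp_mul, MonObj.comp_mul, h1] at h2
    have h3 := mul_left_cancel h2
    rw [← Category.assoc, ← Category.assoc] at h3
    exact (cancel_mono i).mp h3

/-- **A flat, surjective, quasi-compact homomorphism with smooth kernel is smooth.** -/
theorem smooth_of_smooth_kernel (φ : G ⟶ H) [IsMonHom φ] (i : N ⟶ G)
    (hN : AlgGrp.IsKernel i φ) [Flat φ.left] [Surjective φ.left] [QuasiCompact φ.left]
    [Smooth N.hom] : Smooth φ.left := by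
  have hpb : IsPullback (fst G N).left (fst G N * (snd G N ≫ i)).left φ.left φ.left :=
    (isPullback_kernel φ i hN).map (Over.forget S)
  have hfst : Smooth (fst G N).left := by
    change Smooth (pullback.fst G.hom N.hom); infer_instance
  exact MorphismProperty.of_isPullback_of_descendsAlong (P := @Smooth)
    (Q := @Surjective ⊓ @Flat ⊓ @QuasiCompact) hpb
    ⟨⟨‹Surjective φ.left›, ‹Flat φ.left›⟩, ‹QuasiCompact φ.left›⟩ hfst

end Groth.Agent.Lib.Helper14.HomFlat
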