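import Mathlib
import Groth.Prelude.Def_AlgGrp
import Groth.Prelude.Def_ChGrp
import Groth.Agent.Lib.Helper14.HomFlat2
import Groth.Agent.Lib.Helper14.HomFlat3
import Groth.Agent.Lib.Helper14.FibreH0
import Groth.Agent.Lib.Helper1.SmoothReduced
import Groth.Agent.Lib.Helper5.FppfSrcSmooth2

/-!
# helper14: the reduced orbit of a smooth group scheme over a field is smooth
-/

set_option autoImplicit false
universe u
open CategoryTheory MonoidalCategory CartesianMonoidalCategory MonObj GrpObj AlgebraicGeometry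
  CategoryTheory.Limits TopologicalSpace

namespace Groth.Agent.Lib.Helper14.OrbitSmooth

/-- (as in helper4 `ClosureProper`) the kernel of a morphism from a reduced scheme is the
vanishing ideal of the closure of its range -/
theorem ker_eq_vanishingIdeal_range {X Z : Scheme.{u}} [IsReduced Z] (i : Z ⟶ X) :
    i.ker = Scheme.IdealSheafData.vanishingIdeal (.closure (Set.range i)) := by
  rw [← Scheme.IdealSheafData.map_bot, ← Scheme.nilradical_eq_bot,
    ← Scheme.IdealSheafData.vanishingIdeal_top, Scheme.IdealSheafData.map_vanishingIdeal]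
  congr 2
  simp

theorem vanishingIdeal_le_ker_of_range_subset {X Z : Scheme.{u}} [IsReduced Z] (i : Z ⟶ X)
    (T : Closeds X) (h : Set.range i ⊆ (T : Set X)) :
    Scheme.IdealSheafData.vanishingIdeal T ≤ i.ker := by
  rw [ker_eq_vanishingIdeal_range]
  apply Scheme.IdealSheafData.vanishingIdeal_antimono
  rw [Closeds.closure_le]
  exact h

/-- a morphism from a reduced scheme whose range lies in the range of an immersion `i` from a
reduced scheme factors through `i` -/
theorem exists_lift_immersion {T O X : Scheme.{u}} [IsReduced T] [IsReduced O] (i : O ⟶ X)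
    [IsImmersion i] (l : T ⟶ X) (h : Set.range l ⊆ Set.range i) :
    ∃ l' : T ⟶ O, l' ≫ i = l := by
  have h1 : Set.range l ⊆ Set.range i.coborderRange.ι := by
    rw [Scheme.Opens.range_ι]
    refine h.trans ?_
    rintro _ ⟨o, rfl⟩
    have h2 : i o = i.coborderRange.ι (i.liftCoborder o) := by
      rw [← Scheme.Hom.comp_apply, i.liftCoborder_ι]
    rw [h2]
    exact (i.liftCoborder o).2
  let l₁ := IsOpenImmersion.lift i.coborderRange.ι l h1
  have hl₁ : l₁ ≫ i.coborderRange.ι = l := IsOpenImmersion.lift_fac _ _ _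
  have h2 : Set.range l₁ ⊆ Set.range i.liftCoborder := by
    rintro _ ⟨t, rfl⟩
    obtain ⟨o, ho⟩ := h ⟨t, rfl⟩
    refine ⟨o, ?_⟩
    apply i.coborderRange.ι.isEmbedding.injective
    rw [← Scheme.Hom.comp_apply, ← Scheme.Hom.comp_apply, i.liftCoborder_ι, hl₁, ho]
  have hcl : IsClosed (Set.range i.liftCoborder) :=
    i.liftCoborder.isClosedEmbedding.isClosed_range
  have H : i.liftCoborder.ker ≤ l₁.ker := by
    rw [ker_eq_vanishingIdeal_range i.liftCoborder]
    apply vanishingIdeal_le_ker_of_range_subset l₁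
    rw [Closeds.coe_closure, hcl.closure_eq]
    exact h2
  refine ⟨IsClosedImmersion.lift i.liftCoborder l₁ H, ?_⟩
  calc IsClosedImmersion.lift i.liftCoborder l₁ H ≫ i
      = (IsClosedImmersion.lift i.liftCoborder l₁ H ≫ i.liftCoborder) ≫ i.coborderRange.ι := by
        rw [Category.assoc, i.liftCoborder_ι]
    _ = l := by rw [IsClosedImmersion.lift_fac, hl₁]

variable {S : Scheme.{u}}

theorem surjective_whiskerLeft_left {A B C : Over S} (g : B ⟶ C) [Surjective g.left] :
    Surjective (A ◁ g).left := by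
  rw [Over.whiskerLeft_left]
  exact MorphismProperty.pullbackMap (P := @Surjective) (i₁ := 𝟙 A.left) (i₂ := g.left)
    (inferInstanceAs (Surjective (𝟙 A.left))) (inferInstanceAs (Surjective g.left))
    (Category.id_comp _).symm (Over.w g).symm

/-- the orbit map is equivariant -/
theorem orbitMap_equivariant {G X : Over S} [GrpObj G] (a : AlgGrp.Action G X)
    (x : 𝟙_ (Over S) ⟶ X) : (G ◁ a.orbitMap x) ≫ a.act = μ[G] ≫ a.orbitMap x := by
  apply AlgGrp.Action.hom_ext_lift₂
  intro T p q
  rw [lift_whiskerLeft_assoc, AlgGrp.Action.comp_orbitMap, ← Category.assoc (lift p q), ← Hom.mul_def,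
    AlgGrp.Action.comp_orbitMap, AlgGrp.Action.lift_mul_act]

/-- **The reduced orbit of a smooth group scheme over a field is smooth.** -/
theorem smooth_orbit {k : Type u} [Field k] {G X : Over (Spec (CommRingCat.of k))} [GrpObj G]
    [Smooth G.hom] [LocallyOfFiniteType X.hom] (a : AlgGrp.Action G X)
    (x : 𝟙_ (Over (Spec (CommRingCat.of k))) ⟶ X) {O : Scheme.{u}} (i : O ⟶ X.left)
    [IsImmersion i] [IsReduced O] (hO : Set.range i = Set.range (a.orbitMap x).left) :
    Smooth (i ≫ X.hom) := by
  haveI hGred : IsReduced G.left := FibreH0.isReduced_of_smooth_field k G.hom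
  let Oo : Over (Spec (CommRingCat.of k)) := Over.mk (i ≫ X.hom)
  let iO : Oo ⟶ X := Over.homMk i rfl
  haveI hmono : Mono iO := by
    haveI : Mono ((Over.forget _).map iO) := inferInstanceAs (Mono i)
    exact (Over.forget _).mono_of_mono_map ‹_›
  -- the orbit map lifts to `g : G ⟶ Oo`
  obtain ⟨g₁, hg₁⟩ := exists_lift_immersion i (a.orbitMap x).left (by rw [hO])
  let g : G ⟶ Oo := Over.homMk g₁ (by
    change g₁ ≫ i ≫ X.hom = G.hom
    rw [← Category.assoc, hg₁, Over.w])
  have hg : g ≫ iO = a.orbitMap x := by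
    ext1
    exact hg₁
  haveI hgs : Surjective g.left := by
    refine ⟨fun o => ?_⟩
    have h1 : i o ∈ Set.range (a.orbitMap x).left := by rw [← hO]; exact ⟨o, rfl⟩
    obtain ⟨z, hz⟩ := h1
    refine ⟨z, ?_⟩
    apply i.isEmbedding.injective
    change (g₁ ≫ i) z = _
    rw [hg₁]
    exact hz
  -- `G ⊗ Oo` is reduced
  haveI : Smooth (snd G Oo).left := by
    change Smooth (pullback.snd G.hom Oo.hom); infer_instance
  haveI : IsReduced Oo.left := ‹IsReduced O›
  haveI : IsReduced (G ⊗ Oo).left :=
    Groth.Agent.H1.SmoothReduced.isReduced_of_smooth (snd G Oo).left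
  have heq := orbitMap_equivariant a x
  haveI : Surjective (G ◁ g).left := surjective_whiskerLeft_left g
  have hr : Set.range ((G ◁ iO) ≫ a.act).left ⊆ Set.range i := by
    rintro _ ⟨z, rfl⟩
    obtain ⟨w, rfl⟩ := (G ◁ g).left.surjective z
    rw [hO]
    refine ⟨μ[G].left w, ?_⟩
    rw [← Scheme.Hom.comp_apply, ← Scheme.Hom.comp_apply, ← Over.comp_left, ← Over.comp_left,
      ← heq, ← hg, MonoidalCategory.whiskerLeft_comp, Category.assoc]
  obtain ⟨b₁, hb₁⟩ := exists_lift_immersion i ((G ◁ iO) ≫ a.act).left hr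
  let bact : G ⊗ Oo ⟶ Oo := Over.homMk b₁ (by
    change b₁ ≫ i ≫ X.hom = (G ⊗ Oo).hom
    rw [← Category.assoc, hb₁, Over.w])
  have hb : bact ≫ iO = (G ◁ iO) ≫ a.act := by
    ext1
    exact hb₁
  let b : AlgGrp.Action G Oo :=
    { act := bact
      one_act := by
        rw [← cancel_mono iO, Category.assoc, hb, ← whisker_exchange_assoc, a.one_act,
          leftUnitor_naturality]
      mul_act := by
        rw [← cancel_mono iO, Category.assoc, hb, ← whisker_exchange_assoc, a.mul_act,
          Category.assoc, Category.assoc, hb, ← MonoidalCategory.whiskerLeft_comp_assoc, hb,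
          MonoidalCategory.whiskerLeft_comp, Category.assoc, associator_naturality_right_assoc] }
  have hgeq : (G ◁ g) ≫ b.act = μ[G] ≫ g := by
    rw [← cancel_mono iO, Category.assoc, hb, ← MonoidalCategory.whiskerLeft_comp_assoc, hg, heq,
      Category.assoc, hg]
  -- flatness of `g`
  haveI : LocallyOfFiniteType Oo.hom := inferInstanceAs (LocallyOfFiniteType (i ≫ X.hom))
  haveI : IsLocallyNoetherian Oo.left := LocallyOfFiniteType.isLocallyNoetherian Oo.hom
  haveI : LocallyOfFiniteType g.left := by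
    have h1 : LocallyOfFiniteType (g.left ≫ Oo.hom) := by rw [Over.w g]; infer_instance
    exact locallyOfFiniteType_of_comp g.left Oo.hom
  haveI : LocallyOfFinitePresentation g.left := inferInstance
  haveI : Nonempty G.left := ⟨η[G].left (IsLocalRing.closedPoint k)⟩
  haveI : Nonempty Oo.left := ⟨g.left (η[G].left (IsLocalRing.closedPoint k))⟩
  obtain ⟨y, hy⟩ := HomFlat.exists_maximal_point Oo.left
  obtain ⟨z, rfl⟩ := g.left.surjective y
  obtain ⟨U, hU, hUflat⟩ := HomFlat.exists_flatLocus g.left
  have hzU : z ∈ U := (hU z).mpr (HomFlat.flat_stalkMap_of_maximal g.left z hy)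
  haveI : Nonempty U := ⟨⟨z, hzU⟩⟩
  let Uo : Over (Spec (CommRingCat.of k)) := Over.mk (U.ι ≫ G.hom)
  let j : Uo ⟶ G := Over.homMk U.ι rfl
  haveI : Flat G.hom := inferInstance
  haveI : Flat Uo.hom := inferInstanceAs (Flat (U.ι ≫ G.hom))
  haveI : Surjective Uo.hom := HomFlat.surjective_of_nonempty_field (W := U) (U.ι ≫ G.hom)
  haveI : Flat (j ≫ g).left := by
    rw [Over.comp_left]
    exact hUflat
  haveI : Flat g.left := HomFlat.flat_of_flat_comp_equivariant b g hgeq j
  haveI : Smooth (g.left ≫ Oo.hom) := by rw [Over.w g]; infer_instance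
  exact Groth.Agent.Lib.helper5.FppfSrcSmooth.smooth_of_comp g.left Oo.hom

end Groth.Agent.Lib.Helper14.OrbitSmooth
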