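import Mathlib
import Groth.Agent.Lib.Helper14.OrbitSmooth
import Groth.Agent.Lib.Helper3.GrobFreeSch

/-!
# helper14: a quasi-compact monomorphism locally of finite type is a closed immersion over some
open of the target with nonempty preimage; it is an immersion over a dense open of the target.
-/

set_option autoImplicit false
set_option linter.style.haveILetI false
universe u
open AlgebraicGeometry CategoryTheory TopologicalSpace

namespace Groth.Agent.Lib.Helper14.MonoImm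

theorem isReduced_subscheme_vanishingIdeal {X : Scheme.{u}} (C : Closeds X) :
    IsReduced (Scheme.IdealSheafData.vanishingIdeal C).subscheme := by
  have : ∀ i, IsReduced ((Scheme.IdealSheafData.vanishingIdeal C).subschemeCover.openCover.X i) := by
    intro (U : X.affineOpens)
    have hrad : ((Scheme.IdealSheafData.vanishingIdeal C).ideal U).IsRadical := by
      rw [Scheme.IdealSheafData.vanishingIdeal_ideal]
      exact PrimeSpectrum.isRadical_vanishingIdeal _
    have : _root_.IsReduced (Γ(X, U) ⧸ (Scheme.IdealSheafData.vanishingIdeal C).ideal U) :=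
      (Ideal.isRadical_iff_quotient_reduced _).mp hrad
    change IsReduced (Spec (.of (Γ(X, U) ⧸ (Scheme.IdealSheafData.vanishingIdeal C).ideal U)))
    infer_instance
  exact IsReduced.of_openCover _ (Scheme.IdealSheafData.vanishingIdeal C).subschemeCover.openCover

theorem range_subschemeι_vanishingIdeal {X : Scheme.{u}} (C : Closeds X) :
    Set.range (Scheme.IdealSheafData.vanishingIdeal C).subschemeι = (C : Set X) := by
  rw [Scheme.IdealSheafData.range_subschemeι, Scheme.IdealSheafData.coe_support_vanishingIdeal]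

instance mono_morphismRestrict {X Y : Scheme.{u}} (f : X ⟶ Y) [Mono f] (U : Y.Opens) :
    Mono (f ∣_ U) := by
  have : Mono (f ∣_ U ≫ U.ι) := by
    rw [morphismRestrict_ι]
    infer_instance
  exact mono_of_mono (f ∣_ U) U.ι

/-- an open immersion restricted to its range is an isomorphism -/
theorem isIso_morphismRestrict_opensRange {X Y : Scheme.{u}} (f : X ⟶ Y) [IsOpenImmersion f] :
    IsIso (f ∣_ f.opensRange) := by
  rw [isIso_iff_isOpenImmersion_and_surjective]
  refine ⟨inferInstance, ⟨?_⟩⟩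
  rintro ⟨y, x, rfl⟩
  refine ⟨⟨x, ⟨x, rfl⟩⟩, ?_⟩
  apply Subtype.ext
  rw [morphismRestrict_base_coe]


/-- **Local claim**: a quasi-compact monomorphism locally of finite type from a nonempty scheme is
a closed immersion over some open of the target with nonempty preimage. -/
theorem exists_open_isClosedImmersion_of_mono {X Y : Scheme.{u}} (φ : X ⟶ Y) [Mono φ]
    [LocallyOfFiniteType φ] [QuasiCompact φ] [Nonempty X] :
    ∃ N : Y.Opens, Nonempty ↥(φ ⁻¹ᵁ N) ∧ IsClosedImmersion (φ ∣_ N) := by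
  -- the reduction of `X`
  let Xr := (Scheme.IdealSheafData.vanishingIdeal (⊤ : Closeds X)).subscheme
  let iX : Xr ⟶ X := (Scheme.IdealSheafData.vanishingIdeal (⊤ : Closeds X)).subschemeι
  haveI : IsReduced Xr := isReduced_subscheme_vanishingIdeal ⊤
  have hiX : Set.range iX = Set.univ := by
    rw [range_subschemeι_vanishingIdeal]; rfl
  haveI : Surjective iX := ⟨Set.range_eq_univ.mp hiX⟩
  -- the reduced closure of the image
  let Cl : Closeds Y := ⟨closure (Set.range φ), isClosed_closure⟩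
  let T := (Scheme.IdealSheafData.vanishingIdeal Cl).subscheme
  let iT : T ⟶ Y := (Scheme.IdealSheafData.vanishingIdeal Cl).subschemeι
  haveI : IsReduced T := isReduced_subscheme_vanishingIdeal Cl
  have hiT : Set.range iT = closure (Set.range φ) := range_subschemeι_vanishingIdeal Cl
  obtain ⟨ψ, hψ⟩ := Groth.Agent.Lib.Helper14.OrbitSmooth.exists_lift_immersion iT (iX ≫ φ) (by
    rw [hiT]
    rintro _ ⟨x, rfl⟩
    rw [Scheme.Hom.comp_apply]
    exact subset_closure ⟨_, rfl⟩)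
  haveI : Mono ψ := by
    haveI : Mono (ψ ≫ iT) := by rw [hψ]; infer_instance
    exact mono_of_mono ψ iT
  haveI : LocallyOfFiniteType ψ := by
    haveI : LocallyOfFiniteType (ψ ≫ iT) := by rw [hψ]; infer_instance
    exact locallyOfFiniteType_of_comp ψ iT
  haveI : QuasiCompact ψ := by
    haveI : QuasiCompact (ψ ≫ iT) := by rw [hψ]; infer_instance
    exact QuasiCompact.of_comp ψ iT
  -- `ψ` is dominant
  have hdense : Dense (Set.range ψ) := by
    rw [iT.isEmbedding.isInducing.dense_iff]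
    intro t
    have h1 : iT t ∈ closure (Set.range φ) := by rw [← hiT]; exact ⟨t, rfl⟩
    have h2 : Set.range φ ⊆ iT '' Set.range ψ := by
      rintro _ ⟨x, rfl⟩
      obtain ⟨x', rfl⟩ := iX.surjective x
      refine ⟨ψ x', ⟨x', rfl⟩, ?_⟩
      rw [← Scheme.Hom.comp_apply, hψ, Scheme.Hom.comp_apply]
    exact closure_mono h2 h1
  obtain ⟨x₀, -⟩ := iX.surjective (Classical.choice (inferInstance : Nonempty X))
  -- generic flatness
  obtain ⟨U', -, ⟨u₀, hu₀⟩, hfl, hfp⟩ :=
    Groth.Agent.Lib.helper3.GrobFree.exists_open_flat_lfp ψ (W₀ := ⊤) ⟨ψ x₀, trivial⟩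
  haveI := hfl
  haveI := hfp
  haveI : IsOpenImmersion (ψ ∣_ U') := IsOpenImmersion.of_flat_of_mono _
  let V : T.Opens := U'.ι ''ᵁ (ψ ∣_ U').opensRange
  have hV : IsIso (ψ ∣_ V) := by
    have h1 : IsIso ((ψ ∣_ U') ∣_ (ψ ∣_ U').opensRange) := isIso_morphismRestrict_opensRange _
    exact ((MorphismProperty.isomorphisms Scheme).arrow_mk_iso_iff
      (morphismRestrictRestrict ψ U' _)).mp h1
  -- `V` is nonempty
  obtain ⟨_, hx₁U, ⟨x₁, rfl⟩⟩ := hdense.inter_open_nonempty U' U'.isOpen ⟨u₀, hu₀⟩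
  have hx₁V : ψ x₁ ∈ V := by
    refine ⟨(ψ ∣_ U') ⟨x₁, hx₁U⟩, ⟨⟨x₁, hx₁U⟩, rfl⟩, ?_⟩
    exact morphismRestrict_base_coe ψ U' ⟨x₁, hx₁U⟩
  -- the open `N` of `Y` with `N ∩ T = V`
  let N : Y.Opens := ⟨(iT '' (V : Set T)ᶜ)ᶜ,
    (iT.isClosedEmbedding.isClosedMap _ V.isOpen.isClosed_compl).isOpen_compl⟩
  have hN : iT ⁻¹ᵁ N = V := by
    ext t
    change iT t ∈ (iT '' (V : Set T)ᶜ)ᶜ ↔ t ∈ V
    rw [Set.mem_compl_iff, iT.isEmbedding.injective.mem_set_image, Set.mem_compl_iff, not_not]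
    rfl
  refine ⟨N, ?_, ?_⟩
  · refine ⟨⟨iX x₁, ?_⟩⟩
    change φ (iX x₁) ∈ N
    rw [← Scheme.Hom.comp_apply, ← hψ, Scheme.Hom.comp_apply]
    change ψ x₁ ∈ iT ⁻¹ᵁ N
    rw [hN]
    exact hx₁V
  · rw [IsClosedImmersion.iff_isProper_and_mono]
    refine ⟨?_, inferInstance⟩
    haveI : UniversallyClosed (φ ∣_ N) := by
      have h1 : (iX ≫ φ) ∣_ N = iX ∣_ (φ ⁻¹ᵁ N) ≫ φ ∣_ N := morphismRestrict_comp iX φ N
      have h2 : (ψ ≫ iT) ∣_ N = ψ ∣_ (iT ⁻¹ᵁ N) ≫ iT ∣_ N := morphismRestrict_comp ψ iT N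
      haveI : IsIso (ψ ∣_ (iT ⁻¹ᵁ N)) := by rw [hN]; exact hV
      haveI : IsClosedImmersion (iT ∣_ N) :=
        MorphismProperty.of_isPullback (isPullback_morphismRestrict iT N).flip
          (inferInstance : IsClosedImmersion iT)
      haveI : IsClosedImmersion (ψ ∣_ (iT ⁻¹ᵁ N) ≫ iT ∣_ N) := inferInstance
      have h3 : UniversallyClosed ((ψ ≫ iT) ∣_ N) := by
        have h6 : IsProper (ψ ∣_ (iT ⁻¹ᵁ N) ≫ iT ∣_ N) := inferInstance
        have h7 := h6.toUniversallyClosed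
        rw [← h2] at h7
        exact h7
      have h4 : ∀ (g g' : Xr ⟶ Y), g = g' → UniversallyClosed (g ∣_ N) →
          UniversallyClosed (g' ∣_ N) := by
        rintro g _ rfl h
        exact h
      have h5 : UniversallyClosed ((iX ≫ φ) ∣_ N) := h4 _ _ hψ h3
      haveI : UniversallyClosed (iX ∣_ (φ ⁻¹ᵁ N) ≫ φ ∣_ N) := by
        rw [← h1]
        exact h5
      haveI : Surjective (iX ∣_ (φ ⁻¹ᵁ N)) :=
        MorphismProperty.of_isPullback (isPullback_morphismRestrict iX (φ ⁻¹ᵁ N)).flip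
          (inferInstance : Surjective iX)
      exact UniversallyClosed.of_comp_surjective (iX ∣_ (φ ⁻¹ᵁ N)) (φ ∣_ N)
    exact ⟨⟩


/-- **A quasi-compact monomorphism locally of finite type from a nonempty scheme is an immersion
over a dense open of the target with nonempty preimage.** -/
theorem exists_dense_open_isImmersion_of_mono {X Y : Scheme.{u}} (φ : X ⟶ Y) [Mono φ]
    [LocallyOfFiniteType φ] [QuasiCompact φ] [Nonempty X] :
    ∃ U : Y.Opens, Dense (U : Set Y) ∧ Nonempty ↥(φ ⁻¹ᵁ U) ∧ IsImmersion (φ ∣_ U) := by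
  let 𝒰 : Set Y.Opens := {N | IsImmersion (φ ∣_ N)}
  refine ⟨sSup 𝒰, ?_, ?_,
    Groth.Agent.Lib.helper3.GrobFree.restrict_sSup_of_forall φ 𝒰 (fun _ h => h)⟩
  · rw [dense_iff_inter_open]
    intro V₀ hV₀ hne
    let V : Y.Opens := ⟨V₀, hV₀⟩
    by_cases hemp : IsEmpty ↥(φ ⁻¹ᵁ V)
    · have h1 : IsImmersion (φ ∣_ V) := by
        haveI : IsEmpty ↥(φ ⁻¹ᵁ V).toScheme := hemp
        haveI : IsOpenImmersion (φ ∣_ V) := isOpenImmersion_of_isEmpty _
        infer_instance
      obtain ⟨y, hy⟩ := hne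
      exact ⟨y, hy, Opens.mem_sSup.mpr ⟨V, h1, hy⟩⟩
    · rw [not_isEmpty_iff] at hemp
      haveI : Nonempty ↥(φ ⁻¹ᵁ V).toScheme := hemp
      obtain ⟨N₀, ⟨⟨x, hx⟩⟩, hcl⟩ := exists_open_isClosedImmersion_of_mono (φ ∣_ V)
      have h1 : IsImmersion (φ ∣_ (V.ι ''ᵁ N₀)) :=
        (MorphismProperty.arrow_mk_iso_iff @IsImmersion (morphismRestrictRestrict φ V N₀)).mp
          inferInstance
      exact ⟨V.ι ((φ ∣_ V) x), ((φ ∣_ V) x).2,
        Opens.mem_sSup.mpr ⟨_, h1, ⟨(φ ∣_ V) x, hx, rfl⟩⟩⟩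
  · obtain ⟨N, ⟨⟨x, hx⟩⟩, hcl⟩ := exists_open_isClosedImmersion_of_mono φ
    have hN : N ≤ sSup 𝒰 := le_sSup (show IsImmersion (φ ∣_ N) from inferInstance)
    exact ⟨⟨x, hN hx⟩⟩

end Groth.Agent.Lib.Helper14.MonoImm
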