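import Mathlib
import Groth.Agent.Lib.Helper8.LocalFlat

/-!
# helper14: a local homomorphism of Noetherian local rings inducing isomorphisms
`A / m_A^n ≅ B / m_B^n` (equivalently on completions) is flat
-/

set_option autoImplicit false
universe u
open TensorProduct IsLocalRing

namespace Groth.Agent.Lib.Helper14.ComplFlat

theorem map_maximalIdeal_eq {A B : Type u} [CommRing A] [CommRing B] [IsLocalRing A]
    [IsLocalRing B] [IsNoetherianRing B] (φ : A →+* B)
    (h : ∀ n : ℕ, Function.Surjective ((Ideal.Quotient.mk (maximalIdeal B ^ (n + 1))).comp φ) ∧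
      ∀ a : A, φ a ∈ maximalIdeal B ^ (n + 1) ↔ a ∈ maximalIdeal A ^ (n + 1)) :
    (maximalIdeal A).map φ = maximalIdeal B := by
  have h0 : ∀ a : A, φ a ∈ maximalIdeal B ↔ a ∈ maximalIdeal A := by
    intro a
    have := (h 0).2 a
    simpa using this
  apply le_antisymm
  · rw [Ideal.map_le_iff_le_comap]
    intro a ha
    exact (h0 a).mpr ha
  · apply Submodule.le_of_le_smul_of_le_jacobson_bot (I := maximalIdeal B)
      (IsNoetherian.noetherian _)
      (by rw [IsLocalRing.jacobson_eq_maximalIdeal ⊥ bot_ne_top])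
    intro b hb
    obtain ⟨a, ha⟩ := (h 1).1 (Ideal.Quotient.mk _ b)
    have h1 : φ a - b ∈ maximalIdeal B ^ 2 := by
      rw [← Ideal.Quotient.eq]
      exact ha
    have h2 : φ a ∈ maximalIdeal B := by
      have : φ a = (φ a - b) + b := by ring
      rw [this]
      exact Ideal.add_mem _ (Ideal.pow_le_self two_ne_zero h1) hb
    have h3 : a ∈ maximalIdeal A := (h0 a).mp h2
    have : b = φ a + -(φ a - b) := by ring
    rw [this]
    apply Submodule.add_mem_sup
    · exact Ideal.mem_map_of_mem φ h3
    · rw [smul_eq_mul, ← pow_two]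
      exact neg_mem h1

theorem flat_of_graded_iso {A B : Type u} [CommRing A] [CommRing B] [IsLocalRing A]
    [IsLocalRing B] [IsNoetherianRing A] [IsNoetherianRing B] (φ : A →+* B)
    (h : ∀ n : ℕ, Function.Surjective ((Ideal.Quotient.mk (maximalIdeal B ^ (n + 1))).comp φ) ∧
      ∀ a : A, φ a ∈ maximalIdeal B ^ (n + 1) ↔ a ∈ maximalIdeal A ^ (n + 1)) : φ.Flat := by
  have hmap := map_maximalIdeal_eq φ h
  algebraize [φ]
  change Module.Flat A B
  refine Groth.Agent.Lib.helper8.LocalFlat.flat_of_forall_flat_quotient_pow (R := A) (S := B)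
    (M := B) (maximalIdeal A) ?_ ?_
  · change (maximalIdeal A).map φ ≤ _
    rw [hmap, IsLocalRing.jacobson_eq_maximalIdeal ⊥ bot_ne_top]
  · intro k hk
    obtain ⟨n, rfl⟩ : ∃ n, k = n + 1 := ⟨k - 1, by omega⟩
    set I := maximalIdeal A ^ (n + 1) with hI
    have hsmul : (I • (⊤ : Submodule A B)) = (maximalIdeal B ^ (n + 1)).restrictScalars A := by
      have h1 : I.map φ = maximalIdeal B ^ (n + 1) := by
        rw [hI, Ideal.map_pow, hmap]
      rw [← h1]
      have h2 := Ideal.smul_top_eq_map (R := A) (S := B) I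
      change I • (⊤ : Submodule A B) = (I.map (algebraMap A B)).restrictScalars A at h2
      exact h2
    let e := TensorProduct.quotTensorEquivQuotSMul B I
    have hbij : Function.Bijective (Algebra.linearMap (A ⧸ I) ((A ⧸ I) ⊗[A] B)) := by
      have hcomp : ∀ a : A, e (Algebra.linearMap (A ⧸ I) ((A ⧸ I) ⊗[A] B)
          (Ideal.Quotient.mk I a)) = Submodule.Quotient.mk (φ a) := by
        intro a
        rw [Algebra.linearMap_apply, Algebra.TensorProduct.algebraMap_apply,
          Algebra.algebraMap_self, RingHom.id_apply]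
        rw [TensorProduct.quotTensorEquivQuotSMul_mk_tmul]
        congr 1
        rw [Algebra.smul_def, mul_one]
        rfl
      constructor
      · rw [injective_iff_map_eq_zero]
        intro x hx
        obtain ⟨a, rfl⟩ := Ideal.Quotient.mk_surjective x
        have h2 := hcomp a
        rw [hx, map_zero] at h2
        have h3 : φ a ∈ (I • (⊤ : Submodule A B)) :=
          (Submodule.Quotient.mk_eq_zero _).mp h2.symm
        rw [hsmul] at h3
        have h4 : a ∈ I := ((h n).2 a).mp h3
        exact Ideal.Quotient.eq_zero_iff_mem.mpr h4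
      · intro y
        obtain ⟨b, hb⟩ := Submodule.Quotient.mk_surjective _ (e y)
        obtain ⟨a, ha⟩ := (h n).1 (Ideal.Quotient.mk _ b)
        refine ⟨Ideal.Quotient.mk I a, ?_⟩
        apply e.injective
        rw [hcomp a, ← hb]
        rw [Submodule.Quotient.eq, hsmul]
        change φ a - b ∈ maximalIdeal B ^ (n + 1)
        rw [← Ideal.Quotient.eq]
        exact ha
    exact Module.Flat.of_linearEquiv (LinearEquiv.ofBijective _ hbij).symm

end Groth.Agent.Lib.Helper14.ComplFlat
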