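import Mathlib
import Groth.Prelude.Def_AlgGrp
import Groth.Prelude.Def_ChGrp

/-!
# helper14: the conjugation action of `G` on `H` through a homomorphism `u : G ⟶ H`
-/

set_option autoImplicit false
universe u
open CategoryTheory MonoidalCategory CartesianMonoidalCategory MonObj GrpObj AlgebraicGeometry

namespace Groth.Agent.Lib.Helper14.ConjActHom

variable {S : Scheme.{u}}

/-- the conjugation action of `H` on itself -/
noncomputable def conjAct (H : Over S) [GrpObj H] : AlgGrp.Action H H where
  act := fst H H * snd H H * (fst H H)⁻¹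
  one_act := by
    apply AlgGrp.Action.hom_ext_lift₂
    intro T t y
    rw [lift_whiskerRight_assoc, MonObj.comp_mul, MonObj.comp_mul, GrpObj.comp_inv, lift_fst,
      lift_snd, leftUnitor_hom, lift_snd]
    have : t ≫ η[H] = (1 : T ⟶ H) := by
      rw [Hom.one_def, toUnit_unique t (toUnit T)]
    rw [this, _root_.one_mul, inv_one, _root_.mul_one]
  mul_act := by
    apply AlgGrp.Action.hom_ext_lift₃
    intro T g g' y
    rw [lift_whiskerRight_assoc, lift_lift_associator_hom_assoc, lift_whiskerLeft_assoc,
      ← Hom.mul_def]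
    simp only [MonObj.comp_mul, GrpObj.comp_inv, lift_fst, lift_snd]
    rw [_root_.mul_inv_rev]
    simp only [_root_.mul_assoc]

variable {G H : Over S} [GrpObj G] [GrpObj H] (u : G ⟶ H) [IsMonHom u]

/-- `G` acts on `H` by conjugation through `u` -/
noncomputable def conjActHom : AlgGrp.Action G H := (conjAct H).restrict u

theorem lift_conjActHom {T : Over S} (g : T ⟶ G) (h : T ⟶ H) :
    lift g h ≫ (conjActHom u).act = (g ≫ u) * h * (g ≫ u)⁻¹ := by
  rw [conjActHom, AlgGrp.Action.lift_restrict_act]
  change lift (g ≫ u) h ≫ (fst H H * snd H H * (fst H H)⁻¹) = _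
  rw [MonObj.comp_mul, MonObj.comp_mul, GrpObj.comp_inv, lift_fst, lift_snd]

theorem lift_conjActHom_eq_iff {T : Over S} (g : T ⟶ G) (h : T ⟶ H) :
    lift g h ≫ (conjActHom u).act = h ↔ (g ≫ u) * h = h * (g ≫ u) := by
  rw [lift_conjActHom, mul_inv_eq_iff_eq_mul]

end Groth.Agent.Lib.Helper14.ConjActHom
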