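import Mathlib

/-!
# A scheme whose ring of global functions is a domain is connected

(Mathlib-only copy of helper13's `Normal10.connectedSpace_of_isDomain`, kept in a light file so that
statements about anti-affine schemes can import it cheaply.)  Also: an anti-affine `k`-scheme
(`Γ(X) = k`) is connected.
-/

namespace Groth.Agent.Lib.Helper14.ConnDomain

universe u

open AlgebraicGeometry CategoryTheory Limits TopologicalSpace Opposite

theorem eq_bot_of_one_eq_zero {W : Scheme.{u}} (U : W.Opens) (h : (1 : Γ(W, U)) = 0) : U = ⊥ := by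
  have h1 : W.basicOpen (1 : Γ(W, U)) = U := Scheme.basicOpen_of_isUnit _ isUnit_one
  rw [h, Scheme.basicOpen_zero] at h1
  exact h1.symm

/-- A scheme whose ring of global sections is a domain is connected. -/
theorem connectedSpace_of_isDomain (W : Scheme.{u}) [IsDomain Γ(W, ⊤)] : ConnectedSpace W := by
  rw [connectedSpace_iff_clopen]
  have hne : Nonempty W := by
    by_contra h
    rw [not_nonempty_iff] at h
    exact not_subsingleton Γ(W, ⊤) inferInstance
  refine ⟨hne, fun S hS => ?_⟩
  obtain ⟨U₁, hU₁⟩ : ∃ U₁ : W.Opens, (U₁ : Set W) = S := ⟨⟨S, hS.isOpen⟩, rfl⟩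
  obtain ⟨U₂, hU₂⟩ : ∃ U₂ : W.Opens, (U₂ : Set W) = Sᶜ := ⟨⟨Sᶜ, hS.compl.isOpen⟩, rfl⟩
  have hinf : U₁ ⊓ U₂ = ⊥ := by
    ext x
    simp only [Opens.coe_inf, hU₁, hU₂, Set.inter_compl_self, Opens.coe_bot]
  have hsup : (⊤ : W.Opens) ≤ U₁ ⊔ U₂ := by
    intro x _
    by_cases hx : x ∈ S
    · exact Or.inl (hU₁ ▸ hx : x ∈ (U₁ : Set W))
    · exact Or.inr (hU₂ ▸ hx : x ∈ (U₂ : Set W))
  let U : Bool → W.Opens := fun b => match b with | true => U₁ | false => U₂
  let s : ∀ b, Γ(W, U b) := fun b => match b with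
    | true => (1 : Γ(W, U₁))
    | false => (0 : Γ(W, U₂))
  have hcov : (⊤ : W.Opens) ≤ iSup U := by
    refine hsup.trans (sup_le ?_ ?_)
    · exact le_iSup U true
    · exact le_iSup U false
  have compat : TopCat.Presheaf.IsCompatible W.presheaf U s := by
    intro i j
    cases i <;> cases j
    · rfl
    · haveI : Subsingleton Γ(W, U false ⊓ U true) := by
        have : U false ⊓ U true = ⊥ := by rw [inf_comm]; exact hinf
        rw [this]; infer_instance
      exact Subsingleton.elim _ _
    · haveI : Subsingleton Γ(W, U true ⊓ U false) := by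
        have : U true ⊓ U false = ⊥ := hinf
        rw [this]; infer_instance
      exact Subsingleton.elim _ _
    · rfl
  obtain ⟨e, he, -⟩ : ∃! e : Γ(W, ⊤), ∀ b : Bool,
      W.presheaf.map (homOfLE (le_top : U b ≤ ⊤)).op e = s b :=
    W.sheaf.existsUnique_gluing' U ⊤ (fun b => homOfLE le_top) hcov s compat
  have h1 : W.presheaf.map (homOfLE (le_top : U₁ ≤ ⊤)).op e = 1 := he true
  have h2 : W.presheaf.map (homOfLE (le_top : U₂ ≤ ⊤)).op e = 0 := he false
  have hee : e * (1 - e) = 0 := by
    apply W.sheaf.eq_of_locally_eq' U ⊤ (fun b => homOfLE le_top) hcov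
    intro b
    cases b
    · change W.presheaf.map (homOfLE (le_top : U₂ ≤ ⊤)).op (e * (1 - e)) =
        W.presheaf.map (homOfLE (le_top : U₂ ≤ ⊤)).op 0
      rw [map_mul, h2, zero_mul, map_zero]
    · change W.presheaf.map (homOfLE (le_top : U₁ ≤ ⊤)).op (e * (1 - e)) =
        W.presheaf.map (homOfLE (le_top : U₁ ≤ ⊤)).op 0
      rw [map_mul, map_sub, h1, map_one, sub_self, mul_zero, map_zero]
  rcases mul_eq_zero.mp hee with h | h
  · left
    have : (1 : Γ(W, U₁)) = 0 := by rw [← h1, h, map_zero]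
    have := eq_bot_of_one_eq_zero U₁ this
    rw [← hU₁, this]; rfl
  · right
    have h' : e = 1 := (sub_eq_zero.mp h).symm
    have : (1 : Γ(W, U₂)) = 0 := by rw [← h2, h', map_one]
    have := eq_bot_of_one_eq_zero U₂ this
    have h3 : Sᶜ = ∅ := by rw [← hU₂, this]; rfl
    exact Set.compl_empty_iff.mp h3

/-- An anti-affine scheme over a field (`k → Γ(X)` bijective) is connected. -/
theorem connectedSpace_of_bijective {k : Type u} [Field k]
    (X : Over (Spec (CommRingCat.of k)))
    (hX : Function.Bijective ((Scheme.ΓSpecIso (CommRingCat.of k)).inv ≫ X.hom.appTop).hom) :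
    ConnectedSpace X.left := by
  let e : k ≃+* Γ(X.left, ⊤) :=
    RingEquiv.ofBijective ((Scheme.ΓSpecIso (CommRingCat.of k)).inv ≫ X.hom.appTop).hom hX
  haveI : IsDomain Γ(X.left, ⊤) := e.isDomain_iff.mp inferInstance
  exact connectedSpace_of_isDomain X.left

end Groth.Agent.Lib.Helper14.ConnDomain
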