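import Mathlib
import Groth.Agent.Lib.Helper14.MultNilAff
import Groth.Agent.Lib.Helper3.GeomConn

/-!
# helper14: natural families of idempotents on a scheme with connected fibres

Let `K` be a scheme over `Spec R` and `ε` a family of idempotents `ε j ∈ A`, one for each affine
point `j : Spec A ⟶ K` over `Spec R`, natural in `A`.  If the fibres of `K ⟶ Spec R` are connected
and `ε` is `1` along a section, then `ε = 1`.
-/

set_option autoImplicit false
universe u
open CategoryTheory CategoryTheory.Limits AlgebraicGeometry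

namespace Groth.Agent.Lib.Helper14.ConnFibIdem

noncomputable section

open Groth.Agent.Lib.Helper14.MultNilAff

variable {R : Type u} [CommRing R]

/-- the residue field point of a point of a scheme over `Spec R`, as an affine test point -/
lemma exists_field_point (T : Over (Spec (CommRingCat.of R))) (x : T.left) :
    ∃ (L : Type u) (_ : Field L) (_ : Algebra R L) (ξ : Yo R L ⟶ T),
      ∀ q : Spec (CommRingCat.of L), ξ.left.base q = x := by
  let L : Type u := T.left.residueField x
  let t : Spec (CommRingCat.of L) ⟶ T.left := T.left.fromSpecResidueField x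
  let φ : CommRingCat.of R ⟶ CommRingCat.of L := Spec.preimage (t ≫ T.hom)
  letI : Algebra R L := φ.hom.toAlgebra
  have hφ : CommRingCat.ofHom (algebraMap R L) = φ := rfl
  refine ⟨L, inferInstance, inferInstance, Over.homMk t ?_, ?_⟩
  · change t ≫ T.hom = Spec.map (CommRingCat.ofHom (algebraMap R L))
    rw [hφ, Spec.map_preimage]
  · intro q
    exact Scheme.fromSpecResidueField_apply x q

lemma mem_iff_of_point {A L : Type u} [CommRing A] [Algebra R A] [Field L] [Algebra R L]
    (γ : A →ₐ[R] L) (q : Spec (CommRingCat.of L)) (a : A) :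
    a ∈ ((Ymap γ).left.base q).asIdeal ↔ γ a = 0 := by
  have hq : q.asIdeal = ⊥ := (Ideal.eq_bot_or_top q.asIdeal).resolve_right q.2.ne_top
  change γ a ∈ q.asIdeal ↔ _
  rw [hq, Ideal.mem_bot]

/-- two affine points through the same point of `K` are dominated by a common field point -/
lemma exists_common_field_point {K : Over (Spec (CommRingCat.of R))}
    {A A' : Type u} [CommRing A] [Algebra R A] [CommRing A'] [Algebra R A']
    (j : Yo R A ⟶ K) (j' : Yo R A' ⟶ K) (p : Spec (CommRingCat.of A))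
    (p' : Spec (CommRingCat.of A')) (hpp : j.left.base p = j'.left.base p') :
    ∃ (L : Type u) (_ : Field L) (_ : Algebra R L) (γ : A →ₐ[R] L) (γ' : A' →ₐ[R] L),
      Ymap γ ≫ j = Ymap γ' ≫ j' ∧ (∀ a, γ a = 0 ↔ a ∈ p.asIdeal) ∧
        (∀ a', γ' a' = 0 ↔ a' ∈ p'.asIdeal) := by
  obtain ⟨y, hy1, hy2⟩ := Scheme.Pullback.exists_preimage_pullback (f := j.left) (g := j'.left)
    p p' hpp
  let T : Over (Spec (CommRingCat.of R)) :=
    Over.mk (pullback.fst j.left j'.left ≫ (Yo R A).hom)
  let π1 : T ⟶ Yo R A := Over.homMk (pullback.fst j.left j'.left) rfl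
  let π2 : T ⟶ Yo R A' := Over.homMk (pullback.snd j.left j'.left) (by
    change pullback.snd j.left j'.left ≫ (Yo R A').hom =
      pullback.fst j.left j'.left ≫ (Yo R A).hom
    rw [← Over.w j, ← Over.w j', ← Category.assoc, ← Category.assoc, pullback.condition])
  have hπ : π1 ≫ j = π2 ≫ j' := by
    apply Over.OverMorphism.ext
    exact pullback.condition
  obtain ⟨L, _, _, ξ, hξ⟩ := exists_field_point T y
  refine ⟨L, inferInstance, inferInstance, Ypre (ξ ≫ π1), Ypre (ξ ≫ π2), ?_, ?_, ?_⟩
  · rw [Ymap_Ypre, Ymap_Ypre, Category.assoc, Category.assoc, hπ]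
  · intro a
    let q : Spec (CommRingCat.of L) := ⟨⊥, Ideal.isPrime_bot⟩
    rw [← mem_iff_of_point (Ypre (ξ ≫ π1)) q a, Ymap_Ypre]
    have h1 : (ξ ≫ π1).left.base q = p := by
      change π1.left.base (ξ.left.base q) = p
      rw [hξ]
      exact hy1
    rw [h1]
  · intro a'
    let q : Spec (CommRingCat.of L) := ⟨⊥, Ideal.isPrime_bot⟩
    rw [← mem_iff_of_point (Ypre (ξ ≫ π2)) q a', Ymap_Ypre]
    have h1 : (ξ ≫ π2).left.base q = p' := by
      change π2.left.base (ξ.left.base q) = p'
      rw [hξ]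
      exact hy2
    rw [h1]


section Main

variable (K : Over (Spec (CommRingCat.of R)))
  (ε : ∀ (A : Type u) [CommRing A] [Algebra R A], (Yo R A ⟶ K) → A)
  (hnat : ∀ (A A' : Type u) [CommRing A] [Algebra R A] [CommRing A'] [Algebra R A']
    (γ : A →ₐ[R] A') (j : Yo R A ⟶ K), ε A' (Ymap γ ≫ j) = γ (ε A j))

include hnat in
/-- the vanishing locus of a natural family is well defined on points -/
lemma compat {A A' : Type u} [CommRing A] [Algebra R A] [CommRing A'] [Algebra R A']
    (j : Yo R A ⟶ K) (j' : Yo R A' ⟶ K) (p : Spec (CommRingCat.of A))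
    (p' : Spec (CommRingCat.of A')) (hpp : j.left.base p = j'.left.base p') :
    ε A j ∈ p.asIdeal ↔ ε A' j' ∈ p'.asIdeal := by
  obtain ⟨L, _, _, γ, γ', hγ, h1, h2⟩ := exists_common_field_point j j' p p' hpp
  rw [← h1, ← h2, ← hnat, ← hnat, hγ]

/-- the locus where the family does not vanish -/
def Zset : Set K.left :=
  {x | ∀ (A : Type u) [CommRing A] [Algebra R A] (j : Yo R A ⟶ K) (p : Spec (CommRingCat.of A)),
    j.left.base p = x → ε A j ∉ p.asIdeal}

include hnat in
lemma mem_Zset_iff {A : Type u} [CommRing A] [Algebra R A] (j : Yo R A ⟶ K)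
    (p : Spec (CommRingCat.of A)) : j.left.base p ∈ Zset K ε ↔ ε A j ∉ p.asIdeal := by
  constructor
  · intro h
    exact h A j p rfl
  · intro h A' _ _ j' p' hp' h'
    exact h ((compat K ε hnat j' j p' p hp').mp h')

lemma exists_chart_through (x : K.left) :
    ∃ (A : Type u) (_ : CommRing A) (_ : Algebra R A) (j : Yo R A ⟶ K),
      IsOpenImmersion j.left ∧ ∃ p : Spec (CommRingCat.of A), j.left.base p = x := by
  have hb : ∀ (U : K.left.Opens) (y : K.left), y ∈ U → ∃ U' ∈ K.left.affineOpens, y ∈ U' ∧ U' ≤ U :=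
    fun U y hy => TopologicalSpace.Opens.isBasis_iff_nbhd.mp K.left.isBasis_affineOpens hy
  obtain ⟨O, hO, hxO, -⟩ := hb ⊤ x trivial
  obtain ⟨A, _, _, j, hj, hjr⟩ := exists_chart K O hO
  have hx : x ∈ Set.range j.left.base := by rw [hjr]; exact hxO
  obtain ⟨p, hp⟩ := hx
  exact ⟨A, inferInstance, inferInstance, j, hj, p, hp⟩

variable (hidem : ∀ (A : Type u) [CommRing A] [Algebra R A] (j : Yo R A ⟶ K),
    IsIdempotentElem (ε A j))

include hnat in
lemma isOpen_Zset : IsOpen (Zset K ε) := by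
  rw [isOpen_iff_forall_mem_open]
  intro x hx
  obtain ⟨A, _, _, j, hj, p, rfl⟩ := exists_chart_through K x
  refine ⟨j.left.base '' (PrimeSpectrum.basicOpen (ε A j) : Set (PrimeSpectrum A)), ?_, ?_, ?_⟩
  · rintro _ ⟨p', hp', rfl⟩
    exact (mem_Zset_iff K ε hnat j p').mpr hp'
  · exact j.left.isOpenEmbedding.isOpenMap _ (PrimeSpectrum.basicOpen (ε A j)).2
  · exact ⟨p, (mem_Zset_iff K ε hnat j p).mp hx, rfl⟩

include hnat hidem in
lemma isOpen_compl_Zset : IsOpen (Zset K ε)ᶜ := by
  rw [isOpen_iff_forall_mem_open]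
  intro x hx
  obtain ⟨A, _, _, j, hj, p, rfl⟩ := exists_chart_through K x
  have hmul : ∀ p' : Spec (CommRingCat.of A), ε A j * (1 - ε A j) ∈ p'.asIdeal := by
    intro p'
    rw [mul_sub, mul_one, (hidem A j).eq, sub_self]
    exact zero_mem _
  refine ⟨j.left.base '' (PrimeSpectrum.basicOpen (1 - ε A j) : Set (PrimeSpectrum A)), ?_, ?_, ?_⟩
  · rintro _ ⟨p', hp', rfl⟩ hmem
    have h1 := (mem_Zset_iff K ε hnat j p').mp hmem
    exact hp' ((p'.2.mem_or_mem (hmul p')).resolve_left h1)
  · exact j.left.isOpenEmbedding.isOpenMap _ (PrimeSpectrum.basicOpen (1 - ε A j)).2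
  · refine ⟨p, ?_, rfl⟩
    have h1 : ε A j ∈ p.asIdeal := by
      by_contra h
      exact hx ((mem_Zset_iff K ε hnat j p).mpr h)
    intro h2
    apply p.2.ne_top
    rw [Ideal.eq_top_iff_one]
    have := add_mem h1 h2
    rwa [add_sub_cancel] at this

include hnat hidem in
/-- **Connected fibres**: a natural family of idempotents which is `1` along a section is `1`. -/
theorem eps_eq_one (σ : Yo R R ⟶ K) (hσ : ε R σ = 1)
    (hconn : ∀ s : Spec (CommRingCat.of R), _root_.IsPreconnected (K.hom.base ⁻¹' {s}))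
    {A : Type u} [CommRing A] [Algebra R A] (j : Yo R A ⟶ K) : ε A j = 1 := by
  have hclopen : IsClopen (Zset K ε) :=
    ⟨⟨isOpen_compl_Zset K ε hnat hidem⟩, isOpen_Zset K ε hnat⟩
  have hsec : σ.left ≫ K.hom = 𝟙 _ := by
    rw [Over.w σ]
    change Spec.map (CommRingCat.ofHom (algebraMap R R)) = 𝟙 _
    rw [Algebra.algebraMap_self]
    exact Spec.map_id _
  have hσZ : ∀ s : Spec (CommRingCat.of R), σ.left.base s ∈ Zset K ε := by
    intro s
    rw [mem_Zset_iff K ε hnat σ s, hσ]
    exact fun h => s.2.ne_top ((Ideal.eq_top_iff_one _).mpr h)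
  have hall : ∀ x : K.left, x ∈ Zset K ε := by
    intro x
    let s := K.hom.base x
    have hsub : K.hom.base ⁻¹' {s} ⊆ Zset K ε := by
      apply (hconn s).subset_isClopen hclopen
      refine ⟨σ.left.base s, ?_, hσZ s⟩
      change K.hom.base (σ.left.base s) = s
      rw [← Scheme.Hom.comp_apply, hsec]
      rfl
    exact hsub rfl
  have hnil : IsNilpotent (1 - ε A j) := by
    rw [nilpotent_iff_mem_prime]
    intro J hJ
    let p : Spec (CommRingCat.of A) := ⟨J, hJ⟩
    have h1 : ε A j ∉ p.asIdeal := (mem_Zset_iff K ε hnat j p).mp (hall _)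
    have hmul : ε A j * (1 - ε A j) ∈ J := by
      rw [mul_sub, mul_one, (hidem A j).eq, sub_self]
      exact zero_mem _
    exact (hJ.mem_or_mem hmul).resolve_left h1
  have h0 := Groth.Agent.Lib.helper3.GeomConn.eq_zero_of_idempotent_nilpotent
    (hidem A j).one_sub hnil
  rw [sub_eq_zero] at h0
  exact h0.symm

end Main

end

end Groth.Agent.Lib.Helper14.ConnFibIdem
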