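import Mathlib
import Groth.Agent.Lib.Helper18.StalkEtale2
import Groth.Agent.Lib.Helper17.RegSmoothSch
import Groth.Agent.Lib.Helper13.RatExt1
import Groth.Agent.Lib.Helper3.DimIneqSch2

/-!
# helper14: pointwise étaleness criterion for maps of smooth curves over an algebraically closed field

* `residueFieldMap_surjective`: at a closed point of a scheme locally of finite type over an
  algebraically closed field, the residue field map of any `k`-morphism is surjective.
* `flat_of_map_maximalIdeal`: a local map `A → B` from a regular local ring of dimension `≤ 1` to a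
  local domain which is not a field, with `m_A B = m_B`, is flat.
* `maximalIdeal_stalk_ne_bot`: a closed point of an integral scheme of dimension one has a local
  ring which is not a field.
* `exists_etale_nhd_iff_map_maximalIdeal`: the criterion.
-/

set_option autoImplicit false
set_option linter.style.haveILetI false
universe u
open CategoryTheory AlgebraicGeometry IsLocalRing

namespace Groth.Agent.Lib.Helper14.CurveEtale

section res
variable {k : Type u} [Field k] [IsAlgClosed k] {X Y : Scheme.{u}}

theorem residueFieldMap_surjective (pX : X ⟶ Spec (.of k)) (pY : Y ⟶ Spec (.of k)) (φ : X ⟶ Y)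
    (w : φ ≫ pY = pX) [LocallyOfFiniteType pX] (x : X) (hx : IsClosed ({x} : Set X)) :
    Function.Surjective (φ.residueFieldMap x).hom := by
  let g : CommRingCat.of k ⟶ Y.residueField (φ x) :=
    Spec.preimage (Y.fromSpecResidueField (φ x) ≫ pY)
  have h1 : (residueFieldIsoBase pX x hx).inv = g ≫ φ.residueFieldMap x := by
    apply Spec.map_injective
    rw [SpecMap_residueFieldIsoBase_inv, Spec.map_comp, Spec.map_preimage, ← w,
      ← Category.assoc (Spec.map _), Scheme.Hom.SpecMap_residueFieldMap_fromSpecResidueField,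
      Category.assoc]
  intro b
  refine ⟨g.hom ((residueFieldIsoBase pX x hx).hom.hom b), ?_⟩
  have h2 := congrArg (fun t => t.hom ((residueFieldIsoBase pX x hx).hom.hom b)) h1
  simp only [CommRingCat.hom_comp, RingHom.comp_apply] at h2
  rw [← h2]
  exact congrArg (fun t => t.hom b) (residueFieldIsoBase pX x hx).hom_inv_id

end res

theorem flat_of_map_maximalIdeal {A B : Type u} [CommRing A] [CommRing B] [IsRegularLocalRing A]
    (hA : ringKrullDim A ≤ 1) [IsLocalRing B] [IsDomain B] (f : A →+* B)
    (hm : (maximalIdeal A).map f = maximalIdeal B) (hB : maximalIdeal B ≠ ⊥) : f.Flat := by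
  obtain ⟨hdom, hval⟩ := Groth.Agent.Lib.helper13.RatExt.valuationRing_of_isRegularLocalRing A hA
  haveI : Ring.KrullDimLE 1 A := Ring.krullDimLE_iff.mpr hA
  have hinj : Function.Injective f := by
    rw [RingHom.injective_iff_ker_eq_bot]
    by_contra hne
    haveI hprime : (RingHom.ker f).IsPrime := RingHom.ker_isPrime f
    have hmax : (RingHom.ker f).IsMaximal := Ideal.isMaximal_of_isPrime_of_ne_bot _ hne
    have hk : RingHom.ker f = maximalIdeal A := IsLocalRing.eq_maximalIdeal hmax
    apply hB
    rw [← hm, ← hk]
    exact (Ideal.map_eq_bot_iff_le_ker f).mpr le_rfl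
  letI := f.toAlgebra
  show Module.Flat A B
  rw [Module.Flat.flat_iff_torsion_eq_bot_of_isBezout]
  rw [eq_bot_iff]
  intro b hb
  rw [Submodule.mem_torsion_iff] at hb
  obtain ⟨a, ha⟩ := hb
  have ha0 : (a : A) ≠ 0 := nonZeroDivisors.coe_ne_zero a
  have h1 : f (a : A) * b = 0 := ha
  have h2 : f (a : A) ≠ 0 := fun h => ha0 (hinj (by rw [h, map_zero]))
  rcases mul_eq_zero.mp h1 with h | h
  · exact absurd h h2
  · simpa using h

theorem maximalIdeal_stalk_ne_bot {X : Scheme.{u}} [IsIntegral X] (hdX : topologicalKrullDim X = 1)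
    (x : X) (hx : IsClosed ({x} : Set X)) : maximalIdeal (X.presheaf.stalk x) ≠ ⊥ := by
  intro h0
  have hfield : IsField (X.presheaf.stalk x) := IsLocalRing.isField_iff_maximalIdeal_eq.mpr h0
  -- Spec of the stalk is a single point
  have hgen : genericPoint X ⤳ x := (genericPoint_spec X).specializes (by trivial)
  have hrange : genericPoint X ∈ Set.range (X.fromSpecStalk x) := by
    rw [Scheme.range_fromSpecStalk]; exact hgen
  obtain ⟨a, ha⟩ := hrange
  have hsub : Subsingleton (Spec (X.presheaf.stalk x)) := by
    letI := hfield.toField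
    exact inferInstanceAs (Subsingleton (PrimeSpectrum (X.presheaf.stalk x)))
  have hx' : X.fromSpecStalk x (IsLocalRing.closedPoint (X.presheaf.stalk x)) = x :=
    Scheme.fromSpecStalk_closedPoint
  have heq : genericPoint X = x := by
    exact ha.symm.trans ((congrArg (X.fromSpecStalk x) (Subsingleton.elim a _)).trans hx')
  have hcl : closure ({x} : Set X) = Set.univ := by
    rw [← heq]; exact genericPoint_spec X
  rw [hx.closure_eq] at hcl
  haveI : Subsingleton X := ⟨fun a b => by
    have ha : a ∈ ({x} : Set X) := hcl ▸ Set.mem_univ a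
    have hb : b ∈ ({x} : Set X) := hcl ▸ Set.mem_univ b
    rw [Set.mem_singleton_iff.mp ha, Set.mem_singleton_iff.mp hb]⟩
  have hle := topologicalKrullDim_zero_of_discreteTopology X
  rw [hdX] at hle
  exact absurd hle (by decide)

theorem exists_etale_nhd_iff_map_maximalIdeal (k : Type u) [Field k] [IsAlgClosed k]
    {X Y : Scheme.{u}} (pX : X ⟶ Spec (CommRingCat.of k)) (pY : Y ⟶ Spec (CommRingCat.of k))
    (φ : X ⟶ Y) (w : φ ≫ pY = pX) [IsIntegral X] [Smooth pX] (hdX : topologicalKrullDim X = 1)
    [Smooth pY] (hdY : topologicalKrullDim Y ≤ 1) (x : X) (hx : IsClosed ({x} : Set X)) :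
    (∃ U : X.Opens, x ∈ U ∧ Etale (U.ι ≫ φ)) ↔
      Ideal.map (φ.stalkMap x).hom (maximalIdeal (Y.presheaf.stalk (φ.base x))) =
        maximalIdeal (X.presheaf.stalk x) := by
  haveI : LocallyOfFiniteType pX := inferInstance
  haveI : LocallyOfFiniteType φ := by
    haveI : LocallyOfFiniteType (φ ≫ pY) := w ▸ inferInstance
    exact locallyOfFiniteType_of_comp φ pY
  haveI : IsLocallyNoetherian Y := LocallyOfFiniteType.isLocallyNoetherian pY
  rw [H18Stalk.exists_etale_nhd_iff, H18Stalk.stalk_unram_iff]
  have hsurj := residueFieldMap_surjective pX pY φ w x hx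
  constructor
  · rintro ⟨-, h, -⟩
    exact h
  · intro h
    refine ⟨?_, h, ?_, ?_⟩
    · have hreg : IsRegularLocalRing (Y.presheaf.stalk (φ x)) :=
        (Groth.Agent.Lib.helper17.RegSmooth.mem_smoothLocus_iff_isRegularLocalRing_of_perfectField
          pY (φ x)).mp (by rw [Scheme.Hom.smoothLocus_eq_top]; trivial)
      exact flat_of_map_maximalIdeal
        ((Groth.Agent.Lib.helper3.DimIneq.stalk_le_dim (φ x)).trans hdY) _ h
        (maximalIdeal_stalk_ne_bot hdX x hx)
    · letI := (φ.residueFieldMap x).hom.toAlgebra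
      exact Module.Finite.of_surjective (Algebra.linearMap _ _) hsurj
    · letI := (φ.residueFieldMap x).hom.toAlgebra
      exact ⟨fun b => by
        obtain ⟨a, rfl⟩ := hsurj b
        exact isSeparable_algebraMap a⟩

end Groth.Agent.Lib.Helper14.CurveEtale
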