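import Mathlib
import Groth.Prelude.Def_AlgGrp
import Groth.Prelude.Def_Red
import Groth.Prelude.Def_Red2
import Groth.Agent.Lib.Helper15.DSPts
import Groth.Agent.Lib.Helper15.DSMap
import Groth.Agent.Lib.Helper14.DiagHom3

/-!
# helper14: `D(M) × D(N) ≅ D(M × N)` as group schemes, and the product of two split tori is a split
torus
-/

set_option autoImplicit false
universe u
open CategoryTheory CategoryTheory.Limits AlgebraicGeometry MonoidalCategory
  CartesianMonoidalCategory MonObj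

namespace Groth.Agent.Lib.Helper14.DSProd

noncomputable section

open Groth.Agent.Lib.helper15.DSPts Groth.Agent.Lib.Helper14.DiagHom3

variable {S : Scheme.{u}} {M N : Type} [AddCommGroup M] [AddCommGroup N]

/-- the character of `M × N` attached to a pair of points -/
def prodChar {X : Over S} (x : X ⟶ Red.DS S M) (y : X ⟶ Red.DS S N) :
    Multiplicative (M × N) →* Γ(X.left, ⊤) where
  toFun p := dsFn x p.toAdd.1 * dsFn y p.toAdd.2
  map_one' := by
    show dsFn x (0 : M × N).1 * dsFn y (0 : M × N).2 = 1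
    rw [Prod.fst_zero, Prod.snd_zero, dsFn_zero, dsFn_zero, _root_.mul_one]
  map_mul' p q := by
    show dsFn x (p.toAdd + q.toAdd).1 * dsFn y (p.toAdd + q.toAdd).2 =
      dsFn x p.toAdd.1 * dsFn y p.toAdd.2 * (dsFn x q.toAdd.1 * dsFn y q.toAdd.2)
    rw [Prod.fst_add, Prod.snd_add, dsFn_add, dsFn_add]
    ring

variable (S M N)

/-- `D(M × N) ⟶ D(M) × D(N)` -/
def toProd : Red.DS S (M × N) ⟶ Red.DS S M ⊗ Red.DS S N :=
  lift (Red.DSmap S (AddMonoidHom.inl M N)) (Red.DSmap S (AddMonoidHom.inr M N))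

instance : IsMonHom (toProd S M N) := by
  haveI : IsMonHom (Red.DSmap S (AddMonoidHom.inl M N)) :=
    Groth.Agent.Lib.helper15.DSMap.isMonHom_DSmap _ _
  haveI : IsMonHom (Red.DSmap S (AddMonoidHom.inr M N)) :=
    Groth.Agent.Lib.helper15.DSMap.isMonHom_DSmap _ _
  unfold toProd
  infer_instance

/-- `D(M) × D(N) ⟶ D(M × N)` -/
def ofProd : Red.DS S M ⊗ Red.DS S N ⟶ Red.DS S (M × N) :=
  (exists_dsFn_eq (prodChar (fst (Red.DS S M) (Red.DS S N)) (snd (Red.DS S M) (Red.DS S N)))).choose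

lemma dsFn_ofProd (p : M × N) :
    dsFn (ofProd S M N) p = dsFn (fst (Red.DS S M) (Red.DS S N)) p.1 *
      dsFn (snd (Red.DS S M) (Red.DS S N)) p.2 :=
  (exists_dsFn_eq (prodChar (fst (Red.DS S M) (Red.DS S N))
    (snd (Red.DS S M) (Red.DS S N)))).choose_spec p

lemma toProd_ofProd : toProd S M N ≫ ofProd S M N = 𝟙 _ := by
  apply dsFn_injective
  intro p
  rw [dsFn_comp, dsFn_ofProd, map_mul, ← dsFn_comp, ← dsFn_comp]
  have h1 : toProd S M N ≫ fst (Red.DS S M) (Red.DS S N) = Red.DSmap S (AddMonoidHom.inl M N) :=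
    lift_fst _ _
  have h2 : toProd S M N ≫ snd (Red.DS S M) (Red.DS S N) = Red.DSmap S (AddMonoidHom.inr M N) :=
    lift_snd _ _
  rw [h1, h2, dsFn_DSmap', dsFn_DSmap', ← dsFn_add]
  congr 1
  ext <;> simp

lemma ofProd_toProd : ofProd S M N ≫ toProd S M N = 𝟙 _ := by
  apply CartesianMonoidalCategory.hom_ext
  · rw [Category.assoc, Category.id_comp]
    have h1 : toProd S M N ≫ fst (Red.DS S M) (Red.DS S N) = Red.DSmap S (AddMonoidHom.inl M N) :=
      lift_fst _ _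
    rw [h1]
    apply dsFn_injective
    intro m
    rw [dsFn_DSmap, dsFn_ofProd]
    show dsFn _ m * dsFn _ (0 : N) = _
    rw [dsFn_zero, _root_.mul_one]
  · rw [Category.assoc, Category.id_comp]
    have h2 : toProd S M N ≫ snd (Red.DS S M) (Red.DS S N) = Red.DSmap S (AddMonoidHom.inr M N) :=
      lift_snd _ _
    rw [h2]
    apply dsFn_injective
    intro n
    rw [dsFn_DSmap, dsFn_ofProd]
    show dsFn _ (0 : M) * dsFn _ n = _
    rw [dsFn_zero, _root_.one_mul]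

/-- `D(M × N) ≅ D(M) × D(N)` -/
def prodIso : Red.DS S (M × N) ≅ Red.DS S M ⊗ Red.DS S N :=
  ⟨toProd S M N, ofProd S M N, toProd_ofProd S M N, ofProd_toProd S M N⟩

instance : IsMonHom (prodIso S M N).hom := inferInstanceAs (IsMonHom (toProd S M N))

variable {S M N}

/-- the additive equivalence `ℤ^(r + r') ≃ ℤ^r × ℤ^r'` -/
def finAddEquiv (r r' : ℕ) : (Fin (r + r') → ℤ) ≃+ (Fin r → ℤ) × (Fin r' → ℤ) :=
  ((LinearEquiv.funCongrLeft ℤ ℤ finSumFinEquiv).trans
    (LinearEquiv.sumArrowLequivProdArrow (Fin r) (Fin r') ℤ ℤ)).toAddEquiv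

/-- the product of two split tori is a split torus -/
theorem split_tensor {T T' : Over S} [GrpObj T] [GrpObj T'] (r r' : ℕ)
    (hT : Red.IsSplitTorusWith (Fin r → ℤ) T) (hT' : Red.IsSplitTorusWith (Fin r' → ℤ) T') :
    Red.IsSplitTorusWith (Fin (r + r') → ℤ) (T ⊗ T') := by
  obtain ⟨eT⟩ := hT
  obtain ⟨eT'⟩ := hT'
  let a : T ≅ Red.DS S (Fin r → ℤ) :=
    ⟨eT.hom.hom.hom, eT.inv.hom.hom, congrArg (fun t => t.hom.hom) eT.hom_inv_id,
      congrArg (fun t => t.hom.hom) eT.inv_hom_id⟩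
  let a' : T' ≅ Red.DS S (Fin r' → ℤ) :=
    ⟨eT'.hom.hom.hom, eT'.inv.hom.hom, congrArg (fun t => t.hom.hom) eT'.hom_inv_id,
      congrArg (fun t => t.hom.hom) eT'.inv_hom_id⟩
  haveI : IsMonHom a.hom := inferInstanceAs (IsMonHom eT.hom.hom.hom)
  haveI : IsMonHom a'.hom := inferInstanceAs (IsMonHom eT'.hom.hom.hom)
  haveI hI := isIso_DSmap (S := S) (finAddEquiv r r')
  haveI : IsMonHom (Red.DSmap S (finAddEquiv r r').toAddMonoidHom) :=
    Groth.Agent.Lib.helper15.DSMap.isMonHom_DSmap _ _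
  let e : T ⊗ T' ≅ Red.DS S (Fin (r + r') → ℤ) :=
    (a ⊗ᵢ a') ≪≫ (prodIso S (Fin r → ℤ) (Fin r' → ℤ)).symm ≪≫
      asIso (Red.DSmap S (finAddEquiv r r').toAddMonoidHom)
  haveI : IsMonHom e.hom := by
    show IsMonHom ((a.hom ⊗ₘ a'.hom) ≫ (prodIso S (Fin r → ℤ) (Fin r' → ℤ)).inv ≫
      Red.DSmap S (finAddEquiv r r').toAddMonoidHom)
    infer_instance
  exact ⟨Grp.mkIso' e⟩

end

end Groth.Agent.Lib.Helper14.DSProd
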