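import Mathlib

/-!
# helper14: an algebra over a field with enough rational points is geometrically reduced
(ring level)
-/

set_option autoImplicit false
universe u
open TensorProduct

namespace Groth.Agent.Lib.Helper14.DenseRat

theorem isReduced_tensor_of_points {k A K : Type u} [Field k] [CommRing A] [Algebra k A]
    [Field K] [Algebra k K] (P : Set (A →ₐ[k] k))
    (hP : ∀ a : A, (∀ χ ∈ P, χ a = 0) → a = 0) : IsReduced (A ⊗[k] K) := by
  classical
  let F₁ : A →ₐ[k] (P → K) := AlgHom.pi (fun χ : P => (Algebra.ofId k K).comp χ.1)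
  let F₂ : K →ₐ[k] (P → K) := Pi.constAlgHom k P K
  let Φ : A ⊗[k] K →ₐ[k] (P → K) :=
    Algebra.TensorProduct.lift F₁ F₂ (fun _ _ => Commute.all _ _)
  have hΦ : ∀ (a : A) (c : K) (χ : P), Φ (a ⊗ₜ c) χ = algebraMap k K (χ.1 a) * c := by
    intro a c χ
    simp only [Φ, Algebra.TensorProduct.lift_tmul, Pi.mul_apply]
    rfl
  let b := Module.Basis.ofVectorSpace k K
  let e := TensorProduct.equivFinsuppOfBasisRight (M := A) b
  have hinj : Function.Injective Φ := by
    rw [injective_iff_map_eq_zero]
    intro x hx
    obtain ⟨f, rfl⟩ := e.symm.surjective x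
    suffices f = 0 by rw [this, map_zero]
    ext i
    apply hP
    intro χ hχ
    have h1 : Φ (e.symm f) ⟨χ, hχ⟩ =
        Finsupp.linearCombination k b (f.mapRange χ (map_zero χ)) := by
      rw [TensorProduct.equivFinsuppOfBasisRight_symm_apply, Finsupp.sum, map_sum,
        Finset.sum_apply, Finsupp.linearCombination_apply,
        Finsupp.sum_mapRange_index (by intro j; simp)]
      simp only [Finsupp.sum, hΦ, Algebra.smul_def]
    rw [hx] at h1
    have h2 : f.mapRange χ (map_zero χ) = 0 := by
      have hli := b.linearIndependent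
      rw [linearIndependent_iff] at hli
      exact hli _ h1.symm
    have h3 := DFunLike.congr_fun h2 i
    simpa using h3
  exact isReduced_of_injective Φ hinj

end Groth.Agent.Lib.Helper14.DenseRat
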