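import Mathlib
import Groth.Agent.Lib.Helper14.DenseRat1

/-!
# helper14: a reduced scheme over a field with a dense set of rational points is geometrically
reduced
-/

set_option autoImplicit false
universe u
open CategoryTheory AlgebraicGeometry CategoryTheory.Limits TensorProduct

namespace Groth.Agent.Lib.Helper14.DenseRat

variable {k : Type u} [Field k]

/-- the affine-local statement -/
theorem isReduced_pullback_affine_piece {X : Scheme.{u}} (f : X ⟶ Spec (CommRingCat.of k))
    [IsReduced X] (P : Set (Spec (CommRingCat.of k) ⟶ X)) (hP : ∀ p ∈ P, p ≫ f = 𝟙 _)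
    (hd : Dense {x : X | ∃ p ∈ P, p (IsLocalRing.closedPoint k) = x})
    (R : CommRingCat.{u}) (j : Spec R ⟶ X) [IsOpenImmersion j]
    (K : Type u) [Field K] [Algebra k K] :
    IsReduced (pullback (j ≫ f) (Spec.map (CommRingCat.ofHom (algebraMap k K)))) := by
  let ψ : CommRingCat.of k ⟶ R := Spec.preimage (j ≫ f)
  have hψ : Spec.map ψ = j ≫ f := Spec.map_preimage _
  letI : Algebra k R := ψ.hom.toAlgebra
  have hψ' : CommRingCat.ofHom (algebraMap k R) = ψ := rfl
  haveI : IsReduced (Spec R) := isReduced_of_isOpenImmersion j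
  haveI : _root_.IsReduced R := (affine_isReduced_iff R).mp inferInstance
  -- the family of rational points
  let Pi : Set (R →ₐ[k] k) := {χ | ∃ p ∈ P, Spec.map (CommRingCat.ofHom χ.toRingHom) ≫ j = p}
  have hPi : ∀ r : R, (∀ χ ∈ Pi, χ r = 0) → r = 0 := by
    intro r hr
    have hnil : IsNilpotent r := by
      rw [← PrimeSpectrum.basicOpen_eq_bot_iff]
      by_contra hne
      have hne' : ((PrimeSpectrum.basicOpen r : TopologicalSpace.Opens (PrimeSpectrum R)) :
          Set (PrimeSpectrum R)).Nonempty := by
        rw [Set.nonempty_iff_ne_empty]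
        intro h0
        apply hne
        ext x
        simp only [TopologicalSpace.Opens.coe_bot, ← h0]
      have hopen : IsOpen (j '' ((PrimeSpectrum.basicOpen r : TopologicalSpace.Opens
          (PrimeSpectrum R)) : Set (PrimeSpectrum R))) :=
        j.isOpenEmbedding.isOpenMap _ (PrimeSpectrum.basicOpen r).2
      obtain ⟨x, ⟨y, hy, rfl⟩, p, hpP, hpx⟩ := hd.inter_open_nonempty _ hopen (hne'.image _)
      -- `p` factors through `j`
      have hrange : Set.range p ⊆ Set.range j := by
        rintro _ ⟨t, rfl⟩
        have : t = IsLocalRing.closedPoint k := Subsingleton.elim _ _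
        rw [this, hpx]
        exact ⟨y, rfl⟩
      let q := IsOpenImmersion.lift j p hrange
      have hq : q ≫ j = p := IsOpenImmersion.lift_fac _ _ _
      have hqy : q (IsLocalRing.closedPoint k) = y := by
        apply j.isOpenEmbedding.injective
        rw [← Scheme.Hom.comp_apply, hq, hpx]
      let χ₀ : R ⟶ CommRingCat.of k := Spec.preimage q
      have hχ₀ : Spec.map χ₀ = q := Spec.map_preimage _
      have hcomm : ψ ≫ χ₀ = 𝟙 _ := by
        apply Spec.map_injective
        rw [Spec.map_comp, hχ₀, hψ, ← Category.assoc, hq, hP p hpP, Spec.map_id]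
      let χ : R →ₐ[k] k :=
        { χ₀.hom with
          commutes' := fun c => by
            have := congrArg (fun g => g.hom c) hcomm
            exact this }
      have hχmem : χ ∈ Pi := by
        refine ⟨p, hpP, ?_⟩
        have : CommRingCat.ofHom χ.toRingHom = χ₀ := rfl
        rw [this, hχ₀, hq]
      have h0 : χ r = 0 := hr χ hχmem
      -- but `y ∈ D(r)`
      have hy' : r ∉ y.asIdeal := hy
      apply hy'
      rw [← hqy, ← hχ₀]
      change r ∈ ((PrimeSpectrum.comap χ₀.hom) (IsLocalRing.closedPoint k)).asIdeal
      rw [PrimeSpectrum.comap_asIdeal, Ideal.mem_comap]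
      change χ r ∈ _
      rw [h0]
      exact Ideal.zero_mem _
    exact hnil.eq_zero
  haveI : _root_.IsReduced (R ⊗[k] K) := isReduced_tensor_of_points Pi hPi
  have e := pullbackSpecIso k R K
  rw [hψ', hψ] at e
  exact isReduced_of_isOpenImmersion e.hom

/-- **A reduced scheme over a field with a dense set of rational points is geometrically
reduced.** -/
theorem geometricallyReduced_of_dense_sections {X : Scheme.{u}}
    (f : X ⟶ Spec (CommRingCat.of k)) [IsReduced X]
    (P : Set (Spec (CommRingCat.of k) ⟶ X)) (hP : ∀ p ∈ P, p ≫ f = 𝟙 _)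
    (hd : Dense {x : X | ∃ p ∈ P, p (IsLocalRing.closedPoint k) = x}) :
    GeometricallyReduced f := by
  rw [geometricallyReduced_iff, geometrically_iff_of_commRing_of_isClosedUnderIsomorphisms]
  intro K _ _
  have hpiece : ∀ i, IsReduced ((Scheme.Pullback.openCoverOfLeft X.affineCover f
      (Spec.map (CommRingCat.ofHom (algebraMap k K)))).X i) := by
    intro (i : X.affineCover.I₀)
    have hoi : IsOpenImmersion (X.affineCover.f i) := X.affineCover.map_prop i
    exact @isReduced_pullback_affine_piece k _ X f _ P hP hd _ (X.affineCover.f i) hoi K _ _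
  exact IsReduced.of_openCover _ (Scheme.Pullback.openCoverOfLeft X.affineCover f
      (Spec.map (CommRingCat.ofHom (algebraMap k K))))

end Groth.Agent.Lib.Helper14.DenseRat
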