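import Mathlib
import Groth.Prelude.Def_AlgGrp
import Groth.Agent.Lib.Helper14.HomImage2
import Groth.Agent.Lib.Helper17.SmoothSepPoints
import Groth.Agent.Lib.Helper17.GeomRedSmooth
import Groth.Agent.Lib.Helper24.GeomSepAlg

/-!
# helper14: dense families of points, separable points of geometrically reduced schemes, and closed
subschemes of group schemes that are subgroups because of their points
-/

set_option autoImplicit false
universe u
open CategoryTheory MonoidalCategory CartesianMonoidalCategory MonObj GrpObj AlgebraicGeometry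
  CategoryTheory.Limits

namespace Groth.Agent.Lib.Helper14.SepSubgroup

/-- a closed subscheme of a reduced scheme through which a dense family of morphisms factors is
everything -/
theorem isIso_of_dense_family {W Z : Scheme.{u}} [IsReduced W] (j : Z ⟶ W) [IsClosedImmersion j]
    (h : ∀ U : Set W, IsOpen U → U.Nonempty →
      ∃ (T : Scheme.{u}) (w : T ⟶ W) (t : T), w t ∈ U ∧ ∃ z : T ⟶ Z, z ≫ j = w) :
    IsIso j := by
  haveI : Surjective j := by
    refine ⟨fun x => ?_⟩
    by_contra hx
    have hcl : IsClosed (Set.range j) := j.isClosedEmbedding.isClosed_range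
    obtain ⟨T, w, t, hw, z, hz⟩ := h (Set.range j)ᶜ hcl.isOpen_compl ⟨x, hx⟩
    apply hw
    rw [← hz]
    exact ⟨z t, rfl⟩
  exact isIso_of_isClosedImmersion_of_surjective j

/-- a morphism from a reduced scheme factors through a closed subscheme if it does so on a dense
family of points -/
theorem exists_factor_of_dense_family {S : Scheme.{u}} {W G H : Over S} [IsReduced W.left]
    (i : H ⟶ G) [IsClosedImmersion i.left] (c : W ⟶ G)
    (h : ∀ U : Set W.left, IsOpen U → U.Nonempty →
      ∃ (T : Scheme.{u}) (w : T ⟶ W.left) (t : T), w t ∈ U ∧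
        ∃ h' : T ⟶ H.left, h' ≫ i.left = w ≫ c.left) :
    ∃ c' : W ⟶ H, c' ≫ i = c := by
  haveI : IsIso (pullback.fst c.left i.left) := by
    apply isIso_of_dense_family
    intro U hU hne
    obtain ⟨T, w, t, hw, h', hh'⟩ := h U hU hne
    exact ⟨T, w, t, hw, pullback.lift w h' hh'.symm, pullback.lift_fst _ _ _⟩
  have hc : inv (pullback.fst c.left i.left) ≫ pullback.snd c.left i.left ≫ i.left = c.left := by
    rw [← pullback.condition, IsIso.inv_hom_id_assoc]
  refine ⟨Over.homMk (inv (pullback.fst c.left i.left) ≫ pullback.snd c.left i.left) ?_, ?_⟩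
  · rw [← Over.w i, Category.assoc, ← Category.assoc (pullback.snd c.left i.left),
      ← Category.assoc, hc, Over.w c]
  · ext1
    change (inv (pullback.fst c.left i.left) ≫ pullback.snd c.left i.left) ≫ i.left = c.left
    rw [Category.assoc, hc]

variable {k : Type u} [Field k]

/-- composition of a flat geometrically reduced morphism with a geometrically reduced morphism,
locally of finite type, to the spectrum of a field -/
theorem geometricallyReduced_comp {X Y : Scheme.{u}} (f : X ⟶ Y)
    (g : Y ⟶ Spec (CommRingCat.of k)) [GeometricallyReduced f] [Flat f] [GeometricallyReduced g]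
    [LocallyOfFiniteType g] : GeometricallyReduced (f ≫ g) := by
  constructor
  intro K _ y W fst' snd' hpb
  let q : W ⟶ pullback g y := pullback.lift (fst' ≫ f) snd' (by rw [Category.assoc, hpb.w])
  have hleft : IsPullback q fst' (pullback.fst g y) f := by
    refine IsPullback.of_right ?_ (pullback.lift_fst _ _ _) (IsPullback.of_hasPullback g y).flip
    have : q ≫ pullback.snd g y = snd' := pullback.lift_snd _ _ _
    rw [this]
    exact hpb.flip
  haveI : GeometricallyReduced q :=
    MorphismProperty.of_isPullback (P := @GeometricallyReduced) hleft.flip inferInstance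
  haveI : Flat q := MorphismProperty.of_isPullback (P := @Flat) hleft.flip inferInstance
  haveI : IsReduced (pullback g y) :=
    pullback_of_geometrically (P := @IsReduced)
      (GeometricallyReduced.geometrically_isReduced (f := g)) K y
  haveI : LocallyOfFiniteType (pullback.snd g y) := inferInstance
  haveI : IsLocallyNoetherian (pullback g y) :=
    LocallyOfFiniteType.isLocallyNoetherian (pullback.snd g y)
  exact GeometricallyReduced.isReduced_of_flat_of_isLocallyNoetherian q

/-- a geometrically reduced scheme over a field is reduced -/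
theorem isReduced_of_geometricallyReduced {X : Scheme.{u}} (f : X ⟶ Spec (CommRingCat.of k))
    [GeometricallyReduced f] : IsReduced X :=
  self_of_isIntegral_of_geometrically (P := @IsReduced)
    (GeometricallyReduced.geometrically_isReduced (f := f))

/-- separable points are dense in a geometrically reduced scheme locally of finite type over a
field -/
theorem exists_sep_point_of_geometricallyReduced {X : Scheme.{u}}
    (f : X ⟶ Spec (CommRingCat.of k)) [LocallyOfFiniteType f] [GeometricallyReduced f]
    (U : Set X) (hU : IsOpen U) (hne : U.Nonempty) :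
    ∃ (L : Type u) (_ : Field L) (_ : Algebra k L) (g : Spec (CommRingCat.of L) ⟶ X),
      FiniteDimensional k L ∧ Algebra.IsSeparable k L ∧
      g ≫ f = Spec.map (CommRingCat.ofHom (algebraMap k L)) ∧
      g (IsLocalRing.closedPoint L) ∈ U := by
  haveI : LocallyOfFinitePresentation f := inferInstance
  have hd := Groth.Agent.Lib.helper17.GeomRedSmooth.dense_smoothLocus_of_geometricallyReduced f
  obtain ⟨x, hxU, hxV⟩ := hd.inter_open_nonempty U hU hne
  let V := f.smoothLocus
  haveI : Smooth (V.ι ≫ f) := by
    rw [← Scheme.Hom.smoothLocus_eq_top_iff, ← Scheme.Hom.preimage_smoothLocus_eq]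
    refine top_unique fun y _ => ?_
    exact y.2
  obtain ⟨L, _, _, g', hfin, hsep, hg', hgU⟩ :=
    Groth.Agent.Lib.helper17.RegSmooth.exists_sep_point_of_smooth (V.ι ≫ f) (V.ι ⁻¹' U)
      (hU.preimage V.ι.continuous) ⟨⟨x, hxV⟩, hxU⟩
  refine ⟨L, _, _, g' ≫ V.ι, hfin, hsep, ?_, ?_⟩
  · rw [Category.assoc, hg']
  · exact hgU

/-- a finite separable field extension is a geometrically reduced algebra -/
theorem isGeometricallyReduced_of_isSeparable (L : Type u) [Field L] [Algebra k L]
    [Algebra.IsSeparable k L] : Algebra.IsGeometricallyReduced k L := by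
  rw [Algebra.isGeometricallyReduced_field_iff]
  exact Groth.Agent.Lib.Helper24.GeomSepAlg.isReduced_tensor k L (AlgebraicClosure k)

/-- **A geometrically reduced closed subscheme of a locally algebraic group through which all
separable points factor is a smooth subgroup scheme.** -/
theorem smooth_and_grpObj_of_sep_points (G : Over (Spec (CommRingCat.of k))) [GrpObj G]
    [LocallyOfFiniteType G.hom] (Z : Over (Spec (CommRingCat.of k))) (z : Z ⟶ G)
    (hz : IsClosedImmersion z.left) (hred : GeometricallyReduced Z.hom)
    (hpts : ∀ (k' : Type u) [Field k'] [Algebra k k'] [Algebra.IsGeometricallyReduced k k']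
      (x : Spec (CommRingCat.of k') ⟶ G.left),
      x ≫ G.hom = Spec.map (CommRingCat.ofHom (algebraMap k k')) →
      ∃ y : Spec (CommRingCat.of k') ⟶ Z.left, y ≫ z.left = x) :
    Smooth Z.hom ∧ ∃ inst : GrpObj Z, IsMonHom z := by
  haveI := hz
  haveI := hred
  haveI : LocallyOfFiniteType Z.hom := by rw [← Over.w z]; infer_instance
  haveI : Mono z := by
    haveI : Mono ((Over.forget _).map z) := inferInstanceAs (Mono z.left)
    exact (Over.forget _).mono_of_mono_map ‹_›
  haveI : Flat Z.hom := inferInstance
  haveI : GeometricallyReduced (snd Z Z).left := by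
    change GeometricallyReduced (pullback.snd Z.hom Z.hom); infer_instance
  haveI : Flat (snd Z Z).left := by
    change Flat (pullback.snd Z.hom Z.hom); infer_instance
  haveI : LocallyOfFiniteType (snd Z Z).left := by
    change LocallyOfFiniteType (pullback.snd Z.hom Z.hom); infer_instance
  have h1 : (Z ⊗ Z).hom = (snd Z Z).left ≫ Z.hom := (Over.w (snd Z Z)).symm
  haveI hgr : GeometricallyReduced (Z ⊗ Z).hom := by
    rw [h1]; exact geometricallyReduced_comp _ _
  haveI : LocallyOfFiniteType (Z ⊗ Z).hom := by
    rw [h1]; infer_instance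
  haveI : IsReduced (Z ⊗ Z).left := isReduced_of_geometricallyReduced (Z ⊗ Z).hom
  -- the unit
  haveI : Algebra.IsGeometricallyReduced k k := isGeometricallyReduced_of_isSeparable k
  have hη : η[G].left ≫ G.hom = Spec.map (CommRingCat.ofHom (algebraMap k k)) := by
    rw [Over.w η[G], Algebra.algebraMap_self]
    exact (Spec.map_id _).symm
  obtain ⟨e₁, he₁⟩ := hpts k η[G].left hη
  let e : 𝟙_ (Over (Spec (CommRingCat.of k))) ⟶ Z := Over.homMk e₁ (by
    rw [← Over.w z, ← Category.assoc, he₁, Over.w η[G]])
  have he : e ≫ z = η[G] := by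
    ext1
    exact he₁
  -- the division map
  obtain ⟨d, hd⟩ := exists_factor_of_dense_family z ((fst Z Z ≫ z)⁻¹ * (snd Z Z ≫ z)) (by
    intro U hU hne
    obtain ⟨L, _, _, g, hfin, hsep, hg, hgU⟩ :=
      exists_sep_point_of_geometricallyReduced (Z ⊗ Z).hom U hU hne
    haveI := isGeometricallyReduced_of_isSeparable (k := k) L
    obtain ⟨y, hy⟩ := hpts L (g ≫ ((fst Z Z ≫ z)⁻¹ * (snd Z Z ≫ z)).left) (by
      rw [Category.assoc, Over.w, hg])
    exact ⟨_, g, IsLocalRing.closedPoint L, hgU, y, hy⟩)
  obtain ⟨str, hmon⟩ := Groth.Agent.Lib.Helper14.HomImage.exists_grpObj_of_div z e he d hd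
  refine ⟨?_, str, hmon⟩
  letI : GrpObj (Over.mk Z.hom) := str
  exact smooth_of_grpObj Z.hom

end Groth.Agent.Lib.Helper14.SepSubgroup
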