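import Mathlib
import Groth.Prelude.Def_AlgGrp
import Groth.Agent.Lib.Helper14.DenseRat2
import Groth.Agent.Lib.Helper14.SepSubgroup
import Groth.Agent.Lib.Helper14.OrbitSmooth
import Groth.Agent.Lib.Helper22.ActPts

/-!
# helper14: density of pairs of rational points in a product; the Zariski closure of a group of
rational points of a smooth group scheme is a smooth closed subgroup scheme
-/

set_option autoImplicit false
universe u
open CategoryTheory MonoidalCategory CartesianMonoidalCategory MonObj GrpObj AlgebraicGeometry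
  CategoryTheory.Limits TopologicalSpace

namespace Groth.Agent.Lib.Helper14.DenseRat

variable {k : Type u} [Field k]

/-- the fibre of `fst : Z ⊗ Z ⟶ Z` over a section `s` is `Z` -/
theorem isPullback_fibre_fst {S : Scheme.{u}} (Z : Over S) (s : 𝟙_ (Over S) ⟶ Z) :
    IsPullback (lift (toUnit Z ≫ s) (𝟙 Z)) (toUnit Z) (fst Z Z) s := by
  apply Groth.Agent.Lib.helper22.isPullback_of_points
  · rw [lift_fst]
  · intro T a b hab
    refine ⟨a ≫ snd Z Z, ?_, toUnit_unique _ _⟩
    rw [comp_lift, Category.comp_id, ← Category.assoc, toUnit_unique (_ ≫ toUnit Z) b, ← hab]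
    apply CartesianMonoidalCategory.hom_ext <;> simp
  · intro T l l' h1 _
    have := congrArg (· ≫ snd Z Z) h1
    simpa using this

/-- pairs of points of a dense family of rational points are dense in the product -/
theorem dense_pairs (Z : Over (Spec (CommRingCat.of k))) [LocallyOfFiniteType Z.hom]
    (P : Set (𝟙_ (Over (Spec (CommRingCat.of k))) ⟶ Z))
    (hd : Dense {x : Z.left | ∃ p ∈ P, p.left (IsLocalRing.closedPoint k) = x})
    (U : Set (Z ⊗ Z).left) (hU : IsOpen U) (hne : U.Nonempty) :
    ∃ s ∈ P, ∃ t ∈ P, (lift s t).left (IsLocalRing.closedPoint k) ∈ U := by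
  haveI : Flat (fst Z Z).left := by
    change Flat (pullback.fst Z.hom Z.hom); infer_instance
  haveI : LocallyOfFiniteType (fst Z Z).left := by
    change LocallyOfFiniteType (pullback.fst Z.hom Z.hom); infer_instance
  haveI : IsLocallyNoetherian Z.left := LocallyOfFiniteType.isLocallyNoetherian Z.hom
  haveI : LocallyOfFinitePresentation (fst Z Z).left := inferInstance
  have hopen : IsOpen ((fst Z Z).left '' U) := (fst Z Z).left.isOpenMap _ hU
  obtain ⟨x, ⟨u, huU, rfl⟩, s, hsP, hsx⟩ := hd.inter_open_nonempty _ hopen (hne.image _)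
  -- `u` lies in the fibre over `s`
  have hpb : IsPullback (lift (toUnit Z ≫ s) (𝟙 Z)).left (toUnit Z).left (fst Z Z).left s.left :=
    (isPullback_fibre_fst Z s).map (Over.forget _)
  obtain ⟨w, hw1, -⟩ := Scheme.Pullback.exists_preimage_pullback (f := (fst Z Z).left)
    (g := s.left) u (IsLocalRing.closedPoint k) hsx.symm
  let t' : Z.left := hpb.isoPullback.inv w
  have ht' : (lift (toUnit Z ≫ s) (𝟙 Z)).left t' = u := by
    rw [← hw1]
    change (hpb.isoPullback.inv ≫ (lift (toUnit Z ≫ s) (𝟙 Z)).left) w = _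
    rw [IsPullback.isoPullback_inv_fst]
  have hopen' : IsOpen ((lift (toUnit Z ≫ s) (𝟙 Z)).left ⁻¹' U) :=
    hU.preimage (lift (toUnit Z ≫ s) (𝟙 Z)).left.continuous
  obtain ⟨y, hyU, t, htP, hty⟩ := hd.inter_open_nonempty _ hopen' ⟨t', by
    change (lift (toUnit Z ≫ s) (𝟙 Z)).left t' ∈ U
    rw [ht']; exact huU⟩
  refine ⟨s, hsP, t, htP, ?_⟩
  have h1 : lift s t = t ≫ lift (toUnit Z ≫ s) (𝟙 Z) := by
    rw [comp_lift, Category.comp_id, ← Category.assoc,
      toUnit_unique (t ≫ toUnit Z) (𝟙 _), Category.id_comp]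
  rw [h1, Over.comp_left, Scheme.Hom.comp_apply, hty]
  exact hyU

/-- the reduced closed subscheme on a closed subset (as in helper4 `ClosureProper`) -/
theorem isReduced_subscheme_vanishingIdeal {X : Scheme.{u}} (C : Closeds X) :
    IsReduced (Scheme.IdealSheafData.vanishingIdeal C).subscheme := by
  have : ∀ i, IsReduced ((Scheme.IdealSheafData.vanishingIdeal C).subschemeCover.openCover.X i) := by
    intro (U : X.affineOpens)
    have hrad : ((Scheme.IdealSheafData.vanishingIdeal C).ideal U).IsRadical := by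
      rw [Scheme.IdealSheafData.vanishingIdeal_ideal]
      exact PrimeSpectrum.isRadical_vanishingIdeal _
    have : _root_.IsReduced (Γ(X, U) ⧸ (Scheme.IdealSheafData.vanishingIdeal C).ideal U) :=
      (Ideal.isRadical_iff_quotient_reduced _).mp hrad
    change IsReduced (Spec (.of (Γ(X, U) ⧸ (Scheme.IdealSheafData.vanishingIdeal C).ideal U)))
    infer_instance
  exact IsReduced.of_openCover _ (Scheme.IdealSheafData.vanishingIdeal C).subschemeCover.openCover

theorem range_subschemeι_vanishingIdeal {X : Scheme.{u}} (C : Closeds X) :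
    Set.range (Scheme.IdealSheafData.vanishingIdeal C).subschemeι = (C : Set X) := by
  rw [Scheme.IdealSheafData.range_subschemeι, Scheme.IdealSheafData.coe_support_vanishingIdeal]

/-- **The Zariski closure of a group of rational points of a locally algebraic group is a smooth
closed subgroup scheme.** -/
theorem exists_smooth_subgroup_closure (G : Over (Spec (CommRingCat.of k))) [GrpObj G]
    [LocallyOfFiniteType G.hom]
    (S : Subgroup (𝟙_ (Over (Spec (CommRingCat.of k))) ⟶ G)) :
    ∃ (H : Over (Spec (CommRingCat.of k))) (_ : GrpObj H) (i : H ⟶ G), IsMonHom i ∧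
      IsClosedImmersion i.left ∧ Smooth H.hom ∧
      Set.range i.left =
        closure ((fun s : (𝟙_ (Over (Spec (CommRingCat.of k))) ⟶ G) =>
          s.left (IsLocalRing.closedPoint k)) '' (S : Set _)) := by
  set PG : Set G.left := (fun s : (𝟙_ (Over (Spec (CommRingCat.of k))) ⟶ G) =>
          s.left (IsLocalRing.closedPoint k)) '' (S : Set _) with hPG
  let C : Closeds G.left := ⟨closure PG, isClosed_closure⟩
  let ι₀ := (Scheme.IdealSheafData.vanishingIdeal C).subschemeι
  have hrange : Set.range ι₀ = closure PG := range_subschemeι_vanishingIdeal C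
  let Z : Over (Spec (CommRingCat.of k)) := Over.mk (ι₀ ≫ G.hom)
  let z : Z ⟶ G := Over.homMk ι₀ rfl
  haveI : IsClosedImmersion z.left := inferInstanceAs (IsClosedImmersion ι₀)
  haveI : IsReduced Z.left := isReduced_subscheme_vanishingIdeal C
  haveI : LocallyOfFiniteType Z.hom := inferInstanceAs (LocallyOfFiniteType (ι₀ ≫ G.hom))
  haveI : Mono z := by
    haveI : Mono ((Over.forget _).map z) := inferInstanceAs (Mono ι₀)
    exact (Over.forget _).mono_of_mono_map ‹_›
  -- lifting the rational points
  have hlift : ∀ s ∈ S, ∃ s' : 𝟙_ (Over (Spec (CommRingCat.of k))) ⟶ Z, s' ≫ z = s := by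
    intro s hs
    haveI : IsReduced (𝟙_ (Over (Spec (CommRingCat.of k)))).left :=
      inferInstanceAs (IsReduced (Spec (CommRingCat.of k)))
    haveI : Subsingleton (𝟙_ (Over (Spec (CommRingCat.of k)))).left :=
      inferInstanceAs (Subsingleton (Spec (CommRingCat.of k)))
    haveI : IsReduced (Scheme.IdealSheafData.vanishingIdeal C).subscheme :=
      isReduced_subscheme_vanishingIdeal C
    obtain ⟨l, hl⟩ := OrbitSmooth.exists_lift_immersion ι₀ s.left (by
      rintro _ ⟨t, rfl⟩
      rw [hrange]
      apply subset_closure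
      have : t = IsLocalRing.closedPoint k := Subsingleton.elim _ _
      rw [this]
      exact ⟨s, hs, rfl⟩)
    refine ⟨Over.homMk l ?_, ?_⟩
    · change l ≫ ι₀ ≫ G.hom = _
      rw [← Category.assoc, hl, Over.w s]
    · ext1
      exact hl
  let P : Set (𝟙_ (Over (Spec (CommRingCat.of k))) ⟶ Z) := {s' | s' ≫ z ∈ S}
  have hd : Dense {x : Z.left | ∃ p ∈ P, p.left (IsLocalRing.closedPoint k) = x} := by
    rw [ι₀.isClosedEmbedding.isInducing.dense_iff]
    intro x
    have hx : ι₀ x ∈ closure PG := by rw [← hrange]; exact ⟨x, rfl⟩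
    refine closure_mono ?_ hx
    rintro _ ⟨s, hs, rfl⟩
    obtain ⟨s', hs'⟩ := hlift s hs
    refine ⟨s'.left (IsLocalRing.closedPoint k), ⟨s', ?_, rfl⟩, ?_⟩
    · change s' ≫ z ∈ S
      rw [hs']; exact hs
    · change (s'.left ≫ z.left) (IsLocalRing.closedPoint k) = _
      rw [← Over.comp_left, hs']
  -- geometric reducedness
  haveI hgr : GeometricallyReduced Z.hom := by
    apply geometricallyReduced_of_dense_sections Z.hom {p | ∃ s' ∈ P, s'.left = p}
    · rintro p ⟨s', -, rfl⟩
      exact Over.w s'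
    · convert hd using 2
      ext x
      constructor
      · rintro ⟨p, ⟨s', hs', rfl⟩, hx⟩
        exact ⟨s', hs', hx⟩
      · rintro ⟨s', hs', hx⟩
        exact ⟨s'.left, ⟨s', hs', rfl⟩, hx⟩
  haveI : Flat Z.hom := inferInstance
  haveI : IsLocallyNoetherian Z.left := LocallyOfFiniteType.isLocallyNoetherian Z.hom
  haveI : IsReduced (Z ⊗ Z).left := inferInstanceAs (IsReduced (pullback Z.hom Z.hom))
  -- the unit
  have h1S : η[G] ∈ S := by
    have : η[G] = (1 : 𝟙_ (Over (Spec (CommRingCat.of k))) ⟶ G) := by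
      rw [Hom.one_def, toUnit_unique (toUnit _) (𝟙 _), Category.id_comp]
    rw [this]
    exact S.one_mem
  obtain ⟨e, he⟩ := hlift _ h1S
  -- the division map
  obtain ⟨d, hdiv⟩ := SepSubgroup.exists_factor_of_dense_family z
      ((fst Z Z ≫ z)⁻¹ * (snd Z Z ≫ z)) (by
    intro U hU hne
    obtain ⟨s, hs, t, ht, hst⟩ := dense_pairs Z P hd U hU hne
    have hmem : (s ≫ z)⁻¹ * (t ≫ z) ∈ S := S.mul_mem (S.inv_mem hs) ht
    obtain ⟨r, hr⟩ := hlift _ hmem
    refine ⟨_, (lift s t).left, IsLocalRing.closedPoint k, hst, r.left, ?_⟩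
    rw [← Over.comp_left, ← Over.comp_left, hr, MonObj.comp_mul, GrpObj.comp_inv,
      ← Category.assoc, lift_fst, ← Category.assoc, lift_snd])
  obtain ⟨str, hmon⟩ := Groth.Agent.Lib.Helper14.HomImage.exists_grpObj_of_div z e he d hdiv
  refine ⟨Z, str, z, hmon, inferInstance, ?_, hrange⟩
  letI : GrpObj (Over.mk Z.hom) := str
  exact smooth_of_grpObj Z.hom

end Groth.Agent.Lib.Helper14.DenseRat
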