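import Mathlib.CategoryTheory.Limits.Shapes.Diagonal
import Mathlib.CategoryTheory.Limits.Shapes.Pullback.IsPullback.Basic
import Mathlib.CategoryTheory.Limits.Shapes.Equalizers

/-!
# The diagonal of a base change is a base change of the diagonal (helper14)
-/

set_option autoImplicit false

universe v u

open CategoryTheory CategoryTheory.Limits

namespace Groth.Agent.Lib.Helper14.Topos

variable {C : Type u} [Category.{v} C] [HasPullbacks C]

theorem isPullback_diagonal_snd {X Y Y' : C} (f : X ⟶ Y) (g : Y' ⟶ Y) :
    IsPullback (pullback.fst f g) (pullback.diagonal (pullback.snd f g)) (pullback.diagonal f)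
      (pullback.map (pullback.snd f g) (pullback.snd f g) f f (pullback.fst f g)
        (pullback.fst f g) g pullback.condition.symm pullback.condition.symm) := by
  have comm : pullback.fst f g ≫ pullback.diagonal f =
      pullback.diagonal (pullback.snd f g) ≫
        pullback.map (pullback.snd f g) (pullback.snd f g) f f (pullback.fst f g)
          (pullback.fst f g) g pullback.condition.symm pullback.condition.symm := by
    apply pullback.hom_ext
    · rw [Category.assoc, pullback.diagonal_fst, Category.comp_id, Category.assoc]
      erw [pullback.lift_fst]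
      rw [pullback.diagonal_fst_assoc]
    · rw [Category.assoc, pullback.diagonal_snd, Category.comp_id, Category.assoc]
      erw [pullback.lift_snd]
      rw [pullback.diagonal_snd_assoc]
  refine ⟨⟨comm⟩, ⟨PullbackCone.IsLimit.mk _ (fun s => s.snd ≫ pullback.fst _ _) ?_ ?_ ?_⟩⟩
  · intro s
    have h1 := congrArg (fun t => t ≫ pullback.fst f f) s.condition
    simp only [Category.assoc, pullback.diagonal_fst, Category.comp_id] at h1
    rw [h1]
    erw [pullback.lift_fst]
    rw [Category.assoc]
  · intro s
    have h1 := congrArg (fun t => t ≫ pullback.fst f f) s.condition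
    have h2 := congrArg (fun t => t ≫ pullback.snd f f) s.condition
    simp only [Category.assoc, pullback.diagonal_fst, pullback.diagonal_snd,
      Category.comp_id] at h1 h2
    erw [pullback.lift_fst] at h1
    erw [pullback.lift_snd] at h2
    have huv : s.snd ≫ pullback.fst (pullback.snd f g) (pullback.snd f g) =
        s.snd ≫ pullback.snd (pullback.snd f g) (pullback.snd f g) := by
      apply pullback.hom_ext
      · rw [Category.assoc, Category.assoc, ← h1, ← h2]
      · rw [Category.assoc, Category.assoc]
        exact congrArg (fun t => s.snd ≫ t)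
          (pullback.condition (f := pullback.snd f g) (g := pullback.snd f g))
    apply pullback.hom_ext
    · rw [Category.assoc, Category.assoc, pullback.diagonal_fst, Category.comp_id]
    · rw [Category.assoc, Category.assoc, pullback.diagonal_snd, Category.comp_id, huv]
  · intro s m hm1 hm2
    rw [← hm2, Category.assoc, pullback.diagonal_fst, Category.comp_id]

/-- The pullback of the diagonal of `φ` along `t` is the equalizer of the two components. -/
theorem isPullback_diagonal_of_isLimit_fork {L Y T P : C} (φ : L ⟶ Y)
    (t : T ⟶ pullback.diagonalObj φ) (e : P ⟶ T)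
    (w : e ≫ (t ≫ pullback.fst φ φ) = e ≫ (t ≫ pullback.snd φ φ))
    (hl : IsLimit (Fork.ofι e w)) :
    IsPullback (e ≫ t ≫ pullback.fst φ φ) e (pullback.diagonal φ) t := by
  have comm : (e ≫ t ≫ pullback.fst φ φ) ≫ pullback.diagonal φ = e ≫ t := by
    apply pullback.hom_ext
    · rw [Category.assoc, pullback.diagonal_fst, Category.comp_id, Category.assoc]
    · rw [Category.assoc, pullback.diagonal_snd, Category.comp_id, w, Category.assoc]
  have hs : ∀ s : PullbackCone (pullback.diagonal φ) t,
      s.snd ≫ (t ≫ pullback.fst φ φ) = s.snd ≫ (t ≫ pullback.snd φ φ) := by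
    intro s
    have h1 := congrArg (fun m => m ≫ pullback.fst φ φ) s.condition
    have h2 := congrArg (fun m => m ≫ pullback.snd φ φ) s.condition
    simp only [Category.assoc, pullback.diagonal_fst, pullback.diagonal_snd,
      Category.comp_id] at h1 h2
    rw [← h1, ← h2]
  have hle : ∀ s : PullbackCone (pullback.diagonal φ) t,
      Fork.IsLimit.lift hl s.snd (hs s) ≫ e = s.snd := fun s => Fork.IsLimit.lift_ι' hl _ _
  refine ⟨⟨comm⟩, ⟨PullbackCone.IsLimit.mk _
    (fun s => Fork.IsLimit.lift hl s.snd (hs s)) ?_ ?_ ?_⟩⟩
  · intro s
    have h1 := congrArg (fun m => m ≫ pullback.fst φ φ) s.condition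
    simp only [Category.assoc, pullback.diagonal_fst, Category.comp_id] at h1
    rw [← Category.assoc, hle s, h1]
  · intro s
    exact hle s
  · intro s m hm1 hm2
    apply Fork.IsLimit.hom_ext hl
    exact hm2.trans (hle s).symm

end Groth.Agent.Lib.Helper14.Topos
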