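import Mathlib

/-!
# helper14: a local homomorphism of one-dimensional regular local domains which is nonzero on
cotangent spaces is flat and unramified
-/

set_option autoImplicit false
universe u
open IsLocalRing

namespace Groth.Agent.Lib.Helper14.EllTan

variable {A B : Type u} [CommRing A] [CommRing B] [IsLocalRing A] [IsLocalRing B] [IsDomain A]
  [IsDomain B] [IsNoetherianRing A] [IsNoetherianRing B]

theorem flat_and_map_eq_of_not_mem_sq
    (hA : Module.finrank (ResidueField A) (CotangentSpace A) ≤ 1)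
    (hB : Module.finrank (ResidueField B) (CotangentSpace B) ≤ 1)
    (ψ : A →+* B) [IsLocalHom ψ] (a : A) (ha : a ∈ maximalIdeal A)
    (h : ψ a ∉ maximalIdeal B ^ 2) :
    ψ.Flat ∧ (maximalIdeal A).map ψ = maximalIdeal B := by
  have hψa0 : ψ a ≠ 0 := by
    intro h0
    apply h
    rw [h0]
    exact Ideal.zero_mem _
  have hψam : ψ a ∈ maximalIdeal B := by
    rw [mem_maximalIdeal, mem_nonunits_iff] at ha ⊢
    intro hu
    exact ha (isUnit_of_map_unit ψ a hu)
  -- `m_B` is principal
  have hBp : (maximalIdeal B).IsPrincipal :=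
    ((tfae_of_isNoetherianRing_of_isLocalRing_of_isDomain (R := B)).out 5 4).mp hB
  obtain ⟨pi, hpi⟩ := hBp
  have hpim : pi ∈ maximalIdeal B := by
    rw [hpi]; exact Submodule.mem_span_singleton_self pi
  have hmap : (maximalIdeal A).map ψ = maximalIdeal B := by
    apply le_antisymm
    · rw [Ideal.map_le_iff_le_comap]
      intro x hx
      rw [Ideal.mem_comap, mem_maximalIdeal, mem_nonunits_iff] at *
      intro hu
      exact hx (isUnit_of_map_unit ψ x hu)
    · have h1 : ψ a ∈ Submodule.span B {pi} := by rw [← hpi]; exact hψam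
      obtain ⟨c, hc⟩ := Submodule.mem_span_singleton.mp h1
      have hcu : IsUnit c := by
        by_contra hcn
        apply h
        rw [← hc, pow_two]
        exact Ideal.mul_mem_mul ((mem_maximalIdeal c).mpr hcn) hpim
      obtain ⟨d, hd⟩ := hcu.exists_left_inv
      have hpi' : pi = d * ψ a := by
        rw [← hc, smul_eq_mul, ← mul_assoc, hd, one_mul]
      rw [hpi]
      change Ideal.span {pi} ≤ _
      rw [Ideal.span_singleton_le_iff_mem, hpi']
      exact Ideal.mul_mem_left _ _ (Ideal.mem_map_of_mem ψ ha)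
  refine ⟨?_, hmap⟩
  -- injectivity of `ψ`
  have hprimes' : IsIntegrallyClosed A ∧
      ∀ P : Ideal A, P ≠ ⊥ → P.IsPrime → P = maximalIdeal A :=
    ((tfae_of_isNoetherianRing_of_isLocalRing_of_isDomain (R := A)).out 5 3).mp hA
  have hprimes := hprimes'.2
  have hker : RingHom.ker ψ = ⊥ := by
    by_contra hne
    have hprime : (RingHom.ker ψ).IsPrime := RingHom.ker_isPrime ψ
    have := hprimes _ hne hprime
    have hak : a ∈ RingHom.ker ψ := by rw [this]; exact ha
    exact hψa0 ((RingHom.mem_ker).mp hak)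
  have hinj : Function.Injective ψ := (RingHom.injective_iff_ker_eq_bot ψ).mpr hker
  haveI : IsPrincipalIdealRing A :=
    ((tfae_of_isNoetherianRing_of_isLocalRing_of_isDomain (R := A)).out 5 0).mp hA
  letI := ψ.toAlgebra
  show Module.Flat A B
  rw [Module.Flat.flat_iff_torsion_eq_bot_of_isBezout]
  rw [eq_bot_iff]
  intro x hx
  obtain ⟨⟨r, hr⟩, hrx⟩ := (Submodule.mem_torsion_iff x).mp hx
  have hr0 : r ≠ 0 := nonZeroDivisors.ne_zero hr
  have h2 : ψ r * x = 0 := by
    have : (r : A) • x = 0 := hrx
    rwa [Algebra.smul_def] at this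
  have h3 : ψ r ≠ 0 := fun h0 => hr0 (hinj (h0.trans (map_zero ψ).symm))
  rcases mul_eq_zero.mp h2 with h4 | h4
  · exact absurd h4 h3
  · rw [h4]; exact Submodule.zero_mem _

end Groth.Agent.Lib.Helper14.EllTan
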