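import Mathlib
import Groth.Agent.Lib.Helper14.NthPow5
import Groth.Agent.Lib.Helper14.EllTan1

/-!
# helper14: the cotangent map at the unit of a homomorphism of group schemes over a field;
additivity; étaleness from a nonzero cotangent map in dimension one (for S12627)
-/

set_option autoImplicit false
universe u
open CategoryTheory MonoidalCategory CartesianMonoidalCategory MonObj GrpObj AlgebraicGeometry
  IsLocalRing
open Groth.Agent.Lib.helper15.NatGrp Groth.Agent.Lib.Helper14.NthPow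

namespace Groth.Agent.Lib.Helper14.EllTan

variable {k : Type u} [Field k] (G H : Over (Spec (CommRingCat.of k))) [GrpObj G] [GrpObj H]

theorem eta_eq_one : (η[G] : 𝟙_ _ ⟶ G) = 1 := by
  rw [Hom.one_def, toUnit_unique (toUnit _) (𝟙 _), Category.id_comp]

/-- the homomorphism of local rings at the units induced by a unit preserving morphism -/
theorem exists_psi_hom (f : G ⟶ H) (hf : η[G] ≫ f = η[H]) :
    ∃ ψ : BC H η[H] →ₐ[k] BC G η[G], jO G η[G] ≫ f = Th H η[H] ψ := by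
  apply exists_Th_of_located H (rho G η[G])
  have h1 : Zmap k (rho G η[G]) ≫ jO G η[G] = 1 := Th_k G (rho G η[G])
  rw [← Category.assoc, h1, Hom.one_def, Category.assoc, hf, ← Hom.one_def]

theorem x0_map (f : G ⟶ H) (hf : η[G] ≫ f = η[H]) :
    f.left (x0 G η[G]) = x0 H η[H] := by
  have h3 := congrArg (fun f => f.left) hf
  exact congr($h3 (closedPoint (CommRingCat.of k)))

/-- the stalk map at the unit, up to the identification of the stalks -/
theorem exists_stalkMap_eq_hom (f : G ⟶ H) (hf : η[G] ≫ f = η[H])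
    (ψ : BC H η[H] →ₐ[k] BC G η[G]) (hψ : jO G η[G] ≫ f = Th H η[H] ψ) :
    ∃ θ : BC H η[H] ≅ H.left.presheaf.stalk (f.left (x0 G η[G])),
      θ.hom ≫ f.left.stalkMap (x0 G η[G]) =
        CommRingCat.ofHom (ψ : BC H η[H] →+* BC G η[G]) := by
  obtain ⟨θ, hθ⟩ := exists_iso_of_eq H.left (x0 H η[H]) _ (x0_map G H f hf)
  refine ⟨θ, ?_⟩
  apply Spec.map_injective
  rw [← cancel_mono (j H η[H]), Spec.map_comp, Category.assoc]
  have h1 : Spec.map θ.hom ≫ j H η[H] = H.left.fromSpecStalk _ := hθ.symm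
  rw [h1, Scheme.SpecMap_stalkMap_fromSpecStalk]
  have h2 := congrArg (fun f => f.left) hψ
  exact h2

/-- the effect on tangent vectors -/
theorem Th_comp (f : G ⟶ H) (ψ : BC H η[H] →ₐ[k] BC G η[G])
    (hψ : jO G η[G] ≫ f = Th H η[H] ψ) {R : Type u} [CommRing R] [Algebra k R]
    (s : BC G η[G] →ₐ[k] R) : Th G η[G] s ≫ f = Th H η[H] (s.comp ψ) := by
  rw [← Zmap_Th, ← hψ]
  rfl

/-- **additivity of the cotangent map** -/
theorem psi_mul_apply (f f' : G ⟶ H) (ψ ψ' ψ'' : BC H η[H] →ₐ[k] BC G η[G])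
    (hψ : jO G η[G] ≫ f = Th H η[H] ψ) (hψ' : jO G η[G] ≫ f' = Th H η[H] ψ')
    (hψ'' : jO G η[G] ≫ (f * f') = Th H η[H] ψ'')
    (s : BC G η[G] →ₐ[k] DualNumber k) (b : BC H η[H]) (hb : b ∈ maximalIdeal (BC H η[H])) :
    s (ψ'' b) = s (ψ b) + s (ψ' b) := by
  refine Th_mul_apply H (s.comp ψ) (s.comp ψ') (s.comp ψ'') ?_ b hb
  rw [← Th_comp G H f ψ hψ, ← Th_comp G H f' ψ' hψ', ← Th_comp G H (f * f') ψ'' hψ'',
    MonObj.comp_mul]

/-- the difference `ψ'' - ψ - ψ'` takes `m` into `m²` -/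
theorem psi_mul_mem_sq (f f' : G ⟶ H) (ψ ψ' ψ'' : BC H η[H] →ₐ[k] BC G η[G])
    (hψ : jO G η[G] ≫ f = Th H η[H] ψ) (hψ' : jO G η[G] ≫ f' = Th H η[H] ψ')
    (hψ'' : jO G η[G] ≫ (f * f') = Th H η[H] ψ'')
    (b : BC H η[H]) (hb : b ∈ maximalIdeal (BC H η[H])) :
    ψ'' b - ψ b - ψ' b ∈ maximalIdeal (BC G η[G]) ^ 2 := by
  have hmem : ∀ χ : BC H η[H] →ₐ[k] BC G η[G], χ b ∈ maximalIdeal (BC G η[G]) := by
    intro χ
    rw [mem_maximalIdeal_iff k (rho G η[G]), algHom_comp_eq k (rho H η[H]) (rho G η[G]) χ b]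
    exact (mem_maximalIdeal_iff k (rho H η[H]) b).mp hb
  by_contra hne
  have hz : ψ'' b - ψ b - ψ' b ∈ maximalIdeal (BC G η[G]) :=
    Ideal.sub_mem _ (Ideal.sub_mem _ (hmem ψ'') (hmem ψ)) (hmem ψ')
  obtain ⟨s, hs⟩ := exists_dualNumber_hom k (rho G η[G]) _ hz hne
  apply hs
  rw [map_sub, map_sub, psi_mul_apply G H f f' ψ ψ' ψ'' hψ hψ' hψ'' s b hb]
  ring

end Groth.Agent.Lib.Helper14.EllTan
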