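import Mathlib
import Groth.Agent.Lib.Helper5.GrpHomog
import Groth.Agent.Lib.Helper5.MaxOpenFppf1
import Groth.Agent.Lib.Helper3.IrredDim
import Groth.Agent.Lib.Helper17.RegSmoothSch2

/-!
# helper14: a group scheme locally of finite type over a field which is smooth near the unit is
smooth; `dim G = dim O_{G,e}`; smooth iff `O_{G,e}` regular (for S7822)
-/

set_option autoImplicit false
universe u
open CategoryTheory MonoidalCategory CartesianMonoidalCategory MonObj GrpObj AlgebraicGeometry
  IsLocalRing Limits

namespace Groth.Agent.Lib.Helper14.GrpSmooth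

variable {k : Type u} [Field k] (G : Over (Spec (CommRingCat.of k))) [GrpObj G]

/-- `(μ, pr₁)` is also a pullback square -/
theorem isPullback_mul_fst :
    IsPullback (μ[G]).left (fst G G).left G.hom G.hom := by
  have sq0 : IsPullback (fst G G).left (snd G G).left G.hom G.hom :=
    IsPullback.of_hasPullback G.hom G.hom
  let sh := Groth.Agent.Lib.helper5.GrpHomog.shear G
  have h1 : sh.inv ≫ fst G G = fst G G := by
    rw [Iso.inv_comp_eq]
    show _ = lift (fst G G) μ ≫ fst G G
    rw [lift_fst]
  have h2 : sh.inv ≫ μ[G] = snd G G := by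
    rw [Iso.inv_comp_eq]
    show _ = lift (fst G G) μ ≫ snd G G
    rw [lift_snd]
  have sq1 : IsPullback (fst G G).left (μ[G]).left G.hom G.hom := by
    refine IsPullback.of_iso sq0 ((Over.forget _).mapIso sh.symm) (Iso.refl _) (Iso.refl _)
      (Iso.refl _) ?_ ?_ (by simp) (by simp)
    · rw [Iso.refl_hom, Category.comp_id]
      show (fst G G).left = (sh.inv ≫ fst G G).left
      rw [h1]
    · rw [Iso.refl_hom, Category.comp_id]
      show (snd G G).left = (sh.inv ≫ μ[G]).left
      rw [h2]
  exact sq1.flip

theorem mul_unit_section : lift (𝟙 G) (toUnit G ≫ η[G]) ≫ μ[G] = 𝟙 G := by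
  simp

/-- **smooth near the unit implies smooth** -/
theorem smooth_of_smooth_nhd_unit [LocallyOfFiniteType G.hom] (W : G.left.Opens)
    (hW : η[G].left (closedPoint k) ∈ W) (hs : Smooth (W.ι ≫ G.hom)) : Smooth G.hom := by
  haveI : LocallyOfFinitePresentation G.hom :=
    LocallyOfFinitePresentation.iff_locallyOfFiniteType.mpr inferInstance
  have sq := isPullback_mul_fst G
  let N := (snd G G).left ⁻¹ᵁ W
  refine Groth.Agent.Lib.helper5.MaxOpenFppf.smooth_of_isPullback_cover sq N.ι ?_ ?_
  · intro z
    let p : (G ⊗ G).left := (lift (𝟙 G) (toUnit G ≫ η[G])).left z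
    have hp : p ∈ N := by
      show (snd G G).left p ∈ W
      have h1 : (snd G G).left p = (lift (𝟙 G) (toUnit G ≫ η[G]) ≫ snd G G).left z := rfl
      rw [h1, lift_snd]
      haveI : Subsingleton ↥(𝟙_ (Over (Spec (CommRingCat.of k)))).left :=
        inferInstanceAs (Subsingleton (PrimeSpectrum k))
      have h2 : (toUnit G ≫ η[G]).left z = η[G].left (closedPoint k) := by
        show η[G].left ((toUnit G).left z) = _
        exact congrArg _ (Subsingleton.elim _ _)
      rw [h2]
      exact hW
    refine ⟨⟨p, hp⟩, ?_⟩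
    show (μ[G]).left p = z
    have h3 : (μ[G]).left p = (lift (𝟙 G) (toUnit G ≫ η[G]) ≫ μ[G]).left z := rfl
    rw [h3, mul_unit_section]
    rfl
  · -- `N → G` (first projection) is a base change of `W → Spec k`
    have sqA : IsPullback ((snd G G).left ∣_ W) N.ι W.ι (snd G G).left :=
      isPullback_morphismRestrict _ _
    have sqB : IsPullback (snd G G).left (fst G G).left G.hom G.hom :=
      (IsPullback.of_hasPullback G.hom G.hom).flip
    have sqC := sqA.paste_vert sqB
    exact MorphismProperty.of_isPullback (P := @Smooth) sqC hs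

/-- `dim G = dim O_{G,e}` -/
theorem dim_eq_ringKrullDim_stalk_unit [LocallyOfFiniteType G.hom] :
    topologicalKrullDim G.left =
      ringKrullDim (G.left.presheaf.stalk (η[G].left (closedPoint k))) := by
  set x := η[G].left (closedPoint k) with hx
  rw [← Groth.Agent.Lib.helper5.GrpHomog.localDim_eq_dim k G x]
  letI : G.left.Over (Spec (CommRingCat.of k)) := ⟨G.hom⟩
  haveI : LocallyOfFiniteType (G.left ↘ Spec (CommRingCat.of k)) := ‹LocallyOfFiniteType G.hom›
  obtain ⟨a, b, ha, hb, hab⟩ :=
    Groth.Agent.Lib.helper3.IrredDim.localDim_eq_trdeg_add_stalk k G.left x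
  have hsurj : Function.Surjective (Groth.Agent.Lib.helper17.RegSmooth.resMap G.hom x) :=
    Groth.Agent.Lib.helper17.RegSmooth.resMap_surjective_of_section G.hom η[G].left
      (Over.w η[G]) (closedPoint k)
  have ha0 : a = 0 := by
    letI := Curv2.resAlgebra k G.left x
    have hsurj' : Function.Surjective (algebraMap k (G.left.residueField x)) := hsurj
    haveI : Algebra.IsIntegral k (G.left.residueField x) :=
      Algebra.isIntegral_of_surjective hsurj'
    haveI : Algebra.IsAlgebraic k (G.left.residueField x) := Algebra.IsIntegral.isAlgebraic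
    have h0 : Algebra.trdeg k (G.left.residueField x) = 0 := _root_.trdeg_eq_zero
    rw [h0] at ha
    exact_mod_cast ha.symm
  rw [hab, hb, ha0, zero_add]

theorem main [LocallyOfFiniteType G.hom] :
    (topologicalKrullDim G.left ≤ ((Module.finrank (IsLocalRing.ResidueField (G.left.presheaf.stalk (η[G].left (IsLocalRing.closedPoint k))))
        (IsLocalRing.CotangentSpace (G.left.presheaf.stalk (η[G].left (IsLocalRing.closedPoint k)))) : ℕ∞) : WithBot ℕ∞)) ∧
    (Smooth G.hom ↔ topologicalKrullDim G.left = ((Module.finrank (IsLocalRing.ResidueField (G.left.presheaf.stalk (η[G].left (IsLocalRing.closedPoint k))))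
        (IsLocalRing.CotangentSpace (G.left.presheaf.stalk (η[G].left (IsLocalRing.closedPoint k)))) : ℕ∞) : WithBot ℕ∞)) ∧
    (Smooth G.hom ↔ ∃ U : G.left.Opens, η[G].left (IsLocalRing.closedPoint k) ∈ U ∧ Smooth (U.ι ≫ G.hom)) := by
  haveI : LocallyOfFinitePresentation G.hom :=
    LocallyOfFinitePresentation.iff_locallyOfFiniteType.mpr inferInstance
  haveI : IsLocallyNoetherian G.left := LocallyOfFiniteType.isLocallyNoetherian G.hom
  have hdim := dim_eq_ringKrullDim_stalk_unit G
  set x := η[G].left (closedPoint k) with hx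
  have hcast : ((Module.finrank (ResidueField (G.left.presheaf.stalk x))
      (CotangentSpace (G.left.presheaf.stalk x)) : ℕ∞) : WithBot ℕ∞) =
      ((Module.finrank (ResidueField (G.left.presheaf.stalk x))
      (CotangentSpace (G.left.presheaf.stalk x)) : ℕ) : WithBot ℕ∞) := rfl
  have h3 : Smooth G.hom ↔ ∃ U : G.left.Opens, x ∈ U ∧ Smooth (U.ι ≫ G.hom) := by
    constructor
    · intro h
      exact ⟨⊤, trivial, inferInstance⟩
    · rintro ⟨U, hxU, hU⟩
      exact smooth_of_smooth_nhd_unit G U hxU hU
  have hsm : Smooth G.hom ↔ x ∈ G.hom.smoothLocus := by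
    constructor
    · intro h
      rw [Scheme.Hom.smoothLocus_eq_top]
      trivial
    · intro h
      refine smooth_of_smooth_nhd_unit G G.hom.smoothLocus h ?_
      rw [← Scheme.Hom.smoothLocus_eq_top_iff, ← Scheme.Hom.preimage_smoothLocus_eq]
      exact Scheme.Opens.ι_preimage_self _
  have hreg : x ∈ G.hom.smoothLocus ↔ IsRegularLocalRing (G.left.presheaf.stalk x) :=
    Groth.Agent.Lib.helper17.RegSmooth.mem_smoothLocus_section_iff G.hom η[G].left
      (Over.w η[G]) (closedPoint k)
  refine ⟨?_, ?_, h3⟩
  · rw [hdim, hcast, ← IsLocalRing.spanFinrank_maximalIdeal_eq_finrank_cotangentSpace]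
    exact ringKrullDim_le_spanFinrank_maximalIdeal _
  · rw [hsm, hreg, IsRegularLocalRing.iff_finrank_cotangentSpace, hdim, hcast]
    exact eq_comm

end Groth.Agent.Lib.Helper14.GrpSmooth
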