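import Mathlib
import Groth.Agent.Lib.Helper14.EllTan2
import Groth.Agent.Lib.Helper14.GrpSmooth1

/-!
# helper14: a homomorphism of one-dimensional smooth integral group schemes over a field is étale
iff its cotangent map at the unit is nonzero (for S12627)
-/

set_option autoImplicit false
universe u
open CategoryTheory MonoidalCategory CartesianMonoidalCategory MonObj GrpObj AlgebraicGeometry
  IsLocalRing
open Groth.Agent.Lib.helper15.NatGrp Groth.Agent.Lib.Helper14.NthPow

namespace Groth.Agent.Lib.Helper14.EllTan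

variable {k : Type u} [Field k] (G H : Over (Spec (CommRingCat.of k))) [GrpObj G] [GrpObj H]

/-- the cotangent space at the unit of a smooth one-dimensional group is one-dimensional -/
theorem finrank_cotangent_eq_one [Smooth G.hom] (hdim : topologicalKrullDim G.left = 1) :
    Module.finrank (ResidueField (BC G η[G])) (CotangentSpace (BC G η[G])) = 1 := by
  haveI : LocallyOfFiniteType G.hom := inferInstance
  have h := ((Groth.Agent.Lib.Helper14.GrpSmooth.main G).2.1).mp inferInstance
  rw [hdim] at h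
  have h' : ((1 : ℕ∞) : WithBot ℕ∞) = ((Module.finrank (ResidueField (BC G η[G]))
      (CotangentSpace (BC G η[G])) : ℕ∞) : WithBot ℕ∞) := h
  have h2 : (1 : ℕ∞) = (Module.finrank (ResidueField (BC G η[G]))
      (CotangentSpace (BC G η[G])) : ℕ∞) := WithBot.coe_injective h'
  exact_mod_cast h2.symm

section crit

variable [LocallyOfFiniteType G.hom] [LocallyOfFiniteType H.hom] [IsIntegral G.left]
  [IsIntegral H.left]

/-- **étaleness from a nonzero cotangent map** -/
theorem etale_of_not_mem_sq
    (hG : Module.finrank (ResidueField (BC G η[G])) (CotangentSpace (BC G η[G])) ≤ 1)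
    (hH : Module.finrank (ResidueField (BC H η[H])) (CotangentSpace (BC H η[H])) ≤ 1)
    (f : G ⟶ H) [IsMonHom f] (ψ : BC H η[H] →ₐ[k] BC G η[G])
    (hψ : jO G η[G] ≫ f = Th H η[H] ψ) (b : BC H η[H]) (hb : b ∈ maximalIdeal (BC H η[H]))
    (hb2 : ψ b ∉ maximalIdeal (BC G η[G]) ^ 2) : Etale f.left := by
  haveI : IsLocallyNoetherian G.left := LocallyOfFiniteType.isLocallyNoetherian G.hom
  haveI : IsLocallyNoetherian H.left := LocallyOfFiniteType.isLocallyNoetherian H.hom
  haveI : LocallyOfFiniteType f.left := by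
    haveI : LocallyOfFiniteType (f.left ≫ H.hom) := by rw [Over.w]; infer_instance
    exact locallyOfFiniteType_of_comp _ H.hom
  have hf : η[G] ≫ f = η[H] := IsMonHom.one_hom f
  obtain ⟨θ, hθ⟩ := exists_stalkMap_eq_hom G H f hf ψ hψ
  set φ := f.left.stalkMap (x0 G η[G]) with hφ
  have hφψ : ∀ c : BC H η[H], φ.hom (θ.hom.hom c) = ψ c := fun c => congr($hθ c)
  let eθ : BC H η[H] ≃+* H.left.presheaf.stalk (f.left (x0 G η[G])) :=
    θ.commRingCatIsoToRingEquiv
  have heθ : ∀ c, eθ c = θ.hom.hom c := fun _ => rfl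
  -- `ψ` is local
  haveI hloc : IsLocalHom (ψ : BC H η[H] →+* BC G η[G]) := by
    constructor
    intro c hc
    by_contra hcn
    have h1 : c ∈ maximalIdeal (BC H η[H]) := (mem_maximalIdeal c).mpr hcn
    have h2 : ψ c ∈ maximalIdeal (BC G η[G]) := by
      rw [mem_maximalIdeal_iff k (rho G η[G]), algHom_comp_eq k (rho H η[H]) (rho G η[G]) ψ c]
      exact (mem_maximalIdeal_iff k (rho H η[H]) c).mp h1
    exact (mem_maximalIdeal _).mp h2 hc
  obtain ⟨hflat, hmap⟩ := flat_and_map_eq_of_not_mem_sq hH hG
    (ψ : BC H η[H] →+* BC G η[G]) b hb hb2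
  have hcomp : φ.hom = (ψ : BC H η[H] →+* BC G η[G]).comp (eθ.symm : _ →+* BC H η[H]) := by
    ext c
    obtain ⟨c', rfl⟩ := eθ.surjective c
    rw [RingHom.comp_apply, heθ, hφψ]
    show ψ c' = ψ (eθ.symm (eθ c'))
    rw [RingEquiv.symm_apply_apply]
  have hflat' : φ.hom.Flat := by
    rw [hcomp]
    exact RingHom.Flat.comp (RingHom.Flat.of_bijective eθ.symm.bijective) hflat
  have hmap' : (maximalIdeal (H.left.presheaf.stalk (f.left (x0 G η[G])))).map φ.hom =
      maximalIdeal (BC G η[G]) := by
    rw [hcomp, ← Ideal.map_map]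
    have h1 : (maximalIdeal (H.left.presheaf.stalk (f.left (x0 G η[G])))).map
        (eθ.symm : _ →+* BC H η[H]) = maximalIdeal (BC H η[H]) := by
      apply le_antisymm
      · rw [Ideal.map_le_iff_le_comap]
        intro x hx
        rw [Ideal.mem_comap, mem_maximalIdeal, mem_nonunits_iff] at *
        intro hu
        apply hx
        have := hu.map (eθ : BC H η[H] →+* H.left.presheaf.stalk (f.left (x0 G η[G])))
        simpa using this
      · intro y hy
        have h2 : eθ y ∈ maximalIdeal (H.left.presheaf.stalk (f.left (x0 G η[G]))) := by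
          rw [mem_maximalIdeal, mem_nonunits_iff] at *
          intro hu
          apply hy
          have := hu.map (eθ.symm : H.left.presheaf.stalk (f.left (x0 G η[G])) →+* BC H η[H])
          simpa using this
        have := Ideal.mem_map_of_mem (eθ.symm : _ →+* BC H η[H]) h2
        simpa using this
    rw [h1]
    exact hmap
  have hunr : φ.hom.FormallyUnramified := by
    rw [hφ, H18Stalk.stalk_unram_iff]
    refine ⟨hmap', ?_⟩
    have hsurj : Function.Surjective (f.left.residueFieldMap (x0 G η[G])).hom := by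
      intro c
      obtain ⟨d, rfl⟩ := IsLocalRing.residue_surjective c
      refine ⟨IsLocalRing.residue _ (θ.hom.hom (algebraMap k (BC H η[H]) (rho G η[G] d))), ?_⟩
      show IsLocalRing.ResidueField.map φ.hom (IsLocalRing.residue _ _) = _
      rw [IsLocalRing.ResidueField.map_residue, hφψ, AlgHom.commutes]
      symm
      rw [← sub_eq_zero, ← map_sub, IsLocalRing.residue_eq_zero_iff]
      exact sub_algebraMap_mem k (rho G η[G]) d
    letI := (f.left.residueFieldMap (x0 G η[G])).hom.toAlgebra
    constructor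
    · exact Module.Finite.of_surjective (Algebra.linearMap _ _) hsurj
    · rw [Algebra.isSeparable_def]
      intro y
      obtain ⟨x, rfl⟩ := hsurj y
      exact isSeparable_algebraMap x
  obtain ⟨V, hxV, hV⟩ := (H18Stalk.exists_etale_nhd_iff f.left (x0 G η[G])).mpr ⟨hflat', hunr⟩
  haveI : Nonempty V := ⟨⟨_, hxV⟩⟩
  exact etale_of_etale_nhd f V hV

omit [IsIntegral G.left] [IsIntegral H.left] in
/-- an étale morphism has a nonzero cotangent map when the source is not zero-dimensional at the
unit -/
theorem exists_not_mem_sq_of_etale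
    (hG : Module.finrank (ResidueField (BC G η[G])) (CotangentSpace (BC G η[G])) ≠ 0)
    (f : G ⟶ H) (hf : η[G] ≫ f = η[H]) [Etale f.left] (ψ : BC H η[H] →ₐ[k] BC G η[G])
    (hψ : jO G η[G] ≫ f = Th H η[H] ψ) :
    ∃ b ∈ maximalIdeal (BC H η[H]), ψ b ∉ maximalIdeal (BC G η[G]) ^ 2 := by
  haveI : IsLocallyNoetherian G.left := LocallyOfFiniteType.isLocallyNoetherian G.hom
  by_contra hcon
  push_neg at hcon
  obtain ⟨θ, hθ⟩ := exists_stalkMap_eq_hom G H f hf ψ hψ
  set φ := f.left.stalkMap (x0 G η[G]) with hφ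
  have hφψ : ∀ c : BC H η[H], φ.hom (θ.hom.hom c) = ψ c := fun c => congr($hθ c)
  let eθ : BC H η[H] ≃+* H.left.presheaf.stalk (f.left (x0 G η[G])) :=
    θ.commRingCatIsoToRingEquiv
  have heθ : ∀ c, eθ c = θ.hom.hom c := fun _ => rfl
  have hunr : φ.hom.FormallyUnramified := FormallyUnramified.stalkMap f.left (x0 G η[G])
  rw [hφ, H18Stalk.stalk_unram_iff] at hunr
  obtain ⟨hmap, -⟩ := hunr
  have hle : maximalIdeal (BC G η[G]) ≤ maximalIdeal (BC G η[G]) ^ 2 := by
    refine hmap.symm.le.trans ?_
    rw [Ideal.map_le_iff_le_comap]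
    intro a ha
    obtain ⟨c, rfl⟩ := eθ.surjective a
    rw [Ideal.mem_comap, heθ]
    have hc : c ∈ maximalIdeal (BC H η[H]) := by
      have := (mem_pow_iff_of_equiv eθ 1 c).mp (by rwa [pow_one])
      rwa [pow_one] at this
    exact (hφψ c).symm ▸ hcon c hc
  have hbot : maximalIdeal (BC G η[G]) = ⊥ := by
    refine Submodule.eq_bot_of_le_smul_of_le_jacobson_bot (maximalIdeal (BC G η[G])) _
      (IsNoetherian.noetherian _) ?_ (IsLocalRing.maximalIdeal_le_jacobson _)
    rw [smul_eq_mul, ← pow_two]
    exact hle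
  apply hG
  have hfield : IsField (BC G η[G]) := IsLocalRing.isField_iff_maximalIdeal_eq.mpr hbot
  exact (IsLocalRing.finrank_cotangentSpace_eq_zero_iff).mpr hfield

end crit

end Groth.Agent.Lib.Helper14.EllTan
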