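import Mathlib
import Groth.Agent.Lib.Helper14.EllTan3
import Groth.Agent.Lib.Helper14.AbVarComm

/-!
# helper14: the sum of a separable isogeny and a non-étale homomorphism of elliptic curves is a
separable isogeny (S12627)
-/

set_option autoImplicit false
universe u
open CategoryTheory MonoidalCategory CartesianMonoidalCategory MonObj GrpObj AlgebraicGeometry
  IsLocalRing
open Groth.Agent.Lib.helper15.NatGrp Groth.Agent.Lib.Helper14.NthPow

namespace Groth.Agent.Lib.Helper14.EllTan

variable {k : Type u} [Field k] (G H : Over (Spec (CommRingCat.of k))) [GrpObj G] [GrpObj H]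

/-- the product of two homomorphisms into a commutative group is a homomorphism -/
theorem isMonHom_mul [IsCommMonObj H] (f f' : G ⟶ H) [IsMonHom f] [IsMonHom f'] :
    IsMonHom (f * f') where
  one_hom := by
    rw [MonObj.comp_mul, IsMonHom.one_hom f, IsMonHom.one_hom f', eta_eq_one, _root_.one_mul]
  mul_hom := by
    letI := Hom.commMonoid (M := H) (X := G ⊗ G)
    have h1 : μ[G] ≫ f = (fst G G ≫ f) * (snd G G ≫ f) := by
      rw [IsMonHom.mul_hom f, Hom.mul_def]
      congr 1
    have h1' : μ[G] ≫ f' = (fst G G ≫ f') * (snd G G ≫ f') := by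
      rw [IsMonHom.mul_hom f', Hom.mul_def]
      congr 1
    have h2 : ((f * f') ⊗ₘ (f * f')) ≫ μ[H] =
        (fst G G ≫ (f * f')) * (snd G G ≫ (f * f')) := by
      rw [Hom.mul_def (fst G G ≫ (f * f'))]
      congr 1
    rw [h2, MonObj.comp_mul, h1, h1', MonObj.comp_mul, MonObj.comp_mul]
    exact mul_mul_mul_comm _ _ _ _

/-- **S12627** -/
theorem main [IsAlgClosed k] [IsProper G.hom] [Smooth G.hom] [IsIntegral G.left]
    (hG : topologicalKrullDim G.left = 1)
    [IsProper H.hom] [Smooth H.hom] [IsIntegral H.left] (hH : topologicalKrullDim H.left = 1)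
    (φ φ' : G ⟶ H) [IsMonHom φ] [IsMonHom φ'] [Etale φ.left]
    (hφ' : ¬ Etale φ'.left) :
    IsFinite (φ * φ').left ∧ Surjective (φ * φ').left ∧ Etale (φ * φ').left := by
  haveI : LocallyOfFiniteType G.hom := inferInstance
  haveI : LocallyOfFiniteType H.hom := inferInstance
  haveI : IsCommMonObj H := Groth.Agent.Lib.Helper14.AbVarComm.isCommMonObj H
  haveI := isMonHom_mul G H φ φ'
  have hGf := finrank_cotangent_eq_one G hG
  have hHf := finrank_cotangent_eq_one H hH
  obtain ⟨ψ, hψ⟩ := exists_psi_hom G H φ (IsMonHom.one_hom φ)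
  obtain ⟨ψ', hψ'⟩ := exists_psi_hom G H φ' (IsMonHom.one_hom φ')
  obtain ⟨ψ'', hψ''⟩ := exists_psi_hom G H (φ * φ') (IsMonHom.one_hom (φ * φ'))
  obtain ⟨b, hb, hb2⟩ := exists_not_mem_sq_of_etale G H (by rw [hGf]; exact one_ne_zero) φ
    (IsMonHom.one_hom φ) ψ hψ
  have hψ'sq : ψ' b ∈ maximalIdeal (BC G η[G]) ^ 2 := by
    by_contra hne
    exact hφ' (etale_of_not_mem_sq G H hGf.le hHf.le φ' ψ' hψ' b hb hne)
  have hsq := psi_mul_mem_sq G H φ φ' ψ ψ' ψ'' hψ hψ' hψ'' b hb
  have hb2'' : ψ'' b ∉ maximalIdeal (BC G η[G]) ^ 2 := by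
    intro hmem
    apply hb2
    have h1 : ψ b = ψ'' b - (ψ'' b - ψ b - ψ' b) - ψ' b := by ring
    rw [h1]
    exact Ideal.sub_mem _ (Ideal.sub_mem _ hmem hsq) hψ'sq
  have het : Etale (φ * φ').left :=
    etale_of_not_mem_sq G H hGf.le hHf.le (φ * φ') ψ'' hψ'' b hb hb2''
  haveI := het
  haveI : IsProper ((φ * φ').left ≫ H.hom) := by rw [Over.w]; infer_instance
  haveI : IsProper (φ * φ').left := IsProper.of_comp _ H.hom
  refine ⟨?_, ?_, het⟩
  · haveI : LocallyQuasiFinite (φ * φ').left := by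
      rw [HasRingHomProperty.iff_appLE (P := @LocallyQuasiFinite)]
      intro U V e
      have h1 := (φ * φ').left.finiteType_appLE U.2 V.2 e
      have h2 : ((φ * φ').left.appLE U V e).hom.FormallyUnramified :=
        HasRingHomProperty.appLE (P := @FormallyUnramified) (φ * φ').left inferInstance U V e
      algebraize [((φ * φ').left.appLE U.1 V.1 e).hom]
      exact (inferInstance : Algebra.QuasiFinite Γ(H.left, U.1) Γ(G.left, V.1))
    exact IsFinite.of_isProper_of_locallyQuasiFinite _
  · have hcl : IsClosed (Set.range (φ * φ').left) := (φ * φ').left.isClosedMap.isClosed_range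
    have hop : IsOpen (Set.range (φ * φ').left) := (φ * φ').left.isOpenMap.isOpen_range
    have hne : (Set.range (φ * φ').left).Nonempty := Set.range_nonempty _
    have := IsClopen.eq_univ ⟨hcl, hop⟩ hne
    exact ⟨Set.range_eq_univ.mp this⟩

end Groth.Agent.Lib.Helper14.EllTan
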