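import Mathlib
import Groth.Prelude.Def_AlgGrp
import Groth.Agent.Lib.Helper14.AlgClosedPts
import Groth.Agent.Lib.Helper14.FibreH0
import Groth.Agent.Lib.Helper17.SmoothSepPoints
import Groth.Agent.Lib.Helper1.SmoothReduced

/-!
# helper14: density of `K`-points (`K` separably closed and the scheme smooth, or `K` algebraically
closed and the scheme locally of finite type) and its consequences: morphisms from a reduced scheme
are determined by / factor through closed subschemes according to their `K`-points
-/

set_option autoImplicit false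
universe u
open CategoryTheory MonoidalCategory CartesianMonoidalCategory AlgebraicGeometry
  CategoryTheory.Limits

namespace Groth.Agent.Lib.Helper14.KPtsDense

variable {k : Type u} [Field k] (K : Type u) [Field K] [Algebra k K]

/-- `Spec K` over `Spec k` -/
noncomputable abbrev ptK : Over (Spec (CommRingCat.of k)) :=
  Over.mk (Spec.map (CommRingCat.ofHom (algebraMap k K)))

/-- every nonempty open of `W` contains the image of a `K`-point -/
def DenseKPts (W : Over (Spec (CommRingCat.of k))) : Prop :=
  ∀ U : Set W.left, IsOpen U → U.Nonempty →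
    ∃ w : ptK (k := k) K ⟶ W, w.left (IsLocalRing.closedPoint K) ∈ U

/-- smooth schemes have dense `K`-points for `K` separably closed -/
theorem denseKPts_of_smooth [IsSepClosed K] (W : Over (Spec (CommRingCat.of k))) [Smooth W.hom] :
    DenseKPts K W := by
  intro U hU hne
  obtain ⟨L, _, _, g, hfin, hsep, hg, hgU⟩ :=
    Groth.Agent.Lib.helper17.RegSmooth.exists_sep_point_of_smooth W.hom U hU hne
  let ψ : L →ₐ[k] K := IsSepClosed.lift
  have hw : (Spec.map (CommRingCat.ofHom ψ.toRingHom) ≫ g) ≫ W.hom =
      Spec.map (CommRingCat.ofHom (algebraMap k K)) := by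
    rw [Category.assoc, hg, ← Spec.map_comp]
    congr 1
    ext c
    exact ψ.commutes c
  refine ⟨Over.homMk (Spec.map (CommRingCat.ofHom ψ.toRingHom) ≫ g) hw, ?_⟩
  change (Spec.map (CommRingCat.ofHom ψ.toRingHom) ≫ g) (IsLocalRing.closedPoint K) ∈ U
  rw [Scheme.Hom.comp_apply]
  have : (Spec.map (CommRingCat.ofHom ψ.toRingHom)) (IsLocalRing.closedPoint K) =
      IsLocalRing.closedPoint L := Subsingleton.elim _ _
  rw [this]
  exact hgU

/-- schemes locally of finite type have dense `K`-points for `K` algebraically closed -/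
theorem denseKPts_of_locallyOfFiniteType [IsAlgClosed K] (W : Over (Spec (CommRingCat.of k)))
    [LocallyOfFiniteType W.hom] : DenseKPts K W := by
  intro U hU hne
  let Uo : W.left.Opens := ⟨U, hU⟩
  let P : Over (Spec (CommRingCat.of K)) :=
    Over.mk (pullback.snd (Uo.ι ≫ W.hom) (Spec.map (CommRingCat.ofHom (algebraMap k K))))
  haveI : LocallyOfFiniteType P.hom := inferInstanceAs (LocallyOfFiniteType (pullback.snd _ _))
  haveI : Surjective (Spec.map (CommRingCat.ofHom (algebraMap k K))) :=
    ⟨fun y => ⟨IsLocalRing.closedPoint K, Subsingleton.elim _ _⟩⟩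
  haveI : Surjective (pullback.fst (Uo.ι ≫ W.hom)
    (Spec.map (CommRingCat.ofHom (algebraMap k K)))) := inferInstance
  haveI : Nonempty P.left := by
    obtain ⟨x, hx⟩ := hne
    obtain ⟨p, -⟩ := (pullback.fst (Uo.ι ≫ W.hom)
      (Spec.map (CommRingCat.ofHom (algebraMap k K)))).surjective ⟨x, hx⟩
    exact ⟨p⟩
  obtain ⟨s⟩ := Groth.Agent.Lib.Helper14.AlgClosedPts.exists_point P
  have hs : s.left ≫ pullback.snd (Uo.ι ≫ W.hom)
      (Spec.map (CommRingCat.ofHom (algebraMap k K))) = 𝟙 _ := by
    have h1 := Over.w s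
    exact h1
  have hw : (s.left ≫ pullback.fst (Uo.ι ≫ W.hom)
      (Spec.map (CommRingCat.ofHom (algebraMap k K))) ≫ Uo.ι) ≫ W.hom =
      Spec.map (CommRingCat.ofHom (algebraMap k K)) := by
    rw [Category.assoc, Category.assoc, pullback.condition, ← Category.assoc, hs, Category.id_comp]
  refine ⟨Over.homMk (s.left ≫ pullback.fst (Uo.ι ≫ W.hom)
      (Spec.map (CommRingCat.ofHom (algebraMap k K))) ≫ Uo.ι) hw, ?_⟩
  change (s.left ≫ pullback.fst (Uo.ι ≫ W.hom)
      (Spec.map (CommRingCat.ofHom (algebraMap k K))) ≫ Uo.ι) (IsLocalRing.closedPoint K) ∈ U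
  rw [← Category.assoc, Scheme.Hom.comp_apply]
  exact (((s.left ≫ pullback.fst (Uo.ι ≫ W.hom)
      (Spec.map (CommRingCat.ofHom (algebraMap k K)))) (IsLocalRing.closedPoint K))).2

variable {K}

/-- a closed subscheme of a reduced scheme with dense `K`-points through which all `K`-points
factor is everything -/
theorem isIso_of_kpts_factor {W : Over (Spec (CommRingCat.of k))} [IsReduced W.left]
    (hW : DenseKPts K W) {Z : Scheme.{u}} (j : Z ⟶ W.left) [IsClosedImmersion j]
    (h : ∀ w : ptK (k := k) K ⟶ W, ∃ z : Spec (CommRingCat.of K) ⟶ Z, z ≫ j = w.left) :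
    IsIso j := by
  haveI : Surjective j := by
    refine ⟨fun x => ?_⟩
    by_contra hx
    have hcl : IsClosed (Set.range j) := j.isClosedEmbedding.isClosed_range
    obtain ⟨w, hw⟩ := hW (Set.range j)ᶜ hcl.isOpen_compl ⟨x, hx⟩
    obtain ⟨z, hz⟩ := h w
    apply hw
    rw [← hz]
    exact ⟨z (IsLocalRing.closedPoint K), rfl⟩
  exact isIso_of_isClosedImmersion_of_surjective j

/-- a morphism from a reduced scheme with dense `K`-points factors through a closed subscheme if
it does so on `K`-points -/
theorem exists_factor_of_kpts {W G H : Over (Spec (CommRingCat.of k))} [IsReduced W.left]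
    (hW : DenseKPts K W) (i : H ⟶ G) [IsClosedImmersion i.left] (c : W ⟶ G)
    (h : ∀ w : ptK (k := k) K ⟶ W, ∃ h' : ptK (k := k) K ⟶ H, w ≫ c = h' ≫ i) :
    ∃ c' : W ⟶ H, c' ≫ i = c := by
  haveI : IsIso (pullback.fst c.left i.left) := by
    apply isIso_of_kpts_factor hW
    intro w
    obtain ⟨h', hh'⟩ := h w
    refine ⟨pullback.lift w.left h'.left ?_, pullback.lift_fst _ _ _⟩
    rw [← Over.comp_left, ← Over.comp_left, hh']
  have hc : inv (pullback.fst c.left i.left) ≫ pullback.snd c.left i.left ≫ i.left = c.left := by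
    rw [← pullback.condition, IsIso.inv_hom_id_assoc]
  refine ⟨Over.homMk (inv (pullback.fst c.left i.left) ≫ pullback.snd c.left i.left) ?_, ?_⟩
  · rw [← Over.w i, Category.assoc, ← Category.assoc (pullback.snd c.left i.left),
      ← Category.assoc, hc, Over.w c]
  · ext1
    change (inv (pullback.fst c.left i.left) ≫ pullback.snd c.left i.left) ≫ i.left = c.left
    rw [Category.assoc, hc]

/-- two morphisms from a reduced scheme with dense `K`-points to a separated scheme agree if they
agree on `K`-points -/
theorem eq_of_kpts {W G : Over (Spec (CommRingCat.of k))} [IsReduced W.left]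
    (hW : DenseKPts K W) [IsSeparated G.hom] (u v : W ⟶ G)
    (h : ∀ w : ptK (k := k) K ⟶ W, w ≫ u = w ≫ v) : u = v := by
  haveI : IsIso (equalizer.ι u v).left := by
    apply isIso_of_kpts_factor hW
    intro w
    exact ⟨(equalizer.lift w (h w)).left, by rw [← Over.comp_left, equalizer.lift_ι]⟩
  haveI : IsIso (equalizer.ι u v) := by
    haveI : IsIso ((Over.forget _).map (equalizer.ι u v)) := ‹IsIso (equalizer.ι u v).left›
    exact isIso_of_reflects_iso (equalizer.ι u v) (Over.forget _)
  rw [← cancel_epi (equalizer.ι u v)]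
  exact equalizer.condition u v

theorem smooth_tensor {S : Scheme.{u}} (G H : Over S) [Smooth G.hom] [Smooth H.hom] :
    Smooth (G ⊗ H).hom := by
  have h1 : (G ⊗ H).hom = (snd G H).left ≫ H.hom := (Over.w (snd G H)).symm
  haveI : Smooth (snd G H).left := by
    change Smooth (pullback.snd G.hom H.hom); infer_instance
  rw [h1]
  infer_instance

theorem isReduced_tensor_of_smooth {S : Scheme.{u}} (G Y : Over S) [Smooth G.hom]
    [IsReduced Y.left] : IsReduced (G ⊗ Y).left := by
  haveI : Smooth (snd G Y).left := by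
    change Smooth (pullback.snd G.hom Y.hom); infer_instance
  exact Groth.Agent.H1.SmoothReduced.isReduced_of_smooth (snd G Y).left

theorem locallyOfFiniteType_tensor {S : Scheme.{u}} (G H : Over S) [LocallyOfFiniteType G.hom]
    [LocallyOfFiniteType H.hom] : LocallyOfFiniteType (G ⊗ H).hom := by
  have h1 : (G ⊗ H).hom = (snd G H).left ≫ H.hom := (Over.w (snd G H)).symm
  haveI : LocallyOfFiniteType (snd G H).left := by
    change LocallyOfFiniteType (pullback.snd G.hom H.hom); infer_instance
  rw [h1]
  infer_instance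

end Groth.Agent.Lib.Helper14.KPtsDense
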