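import Mathlib

/-!
Equalizer of two maps into an unramified-diagonal target; fibrewise connectedness argument
(helper14).  Used for: étale equivariant morphisms reflect fixed points.
-/

set_option autoImplicit false
universe u

namespace Groth.Agent.Lib.Helper14.EtaleFixed

open AlgebraicGeometry CategoryTheory Limits

/-- If the diagonal of `f` is an open immersion and `(φ, c)` lands pointwise in the diagonal, then
`φ = c`. -/
theorem eq_of_diag_range {X Y P : Scheme.{u}} (f : X ⟶ Y) [IsOpenImmersion (pullback.diagonal f)]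
    (φ c : P ⟶ X) (h : φ ≫ f = c ≫ f)
    (hr : ∀ p : P, (pullback.lift φ c h) p ∈ Set.range (pullback.diagonal f)) : φ = c := by
  have hsub : Set.range (pullback.lift φ c h) ⊆ Set.range (pullback.diagonal f) := by
    rintro _ ⟨p, rfl⟩; exact hr p
  let k := IsOpenImmersion.lift (pullback.diagonal f) (pullback.lift φ c h) hsub
  have hk : k ≫ pullback.diagonal f = pullback.lift φ c h := IsOpenImmersion.lift_fac _ _ _
  have h1 : φ = k := by
    have : k ≫ pullback.diagonal f ≫ pullback.fst f f = pullback.lift φ c h ≫ pullback.fst f f := by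
      rw [← Category.assoc, hk]
    rw [pullback.diagonal_fst, Category.comp_id, pullback.lift_fst] at this
    exact this.symm
  have h2 : c = k := by
    have : k ≫ pullback.diagonal f ≫ pullback.snd f f = pullback.lift φ c h ≫ pullback.snd f f := by
      rw [← Category.assoc, hk]
    rw [pullback.diagonal_snd, Category.comp_id, pullback.lift_snd] at this
    exact this.symm
  rw [h1, h2]

theorem lqf_of_etale {X Y : Scheme.{u}} (g : X ⟶ Y) [Etale g] : LocallyQuasiFinite g := by
  constructor
  intro U hU V hV e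
  have h := Etale.etale_appLE g hU hV e
  algebraize [(g.appLE U V e).hom]
  show Algebra.QuasiFinite _ _
  infer_instance

/-- `f` étale, `π : P ⟶ T` with a section `e` and connected fibres; a map `φ : P ⟶ X` which agrees
with `π ≫ ξ` after composing with `f` and along the section `e` equals `π ≫ ξ`. -/
theorem eq_of_connected_fibres {X Y P T : Scheme.{u}} (f : X ⟶ Y) [Etale f]
    (π : P ⟶ T) (e : T ⟶ P) (he : e ≫ π = 𝟙 T) (ξ : T ⟶ X) (φ : P ⟶ X)
    (hφ : φ ≫ f = π ≫ ξ ≫ f) (heφ : e ≫ φ = ξ)
    (hconn : ∀ τ : T, PreconnectedSpace (π.fiber τ)) : φ = π ≫ ξ := by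
  have hφ' : φ ≫ f = (π ≫ ξ) ≫ f := by rw [hφ, Category.assoc]
  refine eq_of_diag_range f φ (π ≫ ξ) hφ' fun p => ?_
  set τ : T := π p with hτ
  set j := T.fromSpecResidueField τ with hj
  obtain ⟨p', hp'⟩ : ∃ p' : ↥(pullback π j), (pullback.fst π j) p' = p := by
    have : p ∈ Set.range (π.fiberι τ) := by
      rw [π.range_fiberι τ]; exact rfl
    exact this
  have hconn' : PreconnectedSpace ↥(pullback π j) := hconn τ
  let ι : pullback π j ⟶ P := pullback.fst π j
  let q : pullback π j ⟶ Spec (T.residueField τ) := pullback.snd π j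
  have hcond : ι ≫ π = q ≫ j := pullback.condition
  let σ : Spec (T.residueField τ) ⟶ pullback f (j ≫ ξ ≫ f) :=
    pullback.lift (j ≫ ξ) (𝟙 _) (by simp)
  let ψ : pullback π j ⟶ pullback f (j ≫ ξ ≫ f) :=
    pullback.lift (ι ≫ φ) q (by rw [Category.assoc, hφ, reassoc_of% hcond])
  let ε : Spec (T.residueField τ) ⟶ pullback π j :=
    pullback.lift (j ≫ e) (𝟙 _) (by rw [Category.assoc, he]; simp)
  have hεψ : ε ≫ ψ = σ := by
    apply pullback.hom_ext
    · simp only [ε, ψ, σ, ι, Category.assoc, pullback.lift_fst]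
      rw [pullback.lift_fst_assoc, Category.assoc, heφ]
    · simp only [ε, ψ, σ, q, Category.assoc, pullback.lift_snd]
  let θ : pullback f (j ≫ ξ ≫ f) ⟶ pullback f f :=
    pullback.lift (pullback.fst _ _) (pullback.snd _ _ ≫ j ≫ ξ)
      (by rw [pullback.condition]; simp)
  have hιθ : ι ≫ pullback.lift φ (π ≫ ξ) hφ' = ψ ≫ θ := by
    apply pullback.hom_ext
    · simp only [ψ, θ, Category.assoc, pullback.lift_fst]
    · simp only [ψ, θ, Category.assoc, pullback.lift_snd, pullback.lift_snd_assoc]
      rw [reassoc_of% hcond]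
  have hσθ : σ ≫ θ = (j ≫ ξ) ≫ pullback.diagonal f := by
    apply pullback.hom_ext
    · simp only [σ, θ, Category.assoc, pullback.lift_fst, pullback.diagonal_fst, Category.comp_id]
    · simp only [σ, θ, Category.assoc, pullback.lift_snd, pullback.lift_snd_assoc,
        pullback.diagonal_snd, Category.comp_id, Category.id_comp]
  have hlqf : LocallyQuasiFinite (pullback.snd f (j ≫ ξ ≫ f)) := lqf_of_etale _
  have hdisc : DiscreteTopology ↥(pullback f (j ≫ ξ ≫ f)) := by
    rw [← isDiscrete_univ_iff]
    have := (pullback.snd f (j ≫ ξ ≫ f)).isDiscrete_preimage_singleton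
      (IsLocalRing.closedPoint (T.residueField τ))
    convert this
    ext z
    simp only [Set.mem_univ, Set.mem_preimage, Set.mem_singleton_iff, true_iff]
    exact Subsingleton.elim (α := PrimeSpectrum _) _ _
  have hconst : ψ p' = ψ (ε (IsLocalRing.closedPoint (T.residueField τ))) :=
    PreconnectedSpace.constant hconn' ψ.continuous
  refine ⟨(j ≫ ξ) (IsLocalRing.closedPoint (T.residueField τ)), ?_⟩
  rw [← Scheme.Hom.comp_apply, ← hσθ, ← hεψ, Scheme.Hom.comp_apply, Scheme.Hom.comp_apply,
    ← hconst, ← Scheme.Hom.comp_apply, ← hιθ, Scheme.Hom.comp_apply]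
  exact congrArg _ hp'

end Groth.Agent.Lib.Helper14.EtaleFixed
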