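import Mathlib
import Groth.Prelude.Def_SGA1
import Groth.Agent.Lib.Helper14.EtaleSubmDescent

/-!
Universally submersive morphisms with geometrically connected fibres: connectedness and full
faithfulness of base change on étale schemes (SGA1 IX 3.4) (helper14).
-/

set_option autoImplicit false
universe u

namespace Groth.Agent.Lib.Helper14.EtaleSubmDescent

open AlgebraicGeometry CategoryTheory Limits
open Groth.Agent.Lib.Helper14.EtaleFixed

instance univSubmersive_isStableUnderBaseChange' :
    (SGA1.UnivSubmersive : MorphismProperty Scheme.{u}).IsStableUnderBaseChange :=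
  MorphismProperty.universally_isStableUnderBaseChange _

section

variable {S' S : Scheme.{u}} (g : S' ⟶ S)
  (hconn : ∀ (K : Type u) [Field K] [IsAlgClosed K] (ξ : Spec (CommRingCat.of K) ⟶ S),
    ConnectedSpace ↑(pullback g ξ))

include hconn in
theorem connectedSpace_pullback_field (L : Type u) [Field L] (ξ : Spec (CommRingCat.of L) ⟶ S) :
    ConnectedSpace ↑(pullback g ξ) := by
  let K := AlgebraicClosure L
  let j : Spec (CommRingCat.of K) ⟶ Spec (CommRingCat.of L) :=
    Spec.map (CommRingCat.ofHom (algebraMap L K))
  haveI : Surjective j :=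
    ⟨fun x => ⟨IsLocalRing.closedPoint K, Subsingleton.elim (α := PrimeSpectrum L) _ _⟩⟩
  haveI := hconn K (j ≫ ξ)
  haveI : ConnectedSpace ↑(pullback (pullback.snd g ξ) j) := by
    rw [(pullbackLeftPullbackSndIso g ξ j).hom.homeomorph.connectedSpace_iff]
    infer_instance
  exact Function.Surjective.connectedSpace (f := (pullback.fst (pullback.snd g ξ) j))
    (pullback.fst (pullback.snd g ξ) j).surjective (pullback.fst (pullback.snd g ξ) j).continuous

include hconn in
theorem connectedSpace_fiber_of_isPullback {P X : Scheme.{u}} {π : P ⟶ X} {q : P ⟶ S'}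
    {a : X ⟶ S} (h : IsPullback π q a g) (x : X) : ConnectedSpace ↑(π.fiber x) := by
  have h1 : IsPullback (pullback.fst π (X.fromSpecResidueField x))
      (pullback.snd π (X.fromSpecResidueField x)) π (X.fromSpecResidueField x) :=
    IsPullback.of_hasPullback _ _
  have h2 := h1.paste_horiz h.flip
  haveI := connectedSpace_pullback_field g hconn (X.residueField x) (X.fromSpecResidueField x ≫ a)
  show ConnectedSpace ↑(pullback π (X.fromSpecResidueField x))
  rw [h2.isoPullback.hom.homeomorph.connectedSpace_iff]
  infer_instance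

include hconn in
theorem connectedSpace_of_univSubmersive (hg : SGA1.UnivSubmersive g) [ConnectedSpace S] :
    ConnectedSpace S' := by
  have hq : Topology.IsQuotientMap g := hg (𝟙 S') (𝟙 S) g (IsPullback.of_id_snd (f := g))
  have hfib : ∀ s : S, _root_.IsConnected (g ⁻¹' {s}) := by
    intro s
    haveI := connectedSpace_fiber_of_isPullback g hconn (IsPullback.of_id_snd (f := g)) s
    rw [← g.range_fiberι, ← Set.image_univ]
    exact isConnected_univ.image _ (g.fiberι _).continuous.continuousOn
  have := Topology.IsCoinducing.isConnected_preimage_of_isClosed hfib hq.isCoinducing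
    isClosed_univ isConnected_univ
  rw [Set.preimage_univ] at this
  exact connectedSpace_iff_univ.mpr this

include hconn in
/-- a map from the base change `X ×_S S'` to an étale `S`-scheme `Y` over `S` has equal
pullbacks to `(X ×_S S') ×_X (X ×_S S')`. -/
theorem fst_comp_eq_snd_comp {X Y : Scheme.{u}} (a : X ⟶ S) (c : Y ⟶ S) [Etale c]
    (ψ : pullback a g ⟶ Y) (hψ : ψ ≫ c = pullback.fst a g ≫ a) :
    pullback.fst (pullback.fst a g) (pullback.fst a g) ≫ ψ =
      pullback.snd (pullback.fst a g) (pullback.fst a g) ≫ ψ := by
  set pX := pullback.fst a g with hpX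
  set qX := pullback.snd a g with hqX
  set p₁ := pullback.fst pX pX with hp₁
  set p₂ := pullback.snd pX pX with hp₂
  have hsq1 : IsPullback p₂ p₁ pX pX := (IsPullback.of_hasPullback pX pX).flip
  have hsq2 : IsPullback qX pX g a := (IsPullback.of_hasPullback a g).flip
  have hsq : IsPullback p₁ (p₂ ≫ qX) (pX ≫ a) g := (hsq1.paste_horiz hsq2).flip
  have hcond : p₁ ≫ pX = p₂ ≫ pX := pullback.condition
  symm
  refine eq_of_connected_fibres c p₁ (pullback.lift (𝟙 _) (𝟙 _) rfl) (pullback.lift_fst _ _ _)
    ψ (p₂ ≫ ψ) ?_ ?_ ?_
  · rw [Category.assoc, hψ, reassoc_of% hcond]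
  · rw [← Category.assoc, pullback.lift_snd, Category.id_comp]
  · intro τ
    haveI := connectedSpace_fiber_of_isPullback g hconn hsq τ
    exact ConnectedSpace.toPreconnectedSpace

end

end Groth.Agent.Lib.Helper14.EtaleSubmDescent
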