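import Mathlib
import Groth.Prelude.Def_SchFin2

/-!
# helper14: étale covers on finite ringed posets — base-change lemmas, zero algebra, products
-/

set_option autoImplicit false
set_option linter.style.haveILetI false
universe u
open SchFin SchFin.RSpace CategoryTheory CategoryTheory.Limits TensorProduct

namespace Groth.Agent.Lib.Helper14.FEt

section BC

variable {R S : Type u} [CommRing R] [CommRing S] (g : R →+* S)

/-- base change of zero modules -/
theorem isBCAlong_of_subsingleton {M N : Type u} [AddCommGroup M] [AddCommGroup N] [Module R M]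
    [Module S N] [Subsingleton M] [Subsingleton N] (f : M →ₛₗ[g] N) : IsBCAlong g f := by
  unfold IsBCAlong
  letI : Algebra R S := g.toAlgebra
  letI : Module R N := Module.compHom N g
  haveI : IsScalarTower R S N := IsScalarTower.of_algebraMap_smul fun _ _ => rfl
  have hsub : ∀ x : S ⊗[R] M, x = 0 := by
    intro x
    induction x using TensorProduct.induction_on with
    | zero => rfl
    | tmul s m => rw [Subsingleton.elim m 0, TensorProduct.tmul_zero]
    | add a b ha hb => rw [ha, hb, add_zero]
  constructor
  · intro a b _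
    rw [hsub a, hsub b]
  · intro n
    exact ⟨0, Subsingleton.elim _ _⟩

/-- base change of binary products -/
theorem isBCAlong_prod {M N M' N' : Type u} [AddCommGroup M] [AddCommGroup N] [Module R M]
    [Module S N] [AddCommGroup M'] [AddCommGroup N'] [Module R M'] [Module S N']
    (f : M →ₛₗ[g] N) (f' : M' →ₛₗ[g] N') (F : M × M' →ₛₗ[g] N × N')
    (hF : ∀ x, F x = (f x.1, f' x.2)) (hf : IsBCAlong g f) (hf' : IsBCAlong g f') :
    IsBCAlong g F := by
  unfold IsBCAlong at hf hf' ⊢
  letI : Algebra R S := g.toAlgebra
  letI : Module R N := Module.compHom N g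
  letI : Module R N' := Module.compHom N' g
  haveI : IsScalarTower R S N := IsScalarTower.of_algebraMap_smul fun _ _ => rfl
  haveI : IsScalarTower R S N' := IsScalarTower.of_algebraMap_smul fun _ _ => rfl
  refine IsBaseChange.of_equiv
    (TensorProduct.prodRight R _ S M M' ≪≫ₗ hf.equiv.prodCongr hf'.equiv) ?_
  intro x
  simp only [LinearEquiv.trans_apply, TensorProduct.prodRight_tmul, LinearEquiv.prodCongr_apply,
    IsBaseChange.equiv_tmul, one_smul, LinearMap.coe_mk, AddHom.coe_mk, hF]

/-- base change of finite products -/
theorem isBCAlong_pi {ι : Type} [Finite ι] {M N : ι → Type u} [∀ i, AddCommGroup (M i)]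
    [∀ i, AddCommGroup (N i)] [∀ i, Module R (M i)] [∀ i, Module S (N i)]
    (f : ∀ i, M i →ₛₗ[g] N i) (F : (∀ i, M i) →ₛₗ[g] (∀ i, N i))
    (hF : ∀ x i, F x i = f i (x i)) (hf : ∀ i, IsBCAlong g (f i)) :
    IsBCAlong g F := by
  classical
  cases nonempty_fintype ι
  unfold IsBCAlong at hf ⊢
  letI : Algebra R S := g.toAlgebra
  letI : ∀ i, Module R (N i) := fun i => Module.compHom (N i) g
  haveI : ∀ i, IsScalarTower R S (N i) := fun i => IsScalarTower.of_algebraMap_smul fun _ _ => rfl
  refine IsBaseChange.of_equiv
    (TensorProduct.piRight R S _ M ≪≫ₗ LinearEquiv.piCongrRight fun i => (hf i).equiv) ?_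
  intro x
  funext i
  simp only [LinearEquiv.trans_apply, TensorProduct.piRight_apply, TensorProduct.piRightHom_tmul,
    LinearEquiv.piCongrRight_apply, IsBaseChange.equiv_tmul, one_smul, LinearMap.coe_mk,
    AddHom.coe_mk, hF]

end BC


section Punit

/-- the zero ring is étale over any ring -/
theorem etale_punit (R : Type u) [CommRing R] : Algebra.Etale R PUnit.{u + 1} := by
  have h1 : Algebra.FormallyEtale R PUnit.{u + 1} := by
    rw [Algebra.FormallyEtale.iff_comp_bijective]
    intro B _ _ I hI
    constructor
    · intro f g _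
      ext x
      have : x = 1 := Subsingleton.elim _ _
      rw [this, map_one, map_one]
    · intro f
      have h10 : (1 : B ⧸ I) = 0 := by
        have h1 := map_one f
        have h0 := map_zero f
        rw [Subsingleton.elim (1 : PUnit.{u + 1}) 0] at h1
        rw [← h1, h0]
      have h1I : (1 : B) ∈ I := Ideal.Quotient.eq_zero_iff_mem.mp (by simpa using h10)
      have hB : (1 : B) = 0 := by
        have h2 : (1 : B) * 1 ∈ I ^ 2 := by
          rw [pow_two]
          exact Ideal.mul_mem_mul h1I h1I
        rw [hI, mul_one] at h2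
        simpa using h2
      have hsub : Subsingleton B := subsingleton_of_zero_eq_one hB.symm
      refine ⟨{ toFun := fun _ => 0
                map_one' := Subsingleton.elim _ _
                map_mul' := fun _ _ => Subsingleton.elim _ _
                map_zero' := rfl
                map_add' := fun _ _ => Subsingleton.elim _ _
                commutes' := fun _ => Subsingleton.elim _ _ }, ?_⟩
      ext x
      have : Subsingleton (B ⧸ I) := subsingleton_of_zero_eq_one h10.symm
      exact Subsingleton.elim _ _
  have h2 : Algebra.FinitePresentation R PUnit.{u + 1} := by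
    refine Algebra.FinitePresentation.of_surjective (f := Algebra.ofId R PUnit.{u + 1})
      (fun x => ⟨0, Subsingleton.elim _ _⟩) ?_
    have : RingHom.ker (Algebra.ofId R PUnit.{u + 1}).toRingHom = ⊤ := by
      rw [Ideal.eq_top_iff_one]
      exact Subsingleton.elim _ _
    rw [this]
    exact ⟨{1}, by simp⟩
  exact ⟨h1, h2⟩

end Punit


section Alg

/-- the zero algebra -/
def zeroAlg (X : RSpace.{u}) : Alg X where
  carrier _ := PUnit.{u + 1}
  res _ := RingHom.id _
  res_algebraMap _ _ := rfl
  res_self _ _ := rfl
  res_comp _ _ _ := rfl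

theorem zeroAlg_isEtCover (X : RSpace.{u}) : (zeroAlg X).IsEtCover := by
  refine ⟨fun p q h => ?_, fun p => ⟨?_, ?_⟩⟩
  · have : Subsingleton ((zeroAlg X).toMod.carrier p) :=
      inferInstanceAs (Subsingleton PUnit.{u + 1})
    have : Subsingleton ((zeroAlg X).toMod.carrier q) :=
      inferInstanceAs (Subsingleton PUnit.{u + 1})
    exact isBCAlong_of_subsingleton _ _
  · exact (inferInstance : Module.Finite (X.ring p) PUnit.{u + 1})
  · exact etale_punit (X.ring p)

variable {X : RSpace.{u}}

/-- the product of a finite family of algebras -/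
def piAlg {ι : Type} (F : ι → Alg X) : Alg X where
  carrier p := ∀ i, (F i).carrier p
  res h := RingHom.pi fun i => ((F i).res h).comp (Pi.evalRingHom _ i)
  res_algebraMap h a := funext fun i => (F i).res_algebraMap h a
  res_self p b := funext fun i => (F i).res_self p (b i)
  res_comp h h' b := funext fun i => (F i).res_comp h h' (b i)

theorem piAlg_isEtCover {ι : Type} [Finite ι] (F : ι → Alg X) (hF : ∀ i, (F i).IsEtCover) :
    (piAlg F).IsEtCover := by
  refine ⟨fun p q h => ?_, fun p => ?_⟩
  · exact isBCAlong_pi (X.res h) (fun i => (F i).toMod.res h) _ (fun x i => rfl)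
      (fun i => (hF i).1 p q h)
  · have h1 : ∀ i, Module.Finite (X.ring p) ((F i).carrier p) := fun i => ((hF i).2 p).1
    have h2 : ∀ i, Algebra.Etale (X.ring p) ((F i).carrier p) := fun i => ((hF i).2 p).2
    exact ⟨inferInstanceAs (Module.Finite (X.ring p) (∀ i, (F i).carrier p)),
      inferInstanceAs (Algebra.Etale (X.ring p) (∀ i, (F i).carrier p))⟩

/-- the projection from a product -/
def piAlgProj {ι : Type} (F : ι → Alg X) (i : ι) : piAlg F ⟶ F i :=
  ⟨fun p => Pi.evalAlgHom (X.ring p) (fun i => (F i).carrier p) i, fun _ _ => rfl⟩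

/-- the map into a product -/
def piAlgLift {ι : Type} (F : ι → Alg X) {C : Alg X} (f : ∀ i, C ⟶ F i) : C ⟶ piAlg F :=
  ⟨fun p => AlgHom.pi fun i => (f i).app p,
    fun h b => funext fun i => (f i).compat h b⟩

end Alg

end Groth.Agent.Lib.Helper14.FEt
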