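import Mathlib

/-!
# helper14: geometric fibres of finite étale algebras as sets of algebra maps
-/

set_option autoImplicit false
set_option linter.style.haveILetI false
universe u
open TensorProduct

namespace Groth.Agent.Lib.Helper14.FEt

section Pt

variable {R : Type u} [CommRing R] {Ω : Type u} [Field Ω] [IsAlgClosed Ω] [Algebra R Ω]

/-- the `Ω`-algebra map `Ω ⊗ A → Ω` attached to an `R`-algebra map `A → Ω` -/
noncomputable def ptLift {A : Type u} [CommRing A] [Algebra R A] (φ : A →ₐ[R] Ω) :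
    Ω ⊗[R] A →ₐ[Ω] Ω :=
  Algebra.TensorProduct.lift (Algebra.ofId Ω Ω) φ fun _ _ => .all _ _

omit [IsAlgClosed Ω] in
theorem ptLift_tmul {A : Type u} [CommRing A] [Algebra R A] (φ : A →ₐ[R] Ω) (ω : Ω) (a : A) :
    ptLift φ (ω ⊗ₜ a) = ω * φ a := by
  unfold ptLift
  rw [Algebra.TensorProduct.lift_tmul]
  rfl

/-- geometric points of the fibre as algebra maps -/
noncomputable def ptEquiv (A : Type u) [CommRing A] [Algebra R A] [Module.Finite R A]
    [Algebra.Etale R A] : (A →ₐ[R] Ω) ≃ PrimeSpectrum (Ω ⊗[R] A) :=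
  (Algebra.TensorProduct.liftEquivRight R Ω A Ω).trans
    (Algebra.IsFiniteSplit.algHomEquivPrimeSpectrum Ω (Ω ⊗[R] A))

theorem ptEquiv_asIdeal {A : Type u} [CommRing A] [Algebra R A] [Module.Finite R A]
    [Algebra.Etale R A] (φ : A →ₐ[R] Ω) :
    (ptEquiv A φ).asIdeal = RingHom.ker (ptLift φ) := rfl

theorem ptEquiv_natural {A B : Type u} [CommRing A] [Algebra R A] [Module.Finite R A]
    [Algebra.Etale R A] [CommRing B] [Algebra R B] [Module.Finite R B]
    [Algebra.Etale R B] (f : A →ₐ[R] B) (φ : B →ₐ[R] Ω) :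
    PrimeSpectrum.comap (Algebra.TensorProduct.map (AlgHom.id Ω Ω) f).toRingHom (ptEquiv B φ) =
      ptEquiv A (φ.comp f) := by
  apply PrimeSpectrum.ext
  rw [ptEquiv_asIdeal]
  change Ideal.comap _ (ptEquiv B φ).asIdeal = _
  rw [ptEquiv_asIdeal]
  have hcomp : (ptLift φ).comp (Algebra.TensorProduct.map (AlgHom.id Ω Ω) f) =
      ptLift (φ.comp f) := by
    apply Algebra.TensorProduct.ext'
    intro ω a
    rw [AlgHom.comp_apply, Algebra.TensorProduct.map_tmul, ptLift_tmul, ptLift_tmul]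
    rfl
  ext t
  rw [Ideal.mem_comap, RingHom.mem_ker, RingHom.mem_ker, ← hcomp]
  rfl

/-- the fibre of the base ring is a point -/
theorem unique_spec_self : Nonempty (Unique (PrimeSpectrum (Ω ⊗[R] R))) := by
  have h : Unique (R →ₐ[R] Ω) :=
    { default := Algebra.ofId R Ω
      uniq := fun φ => AlgHom.ext fun r => φ.commutes r }
  exact ⟨(ptEquiv (Ω := Ω) R).symm.unique⟩

/-- the fibre of a tensor product is the product of the fibres -/
theorem spec_tensor_bijective (A B : Type u) [CommRing A] [Algebra R A] [Module.Finite R A]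
    [Algebra.Etale R A] [CommRing B] [Algebra R B] [Module.Finite R B] [Algebra.Etale R B]
    [Module.Finite R (A ⊗[R] B)] [Algebra.Etale R (A ⊗[R] B)] :
    Function.Bijective (fun 𝔭 : PrimeSpectrum (Ω ⊗[R] (A ⊗[R] B)) =>
      ((PrimeSpectrum.comap (Algebra.TensorProduct.map (AlgHom.id Ω Ω)
          (Algebra.TensorProduct.includeLeft : A →ₐ[R] A ⊗[R] B)).toRingHom 𝔭,
        PrimeSpectrum.comap (Algebra.TensorProduct.map (AlgHom.id Ω Ω)
          (Algebra.TensorProduct.includeRight : B →ₐ[R] A ⊗[R] B)).toRingHom 𝔭) :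
        PrimeSpectrum (Ω ⊗[R] A) × PrimeSpectrum (Ω ⊗[R] B))) := by
  constructor
  · intro 𝔭 𝔮 h
    obtain ⟨ψ, rfl⟩ := (ptEquiv (Ω := Ω) (A ⊗[R] B)).surjective 𝔭
    obtain ⟨χ, rfl⟩ := (ptEquiv (Ω := Ω) (A ⊗[R] B)).surjective 𝔮
    have h1 := congrArg Prod.fst h
    have h2 := congrArg Prod.snd h
    simp only at h1 h2
    rw [ptEquiv_natural, ptEquiv_natural] at h1 h2
    have e1 := (ptEquiv (Ω := Ω) A).injective h1
    have e2 := (ptEquiv (Ω := Ω) B).injective h2
    congr 1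
    apply Algebra.TensorProduct.ext'
    intro a b
    have e3 : (a ⊗ₜ[R] b : A ⊗[R] B) = (a ⊗ₜ 1) * (1 ⊗ₜ b) := by
      rw [Algebra.TensorProduct.tmul_mul_tmul, mul_one, one_mul]
    rw [e3, map_mul, map_mul]
    have e1' := AlgHom.congr_fun e1 a
    have e2' := AlgHom.congr_fun e2 b
    rw [AlgHom.comp_apply, AlgHom.comp_apply] at e1' e2'
    change ψ (a ⊗ₜ 1) = χ (a ⊗ₜ 1) at e1'
    change ψ (1 ⊗ₜ b) = χ (1 ⊗ₜ b) at e2'
    rw [e1', e2']
  · rintro ⟨𝔭, 𝔮⟩
    obtain ⟨φ, rfl⟩ := (ptEquiv (Ω := Ω) A).surjective 𝔭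
    obtain ⟨χ, rfl⟩ := (ptEquiv (Ω := Ω) B).surjective 𝔮
    refine ⟨ptEquiv (A ⊗[R] B) (Algebra.TensorProduct.productMap φ χ), ?_⟩
    simp only
    rw [ptEquiv_natural, ptEquiv_natural, Algebra.TensorProduct.productMap_left,
      Algebra.TensorProduct.productMap_right]

/-- the fibre of a quotient by the ideal generated by `u c - v c` is the equalizer of fibres -/
theorem spec_quot_injective {T : Type u} [CommRing T] [Algebra R T] [Module.Finite R T]
    [Algebra.Etale R T] (I : Ideal T) [Module.Finite R (T ⧸ I)] [Algebra.Etale R (T ⧸ I)] :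
    Function.Injective (PrimeSpectrum.comap (Algebra.TensorProduct.map (AlgHom.id Ω Ω)
      (Ideal.Quotient.mkₐ R I)).toRingHom) := by
  intro 𝔭 𝔮 h
  obtain ⟨ψ, rfl⟩ := (ptEquiv (Ω := Ω) (T ⧸ I)).surjective 𝔭
  obtain ⟨χ, rfl⟩ := (ptEquiv (Ω := Ω) (T ⧸ I)).surjective 𝔮
  rw [ptEquiv_natural, ptEquiv_natural] at h
  have e := (ptEquiv (Ω := Ω) T).injective h
  congr 1
  apply AlgHom.ext
  intro x
  obtain ⟨t, rfl⟩ := Ideal.Quotient.mk_surjective x
  exact AlgHom.congr_fun e t

theorem spec_quot_exists {C T : Type u} [CommRing C] [Algebra R C] [Module.Finite R C]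
    [Algebra.Etale R C] [CommRing T] [Algebra R T] [Module.Finite R T]
    [Algebra.Etale R T] (u v : C →ₐ[R] T) (I : Ideal T)
    (hI : I = Ideal.span (Set.range fun c : C => u c - v c))
    [Module.Finite R (T ⧸ I)] [Algebra.Etale R (T ⧸ I)]
    (𝔭 : PrimeSpectrum (Ω ⊗[R] T))
    (h : PrimeSpectrum.comap (Algebra.TensorProduct.map (AlgHom.id Ω Ω) u).toRingHom 𝔭 =
      PrimeSpectrum.comap (Algebra.TensorProduct.map (AlgHom.id Ω Ω) v).toRingHom 𝔭) :
    ∃ 𝔮 : PrimeSpectrum (Ω ⊗[R] (T ⧸ I)),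
      PrimeSpectrum.comap (Algebra.TensorProduct.map (AlgHom.id Ω Ω)
        (Ideal.Quotient.mkₐ R I)).toRingHom 𝔮 = 𝔭 := by
  obtain ⟨φ, rfl⟩ := (ptEquiv (Ω := Ω) T).surjective 𝔭
  rw [ptEquiv_natural, ptEquiv_natural] at h
  have e := (ptEquiv (Ω := Ω) C).injective h
  have hφ : ∀ a ∈ I, φ a = 0 := by
    intro a ha
    have hle : I ≤ RingHom.ker φ.toRingHom := by
      rw [hI, Ideal.span_le]
      rintro _ ⟨c, rfl⟩
      change φ (u c - v c) = 0
      rw [map_sub, sub_eq_zero]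
      exact AlgHom.congr_fun e c
    exact hle ha
  refine ⟨ptEquiv (T ⧸ I) (Ideal.Quotient.liftₐ I φ hφ), ?_⟩
  rw [ptEquiv_natural]
  congr 1

end Pt

section Pi

variable {R : Type u} [CommRing R] {Ω : Type u} [CommRing Ω] [Algebra R Ω]

/-- the fibre of a finite product is the disjoint union of the fibres -/
theorem spec_pi_bijective {ι : Type} [Finite ι] (A : ι → Type u) [∀ i, CommRing (A i)]
    [∀ i, Algebra R (A i)] :
    Function.Bijective (fun x : Σ i, PrimeSpectrum (Ω ⊗[R] A i) =>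
      (PrimeSpectrum.comap (Algebra.TensorProduct.map (AlgHom.id Ω Ω)
        (Pi.evalAlgHom R A x.1)).toRingHom x.2 : PrimeSpectrum (Ω ⊗[R] (∀ i, A i)))) := by
  classical
  haveI := Fintype.ofFinite ι
  let e : Ω ⊗[R] (∀ i, A i) ≃ₐ[Ω] (∀ i, Ω ⊗[R] A i) := Algebra.TensorProduct.piRight R Ω Ω A
  have he : ∀ (i : ι) (t : Ω ⊗[R] (∀ i, A i)),
      e t i = Algebra.TensorProduct.map (AlgHom.id Ω Ω) (Pi.evalAlgHom R A i) t := by
    intro i t
    induction t using TensorProduct.induction_on with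
    | zero => rw [map_zero, map_zero]; rfl
    | tmul ω f => rfl
    | add x y hx hy => rw [map_add, map_add, Pi.add_apply, hx, hy]
  have hfun : (fun x : Σ i, PrimeSpectrum (Ω ⊗[R] A i) =>
      (PrimeSpectrum.comap (Algebra.TensorProduct.map (AlgHom.id Ω Ω)
        (Pi.evalAlgHom R A x.1)).toRingHom x.2 : PrimeSpectrum (Ω ⊗[R] (∀ i, A i)))) =
      PrimeSpectrum.comap e.toRingEquiv.toRingHom ∘
        PrimeSpectrum.sigmaToPi (fun i => Ω ⊗[R] A i) := by
    funext x
    apply PrimeSpectrum.ext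
    ext t
    change Algebra.TensorProduct.map (AlgHom.id Ω Ω) (Pi.evalAlgHom R A x.1) t ∈ x.2.asIdeal ↔
      e t x.1 ∈ x.2.asIdeal
    rw [he]
  rw [hfun]
  refine Function.Bijective.comp (g := PrimeSpectrum.comap e.toRingEquiv.toRingHom) ?_
    (PrimeSpectrum.sigmaToPi_bijective (fun i => Ω ⊗[R] A i))
  exact (PrimeSpectrum.comapEquiv e.toRingEquiv).symm.bijective

end Pi

section Epi

variable {R : Type u} [CommRing R] {Ω : Type u} [Field Ω] [Algebra R Ω]

/-- a map with a linear retraction induces a surjection on fibres -/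
theorem spec_surjective_of_retraction {A B : Type u} [CommRing A] [Algebra R A] [CommRing B]
    [Algebra R B] [Module.Finite R B] (f : A →ₐ[R] B) (r : B →ₗ[R] A) (hr : ∀ a, r (f a) = a) :
    Function.Surjective (PrimeSpectrum.comap
      (Algebra.TensorProduct.map (AlgHom.id Ω Ω) f).toRingHom) := by
  apply RingHom.IsIntegral.comap_surjective
  · have h1 : ((Algebra.TensorProduct.map (AlgHom.id Ω Ω) f).toRingHom.comp
        (algebraMap Ω (Ω ⊗[R] A))).IsIntegral := by
      have : (Algebra.TensorProduct.map (AlgHom.id Ω Ω) f).toRingHom.comp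
          (algebraMap Ω (Ω ⊗[R] A)) = algebraMap Ω (Ω ⊗[R] B) := by
        ext ω
        exact (Algebra.TensorProduct.map (AlgHom.id Ω Ω) f).commutes ω
      rw [this]
      exact algebraMap_isIntegral_iff.mpr inferInstance
    exact RingHom.IsIntegral.tower_top _ _ h1
  · have hcomp : ∀ t : Ω ⊗[R] A, (LinearMap.lTensor Ω r)
        (Algebra.TensorProduct.map (AlgHom.id Ω Ω) f t) = t := by
      intro t
      induction t using TensorProduct.induction_on with
      | zero => rw [map_zero, map_zero]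
      | tmul ω a =>
        rw [Algebra.TensorProduct.map_tmul, LinearMap.lTensor_tmul, hr]
        rfl
      | add x y hx hy => rw [map_add, map_add, hx, hy]
    intro t t' htt'
    have := congrArg (LinearMap.lTensor Ω r) htt'
    change (LinearMap.lTensor Ω r) (Algebra.TensorProduct.map (AlgHom.id Ω Ω) f t) =
      (LinearMap.lTensor Ω r) (Algebra.TensorProduct.map (AlgHom.id Ω Ω) f t') at this
    rwa [hcomp, hcomp] at this

end Epi

end Groth.Agent.Lib.Helper14.FEt
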