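import Mathlib
import Groth.Prelude.Def_SchFin2

/-!
# helper14: retractions of faithful finite projective algebras; injective + equal ranks ⇒ bijective
-/

set_option autoImplicit false
set_option linter.style.haveILetI false
universe u
open SchFin SchFin.RSpace CategoryTheory TensorProduct

namespace Groth.Agent.Lib.Helper14.FEt

/-- A finite projective algebra with injective structure map admits a linear retraction. -/
theorem exists_retraction {A : Type u} [CommRing A] {B : Type u} [CommRing B] [Algebra A B]
    [Module.Finite A B] [Module.Projective A B] (hinj : Function.Injective (algebraMap A B)) :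
    ∃ r : B →ₗ[A] A, r 1 = 1 := by
  classical
  obtain ⟨n, f, g, -, -, hfg⟩ := Module.Finite.exists_comp_eq_id_of_projective A B
  have hfg' : ∀ x, f (g x) = x := fun x => LinearMap.congr_fun hfg x
  -- the trace ideal
  let c : Fin n → Fin n → A := fun k j => g (f (Pi.single k 1)) j
  let τ : Ideal A := Ideal.span (Set.range fun kj : Fin n × Fin n => c kj.1 kj.2)
  have hx2 : ∀ x : B, x = ∑ k, g x k • f (Pi.single k 1) := by
    intro x
    have h1 : g x = ∑ k, g x k • (Pi.single k 1 : Fin n → A) := by
      funext i
      simp [Finset.sum_apply, Pi.single_apply]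
    conv_lhs => rw [← hfg' x, h1]
    simp only [map_sum, map_smul]
  have hexp : ∀ (x : B) (j : Fin n), g x j = ∑ k, g x k * c k j := by
    intro x j
    conv_lhs => rw [hx2 x]
    simp only [map_sum, map_smul, Finset.sum_apply, Pi.smul_apply, smul_eq_mul, c]
  have hgτ : ∀ (x : B) (j : Fin n), g x j ∈ τ := by
    intro x j
    rw [hexp x j]
    exact Ideal.sum_mem _ fun k _ => Ideal.mul_mem_left _ _ (Ideal.subset_span ⟨(k, j), rfl⟩)
  have hτfg : τ.FG := ⟨(Finset.univ.image fun kj : Fin n × Fin n => c kj.1 kj.2), by
    simp [τ]⟩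
  have hτidem : IsIdempotentElem τ := by
    apply le_antisymm
    · exact Ideal.mul_le_right
    · rw [Ideal.span_le]
      rintro _ ⟨⟨k, j⟩, rfl⟩
      change c k j ∈ τ * τ
      have : c k j = ∑ l, g (f (Pi.single k 1)) l * c l j := hexp _ j
      rw [this]
      exact Ideal.sum_mem _ fun l _ =>
        Ideal.mul_mem_mul (hgτ _ l) (Ideal.subset_span ⟨(l, j), rfl⟩)
  obtain ⟨e', he', hτe'⟩ := (Ideal.isIdempotentElem_iff_of_fg τ hτfg).mp hτidem
  have he'τ : e' ∈ τ := by
    rw [hτe']
    exact Ideal.mem_span_singleton_self e'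
  have hact : ∀ x : B, e' • x = x := by
    intro x
    have h3 : ∀ t ∈ τ, e' * t = t := by
      intro t ht
      rw [hτe', Ideal.mem_span_singleton'] at ht
      obtain ⟨a, rfl⟩ := ht
      rw [mul_comm a e', ← mul_assoc, he'.eq]
    conv_lhs => rw [hx2 x]
    rw [Finset.smul_sum]
    conv_rhs => rw [hx2 x]
    refine Finset.sum_congr rfl fun k _ => ?_
    rw [smul_smul, h3 _ (hgτ x k)]
  have he1 : e' = 1 := by
    apply hinj
    have := hact 1
    rw [Algebra.smul_def, mul_one] at this
    rw [this, map_one]
  have h1τ : (1 : A) ∈ τ := he1 ▸ he'τ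
  obtain ⟨a, ha⟩ := (Submodule.mem_span_range_iff_exists_fun A).mp h1τ
  refine ⟨∑ kj : Fin n × Fin n, a kj •
    ((LinearMap.proj kj.2 ∘ₗ g) ∘ₗ LinearMap.mulLeft A (f (Pi.single kj.1 1))), ?_⟩
  rw [LinearMap.sum_apply]
  conv_rhs => rw [← ha]
  refine Finset.sum_congr rfl fun kj _ => ?_
  rw [LinearMap.smul_apply, LinearMap.comp_apply, LinearMap.mulLeft_apply, mul_one]
  rfl

/-- An injective map of finite étale algebras with the same ranks is bijective. -/
theorem bijective_of_injective_of_rank {R : Type u} [CommRing R] [IsNoetherianRing R]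
    {A B : Type u} [CommRing A] [CommRing B] [Algebra R A] [Algebra R B] [Module.Finite R A]
    [Algebra.Etale R A] [Module.Finite R B] [Algebra.Etale R B] (φ : A →ₐ[R] B)
    (hφ : Function.Injective φ)
    (hrank : ∀ P : PrimeSpectrum R, Module.rankAtStalk A P = Module.rankAtStalk B P) :
    Function.Bijective φ := by
  refine ⟨hφ, ?_⟩
  letI : Algebra A B := φ.toRingHom.toAlgebra
  haveI : IsScalarTower R A B := IsScalarTower.of_algebraMap_eq fun r => (φ.commutes r).symm
  haveI : Algebra.Etale A B := Algebra.Etale.of_restrictScalars R A B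
  haveI : Module.Finite A B := Module.Finite.of_restrictScalars_finite R A B
  haveI : IsNoetherianRing A := IsNoetherianRing.of_finite R A
  haveI : Module.FinitePresentation A B := Module.finitePresentation_of_finite A B
  haveI : Module.Flat A B := inferInstance
  haveI : Module.Projective A B := Module.Flat.projective_of_finitePresentation
  obtain ⟨r, hr⟩ := exists_retraction (A := A) (B := B) hφ
  have hrφ : ∀ a, r (φ a) = a := by
    intro a
    have : φ a = a • (1 : B) := by rw [Algebra.smul_def, mul_one]; rfl
    rw [this, map_smul, hr, smul_eq_mul, mul_one]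
  let r' : B →ₗ[R] A := r.restrictScalars R
  have hr' : ∀ b, r' b = r b := fun _ => rfl
  let K := LinearMap.ker r'
  have hK : ∀ b : B, b - φ (r b) ∈ K := by
    intro b
    change r' (b - φ (r b)) = 0
    rw [map_sub, hr', hr', hrφ, sub_self]
  let c : (A × K) →ₗ[R] B := φ.toLinearMap.coprod K.subtype
  have hc : ∀ x : A × K, c x = φ x.1 + x.2.1 := fun x => rfl
  have hcbij : Function.Bijective c := by
    constructor
    · rw [injective_iff_map_eq_zero]
      rintro ⟨a, k⟩ hak
      rw [hc] at hak
      have h1 := congrArg r hak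
      have hk : r k.1 = 0 := k.2
      rw [map_add, hrφ, hk, add_zero, map_zero] at h1
      dsimp only at h1
      subst h1
      rw [map_zero, zero_add] at hak
      exact Prod.ext rfl (Subtype.ext hak)
    · intro b
      refine ⟨(r b, ⟨b - φ (r b), hK b⟩), ?_⟩
      rw [hc]
      exact add_sub_cancel _ _
  let E : (A × K) ≃ₗ[R] B := LinearEquiv.ofBijective c hcbij
  haveI : Module.Flat R A := inferInstance
  haveI : Module.Flat R B := inferInstance
  let s : B →ₗ[R] K :=
    { toFun := fun b => ⟨b - φ (r b), hK b⟩
      map_add' := fun x y => Subtype.ext (by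
        change x + y - φ (r (x + y)) = (x - φ (r x)) + (y - φ (r y))
        rw [map_add, map_add]; abel)
      map_smul' := fun t x => Subtype.ext (by
        change t • x - φ (r (t • x)) = t • (x - φ (r x))
        have : r (t • x) = t • r x := r'.map_smul t x
        rw [this, map_smul, smul_sub]) }
  haveI : Module.Flat R K := by
    refine Module.Flat.of_retract (M := B) K.subtype s ?_
    ext k
    change (k.1 - φ (r k.1)) = k.1
    have hk : r k.1 = 0 := k.2
    rw [hk, map_zero, sub_zero]
  haveI : IsNoetherian R B := isNoetherian_of_isNoetherianRing_of_finite R B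
  haveI : Module.Finite R K := Module.IsNoetherian.finite R K
  have h1 : Module.rankAtStalk (R := R) (A × K) = Module.rankAtStalk B :=
    Module.rankAtStalk_eq_of_equiv E
  rw [Module.rankAtStalk_prod] at h1
  have h2 : Module.rankAtStalk (R := R) K = 0 := by
    funext P
    have := congrFun h1 P
    rw [Pi.add_apply, hrank P] at this
    simpa using this
  haveI : Subsingleton K := Module.rankAtStalk_eq_zero_iff_subsingleton.mp h2
  intro b
  refine ⟨r b, ?_⟩
  have : (⟨b - φ (r b), hK b⟩ : K) = 0 := Subsingleton.elim _ _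
  have := congrArg Subtype.val this
  exact (sub_eq_zero.mp this).symm

/-- A pointwise bijective morphism of étale covers is an isomorphism. -/
theorem isIso_of_bijective {X : RSpace.{u}} {A B : FEt X} (f : A ⟶ B)
    (h : ∀ p, Function.Bijective (f.hom.app p)) : IsIso f := by
  let E : ∀ p, A.obj.carrier p ≃ₐ[X.ring p] B.obj.carrier p := fun p =>
    AlgEquiv.ofBijective (f.hom.app p) (h p)
  have hE : ∀ p a, E p a = f.hom.app p a := fun _ _ => rfl
  let g : B ⟶ A := ObjectProperty.homMk
    ⟨fun p => (E p).symm.toAlgHom, fun {p q} hpq b => by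
      apply (h q).1
      change f.hom.app q (A.obj.res hpq ((E p).symm b)) = E q ((E q).symm (B.obj.res hpq b))
      rw [AlgEquiv.apply_symm_apply, ← f.hom.compat hpq, ← hE p, AlgEquiv.apply_symm_apply]⟩
  refine ⟨⟨g, ?_, ?_⟩⟩
  · apply ObjectProperty.hom_ext
    apply SchFin.Alg.hom_ext
    intro p
    apply AlgHom.ext
    intro a
    exact (E p).symm_apply_apply a
  · apply ObjectProperty.hom_ext
    apply SchFin.Alg.hom_ext
    intro p
    apply AlgHom.ext
    intro b
    exact (E p).apply_symm_apply b

end Groth.Agent.Lib.Helper14.FEt
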