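import Mathlib

/-!
# helper14: idempotents and finite étale algebras

* `exists_idempotent_annihilator`: the annihilator of a finite projective module is generated by an
  idempotent.
* `exists_idempotent_ker`: the kernel of a map of finite étale algebras over a Noetherian ring is
  generated by an idempotent.
* `etale_of_surjective_of_ker`: a quotient of an étale algebra by an idempotent is étale.
-/

set_option autoImplicit false
set_option linter.style.haveILetI false
universe u v

namespace Groth.Agent.Lib.Helper14.FEt

/-- The annihilator of a finite projective module is generated by an idempotent. -/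
theorem exists_idempotent_annihilator {A : Type u} [CommRing A] (M : Type v) [AddCommGroup M]
    [Module A M] [Module.Finite A M] [Module.Projective A M] :
    ∃ e : A, IsIdempotentElem e ∧ Module.annihilator A M = Ideal.span {e} := by
  classical
  obtain ⟨n, f, g, -, -, hfg⟩ := Module.Finite.exists_comp_eq_id_of_projective A M
  have hfg' : ∀ x, f (g x) = x := fun x => LinearMap.congr_fun hfg x
  -- the trace ideal
  let c : Fin n → Fin n → A := fun k j => g (f (Pi.single k 1)) j
  let τ : Ideal A := Ideal.span (Set.range fun kj : Fin n × Fin n => c kj.1 kj.2)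
  have hexp : ∀ (x : M) (j : Fin n), g x j = ∑ k, g x k * c k j := by
    intro x j
    have h1 : g x = ∑ k, g x k • (Pi.single k 1 : Fin n → A) := by
      funext i
      simp [Finset.sum_apply, Pi.single_apply]
    have h2 : x = ∑ k, g x k • f (Pi.single k 1) := by
      conv_lhs => rw [← hfg' x, h1]
      simp only [map_sum, map_smul]
    conv_lhs => rw [h2]
    simp only [map_sum, map_smul, Finset.sum_apply, Pi.smul_apply, smul_eq_mul, c]
  have hgτ : ∀ (x : M) (j : Fin n), g x j ∈ τ := by
    intro x j
    rw [hexp x j]
    exact Ideal.sum_mem _ fun k _ => Ideal.mul_mem_left _ _ (Ideal.subset_span ⟨(k, j), rfl⟩)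
  have hτfg : τ.FG := ⟨(Finset.univ.image fun kj : Fin n × Fin n => c kj.1 kj.2), by
    simp [τ]⟩
  have hτidem : IsIdempotentElem τ := by
    apply le_antisymm
    · exact Ideal.mul_le_right
    · rw [Ideal.span_le]
      rintro _ ⟨⟨k, j⟩, rfl⟩
      change c k j ∈ τ * τ
      have : c k j = ∑ l, g (f (Pi.single k 1)) l * c l j := hexp _ j
      rw [this]
      exact Ideal.sum_mem _ fun l _ =>
        Ideal.mul_mem_mul (hgτ _ l) (Ideal.subset_span ⟨(l, j), rfl⟩)
  obtain ⟨e', he', hτe'⟩ := (Ideal.isIdempotentElem_iff_of_fg τ hτfg).mp hτidem
  refine ⟨1 - e', he'.one_sub, ?_⟩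
  have he'τ : e' ∈ τ := by
    rw [hτe']
    exact Ideal.mem_span_singleton_self e'
  -- `e'` acts as the identity on `M`
  have hact : ∀ x : M, e' • x = x := by
    intro x
    have h2 : x = ∑ k, g x k • f (Pi.single k 1) := by
      have h1 : g x = ∑ k, g x k • (Pi.single k 1 : Fin n → A) := by
        funext i
        simp [Finset.sum_apply, Pi.single_apply]
      conv_lhs => rw [← hfg' x, h1]
      simp only [map_sum, map_smul]
    have h3 : ∀ t ∈ τ, e' * t = t := by
      intro t ht
      rw [hτe', Ideal.mem_span_singleton'] at ht
      obtain ⟨a, rfl⟩ := ht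
      rw [mul_comm a e', ← mul_assoc, he'.eq]
    conv_lhs => rw [h2]
    rw [Finset.smul_sum]
    conv_rhs => rw [h2]
    refine Finset.sum_congr rfl fun k _ => ?_
    rw [smul_smul, h3 _ (hgτ x k)]
  apply le_antisymm
  · intro a ha
    rw [Module.mem_annihilator] at ha
    rw [Ideal.mem_span_singleton']
    refine ⟨a, ?_⟩
    -- `a * e' = 0` since `a` kills `τ`
    have hakill : ∀ t ∈ τ, a * t = 0 := by
      intro t ht
      refine Submodule.span_induction (p := fun t _ => a * t = 0) ?_ ?_ ?_ ?_ ht
      · rintro _ ⟨⟨k, j⟩, rfl⟩
        change a * g (f (Pi.single k 1)) j = 0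
        have : a • g (f (Pi.single k 1)) = 0 := by
          rw [← map_smul, ha, map_zero]
        have := congrFun this j
        simpa using this
      · exact mul_zero a
      · intro x y _ _ hx hy
        rw [mul_add, hx, hy, add_zero]
      · intro r x _ hx
        rw [smul_eq_mul, mul_left_comm, hx, mul_zero]
    rw [mul_sub, mul_one, hakill e' he'τ, sub_zero]
  · rw [Ideal.span_le, Set.singleton_subset_iff]
    change (1 - e') ∈ Module.annihilator A M
    rw [Module.mem_annihilator]
    intro x
    rw [sub_smul, one_smul, hact, sub_self]


/-- The kernel of a map of finite étale algebras over a Noetherian ring is generated by an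
idempotent. -/
theorem exists_idempotent_ker {R : Type u} [CommRing R] [IsNoetherianRing R] {A B : Type u}
    [CommRing A] [CommRing B] [Algebra R A] [Algebra R B] [Module.Finite R A] [Algebra.Etale R A]
    [Module.Finite R B] [Algebra.Etale R B] (φ : A →ₐ[R] B) :
    ∃ e : A, IsIdempotentElem e ∧ RingHom.ker φ.toRingHom = Ideal.span {e} := by
  letI : Algebra A B := φ.toRingHom.toAlgebra
  haveI : IsScalarTower R A B := IsScalarTower.of_algebraMap_eq fun r => (φ.commutes r).symm
  haveI : Algebra.Etale A B := Algebra.Etale.of_restrictScalars R A B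
  haveI : Module.Finite A B := Module.Finite.of_restrictScalars_finite R A B
  haveI : IsNoetherianRing A := IsNoetherianRing.of_finite R A
  haveI : Module.FinitePresentation A B := Module.finitePresentation_of_finite A B
  haveI : Module.Flat A B := inferInstance
  haveI : Module.Projective A B := Module.Flat.projective_of_finitePresentation
  obtain ⟨e, he, hann⟩ := exists_idempotent_annihilator (A := A) B
  refine ⟨e, he, ?_⟩
  rw [← hann]
  ext a
  rw [RingHom.mem_ker, Module.mem_annihilator]
  constructor
  · intro h b
    rw [Algebra.smul_def]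
    change φ a * b = 0
    change φ a = 0 at h
    rw [h, zero_mul]
  · intro h
    have := h 1
    rw [Algebra.smul_def, mul_one] at this
    exact this

/-- A quotient of an étale algebra by an ideal generated by an idempotent is étale. -/
theorem etale_of_surjective_of_ker {R : Type u} [CommRing R] {A Q : Type u} [CommRing A]
    [CommRing Q] [Algebra R A] [Algebra R Q] [Algebra.Etale R A] (π : A →ₐ[R] Q)
    (hπ : Function.Surjective π) (e : A) (he : IsIdempotentElem e)
    (hker : RingHom.ker π.toRingHom = Ideal.span {e}) : Algebra.Etale R Q := by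
  letI : Algebra A Q := π.toRingHom.toAlgebra
  haveI : IsScalarTower R A Q := IsScalarTower.of_algebraMap_eq fun r => (π.commutes r).symm
  haveI : IsLocalization.Away (1 - e) Q :=
    IsLocalization.away_of_isIdempotentElem he.one_sub
      (by rw [sub_sub_cancel]; exact hker) hπ
  haveI : Algebra.Etale A Q := Algebra.Etale.of_isLocalizationAway (1 - e)
  exact Algebra.Etale.comp R A Q

end Groth.Agent.Lib.Helper14.FEt
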