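import Mathlib
import Groth.Prelude.Def_SchFin2
import Groth.Agent.Lib.Helper14.FEt2

/-!
# helper14: images of morphisms of étale covers
-/

set_option autoImplicit false
set_option linter.style.haveILetI false
universe u
open SchFin SchFin.RSpace CategoryTheory TensorProduct

namespace Groth.Agent.Lib.Helper14.FEt

section BC

variable {R S : Type u} [CommRing R] [CommRing S] (g : R →+* S)

/-- Flat base change of an image: if `α`, `β` are base changes along a flat `g`, `φ`, `φ'` are
compatible linear maps, and `Q`, `Q'` are embedded as the ranges of `φ`, `φ'`, then a compatible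
semilinear map `Q → Q'` is a base change. -/
theorem isBCAlong_range (hg : g.Flat) {M N M' N' Q Q' : Type u}
    [AddCommGroup M] [AddCommGroup N] [AddCommGroup M'] [AddCommGroup N'] [AddCommGroup Q]
    [AddCommGroup Q'] [Module R M] [Module R N] [Module S M'] [Module S N'] [Module R Q]
    [Module S Q'] (α : M →ₛₗ[g] M') (β : N →ₛₗ[g] N') (hα : IsBCAlong g α) (hβ : IsBCAlong g β)
    (φ : M →ₗ[R] N) (φ' : M' →ₗ[S] N') (hcomm : ∀ x, β (φ x) = φ' (α x))
    (ι : Q →ₗ[R] N) (ι' : Q' →ₗ[S] N') (hι : Function.Injective ι) (hι' : Function.Injective ι')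
    (hr : LinearMap.range ι = LinearMap.range φ) (hr' : LinearMap.range ι' = LinearMap.range φ')
    (ρ : Q →ₛₗ[g] Q') (hρ : ∀ x, ι' (ρ x) = β (ι x)) : IsBCAlong g ρ := by
  unfold IsBCAlong at hα hβ ⊢
  unfold RingHom.Flat at hg
  letI : Algebra R S := g.toAlgebra
  letI : Module R M' := Module.compHom M' g
  letI : Module R N' := Module.compHom N' g
  letI : Module R Q' := Module.compHom Q' g
  haveI : IsScalarTower R S M' := IsScalarTower.of_algebraMap_smul fun _ _ => rfl
  haveI : IsScalarTower R S N' := IsScalarTower.of_algebraMap_smul fun _ _ => rfl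
  haveI : IsScalarTower R S Q' := IsScalarTower.of_algebraMap_smul fun _ _ => rfl
  haveI : Module.Flat R S := hg
  -- the linearisation of `ρ`
  let ρl : Q →ₗ[R] Q' := { toFun := ρ, map_add' := ρ.map_add, map_smul' := ρ.map_smulₛₗ }
  let c : S ⊗[R] Q →ₗ[S] Q' := ρl.liftBaseChange S
  have hc : ∀ s q, c (s ⊗ₜ q) = s • ρ q := fun s q => rfl
  -- compatibility with the base change of `N`
  have hcompat : ∀ t : S ⊗[R] Q, hβ.equiv (ι.lTensor S t) = ι' (c t) := by
    intro t
    induction t using TensorProduct.induction_on with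
    | zero => simp
    | tmul s q =>
      rw [LinearMap.lTensor_tmul, hβ.equiv_tmul, hc, map_smul, hρ]
      rfl
    | add a b ha hb => rw [map_add, map_add, map_add, map_add, ha, hb]
  have hinj : Function.Injective c := by
    rw [injective_iff_map_eq_zero]
    intro t ht
    have h1 : hβ.equiv (ι.lTensor S t) = 0 := by rw [hcompat, ht, map_zero]
    have h2 : ι.lTensor S t = 0 := by
      rwa [LinearEquiv.map_eq_zero_iff] at h1
    exact (injective_iff_map_eq_zero _).mp
      (Module.Flat.lTensor_preserves_injective_linearMap (M := S) ι hι) t h2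
  have hsurj : Function.Surjective c := by
    have key : ∀ m' : M', ∃ t : S ⊗[R] Q, ι' (c t) = φ' m' := by
      intro m'
      refine hα.inductionOn m' (fun m' => ∃ t : S ⊗[R] Q, ι' (c t) = φ' m') ?_ ?_ ?_ ?_
      · exact ⟨0, by simp⟩
      · intro m
        have hm : φ m ∈ LinearMap.range ι := by
          rw [hr]
          exact ⟨m, rfl⟩
        obtain ⟨q, hq⟩ := hm
        refine ⟨1 ⊗ₜ q, ?_⟩
        rw [hc, one_smul, hρ, hq]
        exact hcomm m
      · rintro s n ⟨t, ht⟩
        exact ⟨s • t, by rw [map_smul, map_smul, ht, map_smul]⟩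
      · rintro n n' ⟨t, ht⟩ ⟨t', ht'⟩
        exact ⟨t + t', by rw [map_add, map_add, ht, ht', map_add]⟩
    intro y
    have hy : ι' y ∈ LinearMap.range φ' := by
      rw [← hr']
      exact ⟨y, rfl⟩
    obtain ⟨m', hm'⟩ := hy
    obtain ⟨t, ht⟩ := key m'
    exact ⟨t, hι' (by rw [ht, hm'])⟩
  refine IsBaseChange.of_equiv (LinearEquiv.ofBijective c ⟨hinj, hsurj⟩) ?_
  intro x
  change c (1 ⊗ₜ x) = ρ x
  rw [hc, one_smul]

end BC


section Img

variable {X : RSpace.{u}}

/-- the image of a morphism of algebras -/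
def imgAlg {A B : Alg X} (f : A ⟶ B) : Alg X where
  carrier p := ↥(f.app p).range
  res {p q} h := RingHom.codRestrict ((B.res h).comp (f.app p).range.val.toRingHom)
    (f.app q).range (by
      rintro ⟨_, a, rfl⟩
      exact ⟨A.res h a, (f.compat h a).symm⟩)
  res_algebraMap h a := Subtype.ext (B.res_algebraMap h a)
  res_self p b := Subtype.ext (B.res_self p b.1)
  res_comp h h' b := Subtype.ext (B.res_comp h h' b.1)

/-- the surjection onto the image -/
def imgAlgProj {A B : Alg X} (f : A ⟶ B) : A ⟶ imgAlg f :=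
  ⟨fun p => (f.app p).rangeRestrict, fun h b => Subtype.ext (f.compat h b)⟩

/-- the inclusion of the image -/
def imgAlgIncl {A B : Alg X} (f : A ⟶ B) : imgAlg f ⟶ B :=
  ⟨fun p => (f.app p).range.val, fun _ _ => rfl⟩

theorem imgAlg_isEtCover (hX : X.IsFinSp) {A B : Alg X} (hA : A.IsEtCover) (hB : B.IsEtCover)
    (f : A ⟶ B) : (imgAlg f).IsEtCover := by
  refine ⟨fun p q h => ?_, fun p => ?_⟩
  · refine isBCAlong_range (X.res h) (hX.2 p q h) (A.toMod.res h) (B.toMod.res h) (hA.1 p q h)
      (hB.1 p q h) (f.app p).toLinearMap (f.app q).toLinearMap (fun x => f.compat h x)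
      (f.app p).range.val.toLinearMap (f.app q).range.val.toLinearMap Subtype.val_injective
      Subtype.val_injective ?_ ?_ ((imgAlg f).toMod.res h) (fun x => rfl)
    · ext y
      constructor
      · rintro ⟨⟨_, a, rfl⟩, rfl⟩
        exact ⟨a, rfl⟩
      · rintro ⟨a, rfl⟩
        exact ⟨⟨_, a, rfl⟩, rfl⟩
    · ext y
      constructor
      · rintro ⟨⟨_, a, rfl⟩, rfl⟩
        exact ⟨a, rfl⟩
      · rintro ⟨a, rfl⟩
        exact ⟨⟨_, a, rfl⟩, rfl⟩
  · haveI := hX.1 p
    haveI := (hA.2 p).1
    haveI := (hA.2 p).2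
    haveI := (hB.2 p).1
    haveI := (hB.2 p).2
    constructor
    · exact Module.Finite.of_surjective (f.app p).rangeRestrict.toLinearMap
        (f.app p).rangeRestrict_surjective
    · obtain ⟨e, he, hker⟩ := exists_idempotent_ker (R := X.ring p) (f.app p)
      refine etale_of_surjective_of_ker (R := X.ring p) (f.app p).rangeRestrict
        (f.app p).rangeRestrict_surjective e he ?_
      rw [← hker]
      ext a
      rw [RingHom.mem_ker, RingHom.mem_ker]
      constructor
      · intro h
        exact congrArg Subtype.val h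
      · intro h
        exact Subtype.ext h

end Img

end Groth.Agent.Lib.Helper14.FEt
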