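import Mathlib
import Groth.Prelude.Def_SchFin2
import Groth.Agent.Lib.Helper14.FEt3

/-!
# helper14: kernels under flat base change, retracts of base changes, direct factors
-/

set_option autoImplicit false
set_option linter.style.haveILetI false
universe u
open SchFin SchFin.RSpace CategoryTheory TensorProduct

namespace Groth.Agent.Lib.Helper14.FEt

section BC

variable {R S : Type u} [CommRing R] [CommRing S] (g : R →+* S)

/-- Flat base change of a kernel: every element of the kernel upstairs is a combination of images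
of elements of the kernel downstairs. -/
theorem mem_span_of_mem_ker (hg : g.Flat) {M N M' N' : Type u}
    [AddCommGroup M] [AddCommGroup N] [AddCommGroup M'] [AddCommGroup N']
    [Module R M] [Module R N] [Module S M'] [Module S N']
    (α : M →ₛₗ[g] M') (β : N →ₛₗ[g] N') (hα : IsBCAlong g α) (hβ : IsBCAlong g β)
    (φ : M →ₗ[R] N) (φ' : M' →ₗ[S] N') (hcomm : ∀ x, β (φ x) = φ' (α x))
    (y : M') (hy : φ' y = 0) :
    y ∈ Submodule.span S (α '' (LinearMap.ker φ : Set M)) := by
  unfold IsBCAlong at hα hβ
  unfold RingHom.Flat at hg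
  letI : Algebra R S := g.toAlgebra
  letI : Module R M' := Module.compHom M' g
  letI : Module R N' := Module.compHom N' g
  haveI : IsScalarTower R S M' := IsScalarTower.of_algebraMap_smul fun _ _ => rfl
  haveI : IsScalarTower R S N' := IsScalarTower.of_algebraMap_smul fun _ _ => rfl
  haveI : Module.Flat R S := hg
  obtain ⟨t, rfl⟩ := hα.equiv.surjective y
  have hcompat : ∀ t : S ⊗[R] M, hβ.equiv (φ.lTensor S t) = φ' (hα.equiv t) := by
    intro t
    induction t using TensorProduct.induction_on with
    | zero => simp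
    | tmul s m =>
      rw [LinearMap.lTensor_tmul, hβ.equiv_tmul, hα.equiv_tmul, map_smul]
      congr 1
      exact hcomm m
    | add a b ha hb => rw [map_add, map_add, map_add, map_add, ha, hb]
  have h1 : φ.lTensor S t = 0 := by
    have : hβ.equiv (φ.lTensor S t) = 0 := by rw [hcompat, hy]
    rwa [LinearEquiv.map_eq_zero_iff] at this
  have hex : Function.Exact ((LinearMap.ker φ).subtype.lTensor S) (φ.lTensor S) :=
    Module.Flat.lTensor_exact S (LinearMap.exact_subtype_ker_map φ)
  have hmem : ∀ t' : S ⊗[R] (LinearMap.ker φ),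
      hα.equiv ((LinearMap.ker φ).subtype.lTensor S t') ∈
        Submodule.span S (α '' (LinearMap.ker φ : Set M)) := by
    intro t'
    induction t' using TensorProduct.induction_on with
    | zero => simp
    | tmul s k =>
      rw [LinearMap.lTensor_tmul, hα.equiv_tmul]
      exact Submodule.smul_mem _ _ (Submodule.subset_span ⟨k.1, k.2, rfl⟩)
    | add a b ha hb =>
      rw [map_add, map_add]
      exact Submodule.add_mem _ ha hb
  obtain ⟨t', rfl⟩ := (hex t).mp h1
  exact hmem t'

/-- A retract of a base change is a base change. -/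
theorem isBCAlong_retract {M M' Q Q' : Type u} [AddCommGroup M] [AddCommGroup M'] [AddCommGroup Q]
    [AddCommGroup Q'] [Module R M] [Module S M'] [Module R Q] [Module S Q']
    (α : M →ₛₗ[g] M') (hα : IsBCAlong g α)
    (π : M →ₗ[R] Q) (σ : Q →ₗ[R] M) (hπσ : ∀ x, π (σ x) = x)
    (π' : M' →ₗ[S] Q') (σ' : Q' →ₗ[S] M') (hπσ' : ∀ x, π' (σ' x) = x)
    (ρ : Q →ₛₗ[g] Q') (h1 : ∀ m, ρ (π m) = π' (α m)) (h2 : ∀ q, α (σ q) = σ' (ρ q)) :
    IsBCAlong g ρ := by
  unfold IsBCAlong at hα ⊢
  letI : Algebra R S := g.toAlgebra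
  letI : Module R M' := Module.compHom M' g
  letI : Module R Q' := Module.compHom Q' g
  haveI : IsScalarTower R S M' := IsScalarTower.of_algebraMap_smul fun _ _ => rfl
  haveI : IsScalarTower R S Q' := IsScalarTower.of_algebraMap_smul fun _ _ => rfl
  let ρl : Q →ₗ[R] Q' := { toFun := ρ, map_add' := ρ.map_add, map_smul' := ρ.map_smulₛₗ }
  let c : S ⊗[R] Q →ₗ[S] Q' := ρl.liftBaseChange S
  have hc : ∀ s q, c (s ⊗ₜ q) = s • ρ q := fun s q => rfl
  have e1 : ∀ t : S ⊗[R] M, c (π.lTensor S t) = π' (hα.equiv t) := by
    intro t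
    induction t using TensorProduct.induction_on with
    | zero => simp
    | tmul s m =>
      rw [LinearMap.lTensor_tmul, hc, hα.equiv_tmul, map_smul, h1]
      rfl
    | add a b ha hb => rw [map_add, map_add, map_add, map_add, ha, hb]
  have e2 : ∀ t : S ⊗[R] Q, σ' (c t) = hα.equiv (σ.lTensor S t) := by
    intro t
    induction t using TensorProduct.induction_on with
    | zero => simp
    | tmul s q =>
      rw [LinearMap.lTensor_tmul, hc, hα.equiv_tmul, map_smul, ← h2]
      rfl
    | add a b ha hb => rw [map_add, map_add, map_add, map_add, ha, hb]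
  have hbij : Function.Bijective c := by
    constructor
    · intro t t' htt'
      have h3 : σ.lTensor S t = σ.lTensor S t' := by
        apply hα.equiv.injective
        rw [← e2, ← e2, htt']
      have h4 := congrArg (π.lTensor S) h3
      have h5 : ∀ t : S ⊗[R] Q, π.lTensor S (σ.lTensor S t) = t := by
        intro t
        rw [← LinearMap.comp_apply, ← LinearMap.lTensor_comp]
        have : π ∘ₗ σ = LinearMap.id := LinearMap.ext hπσ
        rw [this, LinearMap.lTensor_id, LinearMap.id_apply]
      rwa [h5, h5] at h4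
    · intro y
      refine ⟨π.lTensor S (hα.equiv.symm (σ' y)), ?_⟩
      rw [e1, LinearEquiv.apply_symm_apply, hπσ']
  refine IsBaseChange.of_equiv (LinearEquiv.ofBijective c hbij) ?_
  intro x
  change c (1 ⊗ₜ x) = ρ x
  rw [hc, one_smul]

end BC


section Idem

variable {A : Type u} [CommRing A]

theorem idem_unique {e e' : A} (he : IsIdempotentElem e) (he' : IsIdempotentElem e')
    (h : Ideal.span {e} = Ideal.span {e'}) : e = e' := by
  have h1 : e ∈ Ideal.span {e'} := h ▸ Ideal.mem_span_singleton_self e
  have h2 : e' ∈ Ideal.span {e} := h.symm ▸ Ideal.mem_span_singleton_self e'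
  rw [Ideal.mem_span_singleton'] at h1 h2
  obtain ⟨a, ha⟩ := h1
  obtain ⟨b, hb⟩ := h2
  have h3 : e * e' = e := by rw [← ha, mul_assoc, he'.eq]
  have h4 : e' * e = e' := by rw [← hb, mul_assoc, he.eq]
  rw [← h3, mul_comm, h4]

theorem annihilator_span_idem {e : A} (he : IsIdempotentElem e) :
    (Ideal.span {e} : Ideal A).annihilator = Ideal.span {1 - e} := by
  ext a
  rw [Submodule.mem_annihilator, Ideal.mem_span_singleton']
  constructor
  · intro h
    refine ⟨a, ?_⟩
    have := h e (Ideal.mem_span_singleton_self e)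
    rw [smul_eq_mul] at this
    rw [mul_sub, mul_one, this, sub_zero]
  · rintro ⟨b, rfl⟩ k hk
    rw [Ideal.mem_span_singleton'] at hk
    obtain ⟨c, rfl⟩ := hk
    rw [smul_eq_mul]
    have : (1 - e) * e = 0 := by rw [sub_mul, one_mul, he.eq, sub_self]
    calc b * (1 - e) * (c * e) = b * c * ((1 - e) * e) := by ring
      _ = 0 := by rw [this, mul_zero]

end Idem

end Groth.Agent.Lib.Helper14.FEt
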