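import Mathlib
import Groth.Prelude.Def_SchFin2
import Groth.Agent.Lib.Helper14.FEt4

/-!
# helper14: the complementary direct factor of a morphism of étale covers
-/

set_option autoImplicit false
set_option linter.style.haveILetI false
universe u
open SchFin SchFin.RSpace CategoryTheory TensorProduct

namespace Groth.Agent.Lib.Helper14.FEt

section Comp

variable {X : RSpace.{u}}

/-- kernel of `f` at `q` is spanned over the ring of `q` by restrictions of the kernel at `p` -/
theorem ker_mem_span (hX : X.IsFinSp) {A B : Alg X} (hA : A.IsQcoh) (hB : B.IsQcoh) (f : A ⟶ B)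
    {p q : X.pt} (h : p ≤ q) (y : A.carrier q) (hy : f.app q y = 0) :
    y ∈ Submodule.span (X.ring q)
      ((A.toMod.res h) '' (LinearMap.ker (f.app p).toLinearMap : Set (A.carrier p))) :=
  mem_span_of_mem_ker (X.res h) (hX.2 p q h) (A.toMod.res h) (B.toMod.res h) (hA p q h)
    (hB p q h) (f.app p).toLinearMap (f.app q).toLinearMap (fun x => f.compat h x) y hy

/-- restriction maps the annihilator of the kernel into the annihilator of the kernel -/
theorem res_mem_annihilator (hX : X.IsFinSp) {A B : Alg X} (hA : A.IsQcoh) (hB : B.IsQcoh)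
    (f : A ⟶ B) {p q : X.pt} (h : p ≤ q) (a : A.carrier p)
    (ha : a ∈ (RingHom.ker (f.app p).toRingHom).annihilator) :
    A.res h a ∈ (RingHom.ker (f.app q).toRingHom).annihilator := by
  rw [Submodule.mem_annihilator] at ha ⊢
  intro y hy
  have hy' : f.app q y = 0 := hy
  have hmem := ker_mem_span hX hA hB f h y hy'
  rw [smul_eq_mul]
  refine Submodule.span_induction (p := fun y _ => A.res h a * y = 0) ?_ ?_ ?_ ?_ hmem
  · rintro _ ⟨k, hk, rfl⟩
    have hk' : k ∈ RingHom.ker (f.app p).toRingHom := hk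
    have := ha k hk'
    rw [smul_eq_mul] at this
    change A.res h a * A.res h k = 0
    rw [← map_mul, this, map_zero]
  · exact mul_zero _
  · intro x y _ _ hx hy
    rw [mul_add, hx, hy, add_zero]
  · intro s x _ hx
    change A.res h a * (s • (x : A.carrier q)) = 0
    rw [mul_smul_comm, hx, smul_zero]

/-- the complementary factor: quotient by the annihilator of the kernel -/
def compAlg (hX : X.IsFinSp) {A B : Alg X} (hA : A.IsQcoh) (hB : B.IsQcoh) (f : A ⟶ B) :
    Alg X where
  carrier p := A.carrier p ⧸ (RingHom.ker (f.app p).toRingHom).annihilator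
  res {p q} h := Ideal.quotientMap _ (A.res h) (fun a ha => res_mem_annihilator hX hA hB f h a ha)
  res_algebraMap {p q} h a := by
    change Ideal.quotientMap _ (A.res h) _ (Ideal.Quotient.mk _ (algebraMap _ _ a)) =
      Ideal.Quotient.mk _ (algebraMap _ _ (X.res h a))
    rw [Ideal.quotientMap_mk, A.res_algebraMap]
  res_self p b := by
    obtain ⟨a, rfl⟩ := Ideal.Quotient.mk_surjective b
    rw [Ideal.quotientMap_mk, A.res_self]
  res_comp {p q s} h h' b := by
    obtain ⟨a, rfl⟩ := Ideal.Quotient.mk_surjective b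
    rw [Ideal.quotientMap_mk, Ideal.quotientMap_mk, Ideal.quotientMap_mk, A.res_comp]

/-- the projection onto the complementary factor -/
def compAlgProj (hX : X.IsFinSp) {A B : Alg X} (hA : A.IsQcoh) (hB : B.IsQcoh) (f : A ⟶ B) :
    A ⟶ compAlg hX hA hB f :=
  ⟨fun p => Ideal.Quotient.mkₐ (X.ring p) _, fun _ _ => rfl⟩

/-- compatible idempotent generators of the kernels -/
theorem exists_kerIdem (hX : X.IsFinSp) {A B : Alg X} (hA : A.IsEtCover) (hB : B.IsEtCover)
    (f : A ⟶ B) :
    ∃ e : ∀ p, A.carrier p, (∀ p, IsIdempotentElem (e p)) ∧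
      (∀ p, RingHom.ker (f.app p).toRingHom = Ideal.span {e p}) ∧
      ∀ (p q : X.pt) (h : p ≤ q), A.res h (e p) = e q := by
  have hex : ∀ p, ∃ e : A.carrier p, IsIdempotentElem e ∧
      RingHom.ker (f.app p).toRingHom = Ideal.span {e} := by
    intro p
    haveI := hX.1 p
    haveI := (hA.2 p).1
    haveI := (hA.2 p).2
    haveI := (hB.2 p).1
    haveI := (hB.2 p).2
    exact exists_idempotent_ker (R := X.ring p) (f.app p)
  choose e he hker using hex
  refine ⟨e, he, hker, fun p q h => ?_⟩
  have hidem : IsIdempotentElem (A.res h (e p)) := by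
    unfold IsIdempotentElem
    rw [← map_mul, (he p).eq]
  refine idem_unique hidem (he q) ?_
  rw [← hker q]
  apply le_antisymm
  · rw [Ideal.span_le, Set.singleton_subset_iff]
    change f.app q (A.res h (e p)) = 0
    rw [← f.compat h]
    have : e p ∈ RingHom.ker (f.app p).toRingHom := by
      rw [hker p]; exact Ideal.mem_span_singleton_self _
    have h0 : f.app p (e p) = 0 := this
    rw [h0, map_zero]
  · intro y hy
    have hy' : f.app q y = 0 := hy
    have hmem := ker_mem_span hX hA.1 hB.1 f h y hy'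
    refine Submodule.span_induction (p := fun y _ => y ∈ Ideal.span {A.res h (e p)}) ?_ ?_ ?_ ?_ hmem
    · rintro _ ⟨k, hk, rfl⟩
      have hk' : k ∈ RingHom.ker (f.app p).toRingHom := hk
      rw [hker p] at hk'
      obtain ⟨c, hc⟩ := (Ideal.mem_span_singleton' (α := A.carrier p)).mp hk'
      change A.res h k ∈ _
      rw [← hc, map_mul]
      exact Ideal.mul_mem_left _ _ (Ideal.mem_span_singleton_self _)
    · exact Submodule.zero_mem _
    · intro x y _ _ hx hy
      exact Submodule.add_mem _ hx hy
    · intro s x _ hx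
      change (s • (x : A.carrier q)) ∈ _
      rw [Algebra.smul_def]
      exact Ideal.mul_mem_left _ _ hx

theorem idem_mul_sub_mem {R : Type u} [CommRing R] (e a : R) :
    e * a - a ∈ Ideal.span {1 - e} := by
  rw [Ideal.mem_span_singleton']
  exact ⟨-a, by ring⟩

theorem idem_mul_eq_zero_of_mem {R : Type u} [CommRing R] {e : R} (he : IsIdempotentElem e) (a : R)
    (ha : a ∈ Ideal.span {1 - e}) : e * a = 0 := by
  rw [Ideal.mem_span_singleton'] at ha
  obtain ⟨c, rfl⟩ := ha
  have : e * (1 - e) = 0 := by rw [mul_sub, mul_one, he.eq, sub_self]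
  calc e * (c * (1 - e)) = c * (e * (1 - e)) := by ring
    _ = 0 := by rw [this, mul_zero]

theorem compAlg_isEtCover (hX : X.IsFinSp) {A B : Alg X} (hA : A.IsEtCover) (hB : B.IsEtCover)
    (f : A ⟶ B) : (compAlg hX hA.1 hB.1 f).IsEtCover := by
  obtain ⟨e, he, hker, hres⟩ := exists_kerIdem hX hA hB f
  have hJ : ∀ p, (RingHom.ker (f.app p).toRingHom).annihilator = Ideal.span {1 - e p} :=
    fun p => by rw [hker p, annihilator_span_idem (he p)]
  have hle : ∀ p, (RingHom.ker (f.app p).toRingHom).annihilator ≤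
      LinearMap.ker (LinearMap.mulLeft (A.carrier p) (e p)) := by
    intro p a ha
    rw [hJ p] at ha
    rw [LinearMap.mem_ker, LinearMap.mulLeft_apply]
    exact idem_mul_eq_zero_of_mem (he p) a ha
  let π : ∀ p, A.carrier p →ₗ[X.ring p]
      (A.carrier p ⧸ (RingHom.ker (f.app p).toRingHom).annihilator) :=
    fun p => (Ideal.Quotient.mkₐ (X.ring p) _).toLinearMap
  let σ : ∀ p, (A.carrier p ⧸ (RingHom.ker (f.app p).toRingHom).annihilator) →ₗ[X.ring p]
      A.carrier p :=
    fun p => (Submodule.liftQ _ (LinearMap.mulLeft (A.carrier p) (e p)) (hle p)).restrictScalars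
      (X.ring p)
  have hσ : ∀ p a, σ p (Ideal.Quotient.mk _ a) = e p * a := fun p a => rfl
  have hπσ : ∀ p x, π p (σ p x) = x := by
    intro p x
    obtain ⟨a, rfl⟩ := Ideal.Quotient.mk_surjective x
    rw [hσ]
    change Ideal.Quotient.mk _ (e p * a) = Ideal.Quotient.mk _ a
    rw [Ideal.Quotient.eq, hJ p]
    exact idem_mul_sub_mem (e p) a
  refine ⟨fun p q h => ?_, fun p => ?_⟩
  · refine isBCAlong_retract (X.res h) (A.toMod.res h) (hA.1 p q h) (π p) (σ p) (hπσ p)
      (π q) (σ q) (hπσ q) ((compAlg hX hA.1 hB.1 f).toMod.res h) (fun m => rfl) ?_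
    intro x
    obtain ⟨a, rfl⟩ := Ideal.Quotient.mk_surjective x
    change A.res h (σ p (Ideal.Quotient.mk _ a)) = σ q (Ideal.Quotient.mk _ (A.res h a))
    rw [hσ, hσ, map_mul, hres p q h]
  · haveI := hX.1 p
    haveI := (hA.2 p).1
    haveI := (hA.2 p).2
    constructor
    · exact Module.Finite.of_surjective (π p) Ideal.Quotient.mk_surjective
    · have he' : IsIdempotentElem (1 - e p) := (he p).one_sub
      refine etale_of_surjective_of_ker (R := X.ring p) (Ideal.Quotient.mkₐ (X.ring p) _)
        Ideal.Quotient.mk_surjective (1 - e p) he' ?_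
      rw [← hJ p]
      exact Ideal.mk_ker

/-- Chinese remainder: if `f` is surjective at `p` then `A_p ≃ B_p × D_p`. -/
theorem compAlg_bijective (hX : X.IsFinSp) {A B : Alg X} (hA : A.IsEtCover) (hB : B.IsEtCover)
    (f : A ⟶ B) (p : X.pt) (hf : Function.Surjective (f.app p)) :
    Function.Bijective ((f.app p).prod ((compAlgProj hX hA.1 hB.1 f).app p)) := by
  obtain ⟨e, he, hker, -⟩ := exists_kerIdem hX hA hB f
  have hJ : (RingHom.ker (f.app p).toRingHom).annihilator = Ideal.span {1 - e p} := by
    rw [hker p, annihilator_span_idem (he p)]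
  have hfe : f.app p (e p) = 0 := by
    have : e p ∈ RingHom.ker (f.app p).toRingHom := by
      rw [hker p]; exact Ideal.mem_span_singleton_self _
    exact this
  constructor
  · rw [injective_iff_map_eq_zero]
    intro a ha
    have h1 : f.app p a = 0 := congrArg Prod.fst ha
    have h2 : Ideal.Quotient.mk (RingHom.ker (f.app p).toRingHom).annihilator a = 0 :=
      congrArg Prod.snd ha
    rw [Ideal.Quotient.eq_zero_iff_mem, hJ] at h2
    have h3 : a ∈ RingHom.ker (f.app p).toRingHom := h1
    rw [hker p, Ideal.mem_span_singleton'] at h3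
    obtain ⟨c, hc⟩ := h3
    have h4 : e p * a = a := by rw [← hc]; calc e p * (c * e p) = c * (e p * e p) := by ring
      _ = c * e p := by rw [(he p).eq]
    rw [← h4]
    exact idem_mul_eq_zero_of_mem (he p) a h2
  · rintro ⟨b, d⟩
    obtain ⟨a₁, rfl⟩ := hf b
    obtain ⟨a₂, rfl⟩ := Ideal.Quotient.mk_surjective d
    refine ⟨(1 - e p) * a₁ + e p * a₂, ?_⟩
    refine Prod.ext ?_ ?_
    · change f.app p ((1 - e p) * a₁ + e p * a₂) = f.app p a₁
      rw [map_add, map_mul, map_mul, map_sub, hfe, map_one, sub_zero, one_mul, zero_mul, add_zero]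
    · change Ideal.Quotient.mk _ ((1 - e p) * a₁ + e p * a₂) = Ideal.Quotient.mk _ a₂
      rw [Ideal.Quotient.eq, hJ]
      have : (1 - e p) * a₁ + e p * a₂ - a₂ = (1 - e p) * a₁ + (e p * a₂ - a₂) := by ring
      rw [this]
      exact Ideal.add_mem _ (Ideal.mul_mem_right _ _ (Ideal.mem_span_singleton_self _))
        (idem_mul_sub_mem (e p) a₂)

end Comp

end Groth.Agent.Lib.Helper14.FEt
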