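import Mathlib
import Groth.Prelude.Def_SchFin2

/-!
# helper14: tensor products of algebras over a finite ringed poset (binary coproducts)
-/

set_option autoImplicit false
set_option linter.style.haveILetI false
universe u
open SchFin SchFin.RSpace CategoryTheory TensorProduct

namespace Groth.Agent.Lib.Helper14.FEt

section TMap

variable {R S : Type u} [CommRing R] [CommRing S] (g : R →+* S)
  {A B A' B' : Type u} [CommRing A] [CommRing B] [CommRing A'] [CommRing B']
  [Algebra R A] [Algebra R B] [Algebra S A'] [Algebra S B']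
  (α : A →+* A') (β : B →+* B')
  (hα : ∀ r, α (algebraMap R A r) = algebraMap S A' (g r))
  (hβ : ∀ r, β (algebraMap R B r) = algebraMap S B' (g r))

/-- the ring map `A ⊗[R] B → A' ⊗[S] B'` induced by compatible ring maps -/
noncomputable def tmapRing : A ⊗[R] B →+* A' ⊗[S] B' :=
  letI : Algebra R (A' ⊗[S] B') := ((algebraMap S (A' ⊗[S] B')).comp g).toAlgebra
  (Algebra.TensorProduct.productMap
    ({ toRingHom := (Algebra.TensorProduct.includeLeftRingHom).comp α
       commutes' := fun r => by
        change (α (algebraMap R A r)) ⊗ₜ[S] (1 : B') = algebraMap S (A' ⊗[S] B') (g r)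
        rw [hα, Algebra.TensorProduct.algebraMap_apply] } : A →ₐ[R] A' ⊗[S] B')
    ({ toRingHom := (Algebra.TensorProduct.includeRight (R := S) (A := A') (B := B')).toRingHom.comp β
       commutes' := fun r => by
        change (1 : A') ⊗ₜ[S] (β (algebraMap R B r)) = algebraMap S (A' ⊗[S] B') (g r)
        rw [hβ, Algebra.TensorProduct.algebraMap_apply']
        } : B →ₐ[R] A' ⊗[S] B')).toRingHom

theorem tmapRing_tmul (a : A) (b : B) : tmapRing g α β hα hβ (a ⊗ₜ b) = α a ⊗ₜ β b := by
  letI : Algebra R (A' ⊗[S] B') := ((algebraMap S (A' ⊗[S] B')).comp g).toAlgebra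
  change (α a ⊗ₜ[S] (1 : B')) * ((1 : A') ⊗ₜ[S] β b) = _
  rw [Algebra.TensorProduct.tmul_mul_tmul, mul_one, one_mul]

omit [Algebra S A'] [Algebra S B'] in
theorem ringHom_ext_tmul {Z : Type u} [CommRing Z] (φ ψ : A ⊗[R] B →+* Z)
    (h : ∀ a b, φ (a ⊗ₜ b) = ψ (a ⊗ₜ b)) : φ = ψ := by
  apply RingHom.ext
  intro x
  induction x using TensorProduct.induction_on with
  | zero => rw [map_zero, map_zero]
  | tmul a b => exact h a b
  | add x y hx hy => rw [map_add, map_add, hx, hy]

end TMap

section BC

variable {R S : Type u} [CommRing R] [CommRing S] (g : R →+* S)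

/-- tensor products of base changes are base changes -/
theorem isBCAlong_tensor {M N M' N' : Type u} [AddCommGroup M] [AddCommGroup N] [AddCommGroup M']
    [AddCommGroup N'] [Module R M] [Module R N] [Module S M'] [Module S N']
    (α : M →ₛₗ[g] M') (β : N →ₛₗ[g] N') (hα : IsBCAlong g α) (hβ : IsBCAlong g β)
    (ρ : M ⊗[R] N →ₛₗ[g] M' ⊗[S] N') (hρ : ∀ m n, ρ (m ⊗ₜ n) = α m ⊗ₜ β n) : IsBCAlong g ρ := by
  unfold IsBCAlong at hα hβ ⊢
  letI : Algebra R S := g.toAlgebra
  letI : Module R M' := Module.compHom M' g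
  letI : Module R N' := Module.compHom N' g
  letI modT : Module R (M' ⊗[S] N') := Module.compHom (M' ⊗[S] N') g
  haveI : IsScalarTower R S M' := IsScalarTower.of_algebraMap_smul fun _ _ => rfl
  haveI : IsScalarTower R S N' := IsScalarTower.of_algebraMap_smul fun _ _ => rfl
  haveI : @IsScalarTower R S (M' ⊗[S] N') _ _ modT.toSMul :=
    @IsScalarTower.of_algebraMap_smul R S (M' ⊗[S] N') _ _ _ _ modT.toSMul fun _ _ => rfl
  let e : S ⊗[R] (M ⊗[R] N) ≃ₗ[S] M' ⊗[S] N' :=
    (AlgebraTensorModule.distribBaseChange R S M N) ≪≫ₗ TensorProduct.congr hα.equiv hβ.equiv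
  refine IsBaseChange.of_equiv e ?_
  intro x
  change e (1 ⊗ₜ x) = ρ x
  induction x using TensorProduct.induction_on with
  | zero => rw [TensorProduct.tmul_zero, map_zero, map_zero]
  | tmul m n =>
    rw [hρ]
    change TensorProduct.congr hα.equiv hβ.equiv
      (AlgebraTensorModule.distribBaseChange R S M N (1 ⊗ₜ (m ⊗ₜ n))) = _
    rw [AlgebraTensorModule.distribBaseChange_tmul, TensorProduct.congr_tmul, hα.equiv_tmul,
      hβ.equiv_tmul, one_smul, one_smul]
    rfl
  | add x y hx hy => rw [TensorProduct.tmul_add, map_add, map_add, hx, hy]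

end BC

section Tens

variable {X : RSpace.{u}}

/-- the tensor product of two algebras over the rings -/
noncomputable def tensAlg (A B : Alg X) : Alg X where
  carrier p := A.carrier p ⊗[X.ring p] B.carrier p
  res {p q} h := tmapRing (X.res h) (A.res h) (B.res h) (A.res_algebraMap h) (B.res_algebraMap h)
  res_algebraMap {p q} h a := by
    rw [Algebra.TensorProduct.algebraMap_apply, tmapRing_tmul, A.res_algebraMap, map_one,
      Algebra.TensorProduct.algebraMap_apply]
  res_self p b := by
    induction b using TensorProduct.induction_on with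
    | zero => rw [map_zero]
    | tmul a b => rw [tmapRing_tmul, A.res_self, B.res_self]
    | add x y hx hy => rw [map_add, hx, hy]
  res_comp {p q s} h h' b := by
    induction b using TensorProduct.induction_on with
    | zero => rw [map_zero, map_zero, map_zero]
    | tmul a b => rw [tmapRing_tmul, tmapRing_tmul, tmapRing_tmul, A.res_comp, B.res_comp]
    | add x y hx hy => rw [map_add, map_add, map_add, hx, hy]

theorem tensAlg_res_tmul (A B : Alg X) {p q : X.pt} (h : p ≤ q) (a : A.carrier p)
    (b : B.carrier p) :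
    (tensAlg A B).res h (a ⊗ₜ b) = A.res h a ⊗ₜ B.res h b :=
  tmapRing_tmul (X.res h) (A.res h) (B.res h) (A.res_algebraMap h) (B.res_algebraMap h) a b

theorem tensAlg_isEtCover (A B : Alg X) (hA : A.IsEtCover) (hB : B.IsEtCover) :
    (tensAlg A B).IsEtCover := by
  refine ⟨fun p q h => ?_, fun p => ?_⟩
  · exact isBCAlong_tensor (X.res h) (A.toMod.res h) (B.toMod.res h) (hA.1 p q h) (hB.1 p q h)
      ((tensAlg A B).toMod.res h) (fun a b => tensAlg_res_tmul A B h a b)
  · haveI := (hA.2 p).1
    haveI := (hA.2 p).2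
    haveI := (hB.2 p).1
    haveI := (hB.2 p).2
    constructor
    · exact inferInstanceAs (Module.Finite (X.ring p) (A.carrier p ⊗[X.ring p] B.carrier p))
    · haveI : Algebra.Etale (A.carrier p) (A.carrier p ⊗[X.ring p] B.carrier p) := inferInstance
      exact Algebra.Etale.comp (X.ring p) (A.carrier p) (A.carrier p ⊗[X.ring p] B.carrier p)

/-- left inclusion -/
noncomputable def tensInl (A B : Alg X) : A ⟶ tensAlg A B :=
  ⟨fun p => Algebra.TensorProduct.includeLeft, fun {p q} h a => by
    change (tensAlg A B).res h (a ⊗ₜ 1) = A.res h a ⊗ₜ 1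
    rw [tensAlg_res_tmul, map_one]⟩

/-- right inclusion -/
noncomputable def tensInr (A B : Alg X) : B ⟶ tensAlg A B :=
  ⟨fun p => Algebra.TensorProduct.includeRight, fun {p q} h b => by
    change (tensAlg A B).res h (1 ⊗ₜ b) = 1 ⊗ₜ B.res h b
    rw [tensAlg_res_tmul, map_one]⟩

/-- the map out of the tensor product -/
noncomputable def tensDesc {A B Z : Alg X} (f : A ⟶ Z) (g : B ⟶ Z) : tensAlg A B ⟶ Z :=
  ⟨fun p => Algebra.TensorProduct.productMap (f.app p) (g.app p), fun {p q} h t => by
    have := ringHom_ext_tmul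
      ((Z.res h).comp (Algebra.TensorProduct.productMap (f.app p) (g.app p)).toRingHom)
      ((Algebra.TensorProduct.productMap (f.app q) (g.app q)).toRingHom.comp
        ((tensAlg A B).res h)) (fun a b => by
        change Z.res h (Algebra.TensorProduct.productMap (f.app p) (g.app p) (a ⊗ₜ b)) =
          Algebra.TensorProduct.productMap (f.app q) (g.app q) ((tensAlg A B).res h (a ⊗ₜ b))
        rw [tensAlg_res_tmul, Algebra.TensorProduct.productMap_apply_tmul,
          Algebra.TensorProduct.productMap_apply_tmul, map_mul, f.compat, g.compat])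
    exact congrArg (fun φ => φ t) this⟩

theorem tensDesc_tmul {A B Z : Alg X} (f : A ⟶ Z) (g : B ⟶ Z) (p : X.pt) (a : A.carrier p)
    (b : B.carrier p) : (tensDesc f g).app p (a ⊗ₜ b) = f.app p a * g.app p b :=
  Algebra.TensorProduct.productMap_apply_tmul _ _ a b

end Tens

end Groth.Agent.Lib.Helper14.FEt
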