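import Mathlib
import Groth.Prelude.Def_SchFin2
import Groth.Agent.Lib.Helper14.FEt5
import Groth.Agent.Lib.Helper14.FEt8

/-!
# helper14: quotients of étale covers by compatible idempotents; coequalizers
-/

set_option autoImplicit false
set_option linter.style.haveILetI false
universe u
open SchFin SchFin.RSpace CategoryTheory TensorProduct

namespace Groth.Agent.Lib.Helper14.FEt

section Quot

variable {X : RSpace.{u}}

/-- the quotient of an algebra by a compatible family of ideals -/
def quotAlg (T : Alg X) (I : ∀ p, Ideal (T.carrier p))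
    (hI : ∀ {p q : X.pt} (h : p ≤ q), I p ≤ (I q).comap (T.res h)) : Alg X where
  carrier p := T.carrier p ⧸ I p
  res {p q} h := Ideal.quotientMap (I q) (T.res h) (hI h)
  res_algebraMap {p q} h a := by
    change Ideal.quotientMap _ (T.res h) _ (Ideal.Quotient.mk _ (algebraMap _ _ a)) =
      Ideal.Quotient.mk _ (algebraMap _ _ (X.res h a))
    rw [Ideal.quotientMap_mk, T.res_algebraMap]
  res_self p b := by
    obtain ⟨a, rfl⟩ := Ideal.Quotient.mk_surjective b
    rw [Ideal.quotientMap_mk, T.res_self]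
  res_comp {p q s} h h' b := by
    obtain ⟨a, rfl⟩ := Ideal.Quotient.mk_surjective b
    rw [Ideal.quotientMap_mk, Ideal.quotientMap_mk, Ideal.quotientMap_mk, T.res_comp]

/-- the projection onto the quotient -/
def quotAlgProj (T : Alg X) (I : ∀ p, Ideal (T.carrier p))
    (hI : ∀ {p q : X.pt} (h : p ≤ q), I p ≤ (I q).comap (T.res h)) : T ⟶ quotAlg T I hI :=
  ⟨fun p => Ideal.Quotient.mkₐ (X.ring p) _, fun _ _ => rfl⟩

/-- maps out of the quotient -/
def quotAlgDesc (T : Alg X) (I : ∀ p, Ideal (T.carrier p))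
    (hI : ∀ {p q : X.pt} (h : p ≤ q), I p ≤ (I q).comap (T.res h)) {Z : Alg X} (f : T ⟶ Z)
    (hf : ∀ p, ∀ a ∈ I p, f.app p a = 0) : quotAlg T I hI ⟶ Z :=
  ⟨fun p => Ideal.Quotient.liftₐ (I p) (f.app p) (hf p), fun {p q} h b => by
    obtain ⟨a, rfl⟩ := Ideal.Quotient.mk_surjective b
    change Z.res h (f.app p a) = Ideal.Quotient.liftₐ (I q) (f.app q) (hf q)
      (Ideal.quotientMap (I q) (T.res h) (hI h) (Ideal.Quotient.mk _ a))
    rw [Ideal.quotientMap_mk, f.compat h a]
    rfl⟩

theorem quotAlg_isEtCover (T : Alg X) (hT : T.IsEtCover) (I : ∀ p, Ideal (T.carrier p))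
    (hI : ∀ {p q : X.pt} (h : p ≤ q), I p ≤ (I q).comap (T.res h))
    (ε : ∀ p, T.carrier p) (hε : ∀ p, IsIdempotentElem (ε p))
    (hIε : ∀ p, I p = Ideal.span {ε p})
    (hres : ∀ (p q : X.pt) (h : p ≤ q), T.res h (ε p) = ε q) :
    (quotAlg T I hI).IsEtCover := by
  have he' : ∀ p, IsIdempotentElem (1 - ε p) := fun p => (hε p).one_sub
  have hJ : ∀ p, I p = Ideal.span {1 - (1 - ε p)} := fun p => by rw [sub_sub_cancel, hIε p]
  have hle : ∀ p, I p ≤ LinearMap.ker (LinearMap.mulLeft (T.carrier p) (1 - ε p)) := by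
    intro p a ha
    rw [hJ p] at ha
    rw [LinearMap.mem_ker, LinearMap.mulLeft_apply]
    exact idem_mul_eq_zero_of_mem (he' p) a ha
  let π : ∀ p, T.carrier p →ₗ[X.ring p] (T.carrier p ⧸ I p) :=
    fun p => (Ideal.Quotient.mkₐ (X.ring p) _).toLinearMap
  let σ : ∀ p, (T.carrier p ⧸ I p) →ₗ[X.ring p] T.carrier p :=
    fun p => (Submodule.liftQ _ (LinearMap.mulLeft (T.carrier p) (1 - ε p)) (hle p)).restrictScalars
      (X.ring p)
  have hσ : ∀ p a, σ p (Ideal.Quotient.mk _ a) = (1 - ε p) * a := fun p a => rfl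
  have hπσ : ∀ p x, π p (σ p x) = x := by
    intro p x
    obtain ⟨a, rfl⟩ := Ideal.Quotient.mk_surjective x
    rw [hσ]
    change Ideal.Quotient.mk _ ((1 - ε p) * a) = Ideal.Quotient.mk _ a
    rw [Ideal.Quotient.eq, hJ p]
    exact idem_mul_sub_mem (1 - ε p) a
  refine ⟨fun p q h => ?_, fun p => ?_⟩
  · refine isBCAlong_retract (X.res h) (T.toMod.res h) (hT.1 p q h) (π p) (σ p) (hπσ p)
      (π q) (σ q) (hπσ q) ((quotAlg T I hI).toMod.res h) (fun m => rfl) ?_
    intro x
    obtain ⟨a, rfl⟩ := Ideal.Quotient.mk_surjective x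
    change T.res h (σ p (Ideal.Quotient.mk _ a)) = σ q (Ideal.Quotient.mk _ (T.res h a))
    rw [hσ, hσ, map_mul, map_sub, map_one, hres p q h]
  · haveI := (hT.2 p).1
    haveI := (hT.2 p).2
    constructor
    · exact Module.Finite.of_surjective (π p) Ideal.Quotient.mk_surjective
    · refine etale_of_surjective_of_ker (R := X.ring p) (Ideal.Quotient.mkₐ (X.ring p) _)
        Ideal.Quotient.mk_surjective (ε p) (hε p) ?_
      rw [← hIε p]
      exact Ideal.mk_ker

end Quot

section RingLevel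

variable {R C T : Type u} [CommRing R] [CommRing C] [CommRing T] [Algebra R C] [Algebra R T]

/-- the ideal generated by `u c - v c` is generated by the image of a generator of the kernel of
the multiplication map -/
theorem coeq_span_eq (u v : C →ₐ[R] T) (e₀ : C ⊗[R] C)
    (h₀ : KaehlerDifferential.ideal R C = Ideal.span {e₀}) :
    Ideal.span (Set.range fun c : C => u c - v c) =
      Ideal.span {Algebra.TensorProduct.productMap u v e₀} := by
  have hw1 : ∀ c : C, Algebra.TensorProduct.productMap u v (c ⊗ₜ 1) = u c := by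
    intro c
    rw [Algebra.TensorProduct.productMap_apply_tmul, map_one, mul_one]
  have hw2 : ∀ c : C, Algebra.TensorProduct.productMap u v (1 ⊗ₜ c) = v c := by
    intro c
    rw [Algebra.TensorProduct.productMap_apply_tmul, map_one, one_mul]
  apply le_antisymm
  · rw [Ideal.span_le]
    rintro _ ⟨c, rfl⟩
    have h1 : (c ⊗ₜ[R] (1 : C) - 1 ⊗ₜ c) ∈ KaehlerDifferential.ideal R C := by
      have := KaehlerDifferential.one_smul_sub_smul_one_mem_ideal R c
      have h2 : (c ⊗ₜ[R] (1 : C) - 1 ⊗ₜ c) = -((1 : C) ⊗ₜ[R] c - c ⊗ₜ 1) := by rw [neg_sub]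
      rw [h2]
      exact (Ideal.neg_mem_iff _).mpr this
    rw [h₀, Ideal.mem_span_singleton'] at h1
    obtain ⟨t, ht⟩ := h1
    change u c - v c ∈ Ideal.span {Algebra.TensorProduct.productMap u v e₀}
    rw [← hw1, ← hw2, ← map_sub, ← ht, map_mul]
    exact Ideal.mul_mem_left _ _ (Ideal.mem_span_singleton_self _)
  · rw [Ideal.span_le, Set.singleton_subset_iff]
    have h0 : e₀ ∈ KaehlerDifferential.ideal R C := by
      rw [h₀]; exact Ideal.mem_span_singleton_self _
    rw [← KaehlerDifferential.span_range_eq_ideal] at h0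
    change Algebra.TensorProduct.productMap u v e₀ ∈ Ideal.span (Set.range fun c : C => u c - v c)
    refine Submodule.span_induction (p := fun x _ => Algebra.TensorProduct.productMap u v x ∈
      Ideal.span (Set.range fun c : C => u c - v c)) ?_ ?_ ?_ ?_ h0
    · rintro _ ⟨c, rfl⟩
      rw [map_sub, hw1, hw2]
      have : v c - u c = -(u c - v c) := by rw [neg_sub]
      rw [this]
      exact (Ideal.neg_mem_iff _).mpr (Ideal.subset_span ⟨c, rfl⟩)
    · rw [map_zero]; exact Submodule.zero_mem _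
    · intro x y _ _ hx hy
      rw [map_add]; exact Submodule.add_mem _ hx hy
    · intro t x _ hx
      rw [smul_eq_mul, map_mul]
      exact Ideal.mul_mem_left _ _ hx

theorem productMap_id_id_eq_lmul' :
    Algebra.TensorProduct.productMap (AlgHom.id R C) (AlgHom.id R C) =
      Algebra.TensorProduct.lmul' R := by
  apply Algebra.TensorProduct.ext'
  intro a b
  rw [Algebra.TensorProduct.productMap_apply_tmul, Algebra.TensorProduct.lmul'_apply_tmul]
  rfl

end RingLevel

section Coeq

variable {X : RSpace.{u}}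

/-- the ideal defining the coequalizer of two morphisms -/
def coeqIdeal {C T : Alg X} (u v : C ⟶ T) (p : X.pt) : Ideal (T.carrier p) :=
  Ideal.span (Set.range fun c : C.carrier p => u.app p c - v.app p c)

theorem coeqIdeal_le {C T : Alg X} (u v : C ⟶ T) {p q : X.pt} (h : p ≤ q) :
    coeqIdeal u v p ≤ (coeqIdeal u v q).comap (T.res h) := by
  unfold coeqIdeal
  rw [Ideal.span_le]
  rintro _ ⟨c, rfl⟩
  change T.res h (u.app p c - v.app p c) ∈
    Ideal.span (Set.range fun c : C.carrier q => u.app q c - v.app q c)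
  rw [map_sub, u.compat, v.compat]
  exact Ideal.subset_span ⟨C.res h c, rfl⟩

/-- the coequalizer of two morphisms of algebras -/
def coeqAlg {C T : Alg X} (u v : C ⟶ T) : Alg X :=
  quotAlg T (coeqIdeal u v) (fun h => coeqIdeal_le u v h)

/-- the projection onto the coequalizer -/
def coeqAlgProj {C T : Alg X} (u v : C ⟶ T) : T ⟶ coeqAlg u v :=
  quotAlgProj T (coeqIdeal u v) (fun h => coeqIdeal_le u v h)

theorem coeqAlgProj_surjective {C T : Alg X} (u v : C ⟶ T) (p : X.pt) :
    Function.Surjective ((coeqAlgProj u v).app p) :=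
  Ideal.Quotient.mk_surjective

theorem coeqAlg_condition {C T : Alg X} (u v : C ⟶ T) :
    u ≫ coeqAlgProj u v = v ≫ coeqAlgProj u v := by
  apply SchFin.Alg.hom_ext
  intro p
  apply AlgHom.ext
  intro c
  change Ideal.Quotient.mk (coeqIdeal u v p) (u.app p c) =
    Ideal.Quotient.mk (coeqIdeal u v p) (v.app p c)
  rw [Ideal.Quotient.eq]
  exact Ideal.subset_span ⟨c, rfl⟩

/-- maps out of the coequalizer -/
def coeqAlgDesc {C T Z : Alg X} (u v : C ⟶ T) (f : T ⟶ Z) (hf : u ≫ f = v ≫ f) :
    coeqAlg u v ⟶ Z :=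
  quotAlgDesc T (coeqIdeal u v) (fun h => coeqIdeal_le u v h) f (by
    intro p a ha
    have hle : coeqIdeal u v p ≤ RingHom.ker (f.app p).toRingHom := by
      unfold coeqIdeal
      rw [Ideal.span_le]
      rintro _ ⟨c, rfl⟩
      change f.app p (u.app p c - v.app p c) = 0
      rw [map_sub, sub_eq_zero]
      exact congrArg (fun k => k.app p c) hf
    exact hle ha)

theorem coeqAlgDesc_fac {C T Z : Alg X} (u v : C ⟶ T) (f : T ⟶ Z) (hf : u ≫ f = v ≫ f) :
    coeqAlgProj u v ≫ coeqAlgDesc u v f hf = f := by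
  apply SchFin.Alg.hom_ext
  intro p
  apply AlgHom.ext
  intro c
  rfl

theorem exists_coeqIdem (hX : X.IsFinSp) {C T : Alg X} (hC : C.IsEtCover) (u v : C ⟶ T) :
    ∃ ε : ∀ p, T.carrier p, (∀ p, IsIdempotentElem (ε p)) ∧
      (∀ p, coeqIdeal u v p = Ideal.span {ε p}) ∧
      ∀ (p q : X.pt) (h : p ≤ q), T.res h (ε p) = ε q := by
  let μ : tensAlg C C ⟶ C := tensDesc (𝟙 C) (𝟙 C)
  obtain ⟨e₀, he₀, hker, hres₀⟩ := exists_kerIdem hX (tensAlg_isEtCover C C hC hC) hC μ
  let w : tensAlg C C ⟶ T := tensDesc u v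
  have hμ : ∀ p, μ.app p = Algebra.TensorProduct.lmul' (X.ring p) (S := C.carrier p) := fun p =>
    productMap_id_id_eq_lmul'
  have hkerK : ∀ p, KaehlerDifferential.ideal (X.ring p) (C.carrier p) =
      Ideal.span {(e₀ p : C.carrier p ⊗[X.ring p] C.carrier p)} := by
    intro p
    have := hker p
    rw [hμ p] at this
    exact this
  refine ⟨fun p => w.app p (e₀ p), fun p => (he₀ p).map (w.app p), fun p => ?_, fun p q h => ?_⟩
  · exact coeq_span_eq (u.app p) (v.app p) (e₀ p) (hkerK p)
  · change T.res h (w.app p (e₀ p)) = w.app q (e₀ q)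
    rw [w.compat h, hres₀ p q h]

theorem coeqAlg_isEtCover (hX : X.IsFinSp) {C T : Alg X} (hC : C.IsEtCover) (hT : T.IsEtCover)
    (u v : C ⟶ T) : (coeqAlg u v).IsEtCover := by
  obtain ⟨ε, hε, hIε, hres⟩ := exists_coeqIdem hX hC u v
  exact quotAlg_isEtCover T hT (coeqIdeal u v) (fun h => coeqIdeal_le u v h) ε hε hIε hres

end Coeq

section Str

variable (X : RSpace.{u})

theorem str_isEtCover : (Alg.str X).IsEtCover := by
  refine ⟨fun p q h => ?_, fun p => ⟨?_, ?_⟩⟩
  · unfold IsBCAlong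
    letI : Algebra (X.ring p) (X.ring q) := (X.res h).toAlgebra
    exact IsBaseChange.linearMap (X.ring p) (X.ring q)
  · exact Module.Finite.self (X.ring p)
  · exact inferInstanceAs (Algebra.Etale (X.ring p) (X.ring p))

/-- the unique map from the structure algebra -/
def strDesc (A : Alg X) : Alg.str X ⟶ A :=
  ⟨fun p => Algebra.ofId (X.ring p) (A.carrier p), fun h b => A.res_algebraMap h b⟩

theorem strDesc_uniq (A : Alg X) (f : Alg.str X ⟶ A) : f = strDesc X A := by
  apply SchFin.Alg.hom_ext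
  intro p
  apply AlgHom.ext
  intro r
  exact (f.app p).commutes r

end Str

end Groth.Agent.Lib.Helper14.FEt
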