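import Mathlib
import Groth.Prelude.Def_SchFin2
import Groth.Agent.Lib.Helper14.FEt1
import Groth.Agent.Lib.Helper14.FEt6
import Groth.Agent.Lib.Helper14.FEt9
import Groth.Agent.Lib.Helper14.FEt10

/-!
# helper14: the fibre functor preserves finite limits, finite coproducts and epimorphisms
-/

set_option autoImplicit false
set_option linter.style.haveILetI false
universe u
open SchFin SchFin.RSpace CategoryTheory CategoryTheory.Limits TensorProduct

namespace Groth.Agent.Lib.Helper14.FEt

variable {X : RSpace.{u}} {Ω : Type u} [Field Ω] [IsAlgClosed Ω] (ξ : GeomPt X Ω)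

theorem fibFunctor_map_apply {A B : FEt X} (f : A ⟶ B) (y : ξ.Fib B.obj) :
    (ξ.fibFunctor.map f.op) y = ξ.fibMap f.hom y := rfl

/-- the fibre functor preserves the terminal object -/
theorem fib_preservesTerminal : PreservesLimit (Functor.empty.{0} (FEt X)ᵒᵖ) ξ.fibFunctor := by
  letI : Algebra (X.ring ξ.base) Ω := ξ.toField.toAlgebra
  let I : FEt X := ⟨Alg.str X, str_isEtCover X⟩
  have hI : IsInitial I := IsInitial.ofUniqueHom
    (fun A => ObjectProperty.homMk (strDesc X A.obj))
    (fun A m => by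
      apply ObjectProperty.hom_ext
      exact strDesc_uniq X A.obj m.hom)
  have hTop : IsTerminal (Opposite.op I) := terminalOpOfInitial hI
  apply preservesLimit_of_preserves_limit_cone hTop
  refine (isLimitMapConeEmptyConeEquiv ξ.fibFunctor (Opposite.op I)).symm ?_
  have hu' : Unique (ξ.Fib I.obj) :=
    Classical.choice (unique_spec_self (R := X.ring ξ.base) (Ω := Ω))
  exact IsTerminal.ofUniqueHom (fun Y => FintypeCat.homMk (fun _ => hu'.default))
    (fun Y m => by
      ext y
      exact hu'.uniq _)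

section TensLemmas

variable {A B Z : Alg X}

theorem tensInl_desc (f : A ⟶ Z) (g : B ⟶ Z) : tensInl A B ≫ tensDesc f g = f := by
  apply SchFin.Alg.hom_ext
  intro p
  apply AlgHom.ext
  intro a
  refine (tensDesc_tmul f g p a 1).trans ?_
  rw [map_one, mul_one]

theorem tensInr_desc (f : A ⟶ Z) (g : B ⟶ Z) : tensInr A B ≫ tensDesc f g = g := by
  apply SchFin.Alg.hom_ext
  intro p
  apply AlgHom.ext
  intro b
  refine (tensDesc_tmul f g p 1 b).trans ?_
  rw [map_one, one_mul]

theorem tens_hom_ext (m m' : tensAlg A B ⟶ Z) (h1 : tensInl A B ≫ m = tensInl A B ≫ m')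
    (h2 : tensInr A B ≫ m = tensInr A B ≫ m') : m = m' := by
  apply SchFin.Alg.hom_ext
  intro p
  apply Algebra.TensorProduct.ext'
  intro a b
  have e1 : m.app p (a ⊗ₜ 1) = m'.app p (a ⊗ₜ 1) := congrArg (fun k => k.app p a) h1
  have e2 : m.app p (1 ⊗ₜ b) = m'.app p (1 ⊗ₜ b) := congrArg (fun k => k.app p b) h2
  have e3 : (a ⊗ₜ[X.ring p] b : A.carrier p ⊗[X.ring p] B.carrier p) =
      (a ⊗ₜ 1) * (1 ⊗ₜ b) := by
    rw [Algebra.TensorProduct.tmul_mul_tmul, mul_one, one_mul]
  calc m.app p (a ⊗ₜ b) = m.app p ((a ⊗ₜ 1) * (1 ⊗ₜ b)) := congrArg _ e3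
    _ = m.app p (a ⊗ₜ 1) * m.app p (1 ⊗ₜ b) := map_mul _ _ _
    _ = m'.app p (a ⊗ₜ 1) * m'.app p (1 ⊗ₜ b) := by rw [e1, e2]
    _ = m'.app p ((a ⊗ₜ 1) * (1 ⊗ₜ b)) := (map_mul _ _ _).symm
    _ = m'.app p (a ⊗ₜ b) := (congrArg _ e3).symm

end TensLemmas

/-- the fibre functor preserves binary products -/
theorem fib_preservesBinaryProduct (A B : (FEt X)ᵒᵖ) :
    PreservesLimit (pair A B) ξ.fibFunctor := by
  letI : Algebra (X.ring ξ.base) Ω := ξ.toField.toAlgebra
  let P : FEt X := ⟨tensAlg A.unop.obj B.unop.obj,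
    tensAlg_isEtCover _ _ A.unop.property B.unop.property⟩
  let inl : A.unop ⟶ P := ObjectProperty.homMk (tensInl A.unop.obj B.unop.obj)
  let inr : B.unop ⟶ P := ObjectProperty.homMk (tensInr A.unop.obj B.unop.obj)
  have hlim : IsLimit (BinaryFan.mk (P := Opposite.op P) inl.op inr.op) :=
    BinaryFan.isLimitMk
      (fun s => (ObjectProperty.homMk (tensDesc (s.fst : s.pt ⟶ A).unop.hom
        (s.snd : s.pt ⟶ B).unop.hom) : P ⟶ s.pt.unop).op)
      (fun s => by
        apply Quiver.Hom.unop_inj
        apply ObjectProperty.hom_ext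
        exact tensInl_desc _ _)
      (fun s => by
        apply Quiver.Hom.unop_inj
        apply ObjectProperty.hom_ext
        exact tensInr_desc _ _)
      (fun s m h1 h2 => by
        apply Quiver.Hom.unop_inj
        apply ObjectProperty.hom_ext
        apply tens_hom_ext
        · refine Eq.trans ?_ (tensInl_desc _ _).symm
          exact congrArg (fun k => k.unop.hom) h1
        · refine Eq.trans ?_ (tensInr_desc _ _).symm
          exact congrArg (fun k => k.unop.hom) h2)
  apply preservesLimit_of_preserves_limit_cone hlim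
  refine (isLimitMapConeBinaryFanEquiv ξ.fibFunctor inl.op inr.op).symm ?_
  haveI := (A.unop.property.2 ξ.base).1
  haveI := (A.unop.property.2 ξ.base).2
  haveI := (B.unop.property.2 ξ.base).1
  haveI := (B.unop.property.2 ξ.base).2
  haveI : Module.Finite (X.ring ξ.base)
      (A.unop.obj.carrier ξ.base ⊗[X.ring ξ.base] B.unop.obj.carrier ξ.base) :=
    (P.property.2 ξ.base).1
  haveI : Algebra.Etale (X.ring ξ.base)
      (A.unop.obj.carrier ξ.base ⊗[X.ring ξ.base] B.unop.obj.carrier ξ.base) :=
    (P.property.2 ξ.base).2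
  have hbij := spec_tensor_bijective (R := X.ring ξ.base) (Ω := Ω)
    (A.unop.obj.carrier ξ.base) (B.unop.obj.carrier ξ.base)
  let β : ξ.Fib P.obj ≃ ξ.Fib A.unop.obj × ξ.Fib B.unop.obj := Equiv.ofBijective _ hbij
  have hβ : ∀ z, β z = (ξ.fibMap inl.hom z, ξ.fibMap inr.hom z) := fun z => rfl
  refine BinaryFan.isLimitMk
    (fun s => FintypeCat.homMk (fun y => β.symm (s.fst y, s.snd y))) ?_ ?_ ?_
  · intro s
    ext y
    have := hβ (β.symm (s.fst y, s.snd y))
    rw [Equiv.apply_symm_apply] at this
    exact (congrArg Prod.fst this).symm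
  · intro s
    ext y
    have := hβ (β.symm (s.fst y, s.snd y))
    rw [Equiv.apply_symm_apply] at this
    exact (congrArg Prod.snd this).symm
  · intro s m h1 h2
    ext y
    apply β.injective
    change β (m y) = β (β.symm (s.fst y, s.snd y))
    rw [Equiv.apply_symm_apply, hβ]
    exact Prod.ext (congrArg (fun k => k y) h1) (congrArg (fun k => k y) h2)

/-- the fibre functor preserves equalizers -/
theorem fib_preservesEqualizer (hX : X.IsFinSp) {A B : (FEt X)ᵒᵖ} (u v : A ⟶ B) :
    PreservesLimit (parallelPair u v) ξ.fibFunctor := by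
  letI : Algebra (X.ring ξ.base) Ω := ξ.toField.toAlgebra
  let Q : FEt X := ⟨coeqAlg u.unop.hom v.unop.hom,
    coeqAlg_isEtCover hX B.unop.property A.unop.property u.unop.hom v.unop.hom⟩
  let π : A.unop ⟶ Q := ObjectProperty.homMk (coeqAlgProj u.unop.hom v.unop.hom)
  have hπ : u.unop ≫ π = v.unop ≫ π := by
    apply ObjectProperty.hom_ext
    exact coeqAlg_condition u.unop.hom v.unop.hom
  have hw : π.op ≫ u = π.op ≫ v := by
    apply Quiver.Hom.unop_inj
    exact hπ
  have hlim : IsLimit (Fork.ofι π.op hw) :=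
    Fork.IsLimit.mk _
      (fun s => (ObjectProperty.homMk (coeqAlgDesc u.unop.hom v.unop.hom s.ι.unop.hom
        (congrArg (fun k => k.unop.hom) s.condition)) : Q ⟶ s.pt.unop).op)
      (fun s => by
        apply Quiver.Hom.unop_inj
        apply ObjectProperty.hom_ext
        exact coeqAlgDesc_fac u.unop.hom v.unop.hom s.ι.unop.hom
          (congrArg (fun k => k.unop.hom) s.condition))
      (fun s m hm => by
        apply Quiver.Hom.unop_inj
        apply ObjectProperty.hom_ext
        apply SchFin.Alg.hom_ext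
        intro p
        apply AlgHom.ext
        intro x
        obtain ⟨t, rfl⟩ := coeqAlgProj_surjective u.unop.hom v.unop.hom p x
        exact congrArg (fun k => k.unop.hom.app p t) hm)
  apply preservesLimit_of_preserves_limit_cone hlim
  refine (isLimitMapConeForkEquiv ξ.fibFunctor hw).symm ?_
  haveI := (A.unop.property.2 ξ.base).1
  haveI := (A.unop.property.2 ξ.base).2
  haveI := (B.unop.property.2 ξ.base).1
  haveI := (B.unop.property.2 ξ.base).2
  haveI : Module.Finite (X.ring ξ.base)
      (A.unop.obj.carrier ξ.base ⧸ coeqIdeal u.unop.hom v.unop.hom ξ.base) :=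
    (Q.property.2 ξ.base).1
  haveI : Algebra.Etale (X.ring ξ.base)
      (A.unop.obj.carrier ξ.base ⧸ coeqIdeal u.unop.hom v.unop.hom ξ.base) :=
    (Q.property.2 ξ.base).2
  have hinj : Function.Injective (ξ.fibMap π.hom) :=
    spec_quot_injective (R := X.ring ξ.base) (Ω := Ω)
      (coeqIdeal u.unop.hom v.unop.hom ξ.base)
  have hex : ∀ 𝔭 : ξ.Fib A.unop.obj, ξ.fibMap u.unop.hom 𝔭 = ξ.fibMap v.unop.hom 𝔭 →
      ∃ 𝔮 : ξ.Fib Q.obj, ξ.fibMap π.hom 𝔮 = 𝔭 := fun 𝔭 h =>
    spec_quot_exists (R := X.ring ξ.base) (Ω := Ω) (u.unop.hom.app ξ.base)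
      (v.unop.hom.app ξ.base) (coeqIdeal u.unop.hom v.unop.hom ξ.base) rfl 𝔭 h
  refine Fork.IsLimit.mk _
    (fun s => FintypeCat.homMk (fun y => Classical.choose (hex (s.ι y)
      (congrArg (fun k => k y) s.condition)))) ?_ ?_
  · intro s
    ext y
    exact Classical.choose_spec (hex (s.ι y) (congrArg (fun k => k y) s.condition))
  · intro s m hm
    ext y
    apply hinj
    refine Eq.trans ?_ (Classical.choose_spec (hex (s.ι y)
      (congrArg (fun k => k y) s.condition))).symm
    exact congrArg (fun k => k y) hm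

/-- the fibre functor preserves finite coproducts -/
theorem fib_preservesCoproduct (n : ℕ) (f : Fin n → (FEt X)ᵒᵖ) :
    PreservesColimit (Discrete.functor f) ξ.fibFunctor := by
  letI : Algebra (X.ring ξ.base) Ω := ξ.toField.toAlgebra
  let G : Fin n → Alg X := fun i => (f i).unop.obj
  have hG : ∀ i, (G i).IsEtCover := fun i => (f i).unop.property
  let P : FEt X := ⟨piAlg G, piAlg_isEtCover G hG⟩
  let g : ∀ i, f i ⟶ Opposite.op P := fun i =>
    (ObjectProperty.homMk (piAlgProj G i) : P ⟶ (f i).unop).op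
  have hcolim : IsColimit (Cofan.mk (Opposite.op P) g) :=
    Cofan.IsColimit.mk _
      (fun s => (ObjectProperty.homMk (piAlgLift G (fun i => (s.inj i).unop.hom)) :
        s.pt.unop ⟶ P).op)
      (fun s j => by
        apply Quiver.Hom.unop_inj
        apply ObjectProperty.hom_ext
        apply SchFin.Alg.hom_ext
        intro p
        apply AlgHom.ext
        intro x
        rfl)
      (fun s m hm => by
        apply Quiver.Hom.unop_inj
        apply ObjectProperty.hom_ext
        apply SchFin.Alg.hom_ext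
        intro p
        apply AlgHom.ext
        intro x
        funext j
        exact congrArg (fun k => k.unop.hom.app p x) (hm j))
  apply preservesColimit_of_preserves_colimit_cocone hcolim
  refine (isColimitMapCoconeCofanMkEquiv ξ.fibFunctor f g).symm ?_
  have hbij := spec_pi_bijective (R := X.ring ξ.base) (Ω := Ω)
    (fun i : Fin n => (G i).carrier ξ.base)
  let γ : (Σ i, ξ.Fib (f i).unop.obj) ≃ ξ.Fib P.obj := Equiv.ofBijective _ hbij
  have hγ : ∀ (i : Fin n) (y : ξ.Fib (f i).unop.obj),
      γ ⟨i, y⟩ = (ξ.fibFunctor.map (g i)) y := fun i y => rfl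
  refine Cofan.IsColimit.mk _
    (fun s => FintypeCat.homMk (fun y => s.inj (γ.symm y).1 (γ.symm y).2)) ?_ ?_
  · intro s j
    ext y
    change s.inj (γ.symm ((ξ.fibFunctor.map (g j)) y)).1 (γ.symm ((ξ.fibFunctor.map (g j)) y)).2 =
      s.inj j y
    rw [← hγ, Equiv.symm_apply_apply]
  · intro s m hm
    ext y
    obtain ⟨⟨i, w⟩, rfl⟩ := γ.surjective y
    change m (γ ⟨i, w⟩) = s.inj (γ.symm (γ ⟨i, w⟩)).1 (γ.symm (γ ⟨i, w⟩)).2
    rw [Equiv.symm_apply_apply, hγ]
    exact congrArg (fun k => k w) (hm i)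

/-- an injective map of finite étale algebras over a Noetherian ring has a linear retraction -/
theorem exists_retraction_of_injective {R : Type u} [CommRing R] [IsNoetherianRing R]
    {A B : Type u} [CommRing A] [CommRing B] [Algebra R A] [Algebra R B] [Module.Finite R A]
    [Algebra.Etale R A] [Module.Finite R B] [Algebra.Etale R B] (φ : A →ₐ[R] B)
    (hφ : Function.Injective φ) : ∃ r : B →ₗ[R] A, ∀ a, r (φ a) = a := by
  letI : Algebra A B := φ.toRingHom.toAlgebra
  haveI : IsScalarTower R A B := IsScalarTower.of_algebraMap_eq fun r => (φ.commutes r).symm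
  haveI : Algebra.Etale A B := Algebra.Etale.of_restrictScalars R A B
  haveI : Module.Finite A B := Module.Finite.of_restrictScalars_finite R A B
  haveI : IsNoetherianRing A := IsNoetherianRing.of_finite R A
  haveI : Module.FinitePresentation A B := Module.finitePresentation_of_finite A B
  haveI : Module.Flat A B := inferInstance
  haveI : Module.Projective A B := Module.Flat.projective_of_finitePresentation
  obtain ⟨r, hr⟩ := exists_retraction (A := A) (B := B) hφ
  refine ⟨r.restrictScalars R, fun a => ?_⟩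
  have : φ a = a • (1 : B) := by rw [Algebra.smul_def, mul_one]; rfl
  change r (φ a) = a
  rw [this, map_smul, hr, smul_eq_mul, mul_one]

/-- a pointwise injective morphism induces a surjection on fibres -/
theorem fibMap_surjective_of_injective (hX : X.IsFinSp) {A B : FEt X} (f : A ⟶ B)
    (hf : Function.Injective (f.hom.app ξ.base)) : Function.Surjective (ξ.fibMap f.hom) := by
  letI : Algebra (X.ring ξ.base) Ω := ξ.toField.toAlgebra
  haveI := hX.1 ξ.base
  haveI := (A.property.2 ξ.base).1
  haveI := (A.property.2 ξ.base).2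
  haveI := (B.property.2 ξ.base).1
  haveI := (B.property.2 ξ.base).2
  obtain ⟨r, hr⟩ := exists_retraction_of_injective (R := X.ring ξ.base) (f.hom.app ξ.base) hf
  exact spec_surjective_of_retraction (R := X.ring ξ.base) (Ω := Ω) (f.hom.app ξ.base) r hr

end Groth.Agent.Lib.Helper14.FEt
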