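import Mathlib
import Groth.Agent.Lib.Helper14.FEt2

/-!
# helper14: the joint equaliser of finitely many endomorphisms of a split algebra `T^n` is étale
-/

set_option autoImplicit false
set_option linter.style.haveILetI false
universe u
open TensorProduct

namespace Groth.Agent.Lib.Helper14.FEt

section Core

variable {T : Type u} [CommRing T] {n : ℕ} {G : Type u}
variable (σ : G → ((Fin n → T) →ₐ[T] (Fin n → T)))

/-- matrix coefficients of the endomorphisms -/
def eps (g : G) (k j : Fin n) : T := σ g (Pi.single k 1) j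

lemma eps_idem (g : G) (k j : Fin n) : eps σ g k j * eps σ g k j = eps σ g k j := by
  unfold eps
  rw [← Pi.mul_apply, ← map_mul, ← Pi.single_mul, mul_one]

lemma eps_orth (g : G) {k k' : Fin n} (h : k ≠ k') (j : Fin n) :
    eps σ g k j * eps σ g k' j = 0 := by
  unfold eps
  rw [← Pi.mul_apply, ← map_mul]
  have : (Pi.single k (1 : T) * Pi.single k' (1 : T) : Fin n → T) = 0 := by
    funext i
    simp only [Pi.mul_apply, Pi.single_apply, Pi.zero_apply]
    by_cases h1 : i = k
    · have : i ≠ k' := fun h2 => h (h1.symm.trans h2)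
      simp [this]
    · simp [h1]
  rw [this, map_zero, Pi.zero_apply]

lemma eps_sum (g : G) (j : Fin n) : ∑ k, eps σ g k j = 1 := by
  unfold eps
  rw [← Finset.sum_apply, ← map_sum]
  have : (∑ k, Pi.single k (1 : T) : Fin n → T) = 1 := by
    funext i
    simp [Finset.sum_apply, Pi.single_apply]
  rw [this, map_one, Pi.one_apply]

lemma sigma_apply (g : G) (f : Fin n → T) (j : Fin n) :
    σ g f j = ∑ k, f k * eps σ g k j := by
  unfold eps
  conv_lhs => rw [pi_eq_sum_univ' f]
  rw [map_sum, Finset.sum_apply]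
  refine Finset.sum_congr rfl fun k _ => ?_
  rw [map_smul, Pi.smul_apply, smul_eq_mul]


variable [Fintype G] [DecidableEq G]

/-- the idempotent cutting out the locus where the endomorphisms act through the maps `π` -/
def cIdem (π : G × Fin n → Fin n) : T := ∏ i : G × Fin n, eps σ i.1 (π i) i.2

lemma cIdem_sum : ∑ π : G × Fin n → Fin n, cIdem σ π = 1 := by
  classical
  unfold cIdem
  have := Finset.prod_univ_sum (fun _ : G × Fin n => (Finset.univ : Finset (Fin n)))
    (fun (i : G × Fin n) (k : Fin n) => eps σ i.1 k i.2)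
  rw [Fintype.piFinset_univ] at this
  rw [← this]
  exact Finset.prod_eq_one fun i _ => eps_sum σ i.1 i.2

lemma cIdem_mul_eps_self (π : G × Fin n → Fin n) (g : G) (j : Fin n) :
    cIdem σ π * eps σ g (π (g, j)) j = cIdem σ π := by
  classical
  unfold cIdem
  rw [← Finset.mul_prod_erase Finset.univ _ (Finset.mem_univ (g, j))]
  rw [mul_assoc, mul_comm _ (eps σ g (π (g, j)) j), ← mul_assoc]
  change eps σ g (π (g, j)) j * eps σ g (π (g, j)) j * _ = _
  rw [eps_idem]

lemma cIdem_mul_eps_of_ne (π : G × Fin n → Fin n) (g : G) (j k : Fin n) (h : k ≠ π (g, j)) :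
    cIdem σ π * eps σ g k j = 0 := by
  rw [← cIdem_mul_eps_self σ π g j, mul_assoc, eps_orth σ g (Ne.symm h), mul_zero]

lemma cIdem_mul_sigma (π : G × Fin n → Fin n) (g : G) (f : Fin n → T) (j : Fin n) :
    cIdem σ π * σ g f j = cIdem σ π * f (π (g, j)) := by
  classical
  rw [sigma_apply, Finset.mul_sum, Finset.sum_eq_single (π (g, j))]
  · rw [mul_left_comm, cIdem_mul_eps_self, mul_comm]
  · intro k _ hk
    rw [mul_left_comm, cIdem_mul_eps_of_ne σ π g j k hk, mul_zero]
  · intro h
    exact absurd (Finset.mem_univ _) h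

lemma cIdem_orth {π π' : G × Fin n → Fin n} (h : π ≠ π') : cIdem σ π * cIdem σ π' = 0 := by
  classical
  obtain ⟨i, hi⟩ := Function.ne_iff.mp h
  obtain ⟨g, j⟩ := i
  calc cIdem σ π * cIdem σ π' = cIdem σ π * (cIdem σ π' * eps σ g (π' (g, j)) j) := by
        rw [cIdem_mul_eps_self]
    _ = (cIdem σ π * eps σ g (π' (g, j)) j) * cIdem σ π' := by ring
    _ = 0 := by rw [cIdem_mul_eps_of_ne σ π g j _ (Ne.symm hi), zero_mul]

lemma cIdem_idem (π : G × Fin n → Fin n) : cIdem σ π * cIdem σ π = cIdem σ π := by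
  classical
  conv_rhs => rw [← mul_one (cIdem σ π), ← cIdem_sum σ, Finset.mul_sum]
  rw [Finset.sum_eq_single π]
  · intro π' _ h
    exact cIdem_orth σ (Ne.symm h)
  · intro h
    exact absurd (Finset.mem_univ _) h


/-- the relation generating the orbit decomposition on the locus of `π` -/
def orbRel (π : G × Fin n → Fin n) (j k : Fin n) : Prop := ∃ g, π (g, j) = k

lemma cIdem_mul_eq_of_eqvGen (π : G × Fin n → Fin n) (f : Fin n → T) (hf : ∀ g, σ g f = f)
    {j k : Fin n} (h : Relation.EqvGen (orbRel π) j k) :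
    cIdem σ π * f j = cIdem σ π * f k := by
  induction h with
  | rel j k h =>
    obtain ⟨g, rfl⟩ := h
    rw [← cIdem_mul_sigma, hf]
  | refl j => rfl
  | symm j k _ ih => exact ih.symm
  | trans j k l _ _ ih1 ih2 => exact ih1.trans ih2

lemma eq_zero_of_cIdem_mul (x : T) (h : ∀ π : G × Fin n → Fin n, cIdem σ π * x = 0) : x = 0 := by
  rw [← one_mul x, ← cIdem_sum σ, Finset.sum_mul]
  exact Finset.sum_eq_zero fun π _ => h π

lemma mem_span_one_sub_cIdem (π : G × Fin n → Fin n) (x : T) :
    x ∈ Ideal.span {1 - cIdem σ π} ↔ cIdem σ π * x = 0 := by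
  rw [Ideal.mem_span_singleton']
  constructor
  · rintro ⟨a, rfl⟩
    have := cIdem_idem σ π
    linear_combination (-a) * this
  · intro h
    exact ⟨x, by linear_combination -h⟩

/-- the glued function -/
def glue (s : ∀ π : G × Fin n → Fin n, Quot (orbRel π) → T) (j : Fin n) : T :=
  ∑ π : G × Fin n → Fin n, cIdem σ π * s π (Quot.mk _ j)

lemma cIdem_mul_glue (s : ∀ π : G × Fin n → Fin n, Quot (orbRel π) → T) (π : G × Fin n → Fin n)
    (j : Fin n) : cIdem σ π * glue σ s j = cIdem σ π * s π (Quot.mk _ j) := by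
  unfold glue
  rw [Finset.mul_sum, Finset.sum_eq_single π]
  · rw [← mul_assoc, cIdem_idem]
  · intro π' _ h
    rw [← mul_assoc, cIdem_orth σ (Ne.symm h), zero_mul]
  · intro h
    exact absurd (Finset.mem_univ _) h

lemma glue_mem (s : ∀ π : G × Fin n → Fin n, Quot (orbRel π) → T) (g : G) :
    σ g (glue σ s) = glue σ s := by
  funext j
  rw [← sub_eq_zero]
  refine eq_zero_of_cIdem_mul σ _ fun π => ?_
  rw [mul_sub, cIdem_mul_sigma, cIdem_mul_glue, cIdem_mul_glue, sub_eq_zero]
  congr 2
  exact (Quot.sound ⟨g, rfl⟩).symm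

end Core

/-- The joint equaliser of finitely many `T`-algebra endomorphisms of `T^n` is étale over `T`. -/
theorem etale_eqLocus_pi {T : Type u} [CommRing T] {n : ℕ} {G : Type u} [Finite G]
    (σ : G → ((Fin n → T) →ₐ[T] (Fin n → T))) (K : Subalgebra T (Fin n → T))
    (hK : ∀ f, f ∈ K ↔ ∀ g, σ g f = f) : Algebra.Etale T K := by
  classical
  cases nonempty_fintype G
  let I : (G × Fin n → Fin n) → Ideal T := fun π => Ideal.span {1 - cIdem σ π}
  let Ψ : (Fin n → T) →ₐ[T] (∀ π : (G × Fin n → Fin n), Quot (orbRel π) → T ⧸ I π) :=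
    AlgHom.pi (fun π => AlgHom.pi (fun o =>
      (Ideal.Quotient.mkₐ T (I π)).comp (Pi.evalAlgHom T (fun _ : Fin n => T) o.out)))
  have hΨ : ∀ f π o, Ψ f π o = Ideal.Quotient.mk (I π) (f o.out) := fun f π o => rfl
  let Φ : K →ₐ[T] (∀ π : (G × Fin n → Fin n), Quot (orbRel π) → T ⧸ I π) := Ψ.comp K.val
  have hΦ : ∀ (f : K) π o, Φ f π o = Ideal.Quotient.mk (I π) (f.1 o.out) := fun f π o => rfl
  have hinj : Function.Injective Φ := by
    rw [injective_iff_map_eq_zero]
    intro f hf
    have hfK := (hK f.1).mp f.2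
    apply Subtype.ext
    funext j
    refine eq_zero_of_cIdem_mul σ _ fun π => ?_
    have h1 : Φ f π (Quot.mk _ j) = 0 := by rw [hf]; rfl
    rw [hΦ, Ideal.Quotient.eq_zero_iff_mem, mem_span_one_sub_cIdem] at h1
    rw [← h1]
    refine cIdem_mul_eq_of_eqvGen σ π f.1 hfK ?_
    exact (Quot.eq.mp (Quot.out_eq (Quot.mk (orbRel π) j))).symm
  have hsurj : Function.Surjective Φ := by
    intro t
    choose s hs using fun π o => Ideal.Quotient.mk_surjective (t π o)
    refine ⟨⟨glue σ s, (hK _).mpr (glue_mem σ s)⟩, ?_⟩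
    funext π o
    rw [hΦ, ← hs π o, ← sub_eq_zero, ← map_sub, Ideal.Quotient.eq_zero_iff_mem,
      mem_span_one_sub_cIdem, mul_sub, sub_eq_zero, cIdem_mul_glue, Quot.out_eq]
  haveI : ∀ π, Algebra.Etale T (T ⧸ I π) := fun π =>
    etale_of_surjective_of_ker (Ideal.Quotient.mkₐ T (I π)) (Ideal.Quotient.mkₐ_surjective T (I π))
      (1 - cIdem σ π) (IsIdempotentElem.one_sub (cIdem_idem σ π))
      (by
        change RingHom.ker (Ideal.Quotient.mk (I π)) = _
        rw [Ideal.mk_ker])
  haveI : ∀ π, Algebra.Etale T (Quot (orbRel π) → T ⧸ I π) := fun π => inferInstance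
  exact Algebra.Etale.of_equiv (AlgEquiv.ofBijective Φ ⟨hinj, hsurj⟩).symm


/-- Invariants of a finite family of endomorphisms of an algebra that becomes split after a
faithfully flat base change are étale. -/
theorem etale_invariants {R A T : Type u} [CommRing R] [CommRing A] [CommRing T] [Algebra R A]
    [Algebra R T] [Module.FaithfullyFlat R T] {n : ℕ} (e : T ⊗[R] A ≃ₐ[T] (Fin n → T))
    {G : Type u} [Finite G] (σ : G → (A →ₐ[R] A)) (K : Subalgebra R A)
    (hK : ∀ a, a ∈ K ↔ ∀ g, σ g a = a) : Algebra.Etale R K := by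
  classical
  cases nonempty_fintype G
  let σT : G → (T ⊗[R] A →ₐ[T] T ⊗[R] A) := fun g =>
    Algebra.TensorProduct.map (AlgHom.id T T) (σ g)
  let σ' : G → ((Fin n → T) →ₐ[T] (Fin n → T)) := fun g =>
    (e.toAlgHom.comp (σT g)).comp e.symm.toAlgHom
  let K' : Subalgebra T (Fin n → T) := ⨅ g, AlgHom.equalizer (σ' g) (AlgHom.id T _)
  have hK' : ∀ f, f ∈ K' ↔ ∀ g, σ' g f = f := by
    intro f
    simp only [K', Algebra.mem_iInf, AlgHom.mem_equalizer, AlgHom.id_apply]
  haveI : Algebra.Etale T K' := etale_eqLocus_pi σ' K' hK'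
  -- the comparison map
  let ι : T ⊗[R] K →ₐ[T] T ⊗[R] A := Algebra.TensorProduct.map (AlgHom.id T T) K.val
  have hι : ∀ x, ι x = K.val.toLinearMap.lTensor T x := by
    intro x
    induction x using TensorProduct.induction_on with
    | zero => simp
    | tmul t k => rfl
    | add a b ha hb => rw [map_add, map_add, ha, hb]
  have hσι : ∀ g x, σT g (ι x) = ι x := by
    intro g x
    induction x using TensorProduct.induction_on with
    | zero => simp
    | tmul t k =>
      change t ⊗ₜ[R] σ g k.1 = t ⊗ₜ[R] k.1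
      rw [(hK k.1).mp k.2 g]
    | add a b ha hb => rw [map_add, map_add, ha, hb]
  let Ξ : T ⊗[R] K →ₐ[T] K' := AlgHom.codRestrict (e.toAlgHom.comp ι) K' (by
    intro x
    rw [hK']
    intro g
    change e (σT g (e.symm (e (ι x)))) = e (ι x)
    rw [AlgEquiv.symm_apply_apply, hσι])
  have hΞ : ∀ x, (Ξ x).1 = e (ι x) := fun x => rfl
  have hinj : Function.Injective Ξ := by
    intro x y hxy
    have h1 : e (ι x) = e (ι y) := by rw [← hΞ, ← hΞ, hxy]
    have h2 := e.injective h1
    rw [hι, hι] at h2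
    exact Module.Flat.lTensor_preserves_injective_linearMap (M := T) K.val.toLinearMap
      Subtype.val_injective h2
  -- exactness
  let φ : A →ₗ[R] (G → A) := LinearMap.pi fun g => (σ g).toLinearMap - LinearMap.id
  have hex : Function.Exact K.val.toLinearMap φ := by
    intro a
    constructor
    · intro h
      have ha : a ∈ K := by
        rw [hK]
        intro g
        have := congrFun h g
        simpa [φ, sub_eq_zero] using this
      exact ⟨⟨a, ha⟩, rfl⟩
    · rintro ⟨k, rfl⟩
      funext g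
      simp [φ, (hK k.1).mp k.2 g]
  have hexT := Module.Flat.lTensor_exact T hex
  have hsurj : Function.Surjective Ξ := by
    intro f
    have hf := (hK' f.1).mp f.2
    have hy : ∀ g, σT g (e.symm f.1) = e.symm f.1 := by
      intro g
      have := hf g
      change e (σT g (e.symm f.1)) = f.1 at this
      apply e.injective
      rw [AlgEquiv.apply_symm_apply]
      exact this
    have hker : φ.lTensor T (e.symm f.1) = 0 := by
      apply (TensorProduct.piRight R R T (fun _ : G => A)).injective
      rw [map_zero]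
      funext g
      have key : ∀ y : T ⊗[R] A, TensorProduct.piRight R R T (fun _ : G => A) (φ.lTensor T y) g
          = σT g y - y := by
        intro y
        induction y using TensorProduct.induction_on with
        | zero => simp
        | tmul t a =>
          rw [LinearMap.lTensor_tmul, TensorProduct.piRight_apply, TensorProduct.piRightHom_tmul]
          change t ⊗ₜ[R] (σ g a - a) = t ⊗ₜ[R] σ g a - t ⊗ₜ[R] a
          rw [TensorProduct.tmul_sub]
        | add a b ha hb =>
          rw [map_add, map_add, Pi.add_apply, ha, hb, map_add]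
          abel
      rw [key, hy g, sub_self]
      rfl
    obtain ⟨x, hx⟩ := (hexT (e.symm f.1)).mp hker
    refine ⟨x, Subtype.ext ?_⟩
    rw [hΞ, hι, hx, AlgEquiv.apply_symm_apply]
  haveI : Algebra.Etale T (T ⊗[R] K) :=
    Algebra.Etale.of_equiv (AlgEquiv.ofBijective Ξ ⟨hinj, hsurj⟩).symm
  exact Algebra.Etale.of_etale_tensorProduct_of_faithfullyFlat T

end Groth.Agent.Lib.Helper14.FEt
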