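import Mathlib
import Groth.Prelude.Def_SchFin2
import Groth.Agent.Lib.Helper14.FEt1
import Groth.Agent.Lib.Helper14.FEt12

/-!
# helper14: invariants of a finite family of endomorphisms of an étale cover
-/

set_option autoImplicit false
set_option linter.style.haveILetI false
universe u
open SchFin SchFin.RSpace CategoryTheory TensorProduct

namespace Groth.Agent.Lib.Helper14.FEt

section BC

variable {R S : Type u} [CommRing R] [CommRing S] (g : R →+* S)

/-- `isBCAlong_pi` with an index type in the ambient universe -/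
theorem isBCAlong_pi' {ι : Type u} [Finite ι] {M N : ι → Type u} [∀ i, AddCommGroup (M i)]
    [∀ i, AddCommGroup (N i)] [∀ i, Module R (M i)] [∀ i, Module S (N i)]
    (f : ∀ i, M i →ₛₗ[g] N i) (F : (∀ i, M i) →ₛₗ[g] (∀ i, N i))
    (hF : ∀ x i, F x i = f i (x i)) (hf : ∀ i, IsBCAlong g (f i)) :
    IsBCAlong g F := by
  classical
  cases nonempty_fintype ι
  unfold IsBCAlong at hf ⊢
  letI : Algebra R S := g.toAlgebra
  letI : ∀ i, Module R (N i) := fun i => Module.compHom (N i) g
  haveI : ∀ i, IsScalarTower R S (N i) := fun i => IsScalarTower.of_algebraMap_smul fun _ _ => rfl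
  refine IsBaseChange.of_equiv
    (TensorProduct.piRight R S _ M ≪≫ₗ LinearEquiv.piCongrRight fun i => (hf i).equiv) ?_
  intro x
  funext i
  simp only [LinearEquiv.trans_apply, TensorProduct.piRight_apply, TensorProduct.piRightHom_tmul,
    LinearEquiv.piCongrRight_apply, IsBaseChange.equiv_tmul, one_smul, LinearMap.coe_mk,
    AddHom.coe_mk, hF]

/-- Flat base change of a kernel. -/
theorem isBCAlong_ker (hg : g.Flat) {M N M' N' Q Q' : Type u}
    [AddCommGroup M] [AddCommGroup N] [AddCommGroup M'] [AddCommGroup N'] [AddCommGroup Q]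
    [AddCommGroup Q'] [Module R M] [Module R N] [Module S M'] [Module S N'] [Module R Q]
    [Module S Q'] (α : M →ₛₗ[g] M') (β : N →ₛₗ[g] N') (hα : IsBCAlong g α) (hβ : IsBCAlong g β)
    (φ : M →ₗ[R] N) (φ' : M' →ₗ[S] N') (hcomm : ∀ x, β (φ x) = φ' (α x))
    (ι : Q →ₗ[R] M) (ι' : Q' →ₗ[S] M') (hι : Function.Injective ι) (hι' : Function.Injective ι')
    (hex : Function.Exact ι φ) (hex' : Function.Exact ι' φ')
    (ρ : Q →ₛₗ[g] Q') (hρ : ∀ x, ι' (ρ x) = α (ι x)) : IsBCAlong g ρ := by
  unfold IsBCAlong at hα hβ ⊢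
  unfold RingHom.Flat at hg
  letI : Algebra R S := g.toAlgebra
  letI : Module R M' := Module.compHom M' g
  letI : Module R N' := Module.compHom N' g
  letI : Module R Q' := Module.compHom Q' g
  haveI : IsScalarTower R S M' := IsScalarTower.of_algebraMap_smul fun _ _ => rfl
  haveI : IsScalarTower R S N' := IsScalarTower.of_algebraMap_smul fun _ _ => rfl
  haveI : IsScalarTower R S Q' := IsScalarTower.of_algebraMap_smul fun _ _ => rfl
  haveI : Module.Flat R S := hg
  let ρl : Q →ₗ[R] Q' := { toFun := ρ, map_add' := ρ.map_add, map_smul' := ρ.map_smulₛₗ }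
  let c : S ⊗[R] Q →ₗ[S] Q' := ρl.liftBaseChange S
  have hc : ∀ s q, c (s ⊗ₜ q) = s • ρ q := fun s q => rfl
  have hcompat : ∀ t : S ⊗[R] Q, hα.equiv (ι.lTensor S t) = ι' (c t) := by
    intro t
    induction t using TensorProduct.induction_on with
    | zero => simp
    | tmul s q =>
      rw [LinearMap.lTensor_tmul, hα.equiv_tmul, hc, map_smul, hρ]
      rfl
    | add a b ha hb => rw [map_add, map_add, map_add, map_add, ha, hb]
  have hcompat2 : ∀ t : S ⊗[R] M, hβ.equiv (φ.lTensor S t) = φ' (hα.equiv t) := by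
    intro t
    induction t using TensorProduct.induction_on with
    | zero => simp
    | tmul s m =>
      rw [LinearMap.lTensor_tmul, hβ.equiv_tmul, hα.equiv_tmul, map_smul]
      change s • β (φ m) = s • φ' (α m)
      rw [hcomm]
    | add a b ha hb => rw [map_add, map_add, map_add, map_add, ha, hb]
  have hinj : Function.Injective c := by
    rw [injective_iff_map_eq_zero]
    intro t ht
    have h1 : hα.equiv (ι.lTensor S t) = 0 := by rw [hcompat, ht, map_zero]
    have h2 : ι.lTensor S t = 0 := by
      rwa [LinearEquiv.map_eq_zero_iff] at h1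
    exact (injective_iff_map_eq_zero _).mp
      (Module.Flat.lTensor_preserves_injective_linearMap (M := S) ι hι) t h2
  have hexS := Module.Flat.lTensor_exact S hex
  have hsurj : Function.Surjective c := by
    intro y
    have h1 : φ.lTensor S (hα.equiv.symm (ι' y)) = 0 := by
      apply hβ.equiv.injective
      rw [hcompat2, LinearEquiv.apply_symm_apply, map_zero]
      exact hex'.apply_apply_eq_zero y
    obtain ⟨t, ht⟩ := (hexS _).mp h1
    refine ⟨t, hι' ?_⟩
    rw [← hcompat, ht, LinearEquiv.apply_symm_apply]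
  refine IsBaseChange.of_equiv (LinearEquiv.ofBijective c ⟨hinj, hsurj⟩) ?_
  intro x
  change c (1 ⊗ₜ x) = ρ x
  rw [hc, one_smul]

end BC

section Inv

variable {X : RSpace.{u}}

/-- the subalgebra of invariants at a point -/
def invSub {A : Alg X} {G : Type u} (σ : G → (A ⟶ A)) (p : X.pt) :
    Subalgebra (X.ring p) (A.carrier p) where
  carrier := {a | ∀ g, (σ g).app p a = a}
  mul_mem' {a b} ha hb g := by rw [map_mul, ha g, hb g]
  add_mem' {a b} ha hb g := by rw [map_add, ha g, hb g]
  algebraMap_mem' r g := ((σ g).app p).commutes r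

lemma mem_invSub {A : Alg X} {G : Type u} (σ : G → (A ⟶ A)) (p : X.pt) (a : A.carrier p) :
    a ∈ invSub σ p ↔ ∀ g, (σ g).app p a = a := Iff.rfl

/-- the algebra of invariants -/
def invAlg {A : Alg X} {G : Type u} (σ : G → (A ⟶ A)) : Alg X where
  carrier p := ↥(invSub σ p)
  res {p q} h := RingHom.codRestrict ((A.res h).comp (invSub σ p).val.toRingHom) (invSub σ q) (by
    rintro ⟨a, ha⟩ g
    change (σ g).app q (A.res h a) = A.res h a
    rw [← (σ g).compat h a, ha g])
  res_algebraMap h a := Subtype.ext (A.res_algebraMap h a)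
  res_self p b := Subtype.ext (A.res_self p b.1)
  res_comp h h' b := Subtype.ext (A.res_comp h h' b.1)

/-- the inclusion of the invariants -/
def invAlgIncl {A : Alg X} {G : Type u} (σ : G → (A ⟶ A)) : invAlg σ ⟶ A :=
  ⟨fun p => (invSub σ p).val, fun _ _ => rfl⟩

lemma invAlgIncl_comp {A : Alg X} {G : Type u} (σ : G → (A ⟶ A)) (g : G) :
    invAlgIncl σ ≫ σ g = invAlgIncl σ := by
  apply Alg.hom_ext
  intro p
  apply AlgHom.ext
  intro a
  exact a.2 g

/-- the factorisation of an invariant morphism through the invariants -/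
def invAlgLift {A : Alg X} {G : Type u} (σ : G → (A ⟶ A)) {C : Alg X} (f : C ⟶ A)
    (hf : ∀ g, f ≫ σ g = f) : C ⟶ invAlg σ :=
  ⟨fun p => AlgHom.codRestrict (f.app p) (invSub σ p) (fun c g =>
      congrArg (fun k : C ⟶ A => k.app p c) (hf g)),
    fun h b => Subtype.ext (f.compat h b)⟩

lemma invAlgLift_fac {A : Alg X} {G : Type u} (σ : G → (A ⟶ A)) {C : Alg X} (f : C ⟶ A)
    (hf : ∀ g, f ≫ σ g = f) : invAlgLift σ f hf ≫ invAlgIncl σ = f := by
  apply Alg.hom_ext
  intro p
  apply AlgHom.ext
  intro a
  rfl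

lemma invAlgIncl_injective {A : Alg X} {G : Type u} (σ : G → (A ⟶ A)) (p : X.pt) :
    Function.Injective ((invAlgIncl σ).app p) := Subtype.val_injective

theorem invAlg_isEtCover (hX : X.IsFinSp) {A : Alg X} (hA : A.IsEtCover) {G : Type u} [Finite G]
    (σ : G → (A ⟶ A))
    (hlt : ∃ (B : Alg X) (n : ℕ), B.IsCovering ∧ ∀ p : X.pt,
      Nonempty (TensorProduct (X.ring p) (B.carrier p) (A.carrier p) ≃ₐ[B.carrier p]
        (Fin n → B.carrier p))) : (invAlg σ).IsEtCover := by
  refine ⟨fun p q h => ?_, fun p => ?_⟩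
  · -- quasi-coherence: flat base change of a kernel
    let φ : ∀ p : X.pt, A.carrier p →ₗ[X.ring p] (G → A.carrier p) := fun p =>
      LinearMap.pi fun g => ((σ g).app p).toLinearMap - LinearMap.id
    have hex : ∀ p : X.pt, Function.Exact (invSub σ p).val.toLinearMap (φ p) := by
      intro p a
      constructor
      · intro h
        have ha : a ∈ invSub σ p := by
          intro g
          have := congrFun h g
          simpa [φ, sub_eq_zero] using this
        exact ⟨⟨a, ha⟩, rfl⟩
      · rintro ⟨k, rfl⟩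
        funext g
        simp [φ, k.2 g]
    let β : (G → A.carrier p) →ₛₗ[X.res h] (G → A.carrier q) :=
      { toFun := fun x g => A.toMod.res h (x g)
        map_add' := fun x y => funext fun g => map_add _ _ _
        map_smul' := fun r x => funext fun g => (A.toMod.res h).map_smulₛₗ r (x g) }
    have hβ : IsBCAlong (X.res h) β :=
      isBCAlong_pi' (X.res h) (fun _ : G => A.toMod.res h) β (fun _ _ => rfl) (fun _ => hA.1 p q h)
    refine isBCAlong_ker (X.res h) (hX.2 p q h) (A.toMod.res h) β (hA.1 p q h) hβ (φ p) (φ q) ?_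
      (invSub σ p).val.toLinearMap (invSub σ q).val.toLinearMap Subtype.val_injective
      Subtype.val_injective (hex p) (hex q) ((invAlg σ).toMod.res h) (fun x => rfl)
    intro (x : A.carrier p)
    funext g
    change A.res h ((σ g).app p x - x) = (σ g).app q (A.res h x) - A.res h x
    rw [map_sub, (σ g).compat h x]
  · haveI := hX.1 p
    haveI := (hA.2 p).1
    haveI := (hA.2 p).2
    constructor
    · change Module.Finite (X.ring p) ↥(Subalgebra.toSubmodule (invSub σ p))
      infer_instance
    · obtain ⟨B, n, hB, he⟩ := hlt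
      obtain ⟨e⟩ := he p
      haveI := (hB.2 p).2
      exact etale_invariants e (fun g => (σ g).app p) (invSub σ p) (fun a => Iff.rfl)

end Inv

end Groth.Agent.Lib.Helper14.FEt
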