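import Mathlib

/-!
# helper14: two points agreeing on the invariants of a finite group are conjugate
-/

set_option autoImplicit false
set_option linter.style.haveILetI false
universe u
open TensorProduct

namespace Groth.Agent.Lib.Helper14.FEt

section Orbit

variable {R A Ω : Type u} [CommRing R] [CommRing A] [Algebra R A] [Field Ω] [Algebra R Ω]
variable {G : Type u} [Group G] [Fintype G] [DecidableEq G]

/-- the generic linear form with coefficients `c` -/
noncomputable def gen {S : Type u} [CommRing S] (c : G → S) : MvPolynomial G S :=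
  ∑ h, MvPolynomial.monomial (Finsupp.single h 1) (c h)

omit [Group G] [DecidableEq G] in
lemma map_gen {S S' : Type u} [CommRing S] [CommRing S'] (f : S →+* S') (c : G → S) :
    MvPolynomial.map f (gen c) = gen (fun h => f (c h)) := by
  unfold gen
  rw [map_sum]
  refine Finset.sum_congr rfl fun h _ => ?_
  rw [MvPolynomial.map_monomial]

omit [Group G] in
lemma coeff_gen {S : Type u} [CommRing S] (c : G → S) (g : G) :
    MvPolynomial.coeff (Finsupp.single g 1) (gen c) = c g := by
  unfold gen
  rw [MvPolynomial.coeff_sum, Finset.sum_eq_single g]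
  · rw [MvPolynomial.coeff_monomial, if_pos rfl]
  · intro h _ hne
    rw [MvPolynomial.coeff_monomial, if_neg]
    intro heq
    exact hne ((Finsupp.single_left_inj one_ne_zero).mp heq)
  · intro h
    exact absurd (Finset.mem_univ _) h


/-- Two algebra maps to a field that agree on the invariants of a finite group of automorphisms
differ by an element of the group. -/
theorem exists_eq_comp_of_eq_on_invariants (σ : G → (A →ₐ[R] A))
    (hσ1 : ∀ a, σ 1 a = a) (hσmul : ∀ g h a, σ h (σ g a) = σ (g * h) a)
    (φ ψ : A →ₐ[R] Ω) (hinv : ∀ a, (∀ g, σ g a = a) → φ a = ψ a) :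
    ∃ g, ψ = φ.comp (σ g) := by
  by_contra hne
  push Not at hne
  have hne' : ∀ g, ∃ a, ψ a ≠ φ (σ g a) := by
    intro g
    by_contra h
    push Not at h
    exact hne g (AlgHom.ext h)
  choose a ha using hne'
  -- the action on polynomials
  let θ : G → (MvPolynomial G A →+* MvPolynomial G A) := fun g =>
    MvPolynomial.map (σ g).toRingHom
  let Φ : MvPolynomial G A →+* MvPolynomial G Ω := MvPolynomial.map φ.toRingHom
  let Ψ : MvPolynomial G A →+* MvPolynomial G Ω := MvPolynomial.map ψ.toRingHom
  let P : Polynomial (MvPolynomial G A) :=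
    ∏ g, (Polynomial.X - Polynomial.C (gen (fun h => σ g (a h))))
  have hθP : ∀ h, Polynomial.map (θ h) P = P := by
    intro h
    simp only [P, Polynomial.map_prod, Polynomial.map_sub, Polynomial.map_X, Polynomial.map_C]
    have : ∀ g, θ h (gen (fun k => σ g (a k))) = gen (fun k => σ (g * h) (a k)) := by
      intro g
      simp only [θ]
      rw [map_gen]
      congr 1
      funext k
      exact hσmul g h (a k)
    simp only [this]
    exact Fintype.prod_equiv (Equiv.mulRight h) _ _ (fun g => rfl)
  have hinvB : ∀ b : MvPolynomial G A, (∀ h, θ h b = b) → Φ b = Ψ b := by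
    intro b hb
    ext m
    simp only [Φ, Ψ, MvPolynomial.coeff_map]
    apply hinv
    intro g
    have := congrArg (MvPolynomial.coeff m) (hb g)
    simp only [θ, MvPolynomial.coeff_map] at this
    exact this
  have hPmap : Polynomial.map Φ P = Polynomial.map Ψ P := by
    ext k : 1
    rw [Polynomial.coeff_map, Polynomial.coeff_map]
    apply hinvB
    intro h
    have := congrArg (fun Q => Polynomial.coeff Q k) (hθP h)
    simpa only [Polynomial.coeff_map] using this
  have hroot : Polynomial.eval (gen (fun h => ψ (a h))) (Polynomial.map Ψ P) = 0 := by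
    simp only [P, Polynomial.map_prod, Polynomial.map_sub, Polynomial.map_X, Polynomial.map_C,
      Polynomial.eval_prod, Polynomial.eval_sub, Polynomial.eval_X, Polynomial.eval_C]
    apply Finset.prod_eq_zero (Finset.mem_univ (1 : G))
    simp only [Ψ]
    rw [map_gen, sub_eq_zero]
    congr 1
    funext k
    change ψ (a k) = ψ (σ 1 (a k))
    rw [hσ1]
  rw [← hPmap] at hroot
  simp only [P, Polynomial.map_prod, Polynomial.map_sub, Polynomial.map_X, Polynomial.map_C,
    Polynomial.eval_prod, Polynomial.eval_sub, Polynomial.eval_X, Polynomial.eval_C] at hroot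
  obtain ⟨g, -, hg⟩ := Finset.prod_eq_zero_iff.mp hroot
  rw [sub_eq_zero] at hg
  simp only [Φ] at hg
  rw [map_gen] at hg
  have := congrArg (MvPolynomial.coeff (Finsupp.single g 1)) hg
  rw [coeff_gen, coeff_gen] at this
  exact ha g this

end Orbit

end Groth.Agent.Lib.Helper14.FEt
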