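import Mathlib
import Groth.Prelude.Def_SchFin2
import Groth.Agent.Lib.Helper14.FEt10
import Groth.Agent.Lib.Helper14.FEt11
import Groth.Agent.Lib.Helper14.FEt13
import Groth.Agent.Lib.Helper14.FEt14

/-!
# helper14: quotients by finite groups in the opposite of the category of étale covers, and their
preservation by the fibre functor
-/

set_option autoImplicit false
set_option linter.style.haveILetI false
universe u
open SchFin SchFin.RSpace CategoryTheory CategoryTheory.Limits TensorProduct

namespace Groth.Agent.Lib.Helper14.FEt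

variable {X : RSpace.{u}} {Ω : Type u} [Field Ω] [IsAlgClosed Ω] (ξ : GeomPt X Ω)

/-- two points of the fibre with the same image in the fibre of the invariants are conjugate -/
theorem fib_orbit {A : FEt X} {G : Type u} [Group G] [Finite G] (σ : G → (A ⟶ A))
    (hσ1 : σ 1 = 𝟙 A) (hσmul : ∀ g h, σ (g * h) = σ g ≫ σ h)
    {P : FEt X} (incl : P ⟶ A)
    (hincl : ∀ a : A.obj.carrier ξ.base, (∀ g, (σ g).hom.app ξ.base a = a) →
      a ∈ Set.range (incl.hom.app ξ.base))
    (y y' : ξ.Fib A.obj) (h : ξ.fibMap incl.hom y = ξ.fibMap incl.hom y') :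
    ∃ g, y' = ξ.fibMap (σ g).hom y := by
  classical
  cases nonempty_fintype G
  letI : Algebra (X.ring ξ.base) Ω := ξ.toField.toAlgebra
  haveI := (A.property.2 ξ.base).1
  haveI := (A.property.2 ξ.base).2
  haveI := (P.property.2 ξ.base).1
  haveI := (P.property.2 ξ.base).2
  obtain ⟨φ, rfl⟩ := (ptEquiv (R := X.ring ξ.base) (Ω := Ω) (A.obj.carrier ξ.base)).surjective y
  obtain ⟨ψ, rfl⟩ := (ptEquiv (R := X.ring ξ.base) (Ω := Ω) (A.obj.carrier ξ.base)).surjective y'
  have h1 : φ.comp (incl.hom.app ξ.base) = ψ.comp (incl.hom.app ξ.base) := by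
    apply (ptEquiv (R := X.ring ξ.base) (Ω := Ω) (P.obj.carrier ξ.base)).injective
    rw [← ptEquiv_natural, ← ptEquiv_natural]
    exact h
  obtain ⟨g, hg⟩ := exists_eq_comp_of_eq_on_invariants (R := X.ring ξ.base)
    (fun g => (σ g).hom.app ξ.base)
    (fun a => by rw [hσ1]; rfl)
    (fun g h a => by rw [hσmul]; rfl) φ ψ
    (fun a ha => by
      obtain ⟨b, rfl⟩ := hincl a ha
      exact congrArg (fun k => k b) h1)
  refine ⟨g, ?_⟩
  rw [hg]
  exact (ptEquiv_natural (R := X.ring ξ.base) (Ω := Ω) ((σ g).hom.app ξ.base) φ).symm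


/-- quotients by finite groups exist in the opposite of the category of étale covers and are
preserved by the fibre functor -/
theorem exists_quotient_cocone (hX : X.IsFinSp)
    (hlt : ∀ A : FEt X, ∃ (B : Alg X) (n : ℕ), B.IsCovering ∧
      ∀ p : X.pt, Nonempty (TensorProduct (X.ring p) (B.carrier p) (A.obj.carrier p)
        ≃ₐ[B.carrier p] (Fin n → B.carrier p)))
    (G : Type u) [Group G] [Finite G] (F : SingleObj G ⥤ (FEt X)ᵒᵖ) :
    ∃ c : Cocone F, Nonempty (IsColimit c) ∧
      Nonempty (IsColimit (ξ.fibFunctor.mapCocone c)) := by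
  let A : FEt X := (F.obj (SingleObj.star G)).unop
  let τ : G → (A ⟶ A) := fun g =>
    (F.map (X := SingleObj.star G) (Y := SingleObj.star G) g).unop
  let σ : G → (A.obj ⟶ A.obj) := fun g => (τ g).hom
  have hτ1 : τ 1 = 𝟙 A := by
    change (F.map (𝟙 (SingleObj.star G))).unop = 𝟙 A
    rw [F.map_id]
    rfl
  have hτmul : ∀ g h, τ (g * h) = τ g ≫ τ h := by
    intro g h
    change (F.map (X := SingleObj.star G) (Y := SingleObj.star G) (g * h)).unop = _
    have : (g * h : G) = (show SingleObj.star G ⟶ SingleObj.star G from h) ≫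
        (show SingleObj.star G ⟶ SingleObj.star G from g) := rfl
    rw [this, F.map_comp]
    rfl
  have hP : (invAlg σ).IsEtCover := invAlg_isEtCover hX A.property σ (hlt A)
  let P : FEt X := ⟨invAlg σ, hP⟩
  let incl : P ⟶ A := ObjectProperty.homMk (invAlgIncl σ)
  have hincl : ∀ g : G, incl ≫ τ g = incl := by
    intro g
    apply ObjectProperty.hom_ext
    exact invAlgIncl_comp σ g
  let c : Cocone F :=
    { pt := Opposite.op P
      ι :=
        { app := fun _ => incl.op
          naturality := fun j j' g => by
            change F.map g ≫ incl.op = incl.op ≫ 𝟙 _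
            rw [Category.comp_id]
            apply Quiver.Hom.unop_inj
            exact hincl g } }
  have hs : ∀ (s : Cocone F) (g : G), (s.ι.app (SingleObj.star G)).unop.hom ≫ σ g =
      (s.ι.app (SingleObj.star G)).unop.hom := by
    intro s g
    have := s.ι.naturality (X := SingleObj.star G) (Y := SingleObj.star G) g
    have h2 : F.map (X := SingleObj.star G) (Y := SingleObj.star G) g ≫
        s.ι.app (SingleObj.star G) = s.ι.app (SingleObj.star G) := by
      rw [this]
      exact Category.comp_id _
    have h3 := congrArg (fun k => k.unop.hom) h2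
    exact h3
  have hc : IsColimit c :=
    { desc := fun s => (ObjectProperty.homMk
        (invAlgLift σ (s.ι.app (SingleObj.star G)).unop.hom (hs s)) : s.pt.unop ⟶ P).op
      fac := fun s j => by
        apply Quiver.Hom.unop_inj
        apply ObjectProperty.hom_ext
        exact invAlgLift_fac σ _ (hs s)
      uniq := fun s m hm => by
        apply Quiver.Hom.unop_inj
        apply ObjectProperty.hom_ext
        apply SchFin.Alg.hom_ext
        intro p
        apply AlgHom.ext
        intro a
        apply Subtype.ext
        have := hm (SingleObj.star G)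
        exact congrArg (fun k => k.unop.hom.app p a) this }
  refine ⟨c, ⟨hc⟩, ⟨?_⟩⟩
  -- the image cocone
  have hsurj : Function.Surjective (ξ.fibMap incl.hom) :=
    fibMap_surjective_of_injective ξ hX incl (invAlgIncl_injective σ ξ.base)
  have horb : ∀ y y' : ξ.Fib A.obj, ξ.fibMap incl.hom y = ξ.fibMap incl.hom y' →
      ∃ g, y' = ξ.fibMap (τ g).hom y := fun y y' h =>
    fib_orbit ξ τ hτ1 hτmul incl (fun a ha => ⟨⟨a, ha⟩, rfl⟩) y y' h
  have hnat : ∀ (t : Cocone (F ⋙ ξ.fibFunctor)) (g : G) (y : ξ.Fib A.obj),
      (t.ι.app (SingleObj.star G)) (ξ.fibMap (τ g).hom y) = (t.ι.app (SingleObj.star G)) y := by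
    intro t g y
    have := t.ι.naturality (X := SingleObj.star G) (Y := SingleObj.star G) g
    exact congrArg (fun k => k y) this
  refine
    { desc := fun t => FintypeCat.homMk (fun z =>
        (t.ι.app (SingleObj.star G)) (Function.surjInv hsurj z))
      fac := fun t j => by
        ext y
        change (t.ι.app (SingleObj.star G)) (Function.surjInv hsurj (ξ.fibMap incl.hom y)) =
          (t.ι.app (SingleObj.star G)) y
        obtain ⟨g, hg⟩ := horb _ y (Function.surjInv_eq hsurj (ξ.fibMap incl.hom y))
        have h5 := hnat t g (Function.surjInv hsurj (ξ.fibMap incl.hom y))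
        rw [← hg] at h5
        exact h5.symm
      uniq := fun t m hm => by
        ext z
        change m z = (t.ι.app (SingleObj.star G)) (Function.surjInv hsurj z)
        have h1 := congrArg (fun k => k (Function.surjInv hsurj z)) (hm (SingleObj.star G))
        rw [← h1]
        change m z = m (ξ.fibMap incl.hom (Function.surjInv hsurj z))
        rw [Function.surjInv_eq hsurj z] }

end Groth.Agent.Lib.Helper14.FEt
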