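import Mathlib
import Groth.Prelude.Def_SchFin2

/-!
# helper14: cardinality of fibres and uniform ranks of étale covers
-/

set_option autoImplicit false
set_option linter.style.haveILetI false
universe u
open SchFin SchFin.RSpace CategoryTheory TensorProduct

namespace Groth.Agent.Lib.Helper14.FEt

/-- the spectrum of `Ω^n` has `n` points -/
theorem card_primeSpectrum_fin_fun (Ω : Type u) [Field Ω] (n : ℕ) :
    Nat.card (PrimeSpectrum (Fin n → Ω)) = n := by
  let φ : Fin n → PrimeSpectrum (Fin n → Ω) := fun i =>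
    PrimeSpectrum.sigmaToPi (fun _ : Fin n => Ω) ⟨i, ⊥⟩
  have hinj : Function.Injective φ := by
    intro i j hij
    have := PrimeSpectrum.sigmaToPi_injective (R := fun _ : Fin n => Ω) hij
    exact congrArg Sigma.fst this
  have hsurj : Function.Surjective φ := by
    intro P
    obtain ⟨i, q, hq⟩ := PrimeSpectrum.exists_comap_evalRingHom_eq (R := fun _ : Fin n => Ω) P
    obtain rfl : q = ⊥ := Subsingleton.elim _ _
    exact ⟨i, hq⟩
  rw [← Nat.card_congr (Equiv.ofBijective φ ⟨hinj, hsurj⟩), Nat.card_fin]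

/-- the spectrum of a finite étale algebra over an algebraically closed field has as many points as
its dimension -/
theorem card_primeSpectrum_of_etale (Ω : Type u) [Field Ω] [IsAlgClosed Ω] (E : Type u)
    [CommRing E] [Algebra Ω E] [Module.Finite Ω E] [Algebra.Etale Ω E] :
    Nat.card (PrimeSpectrum E) = Module.finrank Ω E := by
  haveI : Algebra.IsFiniteSplit Ω E := inferInstance
  obtain ⟨n, ⟨e⟩⟩ := Algebra.IsFiniteSplit.nonempty_algEquiv_fun Ω E
  rw [e.toLinearEquiv.finrank_eq, Module.finrank_fin_fun,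
    ← card_primeSpectrum_fin_fun Ω n]
  exact Nat.card_congr (PrimeSpectrum.comapEquiv e.toRingEquiv).toEquiv

/-- the prime of the ring of the base point cut out by a geometric point -/
noncomputable def geomPrime {X : RSpace.{u}} {Ω : Type u} [Field Ω] [IsAlgClosed Ω]
    (ξ : GeomPt X Ω) : PrimeSpectrum (X.ring ξ.base) :=
  PrimeSpectrum.comap ξ.toField ⊥

/-- the number of points of the fibre is the rank at the prime of the geometric point -/
theorem card_fib {X : RSpace.{u}} {Ω : Type u} [Field Ω] [IsAlgClosed Ω]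
    (ξ : GeomPt X Ω) (A : FEt X) :
    Nat.card (ξ.Fib A.obj) = Module.rankAtStalk (A.obj.carrier ξ.base) (geomPrime ξ) := by
  letI : Algebra (X.ring ξ.base) Ω := ξ.toField.toAlgebra
  haveI := (A.property.2 ξ.base).1
  haveI := (A.property.2 ξ.base).2
  have h1 : Nat.card (ξ.Fib A.obj) = Module.finrank Ω (Ω ⊗[X.ring ξ.base] A.obj.carrier ξ.base) :=
    card_primeSpectrum_of_etale Ω (Ω ⊗[X.ring ξ.base] A.obj.carrier ξ.base)
  rw [h1]
  have h2 := Module.rankAtStalk_baseChange (R := X.ring ξ.base) (M := A.obj.carrier ξ.base)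
    (S := Ω) ⊥
  have h3 : Module.rankAtStalk (R := Ω) (Ω ⊗[X.ring ξ.base] A.obj.carrier ξ.base) ⊥ =
      Module.finrank Ω (Ω ⊗[X.ring ξ.base] A.obj.carrier ξ.base) := by
    rw [Module.rankAtStalk_eq_finrank_of_free]
    rfl
  rw [← h3, h2]
  rfl

/-- local triviality forces the rank to be the same at every prime of every point -/
theorem rank_uniform {X : RSpace.{u}} (A : FEt X) (B : Alg X) (n : ℕ) (hB : B.IsCovering)
    (hiso : ∀ p : X.pt, Nonempty (TensorProduct (X.ring p) (B.carrier p) (A.obj.carrier p)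
      ≃ₐ[B.carrier p] (Fin n → B.carrier p)))
    (p : X.pt) (P : PrimeSpectrum (X.ring p)) :
    Module.rankAtStalk (A.obj.carrier p) P = n := by
  haveI := (hB.2 p).1
  haveI := (hB.2 p).2
  haveI := (A.property.2 p).1
  haveI := (A.property.2 p).2
  obtain ⟨𝔮, h𝔮⟩ := PrimeSpectrum.comap_surjective_of_faithfullyFlat (A := X.ring p)
    (B := B.carrier p) P
  obtain ⟨e⟩ := hiso p
  haveI : Nontrivial (B.carrier p) := 𝔮.nontrivial
  have h1 := Module.rankAtStalk_baseChange (R := X.ring p) (M := A.obj.carrier p)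
    (S := B.carrier p) 𝔮
  rw [h𝔮] at h1
  rw [← h1, Module.rankAtStalk_eq_of_equiv e.toLinearEquiv,
    Module.rankAtStalk_eq_finrank_of_free, Module.finrank_fin_fun]
  rfl

end Groth.Agent.Lib.Helper14.FEt
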