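import Mathlib

/-!
# helper14: quotients of affine schemes over an affine base by a group, as colimits in
`AffProp.{u}.Over ⊤ S`

For a functor `K : SingleObj G ⥤ AffProp.{u}.Over ⊤ S` over an affine base `S`, a cocone `c`
"is the ring of invariants" (`IsInv`) if the map on global sections `Γ(c.pt) → Γ(K ⋆)` is injective
with image the invariants.  Such a cocone is a colimit (`isColimitOfIsInv`) and always exists
(`exists_isInv`).
-/

set_option autoImplicit false

namespace Groth.Agent.Lib.helper14.FEtGal

open AlgebraicGeometry CategoryTheory CategoryTheory.Limits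

universe u

/-- factor a ring map through an injective one -/
lemma exists_ringHom_factor {A B C : Type*} [CommRing A] [CommRing B] [CommRing C] (φ : A →+* B)
    (hφ : Function.Injective φ) (ψ : C →+* B) (h : ∀ t, ∃ a, φ a = ψ t) :
    ∃ θ : C →+* A, φ.comp θ = ψ := by
  choose f hf using h
  refine ⟨{ toFun := f
            map_one' := hφ (by rw [hf, map_one, map_one])
            map_mul' := fun x y => hφ (by rw [hf, map_mul, map_mul, hf, hf])
            map_zero' := hφ (by rw [hf, map_zero, map_zero])
            map_add' := fun x y => hφ (by rw [hf, map_add, map_add, hf, hf]) }, RingHom.ext hf⟩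

lemma isoSpec_inv_appTop' (Z : Scheme.{u}) [IsAffine Z] :
    Z.isoSpec.inv.appTop = (Scheme.ΓSpecIso Γ(Z, ⊤)).inv := by
  rw [← cancel_mono (Scheme.ΓSpecIso Γ(Z, ⊤)).hom, Iso.inv_hom_id, ← Scheme.toSpecΓ_appTop,
    ← Scheme.isoSpec_hom, ← Scheme.Hom.comp_appTop, Iso.hom_inv_id]
  rfl

/-- a morphism to an affine scheme with prescribed map on global sections -/
lemma exists_hom_appTop {X Z : Scheme.{u}} [IsAffine Z] (θ : Γ(Z, ⊤) ⟶ Γ(X, ⊤)) :
    ∃ f : X ⟶ Z, f.appTop = θ := by
  refine ⟨X.toSpecΓ ≫ Spec.map θ ≫ Z.isoSpec.inv, ?_⟩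
  rw [Scheme.Hom.comp_appTop, Scheme.Hom.comp_appTop, Scheme.toSpecΓ_appTop,
    isoSpec_inv_appTop', Category.assoc, Scheme.ΓSpecIso_naturality, Iso.inv_hom_id_assoc]

/-- the morphism property of affine morphisms -/
abbrev AffProp : MorphismProperty Scheme.{u} := @IsAffineHom

variable {S : Scheme.{u}} {G : Type u} [Group G]

/-- a group element as an endomorphism of the unique object of `SingleObj G` -/
abbrev el (g : G) : SingleObj.star G ⟶ SingleObj.star G := g

variable (K : SingleObj G ⥤ AffProp.{u}.Over ⊤ S)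

/-- A cocone under a `G`-object of affine `S`-schemes whose global sections are the invariants. -/
structure IsInv (c : Cocone K) : Prop where
  inj : Function.Injective (c.ι.app (SingleObj.star G)).left.appTop.hom
  surj : ∀ b : Γ((K.obj (SingleObj.star G)).left, ⊤),
    (∀ g : G, (K.map (el g)).left.appTop.hom b = b) →
      ∃ a, (c.ι.app (SingleObj.star G)).left.appTop.hom a = b

variable {K}

lemma isAffine_left [IsAffine S] (Z : AffProp.{u}.Over ⊤ S) : IsAffine Z.left :=
  haveI : IsAffineHom (Y := S) Z.hom := Z.prop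
  isAffine_of_isAffineHom (Y := S) Z.hom

/-- the functions pulled back from a cocone are invariant -/
lemma cocone_inv (s : Cocone K) (g : G) (t : Γ(s.pt.left, ⊤)) :
    (K.map (el g)).left.appTop.hom ((s.ι.app (SingleObj.star G)).left.appTop.hom t) =
      (s.ι.app (SingleObj.star G)).left.appTop.hom t := by
  have h1 : K.map (el g) ≫ s.ι.app (SingleObj.star G) = s.ι.app (SingleObj.star G) := s.w (el g)
  have h2 : (K.map (el g)).left ≫ (s.ι.app (SingleObj.star G)).left =
      (s.ι.app (SingleObj.star G)).left := by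
    rw [← MorphismProperty.Comma.comp_left, h1]
  have h3 := congrArg (fun k => k.appTop.hom t) h2
  simpa [Scheme.Hom.comp_appTop] using h3

/-- A cocone whose global sections are the invariants is a colimit. -/
theorem nonempty_isColimit_of_isInv [IsAffine S] {c : Cocone K} (h : IsInv K c) :
    Nonempty (IsColimit c) := by
  classical
  haveI : IsAffine c.pt.left := isAffine_left c.pt
  have key : ∀ s : Cocone K, ∃ m : c.pt ⟶ s.pt,
      c.ι.app (SingleObj.star G) ≫ m = s.ι.app (SingleObj.star G) ∧
        ∀ m', c.ι.app (SingleObj.star G) ≫ m' = s.ι.app (SingleObj.star G) → m' = m := by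
    intro s
    haveI : IsAffine s.pt.left := isAffine_left s.pt
    let φ := (c.ι.app (SingleObj.star G)).left.appTop
    let ψ := (s.ι.app (SingleObj.star G)).left.appTop
    obtain ⟨θ, hθ⟩ := exists_ringHom_factor φ.hom h.inj ψ.hom
      (fun t => h.surj (ψ.hom t) (fun g => cocone_inv s g t))
    obtain ⟨d, hd⟩ := exists_hom_appTop (X := c.pt.left) (Z := s.pt.left) (CommRingCat.ofHom θ)
    haveI hφ : Mono φ := ConcreteCategory.mono_of_injective φ h.inj
    have hθ' : CommRingCat.ofHom θ ≫ φ = ψ := CommRingCat.hom_ext hθ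
    have hfac : (c.ι.app (SingleObj.star G)).left ≫ d = (s.ι.app (SingleObj.star G)).left := by
      apply ext_of_isAffine
      rw [Scheme.Hom.comp_appTop, hd]
      exact hθ'
    have hw : d ≫ s.pt.hom = c.pt.hom := by
      apply ext_of_isAffine (Y := S)
      rw [← cancel_mono φ, Scheme.Hom.comp_appTop, hd, Category.assoc, hθ']
      have h1 : (s.ι.app (SingleObj.star G)).left ≫ s.pt.hom = (K.obj (SingleObj.star G)).hom :=
        MorphismProperty.Over.w _
      have h2 : (c.ι.app (SingleObj.star G)).left ≫ c.pt.hom = (K.obj (SingleObj.star G)).hom :=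
        MorphismProperty.Over.w _
      show s.pt.hom.appTop ≫ (s.ι.app (SingleObj.star G)).left.appTop =
        c.pt.hom.appTop ≫ (c.ι.app (SingleObj.star G)).left.appTop
      rw [← Scheme.Hom.comp_appTop, ← Scheme.Hom.comp_appTop, h1, h2]
    refine ⟨MorphismProperty.Over.homMk d hw trivial, ?_, ?_⟩
    · apply MorphismProperty.Over.Hom.ext
      exact hfac
    · intro m' hm'
      apply MorphismProperty.Over.Hom.ext
      show m'.left = d
      apply ext_of_isAffine (Y := s.pt.left)
      rw [← cancel_mono φ, hd, hθ']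
      have h3 : (c.ι.app (SingleObj.star G)).left ≫ m'.left = (s.ι.app (SingleObj.star G)).left := by
        rw [← MorphismProperty.Comma.comp_left, hm']
      show m'.left.appTop ≫ (c.ι.app (SingleObj.star G)).left.appTop = _
      rw [← Scheme.Hom.comp_appTop, h3]
  choose desc hfac huniq using key
  exact ⟨{ desc := desc
           fac := fun s j => by
             obtain ⟨⟩ := j
             exact hfac s
           uniq := fun s m hm => huniq s m (hm (SingleObj.star G)) }⟩

variable (K)

/-- the subring of invariant functions -/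
def invSubring : Subring Γ((K.obj (SingleObj.star G)).left, ⊤) where
  carrier := {b | ∀ g : G, (K.map (el g)).left.appTop.hom b = b}
  mul_mem' {a b} ha hb g := by rw [map_mul, ha g, hb g]
  one_mem' g := map_one _
  add_mem' {a b} ha hb g := by rw [map_add, ha g, hb g]
  zero_mem' g := map_zero _
  neg_mem' {a} ha g := by rw [map_neg, ha g]

lemma mem_invSubring (b : Γ((K.obj (SingleObj.star G)).left, ⊤)) :
    b ∈ invSubring K ↔ ∀ g : G, (K.map (el g)).left.appTop.hom b = b := Iff.rfl

lemma structure_mem_invSubring (r : Γ(S, ⊤)) :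
    (K.obj (SingleObj.star G)).hom.appTop.hom r ∈ invSubring K := by
  intro g
  have h1 : (K.map (el g)).left ≫ (K.obj (SingleObj.star G)).hom =
      (K.obj (SingleObj.star G)).hom := MorphismProperty.Over.w _
  have h2 : ((K.map (el g)).left ≫ (K.obj (SingleObj.star G)).hom).appTop.hom r =
      (K.obj (SingleObj.star G)).hom.appTop.hom r := by rw [h1]
  simpa only [Scheme.Hom.comp_appTop, CommRingCat.hom_comp, RingHom.comp_apply] using h2

/-- Existence of a cocone whose global sections are the invariants. -/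
theorem exists_isInv [IsAffine S] : ∃ c : Cocone K, IsInv K c := by
  classical
  let Y := K.obj (SingleObj.star G)
  let I := invSubring K
  let incl : CommRingCat.of I ⟶ Γ(Y.left, ⊤) := CommRingCat.ofHom I.subtype
  let ρ : Γ(S, ⊤) ⟶ CommRingCat.of I :=
    CommRingCat.ofHom (RingHom.codRestrict Y.hom.appTop.hom I (structure_mem_invSubring K))
  have hρ : ρ ≫ incl = Y.hom.appTop := by
    apply CommRingCat.hom_ext
    ext r
    rfl
  let q : Spec (CommRingCat.of I) ⟶ S := Spec.map ρ ≫ S.isoSpec.inv
  let π : Y.left ⟶ Spec (CommRingCat.of I) := Y.left.toSpecΓ ≫ Spec.map incl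
  have hw : π ≫ q = Y.hom := by
    show (Y.left.toSpecΓ ≫ Spec.map incl) ≫ Spec.map ρ ≫ S.isoSpec.inv = Y.hom
    have h3 : S.toSpecΓ ≫ S.isoSpec.inv = 𝟙 S := Scheme.toSpecΓ_isoSpec_inv S
    rw [Category.assoc, ← Spec.map_comp_assoc, hρ, ← Scheme.toSpecΓ_naturality_assoc]
    exact (congrArg (Y.hom ≫ ·) h3).trans (Category.comp_id _)
  haveI : IsAffineHom q := inferInstance
  let Q : AffProp.{u}.Over ⊤ S := MorphismProperty.Over.mk ⊤ q ‹IsAffineHom q›
  let p : Y ⟶ Q := MorphismProperty.Over.homMk π hw trivial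
  have hπ : ∀ g : G, (K.map (el g)).left ≫ π = π := by
    intro g
    show (K.map (el g)).left ≫ Y.left.toSpecΓ ≫ Spec.map incl = Y.left.toSpecΓ ≫ Spec.map incl
    rw [Scheme.toSpecΓ_naturality_assoc, ← Spec.map_comp]
    congr 2
    apply CommRingCat.hom_ext
    ext b
    exact b.2 g
  have hφ : π.appTop = (Scheme.ΓSpecIso (CommRingCat.of I)).hom ≫ incl := by
    show (Y.left.toSpecΓ ≫ Spec.map incl).appTop = _
    rw [Scheme.Hom.comp_appTop, Scheme.toSpecΓ_appTop, Scheme.ΓSpecIso_naturality]
  refine ⟨{ pt := Q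
            ι := { app := fun _ => p
                   naturality := ?_ } }, ?_, ?_⟩
  · rintro ⟨⟩ ⟨⟩ g
    apply MorphismProperty.Over.Hom.ext
    show (K.map g ≫ p).left = (p ≫ 𝟙 Q).left
    rw [Category.comp_id]
    exact hπ g
  · show Function.Injective π.appTop.hom
    rw [hφ]
    intro a b hab
    have h1 : (Scheme.ΓSpecIso (CommRingCat.of I)).hom.hom a =
        (Scheme.ΓSpecIso (CommRingCat.of I)).hom.hom b := Subtype.ext hab
    exact (ConcreteCategory.bijective_of_isIso (Scheme.ΓSpecIso (CommRingCat.of I)).hom).1 h1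
  · intro b hb
    show ∃ a, π.appTop.hom a = b
    rw [hφ]
    obtain ⟨a, ha⟩ := (ConcreteCategory.bijective_of_isIso
      (Scheme.ΓSpecIso (CommRingCat.of I)).hom).2 (⟨b, hb⟩ : I)
    refine ⟨a, ?_⟩
    show ((Scheme.ΓSpecIso (CommRingCat.of I)).hom.hom a : I).1 = b
    have ha' : (Scheme.ΓSpecIso (CommRingCat.of I)).hom.hom a = (⟨b, hb⟩ : I) := ha
    rw [ha']

end Groth.Agent.Lib.helper14.FEtGal
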