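import Mathlib

/-!
# helper14: invariants of a finite family of endomorphisms commute with flat base change
-/

set_option autoImplicit false

namespace Groth.Agent.Lib.helper14.FEtGal

open TensorProduct

universe u

/-- Flat base change of the equaliser of a finite family of endomorphisms (module version). -/
theorem inv_baseChange {R R' A B A' B' : Type u} [CommRing R] [CommRing R'] [Algebra R R']
    [Module.Flat R R']
    [AddCommGroup A] [Module R A] [AddCommGroup B] [Module R B]
    [AddCommGroup A'] [Module R A'] [Module R' A'] [IsScalarTower R R' A']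
    [AddCommGroup B'] [Module R B'] [Module R' B'] [IsScalarTower R R' B']
    (α : A →ₗ[R] A') (hα : IsBaseChange R' α) (β : B →ₗ[R] B') (hβ : IsBaseChange R' β)
    {G : Type u} [Finite G] (τ : G → (B →ₗ[R] B)) (τ' : G → (B' →ₗ[R'] B'))
    (hτ : ∀ g y, τ' g (β y) = β (τ g y))
    (φ : A →ₗ[R] B) (φ' : A' →ₗ[R'] B') (hφ : ∀ x, φ' (α x) = β (φ x))
    (hinj : Function.Injective φ) (hinv : ∀ g x, τ g (φ x) = φ x)
    (hsurj : ∀ y, (∀ g, τ g y = y) → ∃ x, φ x = y) :
    Function.Injective φ' ∧ ∀ y, (∀ g, τ' g y = y) → ∃ x, φ' x = y := by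
  classical
  cases nonempty_fintype G
  let eA : R' ⊗[R] A ≃ₗ[R'] A' := hα.equiv
  let eB : R' ⊗[R] B ≃ₗ[R'] B' := hβ.equiv
  have heA : ∀ s x, eA (s ⊗ₜ x) = s • α x := fun s x => hα.equiv_tmul s x
  have heB : ∀ s x, eB (s ⊗ₜ x) = s • β x := fun s x => hβ.equiv_tmul s x
  have hcomm : ∀ z : R' ⊗[R] A, φ' (eA z) = eB (φ.lTensor R' z) := by
    intro z
    induction z using TensorProduct.induction_on with
    | zero => simp
    | tmul s x => rw [heA, map_smul, hφ, LinearMap.lTensor_tmul, heB]
    | add a b ha hb => rw [map_add, map_add, ha, hb, map_add, map_add]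
  have hcommτ : ∀ g (z : R' ⊗[R] B), τ' g (eB z) = eB ((τ g).lTensor R' z) := by
    intro g z
    induction z using TensorProduct.induction_on with
    | zero => simp
    | tmul s x => rw [heB, map_smul, hτ, LinearMap.lTensor_tmul, heB]
    | add a b ha hb => rw [map_add, map_add, ha, hb, map_add, map_add]
  have hinjT : Function.Injective (φ.lTensor R') :=
    Module.Flat.lTensor_preserves_injective_linearMap (M := R') φ hinj
  refine ⟨?_, ?_⟩
  · intro x y hxy
    have h1 : eB (φ.lTensor R' (eA.symm x)) = eB (φ.lTensor R' (eA.symm y)) := by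
      rw [← hcomm, ← hcomm, LinearEquiv.apply_symm_apply, LinearEquiv.apply_symm_apply, hxy]
    exact eA.symm.injective (hinjT (eB.injective h1))
  · intro y hy
    let δ : B →ₗ[R] (G → B) := LinearMap.pi fun g => τ g - LinearMap.id
    have hex : Function.Exact φ δ := by
      intro b
      constructor
      · intro h
        apply hsurj
        intro g
        have := congrFun h g
        simpa [δ, sub_eq_zero] using this
      · rintro ⟨x, rfl⟩
        funext g
        simp [δ, hinv g x]
    have hexT := Module.Flat.lTensor_exact R' hex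
    have hz : ∀ g, (τ g).lTensor R' (eB.symm y) = eB.symm y := by
      intro g
      apply eB.injective
      rw [← hcommτ, LinearEquiv.apply_symm_apply, hy g]
    have hker : δ.lTensor R' (eB.symm y) = 0 := by
      apply (TensorProduct.piRight R R R' (fun _ : G => B)).injective
      rw [map_zero]
      funext g
      have key : ∀ z : R' ⊗[R] B,
          TensorProduct.piRight R R R' (fun _ : G => B) (δ.lTensor R' z) g =
            (τ g).lTensor R' z - z := by
        intro z
        induction z using TensorProduct.induction_on with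
        | zero => simp
        | tmul t a =>
          rw [LinearMap.lTensor_tmul, TensorProduct.piRight_apply, TensorProduct.piRightHom_tmul,
            LinearMap.lTensor_tmul]
          change t ⊗ₜ[R] (τ g a - a) = t ⊗ₜ[R] τ g a - t ⊗ₜ[R] a
          rw [TensorProduct.tmul_sub]
        | add a b ha hb =>
          rw [map_add, map_add, Pi.add_apply, ha, hb, map_add]
          abel
      rw [key, hz g, sub_self]
      rfl
    obtain ⟨w, hw⟩ := (hexT (eB.symm y)).mp hker
    refine ⟨eA w, ?_⟩
    rw [hcomm, hw, LinearEquiv.apply_symm_apply]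

open CategoryTheory in
/-- Flat base change of invariants, for commutative rings. -/
theorem inv_of_isPushout {R R' A B A' B' : CommRingCat.{u}}
    {r : R ⟶ R'} {a : R ⟶ A} {a' : R' ⟶ A'} {α : A ⟶ A'} (hA : IsPushout r a a' α)
    {b : R ⟶ B} {b' : R' ⟶ B'} {β : B ⟶ B'} (hB : IsPushout r b b' β)
    (hr : r.hom.Flat) {G : Type u} [Finite G]
    (τ : G → (B ⟶ B)) (τ' : G → (B' ⟶ B'))
    (hτb : ∀ g, b ≫ τ g = b) (hτβ : ∀ g, β ≫ τ' g = τ g ≫ β) (hτb' : ∀ g, b' ≫ τ' g = b')
    (φ : A ⟶ B) (φ' : A' ⟶ B') (hφa : a ≫ φ = b) (hφα : α ≫ φ' = φ ≫ β) (hφa' : a' ≫ φ' = b')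
    (hinj : Function.Injective φ.hom) (hinv : ∀ g x, (τ g).hom (φ.hom x) = φ.hom x)
    (hsurj : ∀ y, (∀ g, (τ g).hom y = y) → ∃ x, φ.hom x = y) :
    Function.Injective φ'.hom ∧ ∀ y, (∀ g, (τ' g).hom y = y) → ∃ x, φ'.hom x = y := by
  algebraize [r.hom, a.hom, b.hom, a'.hom, b'.hom, α.hom, β.hom, α.hom.comp a.hom,
    β.hom.comp b.hom]
  have : IsScalarTower R R' A' := .of_algebraMap_eq' <| congr($(hA.1.1).hom).symm
  have : IsScalarTower R R' B' := .of_algebraMap_eq' <| congr($(hB.1.1).hom).symm
  have hPA : Algebra.IsPushout R R' A A' := CommRingCat.isPushout_iff_isPushout.mp hA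
  have hPB : Algebra.IsPushout R R' B B' := CommRingCat.isPushout_iff_isPushout.mp hB
  haveI : Module.Flat R R' := hr
  let τl : G → (B →ₗ[R] B) := fun g =>
    ({ toRingHom := (τ g).hom
       commutes' := fun c => congr($(hτb g).hom c) } : B →ₐ[R] B).toLinearMap
  let τl' : G → (B' →ₗ[R'] B') := fun g =>
    ({ toRingHom := (τ' g).hom
       commutes' := fun c => congr($(hτb' g).hom c) } : B' →ₐ[R'] B').toLinearMap
  let φl : A →ₗ[R] B :=
    ({ toRingHom := φ.hom
       commutes' := fun c => congr($(hφa).hom c) } : A →ₐ[R] B).toLinearMap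
  let φl' : A' →ₗ[R'] B' :=
    ({ toRingHom := φ'.hom
       commutes' := fun c => congr($(hφa').hom c) } : A' →ₐ[R'] B').toLinearMap
  exact inv_baseChange (IsScalarTower.toAlgHom R A A').toLinearMap hPA.out
    (IsScalarTower.toAlgHom R B B').toLinearMap hPB.out τl τl'
    (fun g y => congr($(hτβ g).hom y)) φl φl' (fun x => congr($(hφα).hom x)) hinj hinv hsurj

end Groth.Agent.Lib.helper14.FEtGal
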