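import Mathlib
import Groth.Agent.Lib.Helper14.FEtGal1
import Groth.Agent.Lib.Helper14.FEtGal2

/-!
# helper14: the invariant cocone is stable under flat base change of affine bases
-/

set_option autoImplicit false

namespace Groth.Agent.Lib.helper14.FEtGal

open AlgebraicGeometry CategoryTheory CategoryTheory.Limits

universe u

variable {S : Scheme.{u}} {G : Type u} [Group G] {K : SingleObj G ⥤ AffProp.{u}.Over ⊤ S}

theorem isInv_pullback [IsAffine S] {S' : Scheme.{u}} [IsAffine S'] (f : S' ⟶ S) [Flat f]
    [Finite G] {c : Cocone K} (h : IsInv K c) :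
    IsInv (K ⋙ MorphismProperty.Over.pullback AffProp.{u} ⊤ f)
      ((MorphismProperty.Over.pullback AffProp.{u} ⊤ f).mapCocone c) := by
  haveI : IsAffine c.pt.left := isAffine_left c.pt
  haveI : IsAffine (K.obj (SingleObj.star G)).left := isAffine_left _
  let Y := K.obj (SingleObj.star G)
  let π := (c.ι.app (SingleObj.star G)).left
  have hπ : π ≫ c.pt.hom = Y.hom := MorphismProperty.Over.w _
  have hA := (isPushout_appTop_of_isPullback (X := c.pt.left) (Y := S') (Z := S)
    (IsPullback.of_hasPullback c.pt.hom f)).flip
  have hB := (isPushout_appTop_of_isPullback (X := Y.left) (Y := S') (Z := S)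
    (IsPullback.of_hasPullback Y.hom f)).flip
  have hr : f.appTop.hom.Flat := f.flat_appTop
  let a' : G → (pullback Y.hom f ⟶ pullback Y.hom f) := fun g =>
    pullback.lift (pullback.fst Y.hom f ≫ (K.map (el g)).left) (pullback.snd Y.hom f)
      (by rw [Category.assoc, MorphismProperty.Over.w, pullback.condition])
  let π' : pullback Y.hom f ⟶ pullback c.pt.hom f :=
    pullback.lift (pullback.fst Y.hom f ≫ π) (pullback.snd Y.hom f)
      (by rw [Category.assoc, hπ, pullback.condition])
  have key := inv_of_isPushout hA hB hr (fun g => (K.map (el g)).left.appTop)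
    (fun g => (a' g).appTop)
    (fun g => by
      rw [← Scheme.Hom.comp_appTop, MorphismProperty.Over.w])
    (fun g => by
      rw [← Scheme.Hom.comp_appTop, ← Scheme.Hom.comp_appTop, pullback.lift_fst])
    (fun g => by
      rw [← Scheme.Hom.comp_appTop, pullback.lift_snd])
    π.appTop π'.appTop
    (by rw [← Scheme.Hom.comp_appTop, hπ])
    (by rw [← Scheme.Hom.comp_appTop, ← Scheme.Hom.comp_appTop, pullback.lift_fst])
    (by rw [← Scheme.Hom.comp_appTop, pullback.lift_snd])
    h.inj (fun g x => cocone_inv c g x) h.surj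
  exact ⟨key.1, key.2⟩

end Groth.Agent.Lib.helper14.FEtGal
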