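import Mathlib
import Groth.Agent.Lib.Helper14.FEtGal3

/-!
# helper14: quotients by finite groups in `(@IsAffineHom).Over ⊤ X`, by gluing over affine opens
-/

set_option autoImplicit false

namespace Groth.Agent.Lib.helper14.FEtGal

open AlgebraicGeometry CategoryTheory CategoryTheory.Limits

universe u

variable {G : Type u} [Group G]

lemma hasColimit_of_isAffine {S : Scheme.{u}} [IsAffine S]
    (K : SingleObj G ⥤ AffProp.{u}.Over ⊤ S) : HasColimit K := by
  obtain ⟨c, hc⟩ := exists_isInv K
  obtain ⟨h⟩ := nonempty_isColimit_of_isInv hc
  exact ⟨⟨⟨c, h⟩⟩⟩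

lemma preservesColimitsOfShape_pullback [Finite G] {S S' : Scheme.{u}} [IsAffine S] [IsAffine S']
    (f : S' ⟶ S) [Flat f] :
    PreservesColimitsOfShape (SingleObj G) (MorphismProperty.Over.pullback AffProp.{u} ⊤ f) := by
  constructor
  intro K
  obtain ⟨c, hc⟩ := exists_isInv K
  obtain ⟨h⟩ := nonempty_isColimit_of_isInv hc
  obtain ⟨h'⟩ := nonempty_isColimit_of_isInv (isInv_pullback f hc)
  exact preservesColimit_of_preserves_colimit_cocone h h'

variable {X : Scheme.{u}} [Finite G] (D : SingleObj G ⥤ AffProp.{u}.Over ⊤ X)

instance isAffine_directedAffineCover (i : X.directedAffineCover.I₀) :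
    IsAffine (X.directedAffineCover.X i) := i.2

instance preserves_trans {i j : X.directedAffineCover.I₀} (hij : i ⟶ j) :
    PreservesColimitsOfShape (SingleObj G)
      (MorphismProperty.Over.pullback AffProp.{u} ⊤ (X.directedAffineCover.trans hij)) :=
  haveI : IsOpenImmersion (X.directedAffineCover.trans hij) :=
    X.directedAffineCover.property_trans hij
  preservesColimitsOfShape_pullback _

/-- the gluing data for the quotient -/
noncomputable def gluingData : Scheme.Cover.ColimitGluingData D X.directedAffineCover where
  cocone i := (exists_isInv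
    (D ⋙ MorphismProperty.Over.pullback AffProp.{u} ⊤ (X.directedAffineCover.f i))).choose
  isColimit i := (nonempty_isColimit_of_isInv (exists_isInv
    (D ⋙ MorphismProperty.Over.pullback AffProp.{u} ⊤ (X.directedAffineCover.f i))).choose_spec).some
  prop_trans hij := isAffineHom_of_isAffine _

lemma gluingData_isInv (i : X.directedAffineCover.I₀) :
    IsInv (D ⋙ MorphismProperty.Over.pullback AffProp.{u} ⊤ (X.directedAffineCover.f i))
      ((gluingData D).cocone i) :=
  (exists_isInv
    (D ⋙ MorphismProperty.Over.pullback AffProp.{u} ⊤ (X.directedAffineCover.f i))).choose_spec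

/-- the quotient, as an affine `X`-scheme -/
noncomputable def quot : AffProp.{u}.Over ⊤ X := (gluingData D).glued

/-- the quotient cocone -/
noncomputable def quotCocone : Cocone D := (gluingData D).gluedCocone

noncomputable def quotIsColimit : IsColimit (quotCocone D) := (gluingData D).isColimitGluedCocone

end Groth.Agent.Lib.helper14.FEtGal
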