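import Mathlib
import Groth.Agent.Lib.Helper14.FEtGal4
import Groth.Agent.Lib.Helper14.FEt12
import Groth.Prelude.Def_FEt

/-!
# helper14: the quotient of a finite étale cover of constant rank by a finite group is finite étale
-/

set_option autoImplicit false
set_option linter.style.haveILetI false

namespace Groth.Agent.Lib.helper14.FEtGal

open AlgebraicGeometry CategoryTheory CategoryTheory.Limits TensorProduct

universe u

/-- Invariants of a finite family of endomorphisms of a finite étale algebra of constant rank are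
finite étale. -/
theorem finite_etale_of_inv {R A B : Type u} [CommRing R] [CommRing A] [CommRing B] [Algebra R A]
    [Algebra R B] [Module.Finite R B] [Algebra.Etale R B] {n : ℕ}
    (hn : Module.rankAtStalk (R := R) B = n)
    {G : Type u} [Finite G] (τ : G → (B →ₐ[R] B)) (φ : A →ₐ[R] B) (hinj : Function.Injective φ)
    (hinv : ∀ g x, τ g (φ x) = φ x) (hsurj : ∀ y, (∀ g, τ g y = y) → ∃ x, φ x = y) :
    Module.Finite R A ∧ Algebra.Etale R A := by
  let K : Subalgebra R B := φ.range
  have hK : ∀ a, a ∈ K ↔ ∀ g, τ g a = a := by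
    intro a
    constructor
    · rintro ⟨x, rfl⟩ g
      exact hinv g x
    · intro h
      obtain ⟨x, hx⟩ := hsurj a h
      exact ⟨x, hx⟩
  obtain ⟨T, _, _, _, _, _, hT⟩ := Algebra.IsFiniteSplit.exists_tensorProduct_of_etale hn
  obtain ⟨m, ⟨e⟩⟩ := Algebra.IsFiniteSplit.nonempty_algEquiv_fun T (T ⊗[R] B)
  haveI hKet : Algebra.Etale R K := Groth.Agent.Lib.Helper14.FEt.etale_invariants e τ K hK
  haveI : Algebra.IsIntegral R K := by
    constructor
    intro x
    rw [← isIntegral_algHom_iff K.val Subtype.val_injective]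
    exact Algebra.IsIntegral.isIntegral _
  haveI : Algebra.FiniteType R K := inferInstance
  haveI hKfin : Module.Finite R K := Algebra.IsIntegral.finite
  let eq : A ≃ₐ[R] K := AlgEquiv.ofInjective φ hinj
  exact ⟨Module.Finite.equiv eq.symm.toLinearEquiv, Algebra.Etale.of_equiv eq.symm⟩

/-- ring-hom form -/
theorem finite_etale_of_inv' {R A B : CommRingCat.{u}} (a : R ⟶ A) (b : R ⟶ B) (φ : A ⟶ B)
    (hφ : a ≫ φ = b) (hfin : b.hom.Finite) (het : b.hom.Etale) {n : ℕ}
    (hn : ∀ x, b.hom.finrank x = n) {G : Type u} [Finite G] (τ : G → (B ⟶ B))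
    (hτ : ∀ g, b ≫ τ g = b) (hinj : Function.Injective φ.hom)
    (hinv : ∀ g x, (τ g).hom (φ.hom x) = φ.hom x)
    (hsurj : ∀ y, (∀ g, (τ g).hom y = y) → ∃ x, φ.hom x = y) :
    a.hom.Finite ∧ a.hom.Etale := by
  algebraize [a.hom, b.hom]
  have hn' : Module.rankAtStalk (R := R) B = n := by
    funext x
    exact hn x
  let τa : G → (B →ₐ[R] B) := fun g =>
    { toRingHom := (τ g).hom
      commutes' := fun c => congr($(hτ g).hom c) }
  let φa : A →ₐ[R] B :=
    { toRingHom := φ.hom
      commutes' := fun c => congr($(hφ).hom c) }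
  obtain ⟨h1, h2⟩ := finite_etale_of_inv hn' τa φa hinj hinv hsurj
  exact ⟨h1, h2⟩

lemma finrank_appTop {Y S : Scheme.{u}} [IsAffine S] (f : Y ⟶ S) [IsFinite f] [Flat f] (s : S) :
    f.appTop.hom.finrank (S.isoSpec.hom s) = f.finrank s := by
  haveI : IsAffine Y := isAffine_of_isAffineHom f
  have hfin : f.appTop.hom.Finite := f.finite_appTop
  have hflat : f.appTop.hom.Flat := f.flat_appTop
  haveI : IsFinite (Spec.map f.appTop) := (IsFinite.SpecMap_iff _).mpr hfin
  haveI : Flat (Spec.map f.appTop) := Flat.SpecMap_iff.mpr hflat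
  have hpb : IsPullback Y.isoSpec.hom f (Spec.map f.appTop) S.isoSpec.hom :=
    IsPullback.of_horiz_isIso ⟨Scheme.isoSpec_hom_naturality f⟩
  rw [Scheme.Hom.finrank_of_isPullback _ _ _ _ hpb, Scheme.Hom.finrank_SpecMap_eq_finrank hfin hflat]

/-- Over an affine base, the invariant cocone of a finite étale cover of constant rank is finite
étale. -/
theorem finite_etale_of_isInv {S : Scheme.{u}} [IsAffine S] {G : Type u} [Group G] [Finite G]
    {K : SingleObj G ⥤ AffProp.{u}.Over ⊤ S} {c : Cocone K} (h : IsInv K c)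
    [IsFinite (K.obj (SingleObj.star G)).hom] [Etale (K.obj (SingleObj.star G)).hom] {n : ℕ}
    (hn : ∀ s : S, (K.obj (SingleObj.star G)).hom.finrank s = n) :
    IsFinite c.pt.hom ∧ Etale c.pt.hom := by
  haveI : IsAffine c.pt.left := isAffine_left c.pt
  haveI : IsAffine (K.obj (SingleObj.star G)).left := isAffine_left _
  let Y := K.obj (SingleObj.star G)
  let π := (c.ι.app (SingleObj.star G)).left
  have hπ : π ≫ c.pt.hom = Y.hom := MorphismProperty.Over.w _
  have hfin : Y.hom.appTop.hom.Finite := Scheme.Hom.finite_appTop (Y := S) Y.hom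
  have het : Y.hom.appTop.hom.Etale :=
    (HasRingHomProperty.iff_of_isAffine (P := @Etale) (X := Y.left) (Y := S)).mp inferInstance
  have hn' : ∀ x, Y.hom.appTop.hom.finrank x = n := by
    intro x
    have h1 := finrank_appTop (S := S) Y.hom (S.isoSpec.inv x)
    rw [← Scheme.Hom.comp_apply, Iso.inv_hom_id] at h1
    rw [← hn (S.isoSpec.inv x), ← h1]
    rfl
  obtain ⟨h1, h2⟩ := finite_etale_of_inv' c.pt.hom.appTop Y.hom.appTop π.appTop
    (by rw [← Scheme.Hom.comp_appTop, hπ]) hfin het hn'
    (fun g => (K.map (el g)).left.appTop)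
    (fun g => by rw [← Scheme.Hom.comp_appTop, MorphismProperty.Over.w])
    h.inj (fun g x => cocone_inv c g x) h.surj
  exact ⟨(HasAffineProperty.iff_of_isAffine (P := @IsFinite) (X := c.pt.left) (Y := S)).mpr
    ⟨inferInstance, h1⟩,
    (HasRingHomProperty.iff_of_isAffine (P := @Etale) (X := c.pt.left) (Y := S)).mpr h2⟩

/-- finite étale covers as affine schemes over `X` -/
def toAff (X : Scheme.{u}) : FEt.Cat X ⥤ AffProp.{u}.Over ⊤ X :=
  MorphismProperty.Comma.changeProp (𝟭 _) (Functor.fromPUnit X)
    (fun _ _ f hf => (haveI : IsFinite f := hf.1; inferInstance : IsAffineHom f)) le_rfl le_rfl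

instance (X : Scheme.{u}) : (toAff X).Full :=
  inferInstanceAs (MorphismProperty.Comma.changeProp (𝟭 _) (Functor.fromPUnit X) _ le_rfl
    le_rfl).Full

instance (X : Scheme.{u}) : (toAff X).Faithful :=
  inferInstanceAs (MorphismProperty.Comma.changeProp (𝟭 _) (Functor.fromPUnit X) _ le_rfl
    le_rfl).Faithful

variable {X : Scheme.{u}} {G : Type u} [Group G] [Finite G]

lemma prop_quot_hom (D : SingleObj G ⥤ AffProp.{u}.Over ⊤ X) (P' : MorphismProperty Scheme.{u})
    [IsZariskiLocalAtTarget P']
    (h : ∀ i, P' ((gluingData D).cocone i).pt.hom) : P' (quot D).hom := by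
  let d := gluingData D
  show P' d.relativeGluingData.toBase
  rw [IsZariskiLocalAtTarget.iff_of_openCover (P := P') X.directedAffineCover]
  intro i
  have hpb := (d.relativeGluingData.isPullback_natTrans_ι_toBase i).flip
  have h2 := hpb.isoPullback_inv_snd
  have h3 : P' (hpb.isoPullback.inv ≫ d.relativeGluingData.natTrans.app i) :=
    (P'.cancel_left_of_respectsIso _ _).mpr (h i)
  rw [h2] at h3
  exact h3

/-- The quotient of a finite étale cover of constant rank by a finite group is finite étale. -/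
theorem quot_finite_etale (K : SingleObj G ⥤ FEt.Cat X) {n : ℕ}
    (hn : ∀ x : X, (K.obj (SingleObj.star G)).hom.finrank x = n) :
    IsFinite (quot (K ⋙ toAff X)).hom ∧ Etale (quot (K ⋙ toAff X)).hom := by
  have key : ∀ i, IsFinite ((gluingData (K ⋙ toAff X)).cocone i).pt.hom ∧
      Etale ((gluingData (K ⋙ toAff X)).cocone i).pt.hom := by
    intro i
    haveI : IsFinite (K.obj (SingleObj.star G)).hom := (K.obj (SingleObj.star G)).prop.1
    haveI : Etale (K.obj (SingleObj.star G)).hom := (K.obj (SingleObj.star G)).prop.2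
    haveI : IsFinite (((K ⋙ toAff X) ⋙ MorphismProperty.Over.pullback AffProp.{u} ⊤
        (X.directedAffineCover.f i)).obj (SingleObj.star G)).hom :=
      inferInstanceAs (IsFinite (pullback.snd (K.obj (SingleObj.star G)).hom
        (X.directedAffineCover.f i)))
    haveI : Etale (((K ⋙ toAff X) ⋙ MorphismProperty.Over.pullback AffProp.{u} ⊤
        (X.directedAffineCover.f i)).obj (SingleObj.star G)).hom :=
      inferInstanceAs (Etale (pullback.snd (K.obj (SingleObj.star G)).hom
        (X.directedAffineCover.f i)))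
    refine finite_etale_of_isInv (gluingData_isInv (K ⋙ toAff X) i) (n := n) ?_
    intro s
    have := Scheme.Hom.finrank_pullback_snd (K.obj (SingleObj.star G)).hom
      (X.directedAffineCover.f i) s
    exact this.trans (hn _)
  exact ⟨prop_quot_hom _ @IsFinite fun i => (key i).1, prop_quot_hom _ @Etale fun i => (key i).2⟩

end Groth.Agent.Lib.helper14.FEtGal
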