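import Mathlib
import Groth.Prelude.Def_FEt

/-!
# helper14: fibre functors on finite étale covers — basic constructions

Products, equalizers and the complement of the diagonal in `FEt.Cat X`, and their effect on
geometric points.
-/

set_option autoImplicit false

namespace Groth.Agent.Lib.helper14.FibIso

open AlgebraicGeometry CategoryTheory CategoryTheory.Limits

universe u

variable {X : Scheme.{u}}

instance isFinite_hom (Y : FEt.Cat X) : IsFinite Y.hom := Y.prop.1
instance etale_hom (Y : FEt.Cat X) : Etale Y.hom := Y.prop.2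

/-- constructor for objects of `FEt.Cat X` -/
noncomputable def mkObj {Y : Scheme.{u}} (f : Y ⟶ X) [IsFinite f] [Etale f] : FEt.Cat X :=
  MorphismProperty.Over.mk ⊤ f ⟨‹_›, ‹_›⟩

@[simp] lemma mkObj_left {Y : Scheme.{u}} (f : Y ⟶ X) [IsFinite f] [Etale f] :
    (mkObj f).left = Y := rfl

@[simp] lemma mkObj_hom {Y : Scheme.{u}} (f : Y ⟶ X) [IsFinite f] [Etale f] :
    (mkObj f).hom = f := rfl

/-- the product of two covers -/
noncomputable def prodObj (Y Z : FEt.Cat X) : FEt.Cat X :=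
  mkObj (pullback.fst Y.hom Z.hom ≫ Y.hom)

noncomputable def prodFst (Y Z : FEt.Cat X) : prodObj Y Z ⟶ Y :=
  MorphismProperty.Over.homMk (pullback.fst Y.hom Z.hom) rfl trivial

noncomputable def prodSnd (Y Z : FEt.Cat X) : prodObj Y Z ⟶ Z :=
  MorphismProperty.Over.homMk (pullback.snd Y.hom Z.hom) pullback.condition.symm trivial

section Points

variable {Ω : Type u} [Field Ω] (ξ : Spec (CommRingCat.of Ω) ⟶ X)

/-- a point of the product from a pair of points -/
noncomputable def prodPt {Y Z : FEt.Cat X} (y : FEt.fiberObj ξ Y) (z : FEt.fiberObj ξ Z) :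
    FEt.fiberObj ξ (prodObj Y Z) :=
  ⟨pullback.lift y.1 z.1 (by rw [y.2, z.2]), by
    show pullback.lift y.1 z.1 _ ≫ pullback.fst Y.hom Z.hom ≫ Y.hom = ξ
    rw [pullback.lift_fst_assoc, y.2]⟩

lemma fiber_map_val {Y Z : FEt.Cat X} (g : Y ⟶ Z) (y : FEt.fiberObj ξ Y) :
    ((FEt.fiber ξ).map g y).1 = y.1 ≫ g.left := rfl

lemma prodPt_fst {Y Z : FEt.Cat X} (y : FEt.fiberObj ξ Y) (z : FEt.fiberObj ξ Z) :
    (FEt.fiber ξ).map (prodFst Y Z) (prodPt ξ y z) = y := by
  apply Subtype.ext
  rw [fiber_map_val]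
  exact pullback.lift_fst _ _ _

lemma prodPt_snd {Y Z : FEt.Cat X} (y : FEt.fiberObj ξ Y) (z : FEt.fiberObj ξ Z) :
    (FEt.fiber ξ).map (prodSnd Y Z) (prodPt ξ y z) = z := by
  apply Subtype.ext
  rw [fiber_map_val]
  exact pullback.lift_snd _ _ _

end Points

end Groth.Agent.Lib.helper14.FibIso
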