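import Mathlib
import Groth.Prelude.Def_FEt
import Groth.Agent.Lib.Helper14.FibIso1

/-!
# helper14: finite limits of finite étale covers, and the fibre functor preserves them
-/

set_option autoImplicit false
set_option linter.style.haveILetI false

namespace Groth.Agent.Lib.helper14.FEtGal

open AlgebraicGeometry CategoryTheory CategoryTheory.Limits Opposite

universe u

instance hasOfPostcompProperty_prop : FEt.prop.{u}.HasOfPostcompProperty FEt.prop.{u} where
  of_postcomp {X Y Z} f g hg hfg := by
    haveI : IsFinite g := hg.1
    haveI : Etale g := hg.2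
    haveI : IsFinite (f ≫ g) := hfg.1
    haveI : Etale (f ≫ g) := hfg.2
    exact ⟨IsFinite.of_comp f g, Etale.of_comp f g⟩

variable {X : Scheme.{u}}

instance hasFiniteLimits_cat : HasFiniteLimits (FEt.Cat X) := inferInstance

instance preservesFiniteLimits_forget :
    PreservesFiniteLimits (MorphismProperty.Over.forget FEt.prop.{u} ⊤ X) := inferInstance

variable {Ω : Type u} [Field Ω] (ξ : Spec (CommRingCat.of Ω) ⟶ X)

/-- the fibre functor is corepresentable on `Over X` -/
noncomputable def fiberIsoCoyoneda :
    FEt.fiber ξ ≅ MorphismProperty.Over.forget FEt.prop.{u} ⊤ X ⋙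
      coyoneda.obj (op (Over.mk ξ)) :=
  NatIso.ofComponents (fun Y => Equiv.toIso
    { toFun := fun s => Over.homMk s.1 s.2
      invFun := fun t => ⟨t.left, Over.w t⟩
      left_inv := fun s => rfl
      right_inv := fun t => rfl })
    (by
      intro Y Z f
      ext s
      apply Over.OverMorphism.ext
      rfl)

instance preservesFiniteLimits_fiber : PreservesFiniteLimits (FEt.fiber ξ) :=
  preservesFiniteLimits_of_natIso (fiberIsoCoyoneda ξ).symm

end Groth.Agent.Lib.helper14.FEtGal
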