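import Mathlib
import Groth.Prelude.Def_FEt
import Groth.Agent.Lib.Helper14.FibIso1

/-!
# helper14: finite coproducts of finite étale covers, and the fibre functor preserves them
-/

set_option autoImplicit false
set_option linter.style.haveILetI false

namespace Groth.Agent.Lib.helper14.FEtGal

open AlgebraicGeometry CategoryTheory CategoryTheory.Limits Opposite
open Groth.Agent.Lib.helper14.FibIso

universe u

variable {X : Scheme.{u}}

instance etale_coprodDesc {U V : Scheme.{u}} (f : U ⟶ X) (g : V ⟶ X) [Etale f] [Etale g] :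
    Etale (coprod.desc f g) := by
  rw [IsZariskiLocalAtSource.iff_of_openCover (P := @Etale) (coprodOpenCover.{u, 0} U V)]
  rintro (⟨⟩ | ⟨⟩)
  · show Etale (coprod.inl ≫ coprod.desc f g)
    rw [coprod.inl_desc]
    infer_instance
  · show Etale (coprod.inr ≫ coprod.desc f g)
    rw [coprod.inr_desc]
    infer_instance

/-- the coproduct of two covers -/
noncomputable def coprodObj (Y Z : FEt.Cat X) : FEt.Cat X := mkObj (coprod.desc Y.hom Z.hom)

noncomputable def coprodInl (Y Z : FEt.Cat X) : Y ⟶ coprodObj Y Z :=
  MorphismProperty.Over.homMk coprod.inl (coprod.inl_desc _ _) trivial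

noncomputable def coprodInr (Y Z : FEt.Cat X) : Z ⟶ coprodObj Y Z :=
  MorphismProperty.Over.homMk coprod.inr (coprod.inr_desc _ _) trivial

noncomputable def coprodIsColimit (Y Z : FEt.Cat X) :
    IsColimit (BinaryCofan.mk (coprodInl Y Z) (coprodInr Y Z)) :=
  BinaryCofan.isColimitMk
    (fun s => MorphismProperty.Over.homMk (coprod.desc s.inl.left s.inr.left) (by
      apply coprod.hom_ext
      · exact (Category.assoc _ _ _).symm.trans
          ((congrArg (fun k => k ≫ s.pt.hom) (coprod.inl_desc _ _)).trans
            ((MorphismProperty.Over.w s.inl).trans (coprod.inl_desc _ _).symm))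
      · exact (Category.assoc _ _ _).symm.trans
          ((congrArg (fun k => k ≫ s.pt.hom) (coprod.inr_desc _ _)).trans
            ((MorphismProperty.Over.w s.inr).trans (coprod.inr_desc _ _).symm))) trivial)
    (fun s => by
      apply MorphismProperty.Over.Hom.ext
      exact coprod.inl_desc _ _)
    (fun s => by
      apply MorphismProperty.Over.Hom.ext
      exact coprod.inr_desc _ _)
    (fun s m h1 h2 => by
      apply MorphismProperty.Over.Hom.ext
      apply coprod.hom_ext
      · exact (congrArg (fun k => k.left) h1).trans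
          (coprod.inl_desc (X := Y.left) (Y := Z.left) s.inl.left s.inr.left).symm
      · exact (congrArg (fun k => k.left) h2).trans
          (coprod.inr_desc (X := Y.left) (Y := Z.left) s.inl.left s.inr.left).symm)

instance hasBinaryCoproducts_cat : HasBinaryCoproducts (FEt.Cat X) :=
  haveI : ∀ {Y Z : FEt.Cat X}, HasColimit (pair Y Z) := fun {Y Z} =>
    ⟨⟨⟨_, coprodIsColimit Y Z⟩⟩⟩
  hasBinaryCoproducts_of_hasColimit_pair _

instance isFinite_emptyTo : IsFinite (Scheme.emptyTo X) := by
  haveI : IsClosedImmersion (Scheme.emptyTo X) := by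
    apply IsClosedImmersion.of_isPreimmersion
    have : Set.range (Scheme.emptyTo X) = ∅ := by
      ext x
      simp only [Set.mem_range, Set.mem_empty_iff_false, iff_false]
      rintro ⟨y, _⟩
      exact y.elim
    rw [this]
    exact isClosed_empty
  infer_instance

/-- the empty cover -/
noncomputable def initObj (X : Scheme.{u}) : FEt.Cat X := mkObj (Scheme.emptyTo X)

noncomputable def initIsInitial : IsInitial (initObj X) :=
  IsInitial.ofUniqueHom
    (fun Z => MorphismProperty.Over.homMk (Scheme.emptyTo Z.left) (Scheme.empty_ext _ _) trivial)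
    (fun Z m => by
      apply MorphismProperty.Over.Hom.ext
      exact Scheme.empty_ext _ _)

instance hasInitial_cat : HasInitial (FEt.Cat X) := initIsInitial.hasInitial

instance hasFiniteCoproducts_cat : HasFiniteCoproducts (FEt.Cat X) :=
  hasFiniteCoproducts_of_has_binary_and_initial

variable {Ω : Type u} [Field Ω] (ξ : Spec (CommRingCat.of Ω) ⟶ X)

/-- the fibre functor preserves the binary coproducts of covers -/
theorem fiber_coprod_isColimit (Y Z : FEt.Cat X) :
    Nonempty (IsColimit ((FEt.fiber ξ).mapCocone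
      (BinaryCofan.mk (coprodInl Y Z) (coprodInr Y Z)))) := by
  refine ⟨(isColimitMapCoconeBinaryCofanEquiv _ _ _).symm (Nonempty.some ?_)⟩
  rw [Types.binaryCofan_isColimit_iff]
  let pt : Spec (CommRingCat.of Ω) := default
  have hpt : ∀ p : Spec (CommRingCat.of Ω), p = pt := fun p => Subsingleton.elim _ _
  refine ⟨?_, ?_, ?_⟩
  · intro s t hst
    apply Subtype.ext
    have h1 : s.1 ≫ (coprod.inl : Y.left ⟶ Y.left ⨿ Z.left) = t.1 ≫ coprod.inl :=
      congrArg Subtype.val hst
    exact (cancel_mono _).mp h1
  · intro s t hst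
    apply Subtype.ext
    have h1 : s.1 ≫ (coprod.inr : Z.left ⟶ Y.left ⨿ Z.left) = t.1 ≫ coprod.inr :=
      congrArg Subtype.val hst
    exact (cancel_mono _).mp h1
  · constructor
    · rw [Set.disjoint_iff_forall_ne]
      rintro _ ⟨s, rfl⟩ _ ⟨t, rfl⟩ hst
      have h1 : s.1 ≫ (coprod.inl : Y.left ⟶ Y.left ⨿ Z.left) = t.1 ≫ coprod.inr :=
        congrArg Subtype.val hst
      have h2 := congrArg (fun k : Spec (CommRingCat.of Ω) ⟶ Y.left ⨿ Z.left => k pt) h1
      simp only [Scheme.Hom.comp_apply] at h2
      exact Set.disjoint_iff_forall_ne.mp (isCompl_range_inl_inr Y.left Z.left).disjoint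
        ⟨_, rfl⟩ ⟨_, rfl⟩ h2
    · rw [codisjoint_iff, eq_top_iff]
      rintro w -
      have hw : w.1 pt ∈ Set.range (coprod.inl : Y.left ⟶ Y.left ⨿ Z.left) ∪
          Set.range (coprod.inr : Z.left ⟶ Y.left ⨿ Z.left) := by
        have hsup : Set.range (coprod.inl : Y.left ⟶ Y.left ⨿ Z.left) ∪
            Set.range (coprod.inr : Z.left ⟶ Y.left ⨿ Z.left) = Set.univ :=
          (isCompl_range_inl_inr Y.left Z.left).sup_eq_top
        rw [hsup]
        trivial
      rcases hw with hw | hw
      · left
        have hr : Set.range w.1 ⊆ Set.range (coprod.inl : Y.left ⟶ Y.left ⨿ Z.left) := by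
          rintro _ ⟨p, rfl⟩
          rw [hpt p]
          exact hw
        refine ⟨⟨IsOpenImmersion.lift coprod.inl w.1 hr, ?_⟩, ?_⟩
        · have h1 : IsOpenImmersion.lift coprod.inl w.1 hr ≫ coprod.inl = w.1 :=
            IsOpenImmersion.lift_fac _ _ _
          have h2 : (coprod.inl : Y.left ⟶ Y.left ⨿ Z.left) ≫ coprod.desc Y.hom Z.hom = Y.hom :=
            coprod.inl_desc _ _
          show IsOpenImmersion.lift coprod.inl w.1 hr ≫ Y.hom = ξ
          rw [← h2, ← Category.assoc]
          exact (congrArg (fun k => k ≫ coprod.desc Y.hom Z.hom) h1).trans w.2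
        · apply Subtype.ext
          exact IsOpenImmersion.lift_fac (coprod.inl : Y.left ⟶ Y.left ⨿ Z.left) w.1 hr
      · right
        have hr : Set.range w.1 ⊆ Set.range (coprod.inr : Z.left ⟶ Y.left ⨿ Z.left) := by
          rintro _ ⟨p, rfl⟩
          rw [hpt p]
          exact hw
        refine ⟨⟨IsOpenImmersion.lift coprod.inr w.1 hr, ?_⟩, ?_⟩
        · have h1 : IsOpenImmersion.lift coprod.inr w.1 hr ≫ coprod.inr = w.1 :=
            IsOpenImmersion.lift_fac _ _ _
          have h2 : (coprod.inr : Z.left ⟶ Y.left ⨿ Z.left) ≫ coprod.desc Y.hom Z.hom = Z.hom :=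
            coprod.inr_desc _ _
          show IsOpenImmersion.lift coprod.inr w.1 hr ≫ Z.hom = ξ
          rw [← h2, ← Category.assoc]
          exact (congrArg (fun k => k ≫ coprod.desc Y.hom Z.hom) h1).trans w.2
        · apply Subtype.ext
          exact IsOpenImmersion.lift_fac (coprod.inr : Z.left ⟶ Y.left ⨿ Z.left) w.1 hr

instance preservesBinaryCoproducts_fiber :
    PreservesColimitsOfShape (Discrete WalkingPair) (FEt.fiber ξ) := by
  constructor
  intro K
  have h1 : PreservesColimit (pair (K.obj ⟨WalkingPair.left⟩) (K.obj ⟨WalkingPair.right⟩))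
      (FEt.fiber ξ) :=
    preservesColimit_of_preserves_colimit_cocone (coprodIsColimit _ _)
      (fiber_coprod_isColimit ξ _ _).some
  exact preservesColimit_of_iso_diagram _ (diagramIsoPair K).symm

lemma isEmpty_fiber_initObj : IsEmpty (FEt.fiberObj ξ (initObj X)) := by
  constructor
  rintro ⟨s, -⟩
  exact (s.base default : (∅ : Scheme.{u})).elim

instance preservesInitial_fiber :
    PreservesColimitsOfShape (Discrete PEmpty.{1}) (FEt.fiber ξ) := by
  haveI : PreservesColimit (Functor.empty.{0} (FEt.Cat X)) (FEt.fiber ξ) := by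
    refine preservesColimit_of_preserves_colimit_cocone (initIsInitial (X := X)) ?_
    refine (isColimitMapCoconeEmptyCoconeEquiv _ _).symm ?_
    haveI := isEmpty_fiber_initObj ξ
    exact ((Types.initial_iff_empty _).mpr (isEmpty_fiber_initObj ξ)).some
  exact preservesColimitsOfShape_pempty_of_preservesInitial _

instance preservesFiniteCoproducts_fiber : PreservesFiniteCoproducts (FEt.fiber ξ) :=
  ⟨fun n => preservesShape_fin_of_preserves_binary_and_initial _ n⟩

end Groth.Agent.Lib.helper14.FEtGal
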