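import Groth.Agent.S2916
import Groth.Prelude.Def_FEt

/-!
# Full faithfulness of `FEt.restrict f` from SGA1 IX 3.4 (helper14)

`full_faithful_of_univSubmersive`: if `f : X ⟶ Y` is universally submersive with geometrically
connected fibres then `FEt.restrict f` is full and faithful (from `Groth.Agent.S2916.result`).
-/

set_option autoImplicit false
universe u
open CategoryTheory CategoryTheory.Limits AlgebraicGeometry

namespace Groth.Agent.Lib.Helper14.FEtFullFaithful

theorem full_faithful_of_univSubmersive {X Y : Scheme.{u}} (f : X ⟶ Y)
    (hsub : SGA1.UnivSubmersive f)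
    (hconn : ∀ (K : Type u) [Field K] [IsAlgClosed K] (ξ : Spec (CommRingCat.of K) ⟶ Y),
      ConnectedSpace ↑(pullback f ξ)) :
    (FEt.restrict f).Full ∧ (FEt.restrict f).Faithful := by
  classical
  obtain ⟨-, hbij⟩ := Groth.Agent.S2916.result f hsub hconn
  have key : ∀ (A B : FEt.Cat Y),
      Function.Bijective ((FEt.restrict f).map : (A ⟶ B) → _) := by
    intro A B
    haveI : Etale (Over.mk A.hom).hom := A.prop.2
    haveI : Etale (Over.mk B.hom).hom := B.prop.2
    have hb := hbij (Over.mk A.hom) (Over.mk B.hom)
    constructor
    · intro φ ψ h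
      have h' : (Over.pullback f).map
          (Over.homMk φ.left (MorphismProperty.Over.w φ) : Over.mk A.hom ⟶ Over.mk B.hom) =
          (Over.pullback f).map
          (Over.homMk ψ.left (MorphismProperty.Over.w ψ) : Over.mk A.hom ⟶ Over.mk B.hom) := by
        ext
        have := congrArg (fun t => t.left) h
        exact this
      have h2 := hb.1 h'
      apply MorphismProperty.Over.Hom.ext
      exact congrArg (fun t => t.left) h2
    · intro φ
      obtain ⟨ψ, hψ⟩ := hb.2 (Over.homMk φ.left (MorphismProperty.Over.w φ))
      refine ⟨MorphismProperty.Over.homMk ψ.left (Over.w ψ) trivial, ?_⟩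
      apply MorphismProperty.Over.Hom.ext
      exact congrArg (fun t => t.left) hψ
  exact ⟨⟨fun {A B} φ => (key A B).2 φ⟩, ⟨fun {A B} φ ψ h => (key A B).1 h⟩⟩

/-- A universally closed surjective morphism is universally submersive. -/
theorem univSubmersive_of_universallyClosed_surjective {X Y : Scheme.{u}} (f : X ⟶ Y)
    [UniversallyClosed f] [Surjective f] : SGA1.UnivSubmersive f := by
  intro X' Y' i₁ i₂ f' h
  have h1 : UniversallyClosed f' := MorphismProperty.of_isPullback h.flip inferInstance
  have h3 : Surjective f' := MorphismProperty.of_isPullback h.flip inferInstance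
  exact IsClosedMap.isQuotientMap f'.isClosedMap f'.continuous f'.surjective

end Groth.Agent.Lib.Helper14.FEtFullFaithful
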