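import Mathlib
import Groth.Prelude.Def_FEt
import Groth.Agent.Lib.Helper14.FibIso1

/-!
# helper14: fibre functors on finite étale covers — clopen immersions, equalizers, the complement
of the diagonal
-/

set_option autoImplicit false

namespace Groth.Agent.Lib.helper14.FibIso

open AlgebraicGeometry CategoryTheory CategoryTheory.Limits

universe u

section Clopen

variable {E P : Scheme.{u}} (g : E ⟶ P) [IsOpenImmersion g] [IsClosedImmersion g]

/-- the open complement of a clopen immersion -/
noncomputable def complOpens : P.Opens :=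
  ⟨(Set.range g)ᶜ, g.isClosedEmbedding.isClosed_range.isOpen_compl⟩

lemma coe_complOpens : ((complOpens g : P.Opens) : Set P) = (Set.range g)ᶜ := rfl

instance isClosedImmersion_complOpens_ι : IsClosedImmersion (complOpens g).ι := by
  apply IsClosedImmersion.of_isPreimmersion
  rw [Scheme.Opens.range_ι, coe_complOpens, isClosed_compl_iff]
  exact g.isOpenEmbedding.isOpen_range

variable {K : Type u} [Field K]

/-- a point with values in a field factors through a clopen immersion or through its complement -/
lemma exists_lift_or (s : Spec (CommRingCat.of K) ⟶ P) :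
    (∃ t, t ≫ g = s) ∨ (∃ t, t ≫ (complOpens g).ι = s) := by
  let pt : Spec (CommRingCat.of K) := default
  have hpt : ∀ x : Spec (CommRingCat.of K), x = pt := fun x => Subsingleton.elim _ _
  by_cases h : s pt ∈ Set.range g
  · left
    refine ⟨IsOpenImmersion.lift g s ?_, IsOpenImmersion.lift_fac _ _ _⟩
    rintro _ ⟨x, rfl⟩
    rw [hpt x]; exact h
  · right
    refine ⟨IsOpenImmersion.lift (complOpens g).ι s ?_, IsOpenImmersion.lift_fac _ _ _⟩
    rintro _ ⟨x, rfl⟩
    rw [hpt x, Scheme.Opens.range_ι]; exact h

/-- a point cannot factor through both a clopen immersion and its complement -/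
lemma not_lift_and (t : Spec (CommRingCat.of K) ⟶ E)
    (t' : Spec (CommRingCat.of K) ⟶ (complOpens g).toScheme)
    (h : t ≫ g = t' ≫ (complOpens g).ι) : False := by
  let pt : Spec (CommRingCat.of K) := default
  have h1 : (t ≫ g) pt ∈ Set.range g := ⟨t pt, rfl⟩
  have h2 : (t' ≫ (complOpens g).ι) pt ∈ ((complOpens g : P.Opens) : Set P) :=
    ((t' pt) : (complOpens g)).2
  rw [← h] at h2
  exact h2 h1

end Clopen

variable {X : Scheme.{u}}

section Diag

variable (Y : FEt.Cat X)

instance isClosedImmersion_diagonal : IsClosedImmersion (pullback.diagonal Y.hom) :=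
  IsSeparated.diagonal_isClosedImmersion

/-- the complement of the diagonal in `Y ×_X Y`, as a cover of `X` -/
noncomputable def diagCompl : FEt.Cat X :=
  mkObj ((complOpens (pullback.diagonal Y.hom)).ι ≫ pullback.fst Y.hom Y.hom ≫ Y.hom)

noncomputable def diagComplι : diagCompl Y ⟶ prodObj Y Y :=
  MorphismProperty.Over.homMk (complOpens (pullback.diagonal Y.hom)).ι rfl trivial

end Diag

section Eq

variable {Y Z : FEt.Cat X} (g h : Y ⟶ Z)

/-- the pair `(g, h) : Y ⟶ Z ×_X Z` -/
noncomputable def pairHom : Y.left ⟶ pullback Z.hom Z.hom :=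
  pullback.lift g.left h.left (by rw [MorphismProperty.Over.w g, MorphismProperty.Over.w h])

/-- the equalizer of two morphisms of covers -/
noncomputable def eqObj : FEt.Cat X :=
  mkObj (pullback.fst (pairHom g h) (pullback.diagonal Z.hom) ≫ Y.hom)

noncomputable def eqι : eqObj g h ⟶ Y :=
  MorphismProperty.Over.homMk (pullback.fst (pairHom g h) (pullback.diagonal Z.hom)) rfl trivial

lemma eqι_comp : eqι g h ≫ g = eqι g h ≫ h := by
  apply MorphismProperty.Over.Hom.ext
  show pullback.fst (pairHom g h) (pullback.diagonal Z.hom) ≫ g.left =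
    pullback.fst (pairHom g h) (pullback.diagonal Z.hom) ≫ h.left
  have h1 : pairHom g h ≫ pullback.fst Z.hom Z.hom = g.left := pullback.lift_fst _ _ _
  have h2 : pairHom g h ≫ pullback.snd Z.hom Z.hom = h.left := pullback.lift_snd _ _ _
  rw [← h1, ← h2, ← Category.assoc, ← Category.assoc, pullback.condition, Category.assoc,
    Category.assoc, pullback.diagonal_fst, pullback.diagonal_snd]

variable {Ω : Type u} [Field Ω] (ξ : Spec (CommRingCat.of Ω) ⟶ X)

/-- a point equalized by `g` and `h` lifts to the equalizer -/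
noncomputable def eqPt (y : FEt.fiberObj ξ Y)
    (hy : (FEt.fiber ξ).map g y = (FEt.fiber ξ).map h y) : FEt.fiberObj ξ (eqObj g h) :=
  ⟨pullback.lift y.1 (y.1 ≫ g.left) (by
    have hy' : y.1 ≫ g.left = y.1 ≫ h.left := congrArg Subtype.val hy
    apply pullback.hom_ext
    · rw [Category.assoc, Category.assoc, pullback.diagonal_fst, Category.comp_id]
      exact congrArg (y.1 ≫ ·) (pullback.lift_fst _ _ _)
    · rw [Category.assoc, Category.assoc, pullback.diagonal_snd, Category.comp_id, hy']
      exact congrArg (y.1 ≫ ·) (pullback.lift_snd _ _ _)), by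
    show pullback.lift y.1 (y.1 ≫ g.left) _ ≫
      pullback.fst (pairHom g h) (pullback.diagonal Z.hom) ≫ Y.hom = ξ
    rw [pullback.lift_fst_assoc, y.2]⟩

lemma eqPt_map (y : FEt.fiberObj ξ Y)
    (hy : (FEt.fiber ξ).map g y = (FEt.fiber ξ).map h y) :
    (FEt.fiber ξ).map (eqι g h) (eqPt g h ξ y hy) = y := by
  apply Subtype.ext
  rw [fiber_map_val]
  exact pullback.lift_fst _ _ _

end Eq

end Groth.Agent.Lib.helper14.FibIso
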