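import Mathlib
import Groth.Prelude.Def_FEt
import Groth.Agent.Lib.Helper14.FibIso2
import Groth.Agent.Lib.Helper14.FEtGal8

/-!
# helper14: monomorphisms of finite étale covers are inclusions of direct summands
-/

set_option autoImplicit false
set_option linter.style.haveILetI false

namespace Groth.Agent.Lib.helper14.FEtGal

open AlgebraicGeometry CategoryTheory CategoryTheory.Limits Opposite
open Groth.Agent.Lib.helper14.FibIso

universe u

section Clopen

variable {E P : Scheme.{u}} (j : E ⟶ P) [IsOpenImmersion j] [IsClosedImmersion j]

lemma isCompl_opensRange_complOpens :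
    IsCompl j.opensRange (complOpens j).ι.opensRange := by
  rw [Scheme.Opens.opensRange_ι]
  constructor
  · rw [disjoint_iff]
    ext x
    simp only [TopologicalSpace.Opens.coe_inf, Scheme.Hom.coe_opensRange, coe_complOpens,
      Set.inter_compl_self, TopologicalSpace.Opens.coe_bot]
  · rw [codisjoint_iff]
    ext x
    simp only [TopologicalSpace.Opens.coe_sup, Scheme.Hom.coe_opensRange, coe_complOpens,
      Set.union_compl_self, TopologicalSpace.Opens.coe_top]

/-- a scheme is the coproduct of a clopen subscheme and its complement -/
noncomputable def clopenIsColimit : IsColimit (BinaryCofan.mk j (complOpens j).ι) :=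
  (nonempty_isColimit_binaryCofanMk_of_isCompl j (complOpens j).ι
    (isCompl_opensRange_complOpens j)).some

end Clopen

variable {X : Scheme.{u}}

lemma mono_left {Y Z : FEt.Cat X} (i : Y ⟶ Z) [Mono i] : Mono i.left := by
  haveI : Mono ((MorphismProperty.Over.forget FEt.prop.{u} ⊤ X).map i) := inferInstance
  exact inferInstanceAs (Mono ((MorphismProperty.Over.forget FEt.prop.{u} ⊤ X).map i).left)

lemma prop_left {Y Z : FEt.Cat X} (i : Y ⟶ Z) : IsFinite i.left ∧ Etale i.left := by
  have h : FEt.prop.{u} (i.left ≫ Z.hom) := by
    rw [MorphismProperty.Over.w]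
    exact Y.prop
  exact MorphismProperty.of_postcomp (W := FEt.prop.{u}) (W' := FEt.prop.{u}) i.left Z.hom Z.prop h

lemma isOpenImmersion_left {Y Z : FEt.Cat X} (i : Y ⟶ Z) [Mono i] : IsOpenImmersion i.left := by
  haveI := mono_left i
  haveI := (prop_left i).2
  exact IsOpenImmersion.of_flat_of_mono i.left

lemma isClosedImmersion_left {Y Z : FEt.Cat X} (i : Y ⟶ Z) [Mono i] : IsClosedImmersion i.left :=
  (IsClosedImmersion.iff_isFinite_and_mono i.left).mpr ⟨(prop_left i).1, mono_left i⟩

/-- the complementary summand of a monomorphism -/
noncomputable def complObj {Y Z : FEt.Cat X} (i : Y ⟶ Z) [Mono i] : FEt.Cat X :=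
  haveI := isOpenImmersion_left i
  haveI := isClosedImmersion_left i
  mkObj ((complOpens i.left).ι ≫ Z.hom)

noncomputable def complι {Y Z : FEt.Cat X} (i : Y ⟶ Z) [Mono i] : complObj i ⟶ Z :=
  haveI := isOpenImmersion_left i
  haveI := isClosedImmersion_left i
  MorphismProperty.Over.homMk (complOpens i.left).ι rfl trivial

/-- (G3) a monomorphism of covers is the inclusion of a direct summand -/
noncomputable def monoIsColimit {Y Z : FEt.Cat X} (i : Y ⟶ Z) [Mono i] :
    IsColimit (BinaryCofan.mk i (complι i)) :=
  haveI := isOpenImmersion_left i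
  haveI := isClosedImmersion_left i
  let hS := clopenIsColimit i.left
  BinaryCofan.isColimitMk
    (fun s => MorphismProperty.Over.homMk
      (BinaryCofan.IsColimit.desc' hS s.inl.left s.inr.left).1 (by
        apply BinaryCofan.IsColimit.hom_ext hS
        · exact (Category.assoc _ _ _).symm.trans
            ((congrArg (fun k => k ≫ s.pt.hom)
              (BinaryCofan.IsColimit.desc' hS s.inl.left s.inr.left).2.1).trans
              ((MorphismProperty.Over.w s.inl).trans (MorphismProperty.Over.w i).symm))
        · exact (Category.assoc _ _ _).symm.trans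
            ((congrArg (fun k => k ≫ s.pt.hom)
              (BinaryCofan.IsColimit.desc' hS s.inl.left s.inr.left).2.2).trans
              ((MorphismProperty.Over.w s.inr).trans (MorphismProperty.Over.w (complι i)).symm)))
      trivial)
    (fun s => by
      apply MorphismProperty.Over.Hom.ext
      exact (BinaryCofan.IsColimit.desc' hS s.inl.left s.inr.left).2.1)
    (fun s => by
      apply MorphismProperty.Over.Hom.ext
      exact (BinaryCofan.IsColimit.desc' hS s.inl.left s.inr.left).2.2)
    (fun s m h1 h2 => by
      apply MorphismProperty.Over.Hom.ext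
      apply BinaryCofan.IsColimit.hom_ext hS
      · exact (congrArg (fun k => k.left) h1).trans
          (BinaryCofan.IsColimit.desc' hS s.inl.left s.inr.left).2.1.symm
      · exact (congrArg (fun k => k.left) h2).trans
          (BinaryCofan.IsColimit.desc' hS s.inl.left s.inr.left).2.2.symm)

end Groth.Agent.Lib.helper14.FEtGal
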