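import Mathlib
import Groth.Prelude.Def_FEt
import Groth.Agent.Lib.Helper14.FibIso2

/-!
# helper14: every natural transformation between fibre functors is injective
-/

set_option autoImplicit false

namespace Groth.Agent.Lib.helper14.FibIso

open AlgebraicGeometry CategoryTheory CategoryTheory.Limits

universe u

section Aux

variable {A Y X : Scheme.{u}} (f : Y ⟶ X) (s : A ⟶ pullback f f)

lemma fst_eq_snd_of_lift (t : A ⟶ Y) (ht : t ≫ pullback.diagonal f = s) :
    s ≫ pullback.fst f f = s ≫ pullback.snd f f := by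
  rw [← ht, Category.assoc, Category.assoc, pullback.diagonal_fst, pullback.diagonal_snd]

lemma eq_comp_diagonal (h : s ≫ pullback.fst f f = s ≫ pullback.snd f f) :
    s = (s ≫ pullback.fst f f) ≫ pullback.diagonal f := by
  apply pullback.hom_ext
  · rw [Category.assoc, pullback.diagonal_fst, Category.comp_id]
  · rw [Category.assoc, pullback.diagonal_snd, Category.comp_id, h]

end Aux

variable {X : Scheme.{u}} {Ω Ω' : Type u} [Field Ω] [Field Ω']
  (ξ : Spec (CommRingCat.of Ω) ⟶ X) (ξ' : Spec (CommRingCat.of Ω') ⟶ X)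

theorem injective_app (φ : FEt.fiber ξ ⟶ FEt.fiber ξ') (Y : FEt.Cat X) :
    Function.Injective (φ.app Y) := by
  intro a b hab
  set w := prodPt ξ a b with hw
  have hwa : (FEt.fiber ξ).map (prodFst Y Y) w = a := prodPt_fst ξ a b
  have hwb : (FEt.fiber ξ).map (prodSnd Y Y) w = b := prodPt_snd ξ a b
  have h1 : a.1 = w.1 ≫ pullback.fst Y.hom Y.hom := congrArg Subtype.val hwa.symm
  have h2 : b.1 = w.1 ≫ pullback.snd Y.hom Y.hom := congrArg Subtype.val hwb.symm
  rcases exists_lift_or (pullback.diagonal Y.hom) w.1 with ⟨t, ht⟩ | ⟨t, ht⟩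
  · apply Subtype.ext
    exact h1.trans ((fst_eq_snd_of_lift Y.hom w.1 t ht).trans h2.symm)
  · exfalso
    let c : FEt.fiberObj ξ (diagCompl Y) := ⟨t, by
      have := w.2
      show t ≫ (complOpens (pullback.diagonal Y.hom)).ι ≫ pullback.fst Y.hom Y.hom ≫ Y.hom = ξ
      rw [← Category.assoc]
      exact (congrArg (· ≫ (pullback.fst Y.hom Y.hom ≫ Y.hom)) ht).trans this⟩
    have hc : (FEt.fiber ξ).map (diagComplι Y) c = w := Subtype.ext ht
    set w' := φ.app (prodObj Y Y) w with hw'
    have e1 : w' = (FEt.fiber ξ').map (diagComplι Y) (φ.app _ c) := by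
      rw [hw', ← hc]; exact FunctorToTypes.naturality φ (diagComplι Y) c
    have e2 : (FEt.fiber ξ').map (prodFst Y Y) w' = φ.app Y a := by
      rw [hw', ← hwa]; exact (FunctorToTypes.naturality φ (prodFst Y Y) w).symm
    have e3 : (FEt.fiber ξ').map (prodSnd Y Y) w' = φ.app Y b := by
      rw [hw', ← hwb]; exact (FunctorToTypes.naturality φ (prodSnd Y Y) w).symm
    have f1 : w'.1 = (φ.app _ c).1 ≫ (complOpens (pullback.diagonal Y.hom)).ι :=
      congrArg Subtype.val e1
    have f2 : w'.1 ≫ pullback.fst Y.hom Y.hom = (φ.app Y a).1 := congrArg Subtype.val e2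
    have f3 : w'.1 ≫ pullback.snd Y.hom Y.hom = (φ.app Y a).1 := by
      rw [hab]; exact congrArg Subtype.val e3
    have f4 : w'.1 = (w'.1 ≫ pullback.fst Y.hom Y.hom) ≫ pullback.diagonal Y.hom :=
      eq_comp_diagonal Y.hom w'.1 (f2.trans f3.symm)
    exact not_lift_and (pullback.diagonal Y.hom) _ _ (f4.symm.trans f1)

end Groth.Agent.Lib.helper14.FibIso
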