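import Mathlib

/-!
# helper14: counting sections of a finite étale algebra over a separably closed field
-/

set_option autoImplicit false

namespace Groth.Agent.Lib.helper14.FibIso

open AlgebraicGeometry CategoryTheory CategoryTheory.Limits

universe u

/-- the spectrum of `Ω^n` has `n` points -/
theorem card_primeSpectrum_fin_fun (Ω : Type u) [Field Ω] (n : ℕ) :
    Finite (PrimeSpectrum (Fin n → Ω)) ∧ Nat.card (PrimeSpectrum (Fin n → Ω)) = n := by
  let φ : Fin n → PrimeSpectrum (Fin n → Ω) := fun i =>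
    PrimeSpectrum.sigmaToPi (fun _ : Fin n => Ω) ⟨i, ⊥⟩
  have hinj : Function.Injective φ := by
    intro i j hij
    have := PrimeSpectrum.sigmaToPi_injective (R := fun _ : Fin n => Ω) hij
    exact congrArg Sigma.fst this
  have hsurj : Function.Surjective φ := by
    intro P
    obtain ⟨i, q, hq⟩ := PrimeSpectrum.exists_comap_evalRingHom_eq (R := fun _ : Fin n => Ω) P
    obtain rfl : q = ⊥ := Subsingleton.elim _ _
    exact ⟨i, hq⟩
  refine ⟨Finite.of_surjective φ hsurj, ?_⟩
  rw [← Nat.card_congr (Equiv.ofBijective φ ⟨hinj, hsurj⟩), Nat.card_fin]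

/-- a finite split algebra over a field has as many points as its dimension -/
theorem card_algHom_of_isFiniteSplit (Ω : Type u) [Field Ω] (E : Type u)
    [CommRing E] [Algebra Ω E] [Algebra.IsFiniteSplit Ω E] :
    Finite (E →ₐ[Ω] Ω) ∧ Nat.card (E →ₐ[Ω] Ω) = Module.finrank Ω E := by
  obtain ⟨n, ⟨e⟩⟩ := Algebra.IsFiniteSplit.nonempty_algEquiv_fun Ω E
  obtain ⟨h1, h2⟩ := card_primeSpectrum_fin_fun Ω n
  let e1 : (E →ₐ[Ω] Ω) ≃ PrimeSpectrum E := Algebra.IsFiniteSplit.algHomEquivPrimeSpectrum Ω E
  let e2 : PrimeSpectrum E ≃ PrimeSpectrum (Fin n → Ω) :=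
    (PrimeSpectrum.comapEquiv e.toRingEquiv).toEquiv
  refine ⟨Finite.of_equiv _ (e2.symm.trans e1.symm), ?_⟩
  rw [Nat.card_congr (e1.trans e2), h2, e.toLinearEquiv.finrank_eq, Module.finrank_fin_fun]

/-- sections of `Spec B ⟶ Spec Ω` for `B` finite étale over a separably closed field `Ω` -/
theorem card_sections_SpecMap {Ω : Type u} [Field Ω] [IsSepClosed Ω] {B : CommRingCat.{u}}
    (ψ : CommRingCat.of Ω ⟶ B) (hfin : ψ.hom.Finite) (het : ψ.hom.Etale) :
    Finite {t : Spec (CommRingCat.of Ω) ⟶ Spec B // t ≫ Spec.map ψ = 𝟙 _} ∧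
      Nat.card {t : Spec (CommRingCat.of Ω) ⟶ Spec B // t ≫ Spec.map ψ = 𝟙 _} =
        ψ.hom.finrank default := by
  algebraize [ψ.hom]
  haveI : Algebra.IsFiniteSplit Ω B := inferInstance
  obtain ⟨h1, h2⟩ := card_algHom_of_isFiniteSplit Ω B
  let e : {t : Spec (CommRingCat.of Ω) ⟶ Spec B // t ≫ Spec.map ψ = 𝟙 _} ≃ (B →ₐ[Ω] Ω) :=
    { toFun := fun t =>
        { toRingHom := (Spec.preimage t.1).hom
          commutes' := fun r => by
            have h : ψ ≫ Spec.preimage t.1 = 𝟙 _ := by
              apply Spec.map_injective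
              rw [Spec.map_comp, Spec.map_preimage, Spec.map_id]
              exact t.2
            exact congrArg (fun k => k.hom r) h }
      invFun := fun f => ⟨Spec.map (CommRingCat.ofHom f.toRingHom), by
        rw [← Spec.map_comp, ← Spec.map_id]
        congr 1
        ext r
        exact f.commutes r⟩
      left_inv := fun t => by
        apply Subtype.ext
        show Spec.map (CommRingCat.ofHom (Spec.preimage t.1).hom) = t.1
        exact Spec.map_preimage t.1
      right_inv := fun f => by
        ext b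
        show (Spec.preimage (Spec.map (CommRingCat.ofHom f.toRingHom))).hom b = f b
        rw [Spec.preimage_map]
        rfl }
  refine ⟨Finite.of_equiv _ e.symm, ?_⟩
  rw [Nat.card_congr e, h2]
  show _ = Module.rankAtStalk (R := Ω) B default
  rw [Module.rankAtStalk_eq_finrank_of_free]
  rfl

end Groth.Agent.Lib.helper14.FibIso
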