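import Mathlib
import Groth.Prelude.Def_FEt
import Groth.Agent.Lib.Helper14.FibIso2
import Groth.Agent.Lib.Helper14.FibIso4

/-!
# helper14: the number of points of a geometric fibre of a finite étale cover is the rank
-/

set_option autoImplicit false

namespace Groth.Agent.Lib.helper14.FibIso

open AlgebraicGeometry CategoryTheory CategoryTheory.Limits

universe u

/-- sections of a finite étale `P ⟶ Spec Ω`, `Ω` separably closed -/
theorem card_sections {Ω : Type u} [Field Ω] [IsSepClosed Ω] {P : Scheme.{u}}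
    (q : P ⟶ Spec (CommRingCat.of Ω)) [IsFinite q] [Etale q] :
    Finite {t : Spec (CommRingCat.of Ω) ⟶ P // t ≫ q = 𝟙 _} ∧
      Nat.card {t : Spec (CommRingCat.of Ω) ⟶ P // t ≫ q = 𝟙 _} = q.finrank default := by
  haveI : IsAffine P := isAffine_of_isAffineHom q
  let ψ : CommRingCat.of Ω ⟶ Γ(P, ⊤) := (Scheme.ΓSpecIso (CommRingCat.of Ω)).inv ≫ q.appTop
  have hq : P.isoSpec.hom ≫ Spec.map ψ = q := by
    show P.isoSpec.hom ≫ Spec.map ((Scheme.ΓSpecIso (CommRingCat.of Ω)).inv ≫ q.appTop) = q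
    rw [Spec.map_comp, ← Category.assoc, Scheme.isoSpec_hom_naturality, Scheme.isoSpec_Spec_hom,
      Category.assoc, ← Spec.map_comp, Iso.inv_hom_id, Spec.map_id, Category.comp_id]
  have hq' : Spec.map ψ = P.isoSpec.inv ≫ q := by rw [← hq, Iso.inv_hom_id_assoc]
  haveI : IsFinite (Spec.map ψ) := by rw [hq']; infer_instance
  haveI : Etale (Spec.map ψ) := by rw [hq']; infer_instance
  have hfin : ψ.hom.Finite := (IsFinite.SpecMap_iff ψ).mp inferInstance
  have het : ψ.hom.Etale := (HasRingHomProperty.Spec_iff (P := @Etale)).mp inferInstance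
  have hflat : ψ.hom.Flat := Flat.SpecMap_iff.mp inferInstance
  obtain ⟨h1, h2⟩ := card_sections_SpecMap ψ hfin het
  let e : {t : Spec (CommRingCat.of Ω) ⟶ P // t ≫ q = 𝟙 _} ≃
      {t : Spec (CommRingCat.of Ω) ⟶ Spec Γ(P, ⊤) // t ≫ Spec.map ψ = 𝟙 _} :=
    { toFun := fun t => ⟨t.1 ≫ P.isoSpec.hom, by rw [Category.assoc, hq]; exact t.2⟩
      invFun := fun t => ⟨t.1 ≫ P.isoSpec.inv, by
        rw [← hq, Category.assoc, Iso.inv_hom_id_assoc]; exact t.2⟩
      left_inv := fun t => Subtype.ext (by simp)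
      right_inv := fun t => Subtype.ext (by simp) }
  refine ⟨Finite.of_equiv _ e.symm, ?_⟩
  rw [Nat.card_congr e, h2, ← hq, Scheme.Hom.finrank_comp_left_of_isIso,
    Scheme.Hom.finrank_SpecMap_eq_finrank hfin hflat]
  exact congrArg _ (Subsingleton.elim _ _)

variable {X : Scheme.{u}}

/-- the geometric fibre of a cover as the set of sections of the pulled back cover -/
noncomputable def fiberObjEquiv {Ω : Type u} [Field Ω] (ξ : Spec (CommRingCat.of Ω) ⟶ X)
    (Y : FEt.Cat X) :
    FEt.fiberObj ξ Y ≃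
      {t : Spec (CommRingCat.of Ω) ⟶ pullback Y.hom ξ // t ≫ pullback.snd Y.hom ξ = 𝟙 _} where
  toFun s := ⟨pullback.lift s.1 (𝟙 _) (by rw [s.2, Category.id_comp]), pullback.lift_snd _ _ _⟩
  invFun t := ⟨t.1 ≫ pullback.fst Y.hom ξ, by
    rw [Category.assoc, pullback.condition, ← Category.assoc, t.2, Category.id_comp]⟩
  left_inv s := Subtype.ext (pullback.lift_fst _ _ _)
  right_inv t := Subtype.ext (by
    apply pullback.hom_ext
    · exact pullback.lift_fst _ _ _
    · rw [pullback.lift_snd]; exact t.2.symm)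

/-- the geometric fibre of a finite étale cover at a separably closed point is finite, of cardinality
the rank of the cover at the image point -/
theorem card_fiberObj {Ω : Type u} [Field Ω] [IsSepClosed Ω] (ξ : Spec (CommRingCat.of Ω) ⟶ X)
    (Y : FEt.Cat X) :
    Finite (FEt.fiberObj ξ Y) ∧ Nat.card (FEt.fiberObj ξ Y) = Y.hom.finrank (ξ default) := by
  obtain ⟨h1, h2⟩ := card_sections (pullback.snd Y.hom ξ)
  refine ⟨Finite.of_equiv _ (fiberObjEquiv ξ Y).symm, ?_⟩
  rw [Nat.card_congr (fiberObjEquiv ξ Y), h2, Scheme.Hom.finrank_pullback_snd]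

end Groth.Agent.Lib.helper14.FibIso
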