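import Mathlib
import Groth.Prelude.Def_FEt
import Groth.Agent.Lib.Helper14.FibIso3
import Groth.Agent.Lib.Helper14.FibIso5

/-!
# helper14: natural transformations between fibre functors on a connected scheme are isomorphisms
-/

set_option autoImplicit false

namespace Groth.Agent.Lib.helper14.FibIso

open AlgebraicGeometry CategoryTheory CategoryTheory.Limits

universe u

variable {X : Scheme.{u}} [ConnectedSpace X] {Ω Ω' : Type u} [Field Ω] [IsSepClosed Ω] [Field Ω']
  [IsSepClosed Ω'] (ξ : Spec (CommRingCat.of Ω) ⟶ X) (ξ' : Spec (CommRingCat.of Ω') ⟶ X)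

/-- on a connected scheme, the rank of a finite étale cover is constant -/
lemma finrank_eq' {Y : Scheme.{u}} (f : Y ⟶ X) [IsFinite f] [Etale f] (x x' : X) :
    f.finrank x = f.finrank x' :=
  (Scheme.Hom.isLocallyConstant_finrank f).apply_eq_of_preconnectedSpace x x'

lemma finrank_eq (Y : FEt.Cat X) (x x' : X) : Y.hom.finrank x = Y.hom.finrank x' :=
  finrank_eq' (X := X) Y.hom x x'

lemma card_fiberObj_eq (Y : FEt.Cat X) :
    Nat.card (FEt.fiberObj ξ Y) = Nat.card (FEt.fiberObj ξ' Y) := by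
  rw [(card_fiberObj ξ Y).2, (card_fiberObj ξ' Y).2]
  exact finrank_eq Y _ _

theorem bijective_app (φ : FEt.fiber ξ ⟶ FEt.fiber ξ') (Y : FEt.Cat X) :
    Function.Bijective (φ.app Y) := by
  haveI : Finite ((FEt.fiber ξ').obj Y) := (card_fiberObj ξ' Y).1
  refine (injective_app ξ ξ' φ Y).bijective_of_nat_card_le ?_
  exact (card_fiberObj_eq ξ ξ' Y).ge

theorem isIso_of_connected (φ : FEt.fiber ξ ⟶ FEt.fiber ξ') : IsIso φ := by
  haveI : ∀ Y, IsIso (φ.app Y) := fun Y => (isIso_iff_bijective _).mpr (bijective_app ξ ξ' φ Y)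
  exact NatIso.isIso_of_isIso_app φ

end Groth.Agent.Lib.helper14.FibIso
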