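import Mathlib
import Groth.Prelude.Def_FEt
import Groth.Agent.Lib.Helper14.FibIso6
import Groth.Agent.Lib.Helper14.FEtGal9
import Groth.Agent.Lib.Helper14.FEtGal10

/-!
# helper14: epimorphisms of covers are surjective; the fibre functor preserves epimorphisms and
reflects isomorphisms
-/

set_option autoImplicit false
set_option linter.style.haveILetI false

namespace Groth.Agent.Lib.helper14.FEtGal

open AlgebraicGeometry CategoryTheory CategoryTheory.Limits Opposite
open Groth.Agent.Lib.helper14.FibIso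

universe u

variable {X : Scheme.{u}}

/-- an epimorphism of finite étale covers is surjective -/
theorem surjective_of_epi {Y Z : FEt.Cat X} (g : Y ⟶ Z) [Epi g] :
    Function.Surjective g.left := by
  haveI := (prop_left g).1
  haveI := (prop_left g).2
  have hopen : IsOpen (Set.range g.left) := g.left.isOpenMap.isOpen_range
  have hclosed : IsClosed (Set.range g.left) := g.left.isClosedMap.isClosed_range
  let V : Z.left.Opens := ⟨(Set.range g.left)ᶜ, hclosed.isOpen_compl⟩
  haveI : IsClosedImmersion V.ι := by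
    apply IsClosedImmersion.of_isPreimmersion
    rw [Scheme.Opens.range_ι]
    exact hopen.isClosed_compl
  have hrange : Set.range g.left ⊆ Set.range (complOpens V.ι).ι := by
    rw [Scheme.Opens.range_ι, coe_complOpens, Scheme.Opens.range_ι]
    intro x hx
    simpa [V] using hx
  let g' : Y.left ⟶ (complOpens V.ι).toScheme := IsOpenImmersion.lift (complOpens V.ι).ι g.left hrange
  have hg' : g' ≫ (complOpens V.ι).ι = g.left := IsOpenImmersion.lift_fac _ _ _
  let hS := clopenIsColimit V.ι
  let b₀ := BinaryCofan.IsColimit.desc' hS (V.ι ≫ (coprod.inr : Z.left ⟶ Z.left ⨿ Z.left))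
    ((complOpens V.ι).ι ≫ (coprod.inl : Z.left ⟶ Z.left ⨿ Z.left))
  have hb₀ : b₀.1 ≫ coprod.desc Z.hom Z.hom = Z.hom := by
    apply BinaryCofan.IsColimit.hom_ext hS
    · exact (Category.assoc _ _ _).symm.trans
        ((congrArg (fun k => k ≫ coprod.desc Z.hom Z.hom) b₀.2.1).trans
          ((Category.assoc _ _ _).trans (congrArg (fun k => V.ι ≫ k) (coprod.inr_desc _ _))))
    · exact (Category.assoc _ _ _).symm.trans
        ((congrArg (fun k => k ≫ coprod.desc Z.hom Z.hom) b₀.2.2).trans
          ((Category.assoc _ _ _).trans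
            (congrArg (fun k => (complOpens V.ι).ι ≫ k) (coprod.inl_desc _ _))))
  let b : Z ⟶ coprodObj Z Z := MorphismProperty.Over.homMk b₀.1 hb₀ trivial
  have hab : g ≫ coprodInl Z Z = g ≫ b := by
    apply MorphismProperty.Over.Hom.ext
    show g.left ≫ (coprod.inl : Z.left ⟶ Z.left ⨿ Z.left) = g.left ≫ b₀.1
    rw [← hg', Category.assoc, Category.assoc]
    exact congrArg (fun k => g' ≫ k) b₀.2.2.symm
  have h1 : coprodInl Z Z = b := (cancel_epi g).mp hab
  have h2 : (coprod.inl : Z.left ⟶ Z.left ⨿ Z.left) = b₀.1 := congrArg (fun k => k.left) h1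
  have h3 : V.ι ≫ (coprod.inl : Z.left ⟶ Z.left ⨿ Z.left) = V.ι ≫ coprod.inr := by
    rw [h2]
    exact b₀.2.1
  intro z
  by_contra hz
  have hzV : z ∈ V := hz
  have h4 := congrArg (fun k : V.toScheme ⟶ Z.left ⨿ Z.left => k ⟨z, hzV⟩) h3
  simp only [Scheme.Hom.comp_apply] at h4
  exact Set.disjoint_iff_forall_ne.mp (isCompl_range_inl_inr Z.left Z.left).disjoint
    ⟨_, rfl⟩ ⟨_, rfl⟩ h4

variable {Ω : Type u} [Field Ω] [IsSepClosed Ω] (ξ : Spec (CommRingCat.of Ω) ⟶ X)

/-- the fibre functor sends surjective morphisms to surjective maps -/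
theorem fiber_surjective_of_surjective {Y Z : FEt.Cat X} (g : Y ⟶ Z)
    (hg : Function.Surjective g.left) : Function.Surjective ((FEt.fiber ξ).map g) := by
  intro ζ
  haveI := (prop_left g).1
  haveI := (prop_left g).2
  haveI : Surjective g.left := ⟨hg⟩
  let q := pullback.snd g.left ζ.1
  obtain ⟨hfin, hcard⟩ := card_sections q
  have h1 : 1 ≤ q.finrank default :=
    (Scheme.Hom.one_le_finrank_iff_surjective (f := q)).mpr inferInstance default
  haveI : Nonempty {t : Spec (CommRingCat.of Ω) ⟶ pullback g.left ζ.1 // t ≫ q = 𝟙 _} := by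
    by_contra hne
    rw [not_nonempty_iff] at hne
    rw [Nat.card_of_isEmpty] at hcard
    omega
  obtain ⟨t, ht⟩ := ‹Nonempty {t : Spec (CommRingCat.of Ω) ⟶ pullback g.left ζ.1 // t ≫ q = 𝟙 _}›
  have h2 : (t ≫ pullback.fst g.left ζ.1) ≫ g.left = ζ.1 := by
    rw [Category.assoc, pullback.condition, ← Category.assoc, ht, Category.id_comp]
  refine ⟨⟨t ≫ pullback.fst g.left ζ.1, ?_⟩, Subtype.ext h2⟩
  rw [← MorphismProperty.Over.w g, ← Category.assoc, h2]
  exact ζ.2

/-- the fibre functor sends epimorphisms to surjective maps -/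
theorem fiber_surjective_of_epi {Y Z : FEt.Cat X} (g : Y ⟶ Z) [Epi g] :
    Function.Surjective ((FEt.fiber ξ).map g) :=
  fiber_surjective_of_surjective ξ g (surjective_of_epi g)

end Groth.Agent.Lib.helper14.FEtGal
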