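import Mathlib
import Groth.Prelude.Def_FEt
import Groth.Agent.Lib.Helper14.FEtGal11

/-!
# helper14: the fibre functor on a connected scheme reflects isomorphisms
-/

set_option autoImplicit false
set_option linter.style.haveILetI false

namespace Groth.Agent.Lib.helper14.FEtGal

open AlgebraicGeometry CategoryTheory CategoryTheory.Limits Opposite
open Groth.Agent.Lib.helper14.FibIso

universe u

variable {X : Scheme.{u}} [ConnectedSpace X]
variable {Ω : Type u} [Field Ω] [IsSepClosed Ω] (ξ : Spec (CommRingCat.of Ω) ⟶ X)

theorem isIso_of_mono_of_surjective {Y Z : FEt.Cat X} (i : Y ⟶ Z) [Mono i]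
    (h : Function.Surjective ((FEt.fiber ξ).map i)) : IsIso i := by
  haveI := isOpenImmersion_left i
  haveI := isClosedImmersion_left i
  let W := complObj i
  haveI hW : IsEmpty (FEt.fiberObj ξ W) := by
    constructor
    intro w
    let ζ : FEt.fiberObj ξ Z := ⟨w.1 ≫ (complOpens i.left).ι, by
      rw [Category.assoc]
      exact w.2⟩
    obtain ⟨y, hy⟩ := h ζ
    exact not_lift_and i.left y.1 w.1 (congrArg Subtype.val hy)
  have hcard := (card_fiberObj ξ W).2
  rw [Nat.card_of_isEmpty] at hcard
  have hrk : ∀ x, W.hom.finrank x = 0 := fun x => (finrank_eq W x _).trans hcard.symm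
  have hWempty : IsEmpty W.left := by
    constructor
    intro w
    have := Scheme.Hom.one_le_finrank_map W.hom w
    rw [hrk] at this
    omega
  have htop : i.left.opensRange = ⊤ := by
    rw [eq_top_iff]
    intro z _
    by_contra hz
    exact hWempty.false (⟨z, hz⟩ : (complOpens i.left))
  haveI : IsIso i.left := isIso_of_isOpenImmersion_of_opensRange_eq_top i.left htop
  haveI : IsIso ((MorphismProperty.Over.forget FEt.prop.{u} ⊤ X ⋙ Over.forget X).map i) :=
    inferInstanceAs (IsIso i.left)
  exact isIso_of_reflects_iso i (MorphismProperty.Over.forget FEt.prop.{u} ⊤ X ⋙ Over.forget X)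

theorem isIso_of_bijective {Y Z : FEt.Cat X} (g : Y ⟶ Z)
    (hg : Function.Bijective ((FEt.fiber ξ).map g)) : IsIso g := by
  let F := FEt.fiber ξ
  have hlim : IsLimit (F.mapCone (PullbackCone.mk (pullback.fst g g) (pullback.snd g g)
      pullback.condition)) :=
    isLimitOfPreserves F (pullbackIsPullback g g)
  have hcomp : ∀ {A B C : FEt.Cat X} (f : A ⟶ B) (g' : B ⟶ C) (s : F.obj A),
      F.map g' (F.map f s) = F.map (f ≫ g') s := fun f g' s => by
    rw [F.map_comp]
    rfl
  have hid : ∀ {A : FEt.Cat X} (s : F.obj A), F.map (𝟙 A) s = s := fun s => by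
    rw [F.map_id]
    rfl
  have hΔ : Function.Surjective (F.map (pullback.diagonal g)) := by
    intro p
    have h1 : F.map g (F.map (pullback.fst g g) p) = F.map g (F.map (pullback.snd g g) p) := by
      rw [hcomp, hcomp, pullback.condition]
    have h2 := hg.1 h1
    refine ⟨F.map (pullback.fst g g) p, ?_⟩
    have hfst : F.map (pullback.fst g g) (F.map (pullback.diagonal g) (F.map (pullback.fst g g) p))
        = F.map (pullback.fst g g) p := by
      rw [hcomp, pullback.diagonal_fst, hid]
    have hsnd : F.map (pullback.snd g g) (F.map (pullback.diagonal g) (F.map (pullback.fst g g) p))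
        = F.map (pullback.snd g g) p := by
      rw [hcomp, pullback.diagonal_snd, hid]
      exact h2
    apply Concrete.isLimit_ext _ hlim
    rintro (_ | _ | _)
    · show F.map (pullback.fst g g ≫ g) _ = F.map (pullback.fst g g ≫ g) _
      rw [← hcomp, ← hcomp]
      exact congrArg (F.map g) hfst
    · exact hfst
    · exact hsnd
  haveI : IsIso (pullback.diagonal g) := isIso_of_mono_of_surjective ξ _ hΔ
  haveI : IsIso (pullback.fst g g) := by
    have : pullback.fst g g = inv (pullback.diagonal g) := by
      rw [← cancel_epi (pullback.diagonal g), pullback.diagonal_fst, IsIso.hom_inv_id]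
    rw [this]
    infer_instance
  haveI : Mono g := IsKernelPair.mono_of_isIso_fst (IsPullback.of_hasPullback g g)
  exact isIso_of_mono_of_surjective ξ g hg.2

end Groth.Agent.Lib.helper14.FEtGal
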