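import Mathlib
import Groth.Agent.Lib.Helper14.FEtGal5

/-!
# helper14: quotients by finite groups in `FEt.Cat X`
-/

set_option autoImplicit false
set_option linter.style.haveILetI false

namespace Groth.Agent.Lib.helper14.FEtGal

open AlgebraicGeometry CategoryTheory CategoryTheory.Limits

universe u

variable {X : Scheme.{u}} {G : Type u} [Group G] [Finite G]
variable (K : SingleObj G ⥤ FEt.Cat X) {n : ℕ}
  (hn : ∀ x : X, (K.obj (SingleObj.star G)).hom.finrank x = n)

/-- the quotient as a finite étale cover -/
noncomputable def fquot : FEt.Cat X :=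
  MorphismProperty.Over.mk ⊤ (quot (K ⋙ toAff X)).hom
    ⟨(quot_finite_etale K hn).1, (quot_finite_etale K hn).2⟩

/-- the projection to the quotient -/
noncomputable def fquotπ : K.obj (SingleObj.star G) ⟶ fquot K hn :=
  MorphismProperty.Over.homMk ((quotCocone (K ⋙ toAff X)).ι.app (SingleObj.star G)).left
    (MorphismProperty.Over.w ((quotCocone (K ⋙ toAff X)).ι.app (SingleObj.star G))) trivial

lemma fquotπ_left : (fquotπ K hn).left =
    ((quotCocone (K ⋙ toAff X)).ι.app (SingleObj.star G)).left := rfl

lemma map_fquotπ (g : G) : K.map (el g) ≫ fquotπ K hn = fquotπ K hn := by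
  apply MorphismProperty.Over.Hom.ext
  have h1 := (quotCocone (K ⋙ toAff X)).w (el g)
  exact congrArg (fun k => k.left) h1

/-- the quotient cocone -/
noncomputable def fquotCocone : Cocone K where
  pt := fquot K hn
  ι := { app := fun _ => fquotπ K hn
         naturality := by
           rintro ⟨⟩ ⟨⟩ g
           rw [map_fquotπ K hn g]
           exact (Category.comp_id _).symm }

/-- the quotient cocone is a colimit -/
noncomputable def fquotIsColimit : IsColimit (fquotCocone K hn) where
  desc s := MorphismProperty.Over.homMk
    ((quotIsColimit (K ⋙ toAff X)).desc ((toAff X).mapCocone s)).left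
    (MorphismProperty.Over.w ((quotIsColimit (K ⋙ toAff X)).desc ((toAff X).mapCocone s))) trivial
  fac s j := by
    obtain ⟨⟩ := j
    apply MorphismProperty.Over.Hom.ext
    have h1 := (quotIsColimit (K ⋙ toAff X)).fac ((toAff X).mapCocone s) (SingleObj.star G)
    exact congrArg (fun k => k.left) h1
  uniq s m hm := by
    apply MorphismProperty.Over.Hom.ext
    let m' : quot (K ⋙ toAff X) ⟶ ((toAff X).mapCocone s).pt :=
      MorphismProperty.Over.homMk m.left (MorphismProperty.Over.w m) trivial
    have h1 := (quotIsColimit (K ⋙ toAff X)).uniq ((toAff X).mapCocone s) m' (by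
      rintro ⟨⟩
      apply MorphismProperty.Over.Hom.ext
      exact congrArg (fun k => k.left) (hm (SingleObj.star G)))
    exact congrArg (fun k => k.left) h1

include hn in
lemma hasColimit_of_finrank : HasColimit K := ⟨⟨⟨fquotCocone K hn, fquotIsColimit K hn⟩⟩⟩

end Groth.Agent.Lib.helper14.FEtGal
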