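import Mathlib
import Groth.Agent.Lib.Helper14.FEtGal6
import Groth.Agent.Lib.Helper14.FEt14

/-!
# helper14: geometric points of the quotient of a finite étale cover by a finite group
-/

set_option autoImplicit false
set_option linter.style.haveILetI false

namespace Groth.Agent.Lib.helper14.FEtGal

open AlgebraicGeometry CategoryTheory CategoryTheory.Limits

universe u

/-- Two ring maps to a field that agree on the invariants of a finite group differ by an element of
the group (category-theoretic form). -/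
theorem exists_eq_comp_of_eq_on_invariants' {R B : CommRingCat.{u}} {Ω : Type u} [Field Ω]
    (b : R ⟶ B) {G : Type u} [Group G] [Finite G] (τ : G → (B ⟶ B)) (hτb : ∀ g, b ≫ τ g = b)
    (h1 : τ 1 = 𝟙 B) (hmul : ∀ g h, τ (g * h) = τ g ≫ τ h)
    (η η' : B ⟶ CommRingCat.of Ω) (hb : b ≫ η = b ≫ η')
    (hinv : ∀ x, (∀ g, (τ g).hom x = x) → η.hom x = η'.hom x) : ∃ g, η' = τ g ≫ η := by
  classical
  cases nonempty_fintype G
  letI : Algebra R B := b.hom.toAlgebra
  letI : Algebra R Ω := (b ≫ η).hom.toAlgebra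
  let σ : G → (B →ₐ[R] B) := fun g =>
    { toRingHom := (τ g).hom
      commutes' := fun c => congr($(hτb g).hom c) }
  let φ : B →ₐ[R] Ω :=
    { toRingHom := η.hom
      commutes' := fun c => rfl }
  let ψ : B →ₐ[R] Ω :=
    { toRingHom := η'.hom
      commutes' := fun c => congr($(hb).hom c).symm }
  obtain ⟨g, hg⟩ := Groth.Agent.Lib.Helper14.FEt.exists_eq_comp_of_eq_on_invariants σ
    (fun a => congr($(h1).hom a))
    (fun g h a => congr($(hmul g h).hom a).symm) φ ψ hinv
  refine ⟨g, ?_⟩
  apply CommRingCat.hom_ext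
  ext x
  exact congrArg (fun k : B →ₐ[R] Ω => k x) hg

variable {X : Scheme.{u}} {G : Type u} [Group G] [Finite G]
variable (K : SingleObj G ⥤ FEt.Cat X) {n : ℕ}
  (hn : ∀ x : X, (K.obj (SingleObj.star G)).hom.finrank x = n)

/-- Two geometric points of a cover with the same image in the quotient are conjugate. -/
theorem exists_map_eq_of_fquotπ_eq {Ω : Type u} [Field Ω] (ξ : Spec (CommRingCat.of Ω) ⟶ X)
    (y y' : FEt.fiberObj ξ (K.obj (SingleObj.star G)))
    (h : (FEt.fiber ξ).map (fquotπ K hn) y = (FEt.fiber ξ).map (fquotπ K hn) y') :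
    ∃ g : G, (FEt.fiber ξ).map (K.map (el g)) y = y' := by
  classical
  let 𝒰 := X.directedAffineCover
  let D := K ⋙ toAff X
  let d := gluingData D
  haveI : IsFinite (K.obj (SingleObj.star G)).hom := (K.obj (SingleObj.star G)).prop.1
  obtain ⟨i, u, hu⟩ := 𝒰.exists_eq (ξ default)
  have hrange : Set.range ξ ⊆ Set.range (𝒰.f i) := by
    rintro _ ⟨p, rfl⟩
    rw [Subsingleton.elim p default]
    exact ⟨u, hu⟩
  let ξU : Spec (CommRingCat.of Ω) ⟶ 𝒰.X i := IsOpenImmersion.lift (𝒰.f i) ξ hrange
  have hξU : ξU ≫ 𝒰.f i = ξ := IsOpenImmersion.lift_fac _ _ _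
  let yU : Spec (CommRingCat.of Ω) ⟶ pullback (K.obj (SingleObj.star G)).hom (𝒰.f i) :=
    pullback.lift y.1 ξU (by rw [y.2, hξU])
  let yU' : Spec (CommRingCat.of Ω) ⟶ pullback (K.obj (SingleObj.star G)).hom (𝒰.f i) :=
    pullback.lift y'.1 ξU (by rw [y'.2, hξU])
  let Di := D ⋙ MorphismProperty.Over.pullback AffProp.{u} ⊤ (𝒰.f i)
  let ci := d.cocone i
  let πi : pullback (K.obj (SingleObj.star G)).hom (𝒰.f i) ⟶ d.relativeGluingData.functor.obj i :=
    (ci.ι.app (SingleObj.star G)).left
  have hfst : pullback.fst (K.obj (SingleObj.star G)).hom (𝒰.f i) ≫ (fquotπ K hn).left =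
      πi ≫ colimit.ι d.relativeGluingData.functor i := d.fst_gluedCocone_ι (SingleObj.star G) i
  haveI : IsOpenImmersion (colimit.ι d.relativeGluingData.functor i) :=
    MorphismProperty.of_isPullback (P := @IsOpenImmersion)
      (d.relativeGluingData.isPullback_natTrans_ι_toBase i) (inferInstance : IsOpenImmersion (𝒰.f i))
  have h0 : y.1 ≫ (fquotπ K hn).left = y'.1 ≫ (fquotπ K hn).left := congrArg Subtype.val h
  have h5 : yU' ≫ pullback.fst (K.obj (SingleObj.star G)).hom (𝒰.f i) = y'.1 := pullback.lift_fst _ _ _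
  have h6 : yU ≫ pullback.fst (K.obj (SingleObj.star G)).hom (𝒰.f i) = y.1 := pullback.lift_fst _ _ _
  have h1 : yU ≫ πi = yU' ≫ πi := by
    have e : ∀ w : Spec (CommRingCat.of Ω) ⟶ pullback (K.obj (SingleObj.star G)).hom (𝒰.f i),
        (w ≫ πi) ≫ colimit.ι d.relativeGluingData.functor i =
          (w ≫ pullback.fst (K.obj (SingleObj.star G)).hom (𝒰.f i)) ≫ (fquotπ K hn).left := by
      intro w
      calc (w ≫ πi) ≫ colimit.ι d.relativeGluingData.functor i
          = w ≫ (πi ≫ colimit.ι d.relativeGluingData.functor i) := Category.assoc _ _ _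
        _ = w ≫ (pullback.fst (K.obj (SingleObj.star G)).hom (𝒰.f i) ≫ (fquotπ K hn).left) :=
            congrArg (fun k => w ≫ k) hfst.symm
        _ = (w ≫ pullback.fst (K.obj (SingleObj.star G)).hom (𝒰.f i)) ≫ (fquotπ K hn).left :=
            (Category.assoc _ _ _).symm
    apply (cancel_mono (colimit.ι d.relativeGluingData.functor i)).mp
    exact (e yU).trans ((congrArg (fun k => k ≫ (fquotπ K hn).left) h6).trans
      (h0.trans ((congrArg (fun k => k ≫ (fquotπ K hn).left) h5).symm.trans (e yU').symm)))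
  -- the action on the pullback
  let aG : G → (pullback (K.obj (SingleObj.star G)).hom (𝒰.f i) ⟶ pullback (K.obj (SingleObj.star G)).hom (𝒰.f i)) := fun g => (Di.map (el g)).left
  have haG_snd : ∀ g, aG g ≫ pullback.snd (K.obj (SingleObj.star G)).hom (𝒰.f i) = pullback.snd (K.obj (SingleObj.star G)).hom (𝒰.f i) :=
    fun g => MorphismProperty.Over.w (Di.map (el g))
  have haG_fst : ∀ g, aG g ≫ pullback.fst (K.obj (SingleObj.star G)).hom (𝒰.f i) =
      pullback.fst (K.obj (SingleObj.star G)).hom (𝒰.f i) ≫ (K.map (el g)).left := fun g => pullback.lift_fst _ _ _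
  have haG_one : aG 1 = 𝟙 _ := by
    show (Di.map (𝟙 (SingleObj.star G))).left = 𝟙 _
    rw [CategoryTheory.Functor.map_id]
    rfl
  have haG_mul : ∀ g h, aG (g * h) = aG h ≫ aG g := by
    intro g h
    show (Di.map (el h ≫ el g)).left = _
    rw [CategoryTheory.Functor.map_comp]
    rfl
  -- the ring-theoretic statement
  let iso := (Scheme.ΓSpecIso (CommRingCat.of Ω)).hom
  have key := exists_eq_comp_of_eq_on_invariants' (pullback.snd (K.obj (SingleObj.star G)).hom (𝒰.f i)).appTop
    (fun g => (aG g).appTop)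
    (fun g => by rw [← Scheme.Hom.comp_appTop, haG_snd])
    (by rw [haG_one]; rfl)
    (fun g h => by rw [haG_mul, Scheme.Hom.comp_appTop])
    (yU.appTop ≫ iso) (yU'.appTop ≫ iso)
    (by
      rw [← Category.assoc, ← Category.assoc, ← Scheme.Hom.comp_appTop, ← Scheme.Hom.comp_appTop,
        pullback.lift_snd, pullback.lift_snd])
    (by
      intro x hx
      obtain ⟨t, rfl⟩ := (gluingData_isInv D i).surj x hx
      have h2 : πi.appTop ≫ yU.appTop ≫ iso = πi.appTop ≫ yU'.appTop ≫ iso := by
        rw [← Category.assoc, ← Category.assoc, ← Scheme.Hom.comp_appTop,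
          ← Scheme.Hom.comp_appTop, h1]
      exact congr($(h2).hom t))
  obtain ⟨g, hg⟩ := key
  refine ⟨g, ?_⟩
  have h3 : yU'.appTop = (yU ≫ aG g).appTop := by
    rw [Scheme.Hom.comp_appTop, ← cancel_mono iso, Category.assoc]
    exact hg
  have h4 : yU' = yU ≫ aG g := ext_of_isAffine h3
  apply Subtype.ext
  show y.1 ≫ (K.map (el g)).left = y'.1
  rw [← h5, h4, Category.assoc, haG_fst, ← Category.assoc, h6]

end Groth.Agent.Lib.helper14.FEtGal
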