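import Mathlib
import Groth.Prelude.Def_FEt
import Groth.Agent.Lib.Helper14.FEtGal7
import Groth.Agent.Lib.Helper14.FEtGal12

/-!
# helper14: finite étale covers of a connected scheme form a Galois category
-/

set_option autoImplicit false
set_option linter.style.haveILetI false

namespace Groth.Agent.Lib.helper14.FEtGal

open AlgebraicGeometry CategoryTheory CategoryTheory.Limits Opposite
open Groth.Agent.Lib.helper14.FibIso

universe u

/-- a criterion for a cocone under a group action on a type to be a quotient -/
noncomputable def typeQuotIsColimit {G : Type u} [Group G] (T : SingleObj G ⥤ Type u)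
    (c : Cocone T) (hsurj : Function.Surjective (c.ι.app (SingleObj.star G)))
    (hinj : ∀ x x', c.ι.app (SingleObj.star G) x = c.ι.app (SingleObj.star G) x' →
      ∃ g : G, T.map (el g) x = x') : IsColimit c where
  desc s := TypeCat.ofHom fun z => s.ι.app (SingleObj.star G) (hsurj z).choose
  fac s j := by
    obtain ⟨⟩ := j
    ext x
    show s.ι.app (SingleObj.star G) (hsurj (c.ι.app (SingleObj.star G) x)).choose =
      s.ι.app (SingleObj.star G) x
    generalize (hsurj (c.ι.app (SingleObj.star G) x)).choose = y,
      (hsurj (c.ι.app (SingleObj.star G) x)).choose_spec = hy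
    obtain ⟨g, hg⟩ := hinj _ _ hy
    have h1 : s.ι.app (SingleObj.star G) (T.map (el g) y) = s.ι.app (SingleObj.star G) y :=
      (ConcreteCategory.comp_apply _ _ _).symm.trans (ConcreteCategory.congr_hom (s.w (el g)) _)
    exact h1.symm.trans (congrArg _ hg)
  uniq s m hm := by
    ext z
    show m z = s.ι.app (SingleObj.star G) (hsurj z).choose
    conv_lhs => rw [← (hsurj z).choose_spec]
    exact ConcreteCategory.congr_hom (hm (SingleObj.star G)) _

variable {X : Scheme.{u}} [ConnectedSpace X]

theorem preGaloisCategory_cat : PreGaloisCategory (FEt.Cat X) where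
  hasTerminal := inferInstance
  hasPullbacks := inferInstance
  hasFiniteCoproducts := inferInstance
  hasQuotientsByFiniteGroups G _ _ := ⟨fun K =>
    hasColimit_of_finrank K
      (n := (K.obj (SingleObj.star G)).hom.finrank (Classical.arbitrary X))
      (fun x => finrank_eq _ x _)⟩
  monoInducesIsoOnDirectSummand i _ := ⟨complObj i, complι i, ⟨monoIsColimit i⟩⟩

variable {Ω : Type u} [Field Ω] [IsSepClosed Ω] (ξ : Spec (CommRingCat.of Ω) ⟶ X)

instance preservesQuotients_fiber (G : Type u) [Group G] [Finite G] :
    PreservesColimitsOfShape (SingleObj G) (FEt.fiber ξ) := by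
  constructor
  intro K
  have hn : ∀ x : X, (K.obj (SingleObj.star G)).hom.finrank x =
      (K.obj (SingleObj.star G)).hom.finrank (Classical.arbitrary X) := fun x => finrank_eq _ x _
  refine preservesColimit_of_preserves_colimit_cocone (fquotIsColimit K hn) ?_
  refine typeQuotIsColimit _ _ ?_ ?_
  · haveI : Epi (fquotπ K hn) := by
      constructor
      intro W a b hab
      refine (fquotIsColimit K hn).hom_ext ?_
      rintro ⟨⟩
      exact hab
    exact fiber_surjective_of_epi ξ (fquotπ K hn)
  · intro y y' hyy'
    exact exists_map_eq_of_fquotπ_eq K hn ξ y y' hyy'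

/-- the fibre functor with values in finite sets -/
noncomputable def fiberFin : FEt.Cat X ⥤ FintypeCat.{u} :=
  ObjectProperty.lift _ (FEt.fiber ξ) (fun Y => (card_fiberObj ξ Y).1)

noncomputable def fiberFinIso : fiberFin ξ ⋙ FintypeCat.incl ≅ FEt.fiber ξ :=
  ObjectProperty.liftCompιIso _ _ _

lemma preservesColimitsOfShape_fiberFin (J : Type*) [Category J]
    [PreservesColimitsOfShape J (FEt.fiber ξ)] : PreservesColimitsOfShape J (fiberFin ξ) :=
  haveI : PreservesColimitsOfShape J (fiberFin ξ ⋙ FintypeCat.incl) :=
    preservesColimitsOfShape_of_natIso (fiberFinIso ξ).symm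
  preservesColimitsOfShape_of_reflects_of_preserves (fiberFin ξ) FintypeCat.incl

lemma preservesLimitsOfShape_fiberFin (J : Type*) [Category J]
    [PreservesLimitsOfShape J (FEt.fiber ξ)] : PreservesLimitsOfShape J (fiberFin ξ) :=
  haveI : PreservesLimitsOfShape J (fiberFin ξ ⋙ FintypeCat.incl) :=
    preservesLimitsOfShape_of_natIso (fiberFinIso ξ).symm
  preservesLimitsOfShape_of_reflects_of_preserves (fiberFin ξ) FintypeCat.incl

theorem fiberFunctor_fiberFin :
    @PreGaloisCategory.FiberFunctor (FEt.Cat X) _ preGaloisCategory_cat (fiberFin ξ) :=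
  letI := preGaloisCategory_cat (X := X)
  { preservesTerminalObjects := preservesLimitsOfShape_fiberFin ξ _
    preservesPullbacks := preservesLimitsOfShape_fiberFin ξ _
    preservesFiniteCoproducts := ⟨fun n => preservesColimitsOfShape_fiberFin ξ _⟩
    preservesEpis := ⟨fun {Y Z} g _ =>
      ConcreteCategory.epi_of_surjective _ (fiber_surjective_of_epi ξ g)⟩
    preservesQuotientsByFiniteGroups := fun G _ _ => preservesColimitsOfShape_fiberFin ξ _
    reflectsIsos := ⟨fun {Y Z} g _ =>
      isIso_of_bijective ξ g
        ((ConcreteCategory.isIso_iff_bijective ((fiberFin ξ).map g)).mp inferInstance)⟩ }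

end Groth.Agent.Lib.helper14.FEtGal
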