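import Mathlib
import Groth.Prelude.Def_FEt
import Groth.Agent.Lib.Helper9.UHomEt1

/-!
# helper14: gluing finite étale covers along a universal homeomorphism, I (general lemmas)
-/

set_option autoImplicit false
set_option linter.style.haveILetI false

namespace Groth.Agent.Lib.helper14.FEtGlue

open AlgebraicGeometry CategoryTheory CategoryTheory.Limits

universe u

/-- if `q ≫ c` is universally injective and `q` is surjective then `c` is universally injective -/
lemma universallyInjective_of_surjective_comp {A B C : Scheme.{u}} (q : A ⟶ B) (c : B ⟶ C)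
    [Surjective q] [UniversallyInjective (q ≫ c)] : UniversallyInjective c := by
  constructor
  intro B' C' i₁ i₂ c' hpb
  -- the base change of `q`
  have h1 : IsPullback (pullback.snd q i₁) (pullback.fst q i₁) i₁ q :=
    (IsPullback.of_hasPullback q i₁).flip
  have h2 : IsPullback (pullback.snd q i₁ ≫ c') (pullback.fst q i₁) i₂ (q ≫ c) :=
    h1.paste_horiz hpb
  have hinj : Function.Injective (pullback.snd q i₁ ≫ c') :=
    (UniversallyInjective.universally_injective (f := q ≫ c)) _ _ _ h2
  haveI : Surjective (pullback.snd q i₁) :=
    MorphismProperty.pullback_snd (P := @Surjective) q i₁ inferInstance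
  intro b₁ b₂ hb
  obtain ⟨a₁, rfl⟩ := (pullback.snd q i₁).surjective b₁
  obtain ⟨a₂, rfl⟩ := (pullback.snd q i₁).surjective b₂
  have : a₁ = a₂ := hinj (by
    rw [Scheme.Hom.comp_apply, Scheme.Hom.comp_apply]
    exact hb)
  rw [this]

/-- an étale morphism `c` such that `q ≫ c` is a universal homeomorphism for a surjective `q` is an
isomorphism -/
lemma isIso_of_comp {A B C : Scheme.{u}} (q : A ⟶ B) (c : B ⟶ C) [Surjective q] [Etale c]
    [UniversallyInjective (q ≫ c)] [Surjective (q ≫ c)] : IsIso c := by
  haveI := universallyInjective_of_surjective_comp q c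
  haveI : Surjective c := by
    refine ⟨fun z => ?_⟩
    obtain ⟨a, ha⟩ := (q ≫ c).surjective z
    exact ⟨q a, by rw [← Scheme.Hom.comp_apply]; exact ha⟩
  exact Groth.Agent.Lib.helper9.UHomEt.isIso_of_etale_of_universallyInjective_of_surjective c

end Groth.Agent.Lib.helper14.FEtGlue
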