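import Mathlib
import Groth.Prelude.Def_FEt
import Groth.Agent.Lib.Helper14.FEtGlue1

/-!
# helper14: gluing finite étale covers along a universal homeomorphism, II (transition maps)
-/

set_option autoImplicit false
set_option linter.style.haveILetI false

namespace Groth.Agent.Lib.helper14.FEtGlue

open AlgebraicGeometry CategoryTheory CategoryTheory.Limits

universe u

section PullbackCover

variable {X Y : Scheme.{u}} (𝒰 : X.OpenCover) [Category 𝒰.I₀] [𝒰.LocallyDirected] (f : Y ⟶ X)

lemma pullback₁_trans_fst {i j : 𝒰.I₀} (hij : i ⟶ j) :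
    Scheme.Cover.trans (𝒰.pullback₁ f) hij ≫ pullback.fst f (𝒰.f j) = pullback.fst f (𝒰.f i) :=
  Scheme.Cover.trans_map (𝒰.pullback₁ f) hij

lemma pullback₁_trans_snd {i j : 𝒰.I₀} (hij : i ⟶ j) :
    Scheme.Cover.trans (𝒰.pullback₁ f) hij ≫ pullback.snd f (𝒰.f j) =
      pullback.snd f (𝒰.f i) ≫ Scheme.Cover.trans 𝒰 hij := by
  exact pullback.lift_snd _ _ _

/-- the transition squares of a pulled back cover are pullback squares -/
lemma isPullback_pullback₁_trans {i j : 𝒰.I₀} (hij : i ⟶ j) :
    IsPullback (Scheme.Cover.trans (𝒰.pullback₁ f) hij) (pullback.snd f (𝒰.f i))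
      (pullback.snd f (𝒰.f j)) (Scheme.Cover.trans 𝒰 hij) := by
  have hj : IsPullback (pullback.fst f (𝒰.f j)) (pullback.snd f (𝒰.f j)) f (𝒰.f j) :=
    IsPullback.of_hasPullback _ _
  have hi : IsPullback (pullback.fst f (𝒰.f i)) (pullback.snd f (𝒰.f i)) f (𝒰.f i) :=
    IsPullback.of_hasPullback _ _
  refine IsPullback.of_right ?_ (pullback₁_trans_snd 𝒰 f hij) hj
  rw [pullback₁_trans_fst, Scheme.Cover.trans_map]
  exact hi

end PullbackCover

section Glue

variable {X' X : Scheme.{u}} (π : X' ⟶ X) {V : Scheme.{u}} (v : V ⟶ X')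

/-- local descent data over the affine opens of `X` -/
structure LocData where
  /-- the local covers -/
  W : X.directedAffineCover.I₀ → Scheme.{u}
  /-- the local covers -/
  w : ∀ i, W i ⟶ X.directedAffineCover.X i
  etale : ∀ i, Etale (w i)
  /-- the local quotient maps -/
  q : ∀ i, pullback v (pullback.fst π (X.directedAffineCover.f i)) ⟶ W i
  isPullback : ∀ i, IsPullback (q i) (pullback.snd v (pullback.fst π (X.directedAffineCover.f i)))
    (w i) (pullback.snd π (X.directedAffineCover.f i))

/-- the induced cover of `X'` -/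
noncomputable abbrev covX : X'.OpenCover := X.directedAffineCover.pullback₁ π

/-- the induced cover of `V` -/
noncomputable abbrev covV : V.OpenCover := (X.directedAffineCover.pullback₁ π).pullback₁ v

/-- the transition maps of `X.directedAffineCover`, explicitly typed -/
noncomputable def trU {i j : X.directedAffineCover.I₀} (hij : i ⟶ j) :
    X.directedAffineCover.X i ⟶ X.directedAffineCover.X j :=
  Scheme.Cover.trans X.directedAffineCover hij

/-- the transition maps of `covX`, explicitly typed -/
noncomputable def trX {i j : X.directedAffineCover.I₀} (hij : i ⟶ j) :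
    pullback π (X.directedAffineCover.f i) ⟶ pullback π (X.directedAffineCover.f j) :=
  Scheme.Cover.trans (X.directedAffineCover.pullback₁ π) hij

/-- the transition maps of `covV`, explicitly typed -/
noncomputable def trV {i j : X.directedAffineCover.I₀} (hij : i ⟶ j) :
    pullback v (pullback.fst π (X.directedAffineCover.f i)) ⟶
      pullback v (pullback.fst π (X.directedAffineCover.f j)) :=
  Scheme.Cover.trans ((X.directedAffineCover.pullback₁ π).pullback₁ v) hij

lemma trU_f {i j : X.directedAffineCover.I₀} (hij : i ⟶ j) :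
    trU hij ≫ X.directedAffineCover.f j = X.directedAffineCover.f i :=
  Scheme.Cover.trans_map X.directedAffineCover hij

lemma trU_id (i : X.directedAffineCover.I₀) : trU (𝟙 i) = 𝟙 (X.directedAffineCover.X i) :=
  Scheme.Cover.trans_id X.directedAffineCover i

lemma trU_comp {i j k : X.directedAffineCover.I₀} (hij : i ⟶ j) (hjk : j ⟶ k) :
    trU hij ≫ trU hjk = trU (hij ≫ hjk) :=
  (Scheme.Cover.trans_comp X.directedAffineCover hij hjk).symm

lemma trX_fst {i j : X.directedAffineCover.I₀} (hij : i ⟶ j) :
    trX π hij ≫ pullback.fst π (X.directedAffineCover.f j) =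
      pullback.fst π (X.directedAffineCover.f i) :=
  pullback₁_trans_fst X.directedAffineCover π hij

lemma trX_snd {i j : X.directedAffineCover.I₀} (hij : i ⟶ j) :
    trX π hij ≫ pullback.snd π (X.directedAffineCover.f j) =
      pullback.snd π (X.directedAffineCover.f i) ≫ trU hij :=
  pullback₁_trans_snd X.directedAffineCover π hij

lemma isPullback_trX {i j : X.directedAffineCover.I₀} (hij : i ⟶ j) :
    IsPullback (trX π hij) (pullback.snd π (X.directedAffineCover.f i))
      (pullback.snd π (X.directedAffineCover.f j)) (trU hij) :=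
  isPullback_pullback₁_trans X.directedAffineCover π hij

lemma trV_fst {i j : X.directedAffineCover.I₀} (hij : i ⟶ j) :
    trV π v hij ≫ pullback.fst v (pullback.fst π (X.directedAffineCover.f j)) =
      pullback.fst v (pullback.fst π (X.directedAffineCover.f i)) :=
  by
    have h := @pullback₁_trans_fst _ _ (X.directedAffineCover.pullback₁ π) inferInstance inferInstance v
      i j hij
    exact h

lemma trV_snd {i j : X.directedAffineCover.I₀} (hij : i ⟶ j) :
    trV π v hij ≫ pullback.snd v (pullback.fst π (X.directedAffineCover.f j)) =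
      pullback.snd v (pullback.fst π (X.directedAffineCover.f i)) ≫ trX π hij :=
  by
    have h := @pullback₁_trans_snd _ _ (X.directedAffineCover.pullback₁ π) inferInstance inferInstance v
      i j hij
    exact h

lemma isPullback_trV {i j : X.directedAffineCover.I₀} (hij : i ⟶ j) :
    IsPullback (trV π v hij) (pullback.snd v (pullback.fst π (X.directedAffineCover.f i)))
      (pullback.snd v (pullback.fst π (X.directedAffineCover.f j))) (trX π hij) :=
  by
    have h := @isPullback_pullback₁_trans _ _ (X.directedAffineCover.pullback₁ π) inferInstance inferInstance v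
      i j hij
    exact h

lemma trV_id (i : X.directedAffineCover.I₀) :
    trV π v (𝟙 i) = 𝟙 (pullback v (pullback.fst π (X.directedAffineCover.f i))) :=
  Scheme.Cover.trans_id ((X.directedAffineCover.pullback₁ π).pullback₁ v) i

lemma trV_comp {i j k : X.directedAffineCover.I₀} (hij : i ⟶ j) (hjk : j ⟶ k) :
    trV π v hij ≫ trV π v hjk = trV π v (hij ≫ hjk) :=
  (Scheme.Cover.trans_comp ((X.directedAffineCover.pullback₁ π).pullback₁ v) hij hjk).symm

namespace LocData

variable {π v} (D : LocData π v)

instance (i : X.directedAffineCover.I₀) : Etale (D.w i) := D.etale i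

lemma q_w (i : X.directedAffineCover.I₀) : D.q i ≫ D.w i =
    pullback.snd v (pullback.fst π (X.directedAffineCover.f i)) ≫
      pullback.snd π (X.directedAffineCover.f i) :=
  (D.isPullback i).w

lemma trans_q_w {i j : X.directedAffineCover.I₀} (hij : i ⟶ j) :
    (trV π v hij ≫ D.q j) ≫ D.w j =
      D.q i ≫ D.w i ≫ trU hij := by
  rw [Category.assoc, D.q_w j, ← Category.assoc, trV_snd π v hij,
    Category.assoc, trX_snd π hij, ← Category.assoc, ← D.q_w i, Category.assoc]

variable [IsIntegralHom π] [UniversallyInjective π] [Surjective π]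

instance isIntegralHom_q (i : X.directedAffineCover.I₀) : IsIntegralHom (D.q i) :=
  MorphismProperty.of_isPullback (P := @IsIntegralHom) (D.isPullback i).flip
    (MorphismProperty.pullback_snd (P := @IsIntegralHom) π (X.directedAffineCover.f i)
      inferInstance)

instance universallyInjective_q (i : X.directedAffineCover.I₀) : UniversallyInjective (D.q i) :=
  MorphismProperty.of_isPullback (P := @UniversallyInjective) (D.isPullback i).flip
    (MorphismProperty.pullback_snd (P := @UniversallyInjective) π (X.directedAffineCover.f i)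
      inferInstance)

instance surjective_q (i : X.directedAffineCover.I₀) : Surjective (D.q i) :=
  MorphismProperty.of_isPullback (P := @Surjective) (D.isPullback i).flip
    (MorphismProperty.pullback_snd (P := @Surjective) π (X.directedAffineCover.f i) inferInstance)

lemma existsUnique_trans {i j : X.directedAffineCover.I₀} (hij : i ⟶ j) :
    ∃! t : D.W i ⟶ D.W j, t ≫ D.w j = D.w i ≫ trU hij ∧
      D.q i ≫ t = trV π v hij ≫ D.q j :=
  Groth.Agent.Lib.helper9.UHomEt.existsUnique_descent (D.w j)
    (D.w i ≫ trU hij) (D.q i)
    (trV π v hij ≫ D.q j) (D.trans_q_w hij)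

/-- the transition maps -/
noncomputable def t {i j : X.directedAffineCover.I₀} (hij : i ⟶ j) : D.W i ⟶ D.W j :=
  (D.existsUnique_trans hij).choose

lemma t_w {i j : X.directedAffineCover.I₀} (hij : i ⟶ j) :
    D.t hij ≫ D.w j = D.w i ≫ trU hij :=
  (D.existsUnique_trans hij).choose_spec.1.1

lemma q_t {i j : X.directedAffineCover.I₀} (hij : i ⟶ j) :
    D.q i ≫ D.t hij = trV π v hij ≫ D.q j :=
  (D.existsUnique_trans hij).choose_spec.1.2

lemma t_unique {i j : X.directedAffineCover.I₀} (hij : i ⟶ j) (t' : D.W i ⟶ D.W j)
    (h1 : t' ≫ D.w j = D.w i ≫ trU hij)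
    (h2 : D.q i ≫ t' = trV π v hij ≫ D.q j) :
    t' = D.t hij :=
  (D.existsUnique_trans hij).unique ⟨h1, h2⟩ ⟨D.t_w hij, D.q_t hij⟩

/-- the diagram of local covers -/
noncomputable def functor : X.directedAffineCover.I₀ ⥤ Scheme.{u} where
  obj := D.W
  map hij := D.t hij
  map_id i := by
    symm
    apply D.t_unique
    · rw [trU_id, Category.id_comp, Category.comp_id]
    · rw [trV_id, Category.id_comp, Category.comp_id]
  map_comp {i j k} hij hjk := by
    symm
    apply D.t_unique
    · rw [Category.assoc, D.t_w hjk, ← Category.assoc, D.t_w hij, Category.assoc, trU_comp]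
    · rw [← Category.assoc, D.q_t hij, Category.assoc, D.q_t hjk, ← Category.assoc, trV_comp]

end LocData

end Glue

end Groth.Agent.Lib.helper14.FEtGlue
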