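import Mathlib
import Groth.Prelude.Def_FEt
import Groth.Agent.Lib.Helper14.FEtGlue2

/-!
# helper14: gluing finite étale covers along a universal homeomorphism, III (the glued cover)
-/

set_option autoImplicit false
set_option linter.style.haveILetI false

namespace Groth.Agent.Lib.helper14.FEtGlue

open AlgebraicGeometry CategoryTheory CategoryTheory.Limits

universe u

variable {X' X : Scheme.{u}} {π : X' ⟶ X} {V : Scheme.{u}} {v : V ⟶ X'}

namespace LocData

variable (D : LocData π v) [IsIntegralHom π] [UniversallyInjective π] [Surjective π]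

/-- the squares of transition maps are pullbacks -/
lemma isPullback_t {i j : X.directedAffineCover.I₀} (hij : i ⟶ j) :
    IsPullback (D.t hij) (D.w i) (D.w j) (trU hij) := by
  have hAB : IsPullback (trV π v hij)
      (pullback.snd v (pullback.fst π (X.directedAffineCover.f i)) ≫
        pullback.snd π (X.directedAffineCover.f i))
      (pullback.snd v (pullback.fst π (X.directedAffineCover.f j)) ≫
        pullback.snd π (X.directedAffineCover.f j)) (trU hij) :=
    (isPullback_trV π v hij).paste_vert (isPullback_trX π hij)
  have hD : IsPullback (pullback.fst (D.w j) (trU hij)) (pullback.snd (D.w j) (trU hij)) (D.w j)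
      (trU hij) := IsPullback.of_hasPullback _ _
  have hm0 : (trV π v hij ≫ D.q j) ≫ D.w j =
      (pullback.snd v (pullback.fst π (X.directedAffineCover.f i)) ≫
        pullback.snd π (X.directedAffineCover.f i)) ≫ trU hij := by
    rw [D.trans_q_w hij, ← Category.assoc, D.q_w i]
  obtain ⟨m, hmdef⟩ : ∃ m : pullback v (pullback.fst π (X.directedAffineCover.f i)) ⟶
      pullback (D.w j) (trU hij), m = pullback.lift (trV π v hij ≫ D.q j)
        (pullback.snd v (pullback.fst π (X.directedAffineCover.f i)) ≫
          pullback.snd π (X.directedAffineCover.f i)) hm0 := ⟨_, rfl⟩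
  have hm1 : m ≫ pullback.fst (D.w j) (trU hij) = trV π v hij ≫ D.q j := by
    rw [hmdef]; exact pullback.lift_fst _ _ _
  have hm2 : m ≫ pullback.snd (D.w j) (trU hij) =
      pullback.snd v (pullback.fst π (X.directedAffineCover.f i)) ≫
        pullback.snd π (X.directedAffineCover.f i) := by
    rw [hmdef]; exact pullback.lift_snd _ _ _
  have hbig : IsPullback (trV π v hij) (m ≫ pullback.snd (D.w j) (trU hij)) (D.q j ≫ D.w j)
      (trU hij) := by
    rw [hm2, D.q_w j]
    exact hAB
  have hE : IsPullback (trV π v hij) m (D.q j) (pullback.fst (D.w j) (trU hij)) :=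
    IsPullback.of_bot hbig hm1.symm hD
  haveI : IsIntegralHom m := MorphismProperty.of_isPullback (P := @IsIntegralHom) hE inferInstance
  haveI : UniversallyInjective m :=
    MorphismProperty.of_isPullback (P := @UniversallyInjective) hE inferInstance
  haveI : Surjective m := MorphismProperty.of_isPullback (P := @Surjective) hE inferInstance
  -- the comparison map
  obtain ⟨c, hcdef⟩ : ∃ c : D.W i ⟶ pullback (D.w j) (trU hij),
      c = pullback.lift (D.t hij) (D.w i) (D.t_w hij) := ⟨_, rfl⟩
  have hc1 : c ≫ pullback.fst (D.w j) (trU hij) = D.t hij := by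
    rw [hcdef]; exact pullback.lift_fst _ _ _
  have hc2 : c ≫ pullback.snd (D.w j) (trU hij) = D.w i := by
    rw [hcdef]; exact pullback.lift_snd _ _ _
  have hqc : D.q i ≫ c = m := by
    apply pullback.hom_ext
    · rw [Category.assoc, hc1, hm1, D.q_t hij]
    · rw [Category.assoc, hc2, hm2, D.q_w i]
  haveI : Etale (pullback.snd (D.w j) (trU hij)) :=
    MorphismProperty.pullback_snd (P := @Etale) _ _ inferInstance
  haveI : Etale (c ≫ pullback.snd (D.w j) (trU hij)) := by rw [hc2]; infer_instance
  haveI : Etale c := Etale.of_comp c (pullback.snd (D.w j) (trU hij))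
  haveI : UniversallyInjective (D.q i ≫ c) := by rw [hqc]; infer_instance
  haveI : Surjective (D.q i ≫ c) := by rw [hqc]; infer_instance
  haveI : IsIso c := isIso_of_comp (D.q i) c
  exact IsPullback.of_iso_pullback ⟨D.t_w hij⟩ (asIso c) hc1 hc2

/-- the relative gluing datum -/
noncomputable def gluingData : X.directedAffineCover.RelativeGluingData where
  functor := D.functor
  natTrans :=
    { app := fun i => D.w i
      naturality := fun _ _ hij => D.t_w hij }
  equifibered := fun _ _ hij => D.isPullback_t hij

/-- the glued cover -/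
noncomputable def glued : Scheme.{u} := D.gluingData.glued

/-- the glued cover -/
noncomputable def toBase : D.glued ⟶ X := D.gluingData.toBase

/-- the inclusions of the local covers -/
noncomputable def ι (i : X.directedAffineCover.I₀) : D.W i ⟶ D.glued :=
  colimit.ι D.gluingData.functor i

lemma isPullback_ι (i : X.directedAffineCover.I₀) :
    IsPullback (D.ι i) (D.w i) D.toBase (X.directedAffineCover.f i) :=
  (D.gluingData.isPullback_natTrans_ι_toBase i).flip

lemma t_ι {i j : X.directedAffineCover.I₀} (hij : i ⟶ j) : D.t hij ≫ D.ι j = D.ι i :=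
  colimit.w D.gluingData.functor hij

lemma toBase_prop (P : MorphismProperty Scheme.{u}) [IsZariskiLocalAtTarget P]
    (h : ∀ i, P (D.w i)) : P D.toBase := by
  rw [IsZariskiLocalAtTarget.iff_of_openCover (P := P) X.directedAffineCover]
  intro i
  rw [Scheme.Cover.pullbackHom, ← (D.isPullback_ι i).isoPullback_inv_snd]
  exact (P.cancel_left_of_respectsIso _ _).mpr (h i)

end LocData

end Groth.Agent.Lib.helper14.FEtGlue
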