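import Mathlib
import Groth.Prelude.Def_FEt
import Groth.Agent.Lib.Helper14.FEtGlue3
import Groth.Agent.Lib.Helper14.FibIso1

/-!
# helper14: gluing finite étale covers along a universal homeomorphism, IV (the descent theorem)
-/

set_option autoImplicit false
set_option linter.style.haveILetI false

namespace Groth.Agent.Lib.helper14.FEtGlue

open AlgebraicGeometry CategoryTheory CategoryTheory.Limits
open Groth.Agent.Lib.helper14.FibIso

universe u

variable {X' X : Scheme.{u}} {π : X' ⟶ X} {V : Scheme.{u}} {v : V ⟶ X'}

namespace LocData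

variable (D : LocData π v) [IsIntegralHom π] [UniversallyInjective π] [Surjective π]

lemma trans_q_ι {i j : X.directedAffineCover.I₀} (hij : i ⟶ j) :
    Scheme.Cover.trans ((X.directedAffineCover.pullback₁ π).pullback₁ v) hij ≫ D.q j ≫ D.ι j =
      D.q i ≫ D.ι i := by
  have h1 : trV π v hij ≫ D.q j ≫ D.ι j = D.q i ≫ D.ι i := by
    rw [← Category.assoc, ← D.q_t hij, Category.assoc, D.t_ι hij]
  exact h1

/-- the glued quotient map -/
noncomputable def glueQ : V ⟶ D.glued :=
  Scheme.OpenCover.glueMorphismsOfLocallyDirected
    ((X.directedAffineCover.pullback₁ π).pullback₁ v) (fun i => D.q i ≫ D.ι i)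
    (fun hij => D.trans_q_ι hij)

lemma fst_glueQ (i : X.directedAffineCover.I₀) :
    pullback.fst v (pullback.fst π (X.directedAffineCover.f i)) ≫ D.glueQ = D.q i ≫ D.ι i :=
  Scheme.OpenCover.map_glueMorphismsOfLocallyDirected
    ((X.directedAffineCover.pullback₁ π).pullback₁ v) (fun i => D.q i ≫ D.ι i)
    (fun hij => D.trans_q_ι hij) i

/-- the glued square is a pullback square -/
theorem isPullback_glueQ : IsPullback D.glueQ v D.toBase π := by
  refine (Scheme.isPullback_of_openCover v D.glueQ π D.toBase (X.directedAffineCover.pullback₁ π)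
    (fun i => ?_)).flip
  have h1 : IsPullback (D.q i ≫ D.ι i)
      (pullback.snd v (pullback.fst π (X.directedAffineCover.f i))) D.toBase
      (pullback.snd π (X.directedAffineCover.f i) ≫ X.directedAffineCover.f i) :=
    (D.isPullback i).paste_horiz (D.isPullback_ι i)
  have h2 : pullback.fst π (X.directedAffineCover.f i) ≫ π =
      pullback.snd π (X.directedAffineCover.f i) ≫ X.directedAffineCover.f i := pullback.condition
  have h3 : IsPullback (pullback.snd v (pullback.fst π (X.directedAffineCover.f i)))
      (pullback.fst v (pullback.fst π (X.directedAffineCover.f i)) ≫ D.glueQ)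
      (pullback.fst π (X.directedAffineCover.f i) ≫ π) D.toBase := by
    rw [D.fst_glueQ i, h2]
    exact h1.flip
  exact h3

end LocData

/-- **gluing**: local descents of `v : V ⟶ X'` along the universal homeomorphism `π : X' ⟶ X` over
the affine opens of `X` glue to a global descent -/
theorem exists_isPullback_of_locData [IsIntegralHom π] [UniversallyInjective π] [Surjective π]
    (D : LocData π v) (hfin : ∀ i, IsFinite (D.w i)) :
    ∃ (W : Scheme.{u}) (w : W ⟶ X) (q : V ⟶ W), IsFinite w ∧ Etale w ∧ IsPullback q v w π :=
  ⟨D.glued, D.toBase, D.glueQ, D.toBase_prop @IsFinite hfin, D.toBase_prop @Etale D.etale,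
    D.isPullback_glueQ⟩

end Groth.Agent.Lib.helper14.FEtGlue
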