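import Groth.Agent.Lib.Helper14.FinLevel1
import Groth.Agent.Lib.Helper14.FibIso1

/-!
# helper14: finite étale covers of `X ×_k K`, `K/k` algebraic, come from a finite subextension
-/

set_option autoImplicit false
set_option linter.style.haveILetI false
set_option backward.isDefEq.respectTransparency false

namespace Groth.Agent.Lib.helper14.FinLevelAlg

open AlgebraicGeometry CategoryTheory CategoryTheory.Limits
open Groth.Agent.Lib.helper5.FGLimit Groth.Agent.Lib.helper5.PBLimit
open Groth.Agent.Lib.helper14.FibIso Groth.Agent.Lib.helper14.FinLevel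

universe u

variable (k K : Type u) [Field k] [Field K] [Algebra k K] [Algebra.IsAlgebraic k K]

section Ring

variable (s : Finset K)

/-- the finite subextension generated by `s` -/
noncomputable abbrev Ls : IntermediateField k K :=
  IntermediateField.adjoin k (s : Set K)

lemma Ls_toSubalgebra : (Ls k K s).toSubalgebra = adj k K s :=
  IntermediateField.adjoin_toSubalgebra _

instance finiteDimensional_Ls : FiniteDimensional k (Ls k K s) :=
  IntermediateField.finiteDimensional_adjoin
    (fun x _ => (Algebra.IsAlgebraic.isAlgebraic x).isIntegral)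

/-- the ring isomorphism `k[s] ≃ k(s)` -/
noncomputable def εs : adj k K s ≃+* Ls k K s where
  toFun x := ⟨x.1, by
    have h : x.1 ∈ (Ls k K s).toSubalgebra := (Ls_toSubalgebra k K s).symm ▸ x.2
    exact h⟩
  invFun y := ⟨y.1, by
    have h : y.1 ∈ (Ls k K s).toSubalgebra := y.2
    exact (Ls_toSubalgebra k K s) ▸ h⟩
  left_inv _ := rfl
  right_inv _ := rfl
  map_mul' _ _ := rfl
  map_add' _ _ := rfl

/-- `Spec k(s) ⟶ Spec k[s]` -/
noncomputable def aS : Spec (CommRingCat.of (Ls k K s)) ⟶
    Spec (CommRingCat.of (adj k K s)) :=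
  Spec.map (CommRingCat.ofHom (εs k K s).toRingHom)

instance isIso_aS : IsIso (aS k K s) := by
  unfold aS
  haveI : IsIso (CommRingCat.ofHom (εs k K s).toRingHom) :=
    (εs k K s).toCommRingCatIso.isIso_hom
  infer_instance

lemma aS_pS : aS k K s ≫ pS k K (𝟙 _) s =
    Spec.map (CommRingCat.ofHom (algebraMap k (Ls k K s))) := by
  unfold aS pS
  rw [Category.comp_id, ← Spec.map_comp]
  rfl

lemma jK_eq : jK k K s =
    Spec.map (CommRingCat.ofHom (algebraMap (Ls k K s) K)) ≫ aS k K s := by
  unfold aS jK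
  rw [← Spec.map_comp]
  rfl

end Ring

variable {X : Scheme.{u}} (f : X ⟶ Spec (CommRingCat.of k))

/-- **finite étale covers of `X ×_k K` (`K/k` algebraic) descend to a finite subextension** -/
theorem exists_finite_level_cover [CompactSpace X] [QuasiSeparatedSpace X] {Ybar : Scheme.{u}}
    (g : Ybar ⟶ pullback f (Spec.map (CommRingCat.ofHom (algebraMap k K))))
    [IsFinite g] [Etale g] :
    ∃ (L : IntermediateField k K) (_ : FiniteDimensional k ↥L) (YL : Scheme.{u})
      (gL : YL ⟶ pullback f (Spec.map (CommRingCat.ofHom (algebraMap k ↥L)))) (_ : IsFinite gL)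
      (_ : Etale gL)
      (c : pullback f (Spec.map (CommRingCat.ofHom (algebraMap k K))) ⟶
        pullback f (Spec.map (CommRingCat.ofHom (algebraMap k ↥L)))),
      c ≫ pullback.fst f (Spec.map (CommRingCat.ofHom (algebraMap k ↥L))) =
        pullback.fst f (Spec.map (CommRingCat.ofHom (algebraMap k K))) ∧
      c ≫ pullback.snd f (Spec.map (CommRingCat.ofHom (algebraMap k ↥L))) =
        pullback.snd f (Spec.map (CommRingCat.ofHom (algebraMap k K))) ≫
          Spec.map (CommRingCat.ofHom (algebraMap ↥L K)) ∧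
      ∃ e : Ybar ⟶ YL, IsPullback e g gL c := by
  have htK : Spec.map (CommRingCat.ofHom (algebraMap k K)) =
      tK k K (𝟙 _) := (Category.comp_id _).symm
  let κ : pullback f (Spec.map (CommRingCat.ofHom (algebraMap k K))) ≅
      pullback f (tK k K (𝟙 _)) := pullback.congrHom rfl htK
  have hκ1 : κ.hom ≫ pullback.fst f (tK k K (𝟙 _)) = pullback.fst f _ := by
    simp [κ]
  have hκ2 : κ.hom ≫ pullback.snd f (tK k K (𝟙 _)) = pullback.snd f _ := by
    simp [κ]
  let V : FEt.Cat (pullback f (tK k K (𝟙 _))) := mkObj (g ≫ κ.hom)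
  obtain ⟨s, Vs, ⟨φ⟩⟩ := exists_finset_model k K f V
  haveI : IsFinite Vs.hom := Vs.prop.1
  haveI : Etale Vs.hom := Vs.prop.2
  -- the comparison of the two models of `X_L`
  let θ' : pullback f (Spec.map (CommRingCat.ofHom (algebraMap k (Ls k K s)))) ⟶
      pullback f (pS k K (𝟙 _) s) :=
    pullback.map _ _ _ _ (𝟙 X) (aS k K s) (𝟙 _) (by simp) (by rw [Category.comp_id, aS_pS])
  haveI : IsIso θ' := by
    dsimp only [θ']
    infer_instance
  have hθ1 : θ' ≫ pullback.fst f (pS k K (𝟙 _) s) = pullback.fst f _ := by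
    simp [θ', pullback.map]
  have hθ2 : θ' ≫ pullback.snd f (pS k K (𝟙 _) s) =
      pullback.snd f _ ≫ aS k K s := by
    simp [θ', pullback.map]
  let c : pullback f (Spec.map (CommRingCat.ofHom (algebraMap k K))) ⟶
      pullback f (Spec.map (CommRingCat.ofHom (algebraMap k (Ls k K s)))) :=
    pullback.map _ _ _ _ (𝟙 X)
      (Spec.map (CommRingCat.ofHom (algebraMap (Ls k K s) K))) (𝟙 _) (by simp)
      (by
        rw [Category.comp_id, ← Spec.map_comp]
        rfl)
  have hc1 : c ≫ pullback.fst f _ = pullback.fst f _ := by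
    simp [c, pullback.map]
  have hc2 : c ≫ pullback.snd f _ = pullback.snd f _ ≫
      Spec.map (CommRingCat.ofHom (algebraMap (Ls k K s) K)) := by
    simp [c, pullback.map]
  have hcθ : c ≫ θ' = κ.hom ≫ πX k K (𝟙 _) f s := by
    apply pullback.hom_ext
    · rw [Category.assoc, hθ1, hc1, Category.assoc, πX_fst, hκ1]
    · rw [Category.assoc, hθ2, ← Category.assoc, hc2, Category.assoc, ← jK_eq, Category.assoc,
        πX_snd, ← Category.assoc, hκ2]
  -- the pullback square
  let e : Ybar ⟶ Vs.left := φ.inv.left ≫ pullback.fst Vs.hom (πX k K (𝟙 _) f s)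
  have hφ : φ.inv.left ≫ pullback.snd Vs.hom (πX k K (𝟙 _) f s) =
      g ≫ κ.hom := MorphismProperty.Over.w φ.inv
  have hpb0 : IsPullback e (g ≫ κ.hom) Vs.hom (πX k K (𝟙 _) f s) := by
    have h0 := IsPullback.of_hasPullback Vs.hom (πX k K (𝟙 _) f s)
    haveI : IsIso φ.inv.left := by
      have : IsIso φ.inv := inferInstance
      exact (MorphismProperty.Over.forget _ _ _ ⋙ Over.forget _).map_isIso φ.inv
    exact IsPullback.of_iso h0 (asIso φ.inv.left).symm (Iso.refl _) (Iso.refl _) (Iso.refl _)
      (by simp [e]) (by simp [hφ]) (by simp) (by simp)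
  refine ⟨Ls k K s, inferInstance, Vs.left, Vs.hom ≫ inv θ', inferInstance, inferInstance, c, hc1,
    hc2, e, ?_⟩
  refine IsPullback.of_iso hpb0 (Iso.refl _) (Iso.refl _) κ.symm (asIso θ').symm
    (by simp) (by simp) (by simp) ?_
  show πX k K (𝟙 _) f s ≫ inv θ' = κ.inv ≫ c
  rw [IsIso.comp_inv_eq, Category.assoc, hcθ, Iso.inv_hom_id_assoc]

end Groth.Agent.Lib.helper14.FinLevelAlg
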