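import Mathlib

/-!
# helper14: the absolute `q`-Frobenius of a scheme (part 1)

For a natural number `q > 0` and a scheme `Y` such that `x ↦ x ^ q` is additive on every ring `R`
with a morphism `Spec R ⟶ Y` (class `HasFrob Y q`; e.g. `Y` over a field of exponential
characteristic `p` and `q = p ^ n`), we construct the absolute Frobenius `absFrob Y q : Y ⟶ Y` by
gluing `Spec` of the `q`-power maps and prove its naturality.
-/

set_option autoImplicit false
set_option linter.style.haveILetI false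

namespace Groth.Agent.Lib.helper14.Frob

open AlgebraicGeometry CategoryTheory CategoryTheory.Limits

universe u

section Ring

/-- the `q`-th power map is additive -/
def IsFrobExp (A : Type*) [CommRing A] (q : ℕ) : Prop :=
  ∀ x y : A, (x + y) ^ q = x ^ q + y ^ q

/-- the `q`-th power ring homomorphism -/
def powHom (A : Type*) [CommRing A] (q : ℕ) (hq : 0 < q) (h : IsFrobExp A q) : A →+* A where
  toFun x := x ^ q
  map_one' := one_pow q
  map_mul' x y := mul_pow x y q
  map_zero' := zero_pow hq.ne'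
  map_add' := h

@[simp] lemma powHom_apply (A : Type*) [CommRing A] (q : ℕ) (hq : 0 < q) (h : IsFrobExp A q)
    (x : A) : powHom A q hq h x = x ^ q := rfl

lemma powHom_comm {A B : Type*} [CommRing A] [CommRing B] (φ : A →+* B) (q : ℕ) (hq : 0 < q)
    (hA : IsFrobExp A q) (hB : IsFrobExp B q) :
    φ.comp (powHom A q hq hA) = (powHom B q hq hB).comp φ := by
  ext x
  simp [map_pow]

lemma isFrobExp_of_algebra (K : Type*) [Field K] (p : ℕ) [ExpChar K p] (n : ℕ) (A : Type*)
    [CommRing A] [Algebra K A] : IsFrobExp A (p ^ n) := by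
  intro x y
  rcases subsingleton_or_nontrivial A with h | h
  · exact Subsingleton.elim _ _
  · haveI : ExpChar A p := expChar_of_injective_algebraMap (algebraMap K A).injective p
    exact add_pow_expChar_pow x y p n

end Ring

section Scheme

/-- the `q`-power map is additive on all rings mapping to `Y` -/
class HasFrob (Y : Scheme.{u}) (q : ℕ) : Prop where
  pos : 0 < q
  add_pow : ∀ (R : CommRingCat.{u}) (_ : Spec R ⟶ Y), IsFrobExp R q

lemma HasFrob.of_hom {Y' Y : Scheme.{u}} (g : Y' ⟶ Y) (q : ℕ) [HasFrob Y q] : HasFrob Y' q :=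
  ⟨HasFrob.pos Y, fun R g' => HasFrob.add_pow R (g' ≫ g)⟩

/-- Frobenius of an affine scheme -/
noncomputable def specFrob (R : CommRingCat.{u}) (q : ℕ) (hq : 0 < q) (h : IsFrobExp R q) :
    Spec R ⟶ Spec R :=
  Spec.map (CommRingCat.ofHom (powHom R q hq h))

lemma specFrob_comm {R D : CommRingCat.{u}} (a : R ⟶ D) (q : ℕ) (hq : 0 < q)
    (hR : IsFrobExp R q) (hD : IsFrobExp D q) :
    specFrob D q hq hD ≫ Spec.map a = Spec.map a ≫ specFrob R q hq hR := by
  unfold specFrob
  rw [← Spec.map_comp, ← Spec.map_comp]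
  congr 1
  ext x
  simp [map_pow]

lemma specFrob_natural {R D : CommRingCat.{u}} (g : Spec D ⟶ Spec R) (q : ℕ) (hq : 0 < q)
    (hR : IsFrobExp R q) (hD : IsFrobExp D q) :
    specFrob D q hq hD ≫ g = g ≫ specFrob R q hq hR := by
  obtain ⟨a, rfl⟩ := Spec.map_surjective g
  exact specFrob_comm a q hq hR hD

lemma hom_ext_of_affine {P Y : Scheme.{u}} (a b : P ⟶ Y)
    (h : ∀ (D : CommRingCat.{u}) (d : Spec D ⟶ P), d ≫ a = d ≫ b) : a = b :=
  P.affineOpenCover.openCover.hom_ext _ _ (fun i => h _ _)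

/-- compatibility of the local Frobenius maps -/
lemma glue_compat {Y P : Scheme.{u}} {R₁ R₂ : CommRingCat.{u}} (f₁ : Spec R₁ ⟶ Y)
    (f₂ : Spec R₂ ⟶ Y) (q : ℕ) (hq : 0 < q) (h₁ : IsFrobExp R₁ q) (h₂ : IsFrobExp R₂ q)
    (a : P ⟶ Spec R₁) (b : P ⟶ Spec R₂) (hab : a ≫ f₁ = b ≫ f₂)
    (hP : ∀ (D : CommRingCat.{u}) (_ : Spec D ⟶ P), IsFrobExp D q) :
    a ≫ specFrob R₁ q hq h₁ ≫ f₁ = b ≫ specFrob R₂ q hq h₂ ≫ f₂ := by
  apply hom_ext_of_affine
  intro D d
  have hD : IsFrobExp D q := hP D d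
  have e1 := specFrob_natural (d ≫ a) q hq h₁ hD
  have e2 := specFrob_natural (d ≫ b) q hq h₂ hD
  calc d ≫ a ≫ specFrob R₁ q hq h₁ ≫ f₁
      = ((d ≫ a) ≫ specFrob R₁ q hq h₁) ≫ f₁ := by simp only [Category.assoc]
    _ = (specFrob D q hq hD ≫ d ≫ a) ≫ f₁ := by rw [e1]
    _ = (specFrob D q hq hD ≫ d ≫ b) ≫ f₂ := by
        simp only [Category.assoc]; rw [hab]
    _ = ((d ≫ b) ≫ specFrob R₂ q hq h₂) ≫ f₂ := by rw [e2]
    _ = d ≫ b ≫ specFrob R₂ q hq h₂ ≫ f₂ := by simp only [Category.assoc]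

variable (Y : Scheme.{u}) (q : ℕ) [HasFrob Y q]

/-- the absolute `q`-Frobenius -/
noncomputable def absFrob : Y ⟶ Y :=
  Y.affineOpenCover.openCover.glueMorphisms
    (fun i => specFrob (Y.affineOpenCover.X i) q (HasFrob.pos Y)
      (HasFrob.add_pow _ (Y.affineOpenCover.f i)) ≫ Y.affineOpenCover.f i)
    (fun i j => glue_compat (Y.affineOpenCover.f i) (Y.affineOpenCover.f j) q (HasFrob.pos Y) _ _
      (pullback.fst (Y.affineOpenCover.openCover.f i) (Y.affineOpenCover.openCover.f j))
      (pullback.snd (Y.affineOpenCover.openCover.f i) (Y.affineOpenCover.openCover.f j))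
      pullback.condition
      (fun D d => HasFrob.add_pow D (d ≫ pullback.fst _ _ ≫ Y.affineOpenCover.f i)))

lemma ι_absFrob (i : Y.affineOpenCover.I₀) :
    Y.affineOpenCover.f i ≫ absFrob Y q =
      specFrob (Y.affineOpenCover.X i) q (HasFrob.pos Y)
        (HasFrob.add_pow _ (Y.affineOpenCover.f i)) ≫ Y.affineOpenCover.f i :=
  Y.affineOpenCover.openCover.ι_glueMorphisms _ _ i

variable {Y}

/-- Frobenius commutes with morphisms from affine schemes -/
lemma affine_comp_absFrob (R : CommRingCat.{u}) (g : Spec R ⟶ Y) (hR : IsFrobExp R q) :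
    specFrob R q (HasFrob.pos Y) hR ≫ g = g ≫ absFrob Y q := by
  apply (Y.affineOpenCover.openCover.pullback₁ g).hom_ext
  intro i
  show pullback.fst g (Y.affineOpenCover.openCover.f i) ≫ specFrob R q (HasFrob.pos Y) hR ≫ g =
    pullback.fst g (Y.affineOpenCover.openCover.f i) ≫ g ≫ absFrob Y q
  have h1 := glue_compat g (Y.affineOpenCover.f i) q (HasFrob.pos Y) hR
    (HasFrob.add_pow _ (Y.affineOpenCover.f i))
    (pullback.fst g (Y.affineOpenCover.openCover.f i))
    (pullback.snd g (Y.affineOpenCover.openCover.f i)) pullback.condition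
    (fun D d => HasFrob.add_pow D (d ≫ pullback.fst _ _ ≫ g))
  refine h1.trans ?_
  have h2 := ι_absFrob Y q i
  calc pullback.snd g (Y.affineOpenCover.openCover.f i) ≫ specFrob _ q _ _ ≫ Y.affineOpenCover.f i
      = pullback.snd g (Y.affineOpenCover.openCover.f i) ≫ Y.affineOpenCover.f i ≫ absFrob Y q :=
        congrArg (pullback.snd g (Y.affineOpenCover.openCover.f i) ≫ ·) h2.symm
    _ = pullback.fst g (Y.affineOpenCover.openCover.f i) ≫ g ≫ absFrob Y q := by
        rw [← Category.assoc, ← Category.assoc]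
        congr 1
        exact pullback.condition.symm

/-- naturality of the absolute Frobenius -/
lemma absFrob_natural {Y' : Scheme.{u}} (g : Y' ⟶ Y) [HasFrob Y' q] :
    absFrob Y' q ≫ g = g ≫ absFrob Y q := by
  apply hom_ext_of_affine
  intro D d
  have hD : IsFrobExp D q := HasFrob.add_pow D (d ≫ g)
  have h1 := affine_comp_absFrob q D d hD
  have h2 := affine_comp_absFrob q D (d ≫ g) hD
  calc d ≫ absFrob Y' q ≫ g = (d ≫ absFrob Y' q) ≫ g := by simp only [Category.assoc]
    _ = (specFrob D q (HasFrob.pos Y') hD ≫ d) ≫ g := by rw [h1]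
    _ = specFrob D q (HasFrob.pos Y) hD ≫ d ≫ g := by simp only [Category.assoc]
    _ = (d ≫ g) ≫ absFrob Y q := h2
    _ = d ≫ g ≫ absFrob Y q := by simp only [Category.assoc]

lemma absFrob_Spec (R : CommRingCat.{u}) [HasFrob (Spec R) q] :
    absFrob (Spec R) q = specFrob R q (HasFrob.pos (Spec R)) (HasFrob.add_pow R (𝟙 _)) := by
  have := affine_comp_absFrob q R (𝟙 (Spec R)) (HasFrob.add_pow R (𝟙 _))
  rw [Category.comp_id, Category.id_comp] at this
  exact this.symm

end Scheme

end Groth.Agent.Lib.helper14.Frob
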