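import Mathlib
import Groth.Agent.Lib.Helper14.Frob1
import Groth.Agent.Lib.Helper9.UHomEt1

/-!
# helper14: the absolute `q`-Frobenius of a scheme (part 2)

`absFrob` is the identity on points, surjective and universally injective; the relative Frobenius
of an étale morphism is an isomorphism.
-/

set_option autoImplicit false
set_option linter.style.haveILetI false

namespace Groth.Agent.Lib.helper14.Frob

open AlgebraicGeometry CategoryTheory CategoryTheory.Limits

universe u

/-- schemes over a field of exponential characteristic `p` have `p ^ n`-Frobenius -/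
lemma hasFrob_of_over_field (K : Type u) [Field K] (p : ℕ) [ExpChar K p] (n : ℕ) {Y : Scheme.{u}}
    (h : Y ⟶ Spec (CommRingCat.of K)) : HasFrob Y (p ^ n) := by
  refine ⟨expChar_pow_pos K p n, fun R g => ?_⟩
  letI : Algebra K R := (Spec.preimage (g ≫ h)).hom.toAlgebra
  exact isFrobExp_of_algebra K p n R

variable {Y : Scheme.{u}} (q : ℕ) [HasFrob Y q]

/-- the absolute Frobenius is the identity on points -/
lemma absFrob_apply (y : Y) : absFrob Y q y = y := by
  have hR : IsFrobExp (Y.residueField y) q := HasFrob.add_pow _ (Y.fromSpecResidueField y)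
  have h := affine_comp_absFrob q _ (Y.fromSpecResidueField y) hR
  have h2 := congrArg (fun t => t (default : Spec (Y.residueField y))) h
  simp only [Scheme.Hom.comp_apply, Scheme.fromSpecResidueField_apply] at h2
  exact h2.symm

instance surjective_absFrob : Surjective (absFrob Y q) :=
  ⟨fun y => ⟨y, absFrob_apply q y⟩⟩

lemma epi_specFrob_field (K : Type u) [Field K] (hq : 0 < q) (h : IsFrobExp (CommRingCat.of K) q) :
    Epi (specFrob (CommRingCat.of K) q hq h) := by
  haveI : Surjective (specFrob (CommRingCat.of K) q hq h) :=
    ⟨fun x => ⟨default, Subsingleton.elim _ _⟩⟩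
  haveI : Flat (specFrob (CommRingCat.of K) q hq h) := inferInstance
  haveI : QuasiCompact (specFrob (CommRingCat.of K) q hq h) := inferInstance
  haveI : EffectiveEpi (specFrob (CommRingCat.of K) q hq h) := inferInstance
  infer_instance

instance universallyInjective_absFrob : UniversallyInjective (absFrob Y q) := by
  apply ((tfae_universallyInjective (absFrob Y q)).out 0 1).2
  intro K _ g₁ g₂ hg
  have hK : IsFrobExp (CommRingCat.of K) q := HasFrob.add_pow _ g₁
  have h1 := affine_comp_absFrob q _ g₁ hK
  have h2 := affine_comp_absFrob q _ g₂ hK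
  haveI := epi_specFrob_field q K (HasFrob.pos Y) hK
  have h3 : g₁ ≫ absFrob Y q = g₂ ≫ absFrob Y q := hg
  rw [← cancel_epi (specFrob (CommRingCat.of K) q (HasFrob.pos Y) hK), h1, h2, h3]

end Groth.Agent.Lib.helper14.Frob
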