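import Mathlib
import Groth.Agent.Lib.Helper14.Frob2

/-!
# helper14: the relative Frobenius of an étale morphism is an isomorphism
-/

set_option autoImplicit false
set_option linter.style.haveILetI false

namespace Groth.Agent.Lib.helper14.Frob

open AlgebraicGeometry CategoryTheory CategoryTheory.Limits

universe u

lemma universallyInjective_of_comp {A B C : Scheme.{u}} (f : A ⟶ B) (g : B ⟶ C)
    [UniversallyInjective (f ≫ g)] : UniversallyInjective f := by
  apply ((tfae_universallyInjective f).out 0 1).2
  intro K _ g₁ g₂ hg
  have h0 : ∀ (K : Type u) [Field K],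
      Function.Injective (fun t : Spec (.of K) ⟶ A ↦ t ≫ f ≫ g) :=
    ((tfae_universallyInjective (f ≫ g)).out 0 1).1 ‹_›
  apply h0 K
  show g₁ ≫ f ≫ g = g₂ ≫ f ≫ g
  have hg' : g₁ ≫ f = g₂ ≫ f := hg
  rw [← Category.assoc, ← Category.assoc, hg']

variable {V Y : Scheme.{u}} (v : V ⟶ Y) (q : ℕ) [HasFrob Y q] [HasFrob V q]

/-- the relative Frobenius -/
noncomputable def relFrob : V ⟶ pullback v (absFrob Y q) :=
  pullback.lift (absFrob V q) v (absFrob_natural q v)

@[reassoc]
lemma relFrob_fst : relFrob v q ≫ pullback.fst v (absFrob Y q) = absFrob V q :=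
  pullback.lift_fst _ _ _

@[reassoc]
lemma relFrob_snd : relFrob v q ≫ pullback.snd v (absFrob Y q) = v :=
  pullback.lift_snd _ _ _

/-- the relative Frobenius of an étale morphism is an isomorphism -/
theorem isIso_relFrob [Etale v] : IsIso (relFrob v q) := by
  haveI : Etale (relFrob v q ≫ pullback.snd v (absFrob Y q)) := by
    rw [relFrob_snd]; infer_instance
  haveI : Etale (relFrob v q) := Etale.of_comp (relFrob v q) (pullback.snd v (absFrob Y q))
  haveI : UniversallyInjective (relFrob v q ≫ pullback.fst v (absFrob Y q)) := by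
    rw [relFrob_fst]; infer_instance
  haveI : UniversallyInjective (relFrob v q) :=
    universallyInjective_of_comp (relFrob v q) (pullback.fst v (absFrob Y q))
  haveI : Surjective (relFrob v q) := by
    haveI : UniversallyInjective (pullback.fst v (absFrob Y q)) :=
      MorphismProperty.pullback_fst (P := @UniversallyInjective) v (absFrob Y q) inferInstance
    refine ⟨fun z => ⟨pullback.fst v (absFrob Y q) z, ?_⟩⟩
    apply (pullback.fst v (absFrob Y q)).injective
    rw [← Scheme.Hom.comp_apply, relFrob_fst, absFrob_apply]
  exact Groth.Agent.Lib.helper9.UHomEt.isIso_of_etale_of_universallyInjective_of_surjective _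

end Groth.Agent.Lib.helper14.Frob
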