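import Mathlib
import Groth.Prelude.Def_FEt
import Groth.Agent.Lib.Helper14.Frob3

/-!
# helper14: finite étale covers descend along purely inseparable base field extensions of finite
exponent (Frobenius twist)
-/

set_option autoImplicit false
set_option linter.style.haveILetI false

namespace Groth.Agent.Lib.helper14.Frob

open AlgebraicGeometry CategoryTheory CategoryTheory.Limits

universe u

lemma congr_aux {V B : Scheme.{u}} (v v' : V ⟶ B) (hv : v = v') (F : B ⟶ B)
    (r : V ⟶ pullback v F) [IsIso r] (hr : r ≫ pullback.snd v F = v) :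
    ((pullback.congrHom hv.symm rfl).hom ≫ inv r) ≫ v' = pullback.snd v' F := by
  subst hv
  have h1 : inv r ≫ v = pullback.snd v F := by
    rw [IsIso.inv_comp_eq, hr]
  rw [Category.assoc, h1]
  simp

variable (K L : Type u) [Field K] [Field L] [Algebra K L] [IsPurelyInseparable.HasExponent K L]
  {Y : Scheme.{u}} (h : Y ⟶ Spec (CommRingCat.of K))

/-- every finite étale cover of `Y_L` comes from `Y`, for `L/K` purely inseparable with an exponent -/
theorem exists_descent_aux (a : Spec (CommRingCat.of L) ⟶ Spec (CommRingCat.of K))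
    (hadef : a = Spec.map (CommRingCat.ofHom (algebraMap K L)))
    (V : FEt.Cat (pullback h a)) :
    ∃ V' : FEt.Cat Y, Nonempty ((FEt.restrict (pullback.fst h a)).obj V' ≅ V) := by
  obtain ⟨p, hp⟩ := ExpChar.exists K
  haveI := hp
  obtain ⟨n, hndef⟩ : ∃ n, n = IsPurelyInseparable.exponent K L := ⟨_, rfl⟩
  have hn : IsPurelyInseparable.exponent K L ≤ n := hndef.ge
  obtain ⟨q, hqdef⟩ : ∃ q, q = p ^ n := ⟨_, rfl⟩
  haveI hY : HasFrob Y q := hqdef ▸ hasFrob_of_over_field K p n h
  haveI hYL : HasFrob (pullback h a) q := HasFrob.of_hom (pullback.fst h a) q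
  haveI hSK : HasFrob (Spec (CommRingCat.of K)) q := hqdef ▸ hasFrob_of_over_field K p n (𝟙 _)
  haveI hSL : HasFrob (Spec (CommRingCat.of L)) q := HasFrob.of_hom a q
  let ρ : L →+* K := IsPurelyInseparable.iterateFrobenius K L p hn
  have hρ1 : ∀ x : K, ρ (algebraMap K L x) = x ^ q := fun x => by
    rw [hqdef]; exact IsPurelyInseparable.iterateFrobenius_algebraMap L p hn x
  have hρ2 : ∀ x : L, algebraMap K L (ρ x) = x ^ q := fun x => by
    rw [hqdef]; exact IsPurelyInseparable.algebraMap_iterateFrobenius K p hn x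
  -- Frobenius of the two points
  have hFK : absFrob (Spec (CommRingCat.of K)) q = Spec.map (CommRingCat.ofHom ρ) ≫ a := by
    rw [absFrob_Spec, hadef, ← Spec.map_comp]
    unfold specFrob
    congr 1
    ext x
    exact (hρ1 x).symm
  have hFL : absFrob (Spec (CommRingCat.of L)) q = a ≫ Spec.map (CommRingCat.ofHom ρ) := by
    rw [absFrob_Spec, hadef, ← Spec.map_comp]
    unfold specFrob
    congr 1
    ext x
    exact (hρ2 x).symm
  -- the twisting morphism
  have hcond : absFrob Y q ≫ h = (h ≫ Spec.map (CommRingCat.ofHom ρ)) ≫ a := by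
    rw [absFrob_natural q h, hFK, Category.assoc]
  obtain ⟨ψ, hψdef⟩ : ∃ ψ : Y ⟶ pullback h a,
      ψ = pullback.lift (absFrob Y q) (h ≫ Spec.map (CommRingCat.ofHom ρ)) hcond := ⟨_, rfl⟩
  have hψ1 : ψ ≫ pullback.fst h a = absFrob Y q := by
    rw [hψdef]; exact pullback.lift_fst _ _ _
  have hψ2 : ψ ≫ pullback.snd h a = h ≫ Spec.map (CommRingCat.ofHom ρ) := by
    rw [hψdef]; exact pullback.lift_snd _ _ _
  have hπψ : pullback.fst h a ≫ ψ = absFrob (pullback h a) q := by
    apply pullback.hom_ext
    · rw [Category.assoc, hψ1, absFrob_natural q (pullback.fst h a)]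
    · rw [Category.assoc, hψ2, ← Category.assoc, pullback.condition, Category.assoc, ← hFL,
        absFrob_natural q (pullback.snd h a)]
  -- the twisted cover
  obtain ⟨v, hvdef⟩ : ∃ v : V.left ⟶ pullback h a, v = V.hom := ⟨_, rfl⟩
  haveI : Etale v := hvdef ▸ V.prop.2
  haveI : HasFrob V.left q := HasFrob.of_hom v q
  haveI := isIso_relFrob v q
  have hsnd := relFrob_snd v q
  let e1 : (FEt.restrict (pullback.fst h a)).obj ((FEt.restrict ψ).obj V) ≅
      (FEt.restrict (absFrob (pullback h a) q)).obj V :=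
    ((MorphismProperty.Over.pullbackComp (P := FEt.prop.{u}) (Q := ⊤) (pullback.fst h a) ψ
      (absFrob (pullback h a) q) hπψ.symm).symm).app V
  let e2 : (FEt.restrict (absFrob (pullback h a) q)).obj V ≅ V :=
    MorphismProperty.Over.isoMk ((pullback.congrHom hvdef.symm rfl) ≪≫
      (asIso (relFrob v q)).symm) (by
      exact congr_aux v V.hom hvdef (absFrob (pullback h a) q) (relFrob v q) hsnd)
  exact ⟨(FEt.restrict ψ).obj V, ⟨e1 ≪≫ e2⟩⟩

theorem exists_descent
    (V : FEt.Cat (pullback h (Spec.map (CommRingCat.ofHom (algebraMap K L))))) :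
    ∃ V' : FEt.Cat Y, Nonempty ((FEt.restrict (pullback.fst h
      (Spec.map (CommRingCat.ofHom (algebraMap K L))))).obj V' ≅ V) :=
  exists_descent_aux K L h _ rfl V

end Groth.Agent.Lib.helper14.Frob
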