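import Mathlib
import Groth.Prelude.Def_FEt
import Groth.Agent.Lib.Helper14.Frob4
import Groth.Agent.Lib.Helper14.FibIso1

/-!
# helper14: essential images of restriction functors, and clopen embeddings of restricted covers
-/

set_option autoImplicit false
set_option linter.style.haveILetI false

namespace Groth.Agent.Lib.helper14.Frob

open AlgebraicGeometry CategoryTheory CategoryTheory.Limits
open Groth.Agent.Lib.helper14.FibIso

universe u

/-- restriction along a composite -/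
noncomputable def restrictCompIso {A B C : Scheme.{u}} (c' : A ⟶ B) (d : B ⟶ C) (c : A ⟶ C)
    (hc : c = c' ≫ d) (W : FEt.Cat C) :
    (FEt.restrict c).obj W ≅ (FEt.restrict c').obj ((FEt.restrict d).obj W) :=
  (MorphismProperty.Over.pullbackComp (P := FEt.prop.{u}) (Q := ⊤) c' d c hc).app W

lemma essImage_of_comp {A B C : Scheme.{u}} (c' : A ⟶ B) (d : B ⟶ C) (c : A ⟶ C)
    (hc : c = c' ≫ d) {V : FEt.Cat A} (hV : (FEt.restrict c).essImage V) :
    (FEt.restrict c').essImage V := by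
  obtain ⟨W, ⟨e⟩⟩ := hV
  exact ⟨(FEt.restrict d).obj W, ⟨(restrictCompIso c' d c hc W).symm ≪≫ e⟩⟩

lemma essImage_comp_of_essSurj {A B C : Scheme.{u}} (c' : A ⟶ B) (d : B ⟶ C) (c : A ⟶ C)
    (hc : c = c' ≫ d) (hd : ∀ W : FEt.Cat B, (FEt.restrict d).essImage W)
    {V : FEt.Cat A} (hV : (FEt.restrict c').essImage V) :
    (FEt.restrict c).essImage V := by
  obtain ⟨W, ⟨e⟩⟩ := hV
  obtain ⟨W', ⟨e'⟩⟩ := hd W
  exact ⟨W', ⟨restrictCompIso c' d c hc W' ≪≫ (FEt.restrict c').mapIso e' ≪≫ e⟩⟩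

/-- the restriction of a cover `W` of `Y` along `t : T ⟶ Y` embeds as an open and closed subscheme
of the restriction of `W ⟶ Y ⟶ X` along `t ≫ p`, for `p : Y ⟶ X` finite étale -/
theorem exists_clopen_of_factor {X Y T : Scheme.{u}} (p : Y ⟶ X) [IsFinite p] [Etale p]
    (t : T ⟶ Y) (τ : T ⟶ X) (hτ : t ≫ p = τ) (W : FEt.Cat Y) :
    ∃ (U : FEt.Cat X) (ι : (FEt.restrict t).obj W ⟶ (FEt.restrict τ).obj U),
      IsOpenImmersion ι.left ∧ IsClosedImmersion ι.left := by
  subst hτ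
  obtain ⟨w, hwdef⟩ : ∃ w : W.left ⟶ Y, w = W.hom := ⟨_, rfl⟩
  haveI : IsFinite w := hwdef ▸ W.prop.1
  haveI : Etale w := hwdef ▸ W.prop.2
  have sq := pullback_map_diagonal_isPullback w t p
  have h1 : IsOpenImmersion (pullback.map w t (w ≫ p) (t ≫ p) (𝟙 _) (𝟙 _) p
      (Category.id_comp _).symm (Category.id_comp _).symm) :=
    MorphismProperty.of_isPullback (P := @IsOpenImmersion) sq inferInstance
  have h2 : IsClosedImmersion (pullback.map w t (w ≫ p) (t ≫ p) (𝟙 _) (𝟙 _) p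
      (Category.id_comp _).symm (Category.id_comp _).symm) :=
    MorphismProperty.of_isPullback (P := @IsClosedImmersion) sq inferInstance
  subst hwdef
  refine ⟨mkObj (W.hom ≫ p), MorphismProperty.Over.homMk
    (pullback.map W.hom t (W.hom ≫ p) (t ≫ p) (𝟙 _) (𝟙 _) p
      (Category.id_comp _).symm (Category.id_comp _).symm) ?_ trivial, h1, h2⟩
  show pullback.map W.hom t (W.hom ≫ p) (t ≫ p) (𝟙 _) (𝟙 _) p _ _ ≫
    pullback.snd (W.hom ≫ p) (t ≫ p) = pullback.snd W.hom t
  rw [pullback.lift_snd, Category.comp_id]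

end Groth.Agent.Lib.helper14.Frob
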