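import Mathlib
import Groth.Prelude.Def_FEt
import Groth.Agent.Lib.Helper14.Frob5
import Groth.Agent.Lib.Helper14.FinLevel3

/-!
# helper14: finite étale covers of `X ×_k K`, `K/k` algebraic, are open and closed in the base
change of a finite étale cover of `X`
-/

set_option autoImplicit false
set_option linter.style.haveILetI false

namespace Groth.Agent.Lib.helper14.Frob

open AlgebraicGeometry CategoryTheory CategoryTheory.Limits
open Groth.Agent.Lib.helper14.FibIso

universe u

section Field

variable (F E : Type u) [Field F] [Field E] [Algebra F E]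

theorem finite_etale_of_isSeparable [FiniteDimensional F E] [Algebra.IsSeparable F E] :
    IsFinite (Spec.map (CommRingCat.ofHom (algebraMap F E))) ∧
    Etale (Spec.map (CommRingCat.ofHom (algebraMap F E))) := by
  haveI : Algebra.FormallyEtale F E := Algebra.FormallyEtale.of_isSeparable F E
  haveI : Algebra.FinitePresentation F E :=
    Algebra.FinitePresentation.of_finiteType.mp inferInstance
  haveI : Algebra.Etale F E := ⟨inferInstance, inferInstance⟩
  refine ⟨(IsFinite.SpecMap_iff _).mpr ?_, (HasRingHomProperty.Spec_iff (P := @Etale)).mpr ?_⟩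
  · exact RingHom.finite_algebraMap.mpr inferInstance
  · exact RingHom.etale_algebraMap.mpr inferInstance

theorem hasExponent_sepClosure [FiniteDimensional F E] :
    IsPurelyInseparable.HasExponent (separableClosure F E) E := by
  haveI : IsPurelyInseparable (separableClosure F E) E :=
    separableClosure.isPurelyInseparable F E
  haveI : FiniteDimensional (separableClosure F E) E := inferInstance
  exact IsPurelyInseparable.hasExponent_of_finiteDimensional

end Field

/-- a pullback square exhibits the pulled back cover as a restriction -/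
lemma essImage_of_isPullback {A B : Scheme.{u}} (c : A ⟶ B) (V : FEt.Cat A)
    {YL : Scheme.{u}} (gL : YL ⟶ B) [IsFinite gL] [Etale gL] (e : V.left ⟶ YL)
    (hpb : IsPullback e V.hom gL c) : (FEt.restrict c).essImage V :=
  ⟨mkObj gL, ⟨MorphismProperty.Over.isoMk hpb.isoPullback.symm (by
    show hpb.isoPullback.inv ≫ V.hom = pullback.snd gL c
    exact hpb.isoPullback_inv_snd)⟩⟩

/-- **finite étale covers of `X ×_k K`, `K/k` algebraic, are open and closed in the base change
of a finite étale cover of `X`** (`X` quasi-compact and quasi-separated) -/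
theorem exists_clopen_of_isAlgebraic (k K : Type u) [Field k] [Field K] [Algebra k K]
    [Algebra.IsAlgebraic k K] {X : Scheme.{u}} (f : X ⟶ Spec (CommRingCat.of k)) [CompactSpace X]
    [QuasiSeparatedSpace X]
    (V : FEt.Cat (pullback f (Spec.map (CommRingCat.ofHom (algebraMap k K))))) :
    ∃ (U : FEt.Cat X) (ι : V ⟶ (FEt.restrict (pullback.fst f
      (Spec.map (CommRingCat.ofHom (algebraMap k K))))).obj U),
      IsOpenImmersion ι.left ∧ IsClosedImmersion ι.left := by
  obtain ⟨v, hvdef⟩ : ∃ v : V.left ⟶ _, v = V.hom := ⟨_, rfl⟩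
  haveI : IsFinite v := hvdef ▸ V.prop.1
  haveI : Etale v := hvdef ▸ V.prop.2
  obtain ⟨L, hL, YL, gL, hgL1, hgL2, c, hc1, hc2, e, hpb⟩ :=
    FinLevelAlg.exists_finite_level_cover k K f v
  subst hvdef
  have hV : (FEt.restrict c).essImage V := essImage_of_isPullback c V gL e hpb
  -- the separable closure of `k` in `L`
  haveI := hasExponent_sepClosure k L
  obtain ⟨hb1, hb2⟩ := finite_etale_of_isSeparable k (separableClosure k L)
  obtain ⟨b, hbdef⟩ : ∃ b : Spec (CommRingCat.of (separableClosure k L)) ⟶ Spec (CommRingCat.of k),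
      b = Spec.map (CommRingCat.ofHom (algebraMap k (separableClosure k L))) := ⟨_, rfl⟩
  obtain ⟨a, hadef⟩ : ∃ a : Spec (CommRingCat.of L) ⟶ Spec (CommRingCat.of (separableClosure k L)),
      a = Spec.map (CommRingCat.ofHom (algebraMap (separableClosure k L) L)) := ⟨_, rfl⟩
  haveI : IsFinite b := hbdef ▸ hb1
  haveI : Etale b := hbdef ▸ hb2
  have hab : a ≫ b = Spec.map (CommRingCat.ofHom (algebraMap k L)) := by
    rw [hadef, hbdef, ← Spec.map_comp]
    rfl
  -- the intermediate cover `Y = X ×_k L_s`
  let θ : pullback (pullback.snd f b) a ≅ pullback f (Spec.map (CommRingCat.ofHom (algebraMap k L))) :=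
    pullbackLeftPullbackSndIso f b a ≪≫ pullback.congrHom rfl hab
  have hθ : θ.hom ≫ pullback.fst f _ = pullback.fst (pullback.snd f b) a ≫ pullback.fst f b := by
    show ((pullbackLeftPullbackSndIso f b a).hom ≫ (pullback.congrHom rfl hab).hom) ≫ _ = _
    rw [Category.assoc, pullback.congrHom_hom, pullback.map, pullback.lift_fst, Category.comp_id,
      pullbackLeftPullbackSndIso_hom_fst]
  have hV' : (FEt.restrict (c ≫ θ.inv)).essImage V :=
    essImage_of_comp (c ≫ θ.inv) θ.hom c (by simp) hV
  have hV'' : (FEt.restrict ((c ≫ θ.inv) ≫ pullback.fst (pullback.snd f b) a)).essImage V :=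
    essImage_comp_of_essSurj (c ≫ θ.inv) (pullback.fst (pullback.snd f b) a) _ rfl
      (fun W => exists_descent_aux (separableClosure k L) L (pullback.snd f b) a hadef W) hV'
  have ht : ((c ≫ θ.inv) ≫ pullback.fst (pullback.snd f b) a) ≫ pullback.fst f b =
      pullback.fst f (Spec.map (CommRingCat.ofHom (algebraMap k K))) := by
    rw [Category.assoc, Category.assoc, ← hθ, Iso.inv_hom_id_assoc, hc1]
  obtain ⟨W, ⟨eW⟩⟩ := hV''
  obtain ⟨U, ι', h1, h2⟩ := exists_clopen_of_factor (pullback.fst f b) _ _ ht W
  haveI : IsIso eW.inv.left := by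
    have : IsIso eW.inv := inferInstance
    exact (MorphismProperty.Over.forget _ _ _ ⋙ Over.forget _).map_isIso eW.inv
  refine ⟨U, eW.inv ≫ ι', ?_, ?_⟩
  · show IsOpenImmersion (eW.inv.left ≫ ι'.left)
    infer_instance
  · show IsClosedImmersion (eW.inv.left ≫ ι'.left)
    infer_instance

end Groth.Agent.Lib.helper14.Frob
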