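import Mathlib
import Groth.Prelude.Def_FEt
import Groth.Agent.Lib.Helper14.FEtGlue4
import Groth.Agent.Lib.Helper14.Frob6
import Groth.Agent.Lib.Helper9.ThickLift6

/-!
# helper14: essential surjectivity of restriction of finite étale covers along a universal
homeomorphism is local on the base; purely inseparable base field extensions
-/

set_option autoImplicit false
set_option linter.style.haveILetI false

namespace Groth.Agent.Lib.helper14.FEtGlue

open AlgebraicGeometry CategoryTheory CategoryTheory.Limits
open Groth.Agent.Lib.helper14.FibIso Groth.Agent.Lib.helper14.Frob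

universe u

/-- restriction along an isomorphism is essentially surjective -/
lemma essImage_restrict_of_isIso {A B : Scheme.{u}} (c : A ⟶ B) [IsIso c] (V : FEt.Cat A) :
    (FEt.restrict c).essImage V := by
  haveI : IsFinite V.hom := V.prop.1
  haveI : Etale V.hom := V.prop.2
  exact essImage_of_isPullback c V (V.hom ≫ c) (𝟙 _) (IsPullback.of_horiz_isIso ⟨by simp⟩)

lemma isPullback_of_iso_left {W U A Q : Scheme.{u}} (w : W ⟶ U) (p : A ⟶ U)
    (l : Q ⟶ pullback w p) (hl : IsIso l) (s : Q ⟶ A) (hs : l ≫ pullback.snd w p = s) :
    IsPullback (l ≫ pullback.fst w p) s w p := by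
  have h0 := IsPullback.of_hasPullback w p
  exact IsPullback.of_iso h0 (asIso l).symm (Iso.refl _) (Iso.refl _) (Iso.refl _)
    ((Category.comp_id _).trans (IsIso.inv_hom_id_assoc l _).symm)
    ((Category.comp_id _).trans ((IsIso.eq_inv_comp _).mpr hs)) (by simp) (by simp)

/-- **essential surjectivity of restriction along a universal homeomorphism is local on the
base** -/
theorem essImage_of_affineOpens {X' X : Scheme.{u}} (π : X' ⟶ X) [IsIntegralHom π]
    [UniversallyInjective π] [Surjective π] (V : FEt.Cat X')
    (h : ∀ U : X.affineOpens, (FEt.restrict (pullback.snd π U.1.ι)).essImage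
      ((FEt.restrict (pullback.fst π U.1.ι)).obj V)) :
    (FEt.restrict π).essImage V := by
  choose W he using h
  have hpb0 : ∀ i : X.affineOpens, IsPullback
      ((he i).some.inv.left ≫ pullback.fst (W i).hom (pullback.snd π i.1.ι))
      (pullback.snd V.hom (pullback.fst π i.1.ι)) (W i).hom (pullback.snd π i.1.ι) := by
    intro i
    obtain ⟨e, hedef⟩ : ∃ e, e = (he i).some := ⟨_, rfl⟩
    rw [← hedef]
    have hw : e.inv.left ≫ pullback.snd (W i).hom (pullback.snd π i.1.ι) =
        pullback.snd V.hom (pullback.fst π i.1.ι) := MorphismProperty.Over.w e.inv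
    have hiso : IsIso e.inv.left := by
      have : IsIso e.inv := inferInstance
      exact (MorphismProperty.Over.forget _ _ _ ⋙ Over.forget _).map_isIso e.inv
    exact isPullback_of_iso_left (W i).hom (pullback.snd π i.1.ι) e.inv.left hiso _ hw
  let D : LocData π V.hom :=
    { W := fun i => (W i).left
      w := fun i => (W i).hom
      etale := fun i => (W i).prop.2
      q := fun i => (he i).some.inv.left ≫ pullback.fst (W i).hom (pullback.snd π i.1.ι)
      isPullback := fun i => hpb0 i }
  obtain ⟨W', w', q', hfin, het, hpb⟩ := exists_isPullback_of_locData D (fun i => (W i).prop.1)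
  exact essImage_of_isPullback π V w' q' hpb

end Groth.Agent.Lib.helper14.FEtGlue
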