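import Groth.Agent.S0519
import Groth.Prelude.Def_FEt

/-!
# helper14: finite étale covers of a henselian local ring and of its residue field

`full_restrict_residue`: for a henselian local ring `A` with residue field `κ`, restriction of
finite étale covers along `Spec κ ⟶ Spec A` is a full functor (from `S0519`).
-/

set_option autoImplicit false
universe u
open CategoryTheory CategoryTheory.Limits AlgebraicGeometry TensorProduct

namespace Groth.Agent.Lib.Helper14.FEtHensel

variable (A : Type u) [CommRing A]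

/-- Every finite étale cover of `Spec A` is the spectrum of a finite étale `A`-algebra. -/
theorem exists_model' {Y : Scheme.{u}} (g : Y ⟶ Spec (CommRingCat.of A)) [IsFinite g] [Etale g] :
    ∃ (S : Type u) (_ : CommRing S) (_ : Algebra A S) (_ : Module.Finite A S)
      (_ : Algebra.Etale A S) (e : Y ≅ Spec (CommRingCat.of S)),
      e.hom ≫ Spec.map (CommRingCat.ofHom (algebraMap A S)) = g := by
  haveI : IsAffine Y := isAffine_of_isAffineHom g
  let φ : CommRingCat.of A ⟶ Γ(Y, ⊤) :=
    (Scheme.ΓSpecIso (CommRingCat.of A)).inv ≫ g.appTop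
  letI : Algebra A Γ(Y, ⊤) := φ.hom.toAlgebra
  have hφ : CommRingCat.ofHom (algebraMap A Γ(Y, ⊤)) = φ := rfl
  have hcomm : Y.isoSpec.hom ≫ Spec.map φ = g := by
    have h1 := Scheme.isoSpec_hom_naturality g
    rw [Scheme.isoSpec_Spec_hom] at h1
    show Y.isoSpec.hom ≫ Spec.map ((Scheme.ΓSpecIso (CommRingCat.of A)).inv ≫ g.appTop) = g
    rw [Spec.map_comp, ← Category.assoc, h1, Category.assoc, ← Spec.map_comp, Iso.inv_hom_id,
      Spec.map_id, Category.comp_id]
  have hfin : IsFinite (Spec.map φ) := by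
    have : IsFinite (Y.isoSpec.hom ≫ Spec.map φ) := by rw [hcomm]; infer_instance
    exact (MorphismProperty.cancel_left_of_respectsIso @IsFinite Y.isoSpec.hom _).mp this
  have het : Etale (Spec.map φ) := by
    have : Etale (Y.isoSpec.hom ≫ Spec.map φ) := by rw [hcomm]; infer_instance
    exact (MorphismProperty.cancel_left_of_respectsIso @Etale Y.isoSpec.hom _).mp this
  have h1 : φ.hom.Finite := (IsFinite.SpecMap_iff φ).mp hfin
  have h2 : φ.hom.Etale := (HasRingHomProperty.Spec_iff (P := @Etale)).mp het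
  refine ⟨Γ(Y, ⊤), inferInstance, inferInstance, h1, h2, Y.isoSpec, ?_⟩
  rw [hφ]
  exact hcomm

theorem exists_model (T : FEt.Cat (Spec (CommRingCat.of A))) :
    ∃ (S : Type u) (_ : CommRing S) (_ : Algebra A S) (_ : Module.Finite A S)
      (_ : Algebra.Etale A S) (e : T.left ≅ Spec (CommRingCat.of S)),
      e.hom ≫ Spec.map (CommRingCat.ofHom (algebraMap A S)) = T.hom := by
  haveI : IsFinite T.hom := T.prop.1
  haveI : Etale T.hom := T.prop.2
  exact exists_model' A T.hom

section Hensel

variable [IsLocalRing A]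

/-- The base change of the model `Spec S` to the residue field is `Spec (κ ⊗ S)`. -/
theorem isPullback_model (S : Type u) [CommRing S] [Algebra A S] {Y : Scheme.{u}}
    (g : Y ⟶ Spec (CommRingCat.of A)) (e : Y ≅ Spec (CommRingCat.of S))
    (he : e.hom ≫ Spec.map (CommRingCat.ofHom (algebraMap A S)) = g) :
    IsPullback
      (Spec.map (CommRingCat.ofHom (S := IsLocalRing.ResidueField A ⊗[A] S)
        (Algebra.TensorProduct.includeRight : S →ₐ[A] IsLocalRing.ResidueField A ⊗[A] S).toRingHom)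
          ≫ e.inv)
      (Spec.map (CommRingCat.ofHom (S := IsLocalRing.ResidueField A ⊗[A] S)
        Algebra.TensorProduct.includeLeftRingHom))
      g (Spec.map (CommRingCat.ofHom (IsLocalRing.residue A))) := by
  have h0 := isPullback_SpecMap_of_isPushout _ _ _ _
    (CommRingCat.isPushout_tensorProduct A (IsLocalRing.ResidueField A) S)
  refine h0.flip.of_iso (Iso.refl _) e.symm (Iso.refl _) (Iso.refl _) ?_ ?_ ?_ ?_
  · simp
  · simp
  · rw [← he]
    simp
  · simp

end Hensel

variable [HenselianLocalRing A]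

set_option maxHeartbeats 1600000 in
theorem full_restrict_residue_aux
    (r : Spec (CommRingCat.of (IsLocalRing.ResidueField A)) ⟶ Spec (CommRingCat.of A))
    (hr : r = Spec.map (CommRingCat.ofHom (IsLocalRing.residue A))) :
    (FEt.restrict r).Full := by
  constructor
  intro T₁ T₂ χ
  obtain ⟨S₁, _, _, _, _, e₁, he₁⟩ := exists_model A T₁
  obtain ⟨S₂, _, _, _, _, e₂, he₂⟩ := exists_model A T₂
  have sq₁ := isPullback_model A S₁ T₁.hom e₁ he₁
  have sq₂ := isPullback_model A S₂ T₂.hom e₂ he₂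
  rw [← hr] at sq₁ sq₂
  let u₁ := (IsPullback.of_hasPullback T₁.hom r).isoIsPullback _ _ sq₁
  let u₂ := (IsPullback.of_hasPullback T₂.hom r).isoIsPullback _ _ sq₂
  have hu₁f : u₁.hom ≫ (Spec.map (CommRingCat.ofHom (S := IsLocalRing.ResidueField A ⊗[A] S₁)
        (Algebra.TensorProduct.includeRight :
          S₁ →ₐ[A] IsLocalRing.ResidueField A ⊗[A] S₁).toRingHom) ≫ e₁.inv) =
      pullback.fst T₁.hom r := IsPullback.isoIsPullback_hom_fst _ _ _ _
  have hu₁s : u₁.hom ≫ Spec.map (CommRingCat.ofHom (S := IsLocalRing.ResidueField A ⊗[A] S₁)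
        Algebra.TensorProduct.includeLeftRingHom) = pullback.snd T₁.hom r :=
    IsPullback.isoIsPullback_hom_snd _ _ _ _
  have hu₂f : u₂.hom ≫ (Spec.map (CommRingCat.ofHom (S := IsLocalRing.ResidueField A ⊗[A] S₂)
        (Algebra.TensorProduct.includeRight :
          S₂ →ₐ[A] IsLocalRing.ResidueField A ⊗[A] S₂).toRingHom) ≫ e₂.inv) =
      pullback.fst T₂.hom r := IsPullback.isoIsPullback_hom_fst _ _ _ _
  have hu₂s : u₂.hom ≫ Spec.map (CommRingCat.ofHom (S := IsLocalRing.ResidueField A ⊗[A] S₂)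
        Algebra.TensorProduct.includeLeftRingHom) = pullback.snd T₂.hom r :=
    IsPullback.isoIsPullback_hom_snd _ _ _ _
  obtain ⟨χl, hχl⟩ : ∃ χl : pullback T₁.hom r ⟶ pullback T₂.hom r, χl = χ.left := ⟨χ.left, rfl⟩
  have hχ : χl ≫ pullback.snd T₂.hom r = pullback.snd T₁.hom r := by
    rw [hχl]
    exact MorphismProperty.Over.w χ
  obtain ⟨csch, hcsch⟩ : ∃ csch : Spec (CommRingCat.of (IsLocalRing.ResidueField A ⊗[A] S₁)) ⟶
      Spec (CommRingCat.of (IsLocalRing.ResidueField A ⊗[A] S₂)),
      csch = u₁.inv ≫ χl ≫ u₂.hom := ⟨_, rfl⟩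
  have hc1 : csch ≫ Spec.map (CommRingCat.ofHom (S := IsLocalRing.ResidueField A ⊗[A] S₂)
        Algebra.TensorProduct.includeLeftRingHom) =
      Spec.map (CommRingCat.ofHom (S := IsLocalRing.ResidueField A ⊗[A] S₁)
        Algebra.TensorProduct.includeLeftRingHom) := by
    rw [hcsch, Category.assoc, Category.assoc, hu₂s, hχ, ← hu₁s, Iso.inv_hom_id_assoc]
  obtain ⟨c, hc⟩ : ∃ c : CommRingCat.of (IsLocalRing.ResidueField A ⊗[A] S₂) ⟶
      CommRingCat.of (IsLocalRing.ResidueField A ⊗[A] S₁), Spec.map c = csch :=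
    ⟨Spec.preimage csch, Spec.map_preimage _⟩
  have hc2 : CommRingCat.ofHom (S := IsLocalRing.ResidueField A ⊗[A] S₂)
        Algebra.TensorProduct.includeLeftRingHom ≫ c =
      CommRingCat.ofHom (S := IsLocalRing.ResidueField A ⊗[A] S₁)
        Algebra.TensorProduct.includeLeftRingHom := by
    apply Spec.map_injective
    rw [Spec.map_comp, hc, hc1]
  let calg : IsLocalRing.ResidueField A ⊗[A] S₂ →ₐ[IsLocalRing.ResidueField A]
      IsLocalRing.ResidueField A ⊗[A] S₁ :=
    { c.hom with
      commutes' := fun x => by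
        have := congrArg (fun t => t.hom x) hc2
        simpa [Algebra.TensorProduct.algebraMap_apply] using this }
  obtain ⟨φ', hφ'⟩ := (Groth.Agent.S0519.result A S₂ S₁).2 calg
  have hφ'' : ∀ s : S₂, c.hom ((1 : IsLocalRing.ResidueField A) ⊗ₜ[A] s) =
      (1 : IsLocalRing.ResidueField A) ⊗ₜ[A] φ' s := by
    intro s
    have := congrArg (fun t => t ((1 : IsLocalRing.ResidueField A) ⊗ₜ[A] s)) hφ'
    simp only [Algebra.TensorProduct.map_tmul, AlgHom.id_apply] at this
    exact this.symm
  obtain ⟨φl, hφldef⟩ : ∃ φl : T₁.left ⟶ T₂.left,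
      φl = e₁.hom ≫ Spec.map (CommRingCat.ofHom φ'.toRingHom) ≫ e₂.inv := ⟨_, rfl⟩
  have hφl : φl ≫ T₂.hom = T₁.hom := by
    rw [hφldef, ← he₂, ← he₁]
    simp only [Category.assoc, Iso.inv_hom_id_assoc]
    rw [← Spec.map_comp]
    congr 2
    ext a
    simp
  have hkey : Spec.map (CommRingCat.ofHom (S := IsLocalRing.ResidueField A ⊗[A] S₁)
      (Algebra.TensorProduct.includeRight :
        S₁ →ₐ[A] IsLocalRing.ResidueField A ⊗[A] S₁).toRingHom) ≫
        Spec.map (CommRingCat.ofHom φ'.toRingHom) =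
      csch ≫ Spec.map (CommRingCat.ofHom (S := IsLocalRing.ResidueField A ⊗[A] S₂)
      (Algebra.TensorProduct.includeRight :
        S₂ →ₐ[A] IsLocalRing.ResidueField A ⊗[A] S₂).toRingHom) := by
    rw [← hc, ← Spec.map_comp, ← Spec.map_comp]
    congr 1
    ext s
    simp only [CommRingCat.hom_comp, CommRingCat.hom_ofHom, RingHom.coe_comp,
      Function.comp_apply, AlgHom.toRingHom_eq_coe, RingHom.coe_coe,
      Algebra.TensorProduct.includeRight_apply]
    exact (hφ'' s).symm
  have hχu : χl ≫ u₂.hom = u₁.hom ≫ csch := by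
    rw [hcsch, Iso.hom_inv_id_assoc]
  have hfst : pullback.fst T₁.hom r ≫ φl = χl ≫ pullback.fst T₂.hom r := by
    rw [← hu₁f, ← hu₂f, hφldef]
    simp only [Category.assoc, Iso.inv_hom_id_assoc]
    rw [reassoc_of% hχu, ← reassoc_of% hkey]
  refine ⟨MorphismProperty.Over.homMk φl hφl trivial, ?_⟩
  apply MorphismProperty.Over.Hom.ext
  suffices hfinal : ((FEt.restrict r).map (MorphismProperty.Over.homMk φl hφl trivial :
      T₁ ⟶ T₂)).left = χl by
    rw [hχl] at hfinal
    exact hfinal
  apply pullback.hom_ext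
  · have e1 : ((FEt.restrict r).map (MorphismProperty.Over.homMk φl hφl trivial :
        T₁ ⟶ T₂)).left ≫ pullback.fst T₂.hom r = pullback.fst T₁.hom r ≫ φl :=
      pullback.lift_fst _ _ _
    exact e1.trans hfst
  · have e2 : ((FEt.restrict r).map (MorphismProperty.Over.homMk φl hφl trivial :
        T₁ ⟶ T₂)).left ≫ pullback.snd T₂.hom r = pullback.snd T₁.hom r :=
      pullback.lift_snd _ _ _
    exact e2.trans hχ.symm

theorem full_restrict_residue :
    (FEt.restrict (Spec.map (CommRingCat.ofHom (IsLocalRing.residue A)))).Full :=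
  full_restrict_residue_aux A _ rfl

end Groth.Agent.Lib.Helper14.FEtHensel
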