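import Mathlib
import Groth.Prelude.Def_Red
import Groth.Agent.S5342

/-!
# helper14: connectedness of the fibres of a scheme with a section is stable under base change
-/

set_option autoImplicit false
universe u
open CategoryTheory CategoryTheory.Limits AlgebraicGeometry MonoidalCategory
  CartesianMonoidalCategory

namespace Groth.Agent.Lib.Helper14.FibConnBC

noncomputable section

lemma connectedSpace_of_iso {X Y : Scheme.{u}} (e : X ≅ Y) [ConnectedSpace X] :
    ConnectedSpace Y := by
  have hs : Function.Surjective e.hom.base := by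
    intro y
    refine ⟨e.inv.base y, ?_⟩
    rw [← Scheme.Hom.comp_apply, e.inv_hom_id]
    rfl
  exact Function.Surjective.connectedSpace hs e.hom.continuous

variable {S S'' : Scheme.{u}} (K : Over S) (s : 𝟙_ (Over S) ⟶ K)
  (hconn : ∀ x : S, ConnectedSpace ↥(pullback K.hom (S.fromSpecResidueField x)))

include s hconn in
/-- the scheme-theoretic fibres of a base change are connected -/
theorem connectedSpace_fibre_bc (v : S'' ⟶ S) (p : S'') :
    ConnectedSpace ↥(pullback (pullback.snd K.hom v) (S''.fromSpecResidueField p)) := by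
  let x₀ : S := v.base p
  let f₀ := S.fromSpecResidueField x₀
  let fp := S''.fromSpecResidueField p
  let u : Spec (S''.residueField p) ⟶ Spec (S.residueField x₀) := Spec.map (v.residueFieldMap p)
  have huv : u ≫ f₀ = fp ≫ v := Scheme.Hom.SpecMap_residueFieldMap_fromSpecResidueField v p
  let X := pullback K.hom f₀
  let fX : X ⟶ Spec (S.residueField x₀) := pullback.snd K.hom f₀
  have hs : s.left ≫ K.hom = 𝟙 S := Over.w s
  let xr : Spec (S.residueField x₀) ⟶ X := pullback.lift (f₀ ≫ s.left) (𝟙 _) (by
    rw [Category.assoc, hs, Category.comp_id, Category.id_comp])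
  have hxr : xr ≫ fX = 𝟙 _ := pullback.lift_snd _ _ _
  haveI : ConnectedSpace X := hconn x₀
  haveI : ConnectedSpace ↥(pullback fX u) :=
    Groth.Agent.S5342.result (S.residueField x₀) X (Spec (S''.residueField p)) fX u xr hxr
  let e3 : pullback fX u ≅ pullback K.hom (u ≫ f₀) := pullbackLeftPullbackSndIso K.hom f₀ u
  let e2 : pullback K.hom (u ≫ f₀) ≅ pullback K.hom (fp ≫ v) := pullback.congrHom rfl huv
  let e1 : pullback (pullback.snd K.hom v) fp ≅ pullback K.hom (fp ≫ v) :=
    pullbackLeftPullbackSndIso K.hom v fp
  exact connectedSpace_of_iso (e3 ≪≫ e2 ≪≫ e1.symm)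

include s hconn in
/-- the topological fibres of a base change are preconnected -/
theorem isPreconnected_fibre_bc (v : S'' ⟶ S) (p : S'') :
    _root_.IsPreconnected ((Red.bc v K).hom.base ⁻¹' {p}) := by
  haveI := connectedSpace_fibre_bc K s hconn v p
  have h1 : Set.range (pullback.fst (pullback.snd K.hom v) (S''.fromSpecResidueField p)).base =
      (pullback.snd K.hom v).base ⁻¹' {p} := by
    rw [Scheme.Pullback.range_fst, Scheme.range_fromSpecResidueField]
  change _root_.IsPreconnected ((pullback.snd K.hom v).base ⁻¹' {p})
  rw [← h1]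
  exact isPreconnected_range
    (pullback.fst (pullback.snd K.hom v) (S''.fromSpecResidueField p)).continuous

end

end Groth.Agent.Lib.Helper14.FibConnBC
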