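import Groth.Prelude.Def_FibSite
import Mathlib.CategoryTheory.Sites.CoverPreserving

/-!
# Fibred sites: plumbing for morphisms of `∫ᶜ F` (helper14)
-/

set_option autoImplicit false
set_option backward.defeqAttrib.useBackward true
set_option backward.isDefEq.respectTransparency false

universe v₃ u₃ v₂ u₂ v₁ u₁

open CategoryTheory CategoryTheory.Limits Opposite Pseudofunctor Pseudofunctor.CoGrothendieck
open CategoryTheory.Functor Category Discrete Bicategory

namespace Groth.Agent.Lib.Helper14.FibSite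

variable {𝒮 : Type u₁} [Category.{v₁} 𝒮]
variable {F : Pseudofunctor (LocallyDiscrete 𝒮ᵒᵖ) Cat.{v₂, u₂}}

/-- The morphism `⟨T, W⟩ ⟶ ⟨S, U⟩` with base `t` and fibre component `φ`. -/
abbrev mk {T S : 𝒮} (t : T ⟶ S) {W : F.obj ⟨op T⟩} {U : F.obj ⟨op S⟩}
    (φ : W ⟶ (FibSite.invImage F t).obj U) : (ι F T).obj W ⟶ (ι F S).obj U := ⟨t, φ⟩

attribute [local simp] PrelaxFunctor.map₂_eqToHom in
theorem mk_comp_ι {T S : 𝒮} (t : T ⟶ S) {W : F.obj ⟨op T⟩} {V U : F.obj ⟨op S⟩}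
    (φ : W ⟶ (FibSite.invImage F t).obj V) (f : V ⟶ U) :
    mk t φ ≫ (ι F S).map f = mk t (φ ≫ (FibSite.invImage F t).map f) := by
  ext
  · simp
  · simp [F.mapComp_id_left_inv_app, Strict.leftUnitor_eqToIso, ← Functor.map_comp_assoc,
      ← Cat.Hom₂.comp_app]

attribute [local simp] PrelaxFunctor.map₂_eqToHom in
theorem ι_comp_mk {T S : 𝒮} (t : T ⟶ S) {W' W : F.obj ⟨op T⟩} {U : F.obj ⟨op S⟩}
    (k : W' ⟶ W) (φ : W ⟶ (FibSite.invImage F t).obj U) :
    (ι F T).map k ≫ mk t φ = mk t (k ≫ φ) := by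
  ext
  · simp
  · simp [F.mapComp_id_right_inv_app, Strict.rightUnitor_eqToIso, ← NatTrans.naturality_assoc,
      ← Cat.Hom₂.comp_app]

end Groth.Agent.Lib.Helper14.FibSite
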