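import Groth.Agent.Lib.Helper14.FibSite9
import Mathlib.CategoryTheory.Sites.Limits
import Mathlib.CategoryTheory.Limits.Preserves.Finite

/-!
# Fibred sites: finite limits of sheaves on the total site are detected on the fibres (helper14)
-/

set_option autoImplicit false

universe w v u v₃ u₃ v₂ u₂ v₁ u₁

open CategoryTheory CategoryTheory.Limits Opposite Pseudofunctor Pseudofunctor.CoGrothendieck

namespace Groth.Agent.Lib.Helper14.FibSite

section Small

variable {𝒮 : Type u} [SmallCategory 𝒮]
variable (F : Pseudofunctor (LocallyDiscrete 𝒮ᵒᵖ) Cat.{u, u}) (J : FibSite.Topologies F)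
  [∀ S : 𝒮, (ι F S).IsContinuous (J S) (FibSite.totalTopology F J)]

theorem preservesFiniteLimits_of_forall_comp_restr {𝒜 : Type u₃} [Category.{v₃} 𝒜]
    (L : 𝒜 ⥤ FibSite.TotSh F J (Type u))
    (h : ∀ T : 𝒮, PreservesFiniteLimits (L ⋙ FibSite.restr F J (Type u) T)) :
    PreservesFiniteLimits L := by
  constructor
  intro K _ _
  constructor
  intro D
  constructor
  intro c hc
  refine ⟨?_⟩
  apply isLimitOfReflects (sheafToPresheaf (FibSite.totalTopology F J) (Type u))
  apply evaluationJointlyReflectsLimits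
  rintro ⟨⟨T, W⟩⟩
  have h1 : IsLimit ((L ⋙ FibSite.restr F J (Type u) T).mapCone c) :=
    isLimitOfPreserves _ hc
  have h2 := isLimitOfPreserves (sheafToPresheaf (J T) (Type u)) h1
  have h3 := isLimitOfPreserves ((evaluation _ _).obj (op W)) h2
  exact h3

end Small

end Groth.Agent.Lib.Helper14.FibSite
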