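import Groth.Agent.Lib.Helper14.FibSite10

/-!
# Fibred sites: `restr_j ∘ extend_i` is a coproduct over `j ⟶ i` (helper14)
-/

set_option autoImplicit false

universe w v u v₃ u₃ v₂ u₂ v₁ u₁

open CategoryTheory CategoryTheory.Limits Opposite Pseudofunctor Pseudofunctor.CoGrothendieck

namespace Groth.Agent.Lib.Helper14.FibSite

section General

variable {𝒜 : Type u₁} [Category.{v₁} 𝒜] {ℬ : Type u₂} [Category.{v₂} ℬ] {I : Type w}
  {L : 𝒜 ⥤ ℬ} {R : ℬ ⥤ 𝒜} (adj : L ⊣ R)
  {Lf : I → (𝒜 ⥤ ℬ)} {Rf : I → (ℬ ⥤ 𝒜)} (adjf : ∀ f, Lf f ⊣ Rf f)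
  (p : ∀ f, R ⟶ Rf f)

/-- The injection `L_f a ⟶ L a` which is the mate of the projection `p f : R ⟶ R_f`. -/
def mateInj (a : 𝒜) (f : I) : (Lf f).obj a ⟶ L.obj a :=
  ((adjf f).homEquiv a (L.obj a)).symm (adj.unit.app a ≫ (p f).app (L.obj a))

theorem homEquiv_mateInj_comp (a : 𝒜) (f : I) {b : ℬ} (g : L.obj a ⟶ b) :
    (adjf f).homEquiv a b (mateInj adj adjf p a f ≫ g) = adj.homEquiv a b g ≫ (p f).app b := by
  rw [Adjunction.homEquiv_naturality_right, mateInj, Equiv.apply_symm_apply, Category.assoc,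
    ← (p f).naturality, ← Category.assoc, ← Adjunction.homEquiv_unit]

/-- If `R b` is the product of the `R_f b`, naturally in `b`, then `L a` is the coproduct of the
`L_f a`. -/
def isColimitCofanOfAdjunction
    (hlim : ∀ b, IsLimit (Fan.mk (R.obj b) (fun f => (p f).app b))) (a : 𝒜) :
    IsColimit (Cofan.mk (L.obj a) (mateInj adj adjf p a)) :=
  Cofan.IsColimit.mk _
    (fun s => (adj.homEquiv a s.pt).symm
      (Fan.IsLimit.lift (hlim s.pt) (fun f => (adjf f).homEquiv a s.pt (s.inj f))))
    (fun s f => by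
      apply ((adjf f).homEquiv a s.pt).injective
      change (adjf f).homEquiv a s.pt (mateInj adj adjf p a f ≫ _) = _
      rw [homEquiv_mateInj_comp, Equiv.apply_symm_apply]
      exact Fan.IsLimit.fac (hlim s.pt) _ f)
    (fun s m hm => by
      apply (adj.homEquiv a s.pt).injective
      rw [Equiv.apply_symm_apply]
      apply Fan.IsLimit.hom_ext (hlim s.pt)
      intro f
      rw [Fan.IsLimit.fac]
      have := homEquiv_mateInj_comp adj adjf p a f m
      rw [← hm f]
      exact this.symm)

end General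

section Small

variable {𝒮 : Type u} [SmallCategory 𝒮]
variable (F : Pseudofunctor (LocallyDiscrete 𝒮ᵒᵖ) Cat.{u, u}) (J : FibSite.Topologies F)

/-- The projections `restr_j (coextend_i a) ⟶ (f^*)_* a` as a natural transformation. -/
noncomputable def coextendRestrProj (i j : 𝒮)
    [(ι F j).IsContinuous (J j) (FibSite.totalTopology F J)]
    [(ι F i).IsCocontinuous (J i) (FibSite.totalTopology F J)]
    [∀ P : (F.obj ⟨op i⟩)ᵒᵖ ⥤ Type u, (ι F i).op.HasPointwiseRightKanExtension P]
    [∀ (R S : 𝒮) (f : R ⟶ S), (FibSite.invImage F f).IsContinuous (J S) (J R)]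
    (f : i ⟶ j) :
    FibSite.coextend F J (Type u) i ⋙ FibSite.restr F J (Type u) j ⟶
      (FibSite.invImage F f).sheafPushforwardContinuous (Type u) (J j) (J i) where
  app a := restrCoextendProj F J i j a f
  naturality _ _ β := restrCoextendProj_naturality F J i j β f

variable (i j : 𝒮)
  [(ι F i).IsContinuous (J i) (FibSite.totalTopology F J)]
  [((ι F i).sheafPushforwardContinuous (Type u) (J i)
    (FibSite.totalTopology F J)).IsRightAdjoint]
  [(ι F j).IsContinuous (J j) (FibSite.totalTopology F J)]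
  [(ι F j).IsCocontinuous (J j) (FibSite.totalTopology F J)]
  [∀ (R S : 𝒮) (f : R ⟶ S), (FibSite.invImage F f).IsContinuous (J S) (J R)]
  [∀ (R S : 𝒮) (f : R ⟶ S),
    ((FibSite.invImage F f).sheafPushforwardContinuous (Type u) (J S) (J R)).IsRightAdjoint]

/-- The cofan exhibiting `restr_j (extend_i a)` as a coproduct over `j ⟶ i`. -/
noncomputable def restrExtendCofan (a : Sheaf (J i) (Type u)) :
    Cofan fun f : j ⟶ i => ((FibSite.invImage F f).sheafPullback (Type u) (J i) (J j)).obj a :=
  Cofan.mk ((FibSite.restr F J (Type u) j).obj ((FibSite.extend F J (Type u) i).obj a))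
    (mateInj (L := FibSite.extend F J (Type u) i ⋙ FibSite.restr F J (Type u) j)
      (R := FibSite.coextend F J (Type u) j ⋙ FibSite.restr F J (Type u) i)
      (((ι F i).sheafAdjunctionContinuous (Type u) (J i) (FibSite.totalTopology F J)).comp
        ((ι F j).sheafAdjunctionCocontinuous (Type u) (J j) (FibSite.totalTopology F J)))
      (fun f : j ⟶ i => (FibSite.invImage F f).sheafAdjunctionContinuous (Type u) (J i) (J j))
      (fun f : j ⟶ i => coextendRestrProj F J j i f) a)

noncomputable def restrExtendCofanIsColimit (a : Sheaf (J i) (Type u)) :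
    IsColimit (restrExtendCofan F J i j a) :=
  isColimitCofanOfAdjunction
    (L := FibSite.extend F J (Type u) i ⋙ FibSite.restr F J (Type u) j)
    (R := FibSite.coextend F J (Type u) j ⋙ FibSite.restr F J (Type u) i)
    (((ι F i).sheafAdjunctionContinuous (Type u) (J i) (FibSite.totalTopology F J)).comp
      ((ι F j).sheafAdjunctionCocontinuous (Type u) (J j) (FibSite.totalTopology F J)))
    (fun f : j ⟶ i => (FibSite.invImage F f).sheafAdjunctionContinuous (Type u) (J i) (J j))
    (fun f : j ⟶ i => coextendRestrProj F J j i f)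
    (fun b => restrCoextendFanIsLimit F J j i b) a

end Small

end Groth.Agent.Lib.Helper14.FibSite
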