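import Groth.Agent.Lib.Helper14.FibSite11

/-!
# Fibred sites: the functor induced by a strong transformation and the fibre inclusions (helper14)
-/

set_option autoImplicit false
set_option backward.defeqAttrib.useBackward true
set_option backward.isDefEq.respectTransparency false

universe w v u v₃ u₃ v₂ u₂ v₁ u₁

open CategoryTheory CategoryTheory.Limits Opposite Pseudofunctor Pseudofunctor.CoGrothendieck
open CategoryTheory.Functor Category Discrete Bicategory StrongTrans

namespace Groth.Agent.Lib.Helper14.FibSite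

variable {𝒮 : Type u₁} [Category.{v₁} 𝒮]
variable {F G : Pseudofunctor (LocallyDiscrete 𝒮ᵒᵖ) Cat.{v₂, u₂}} (α : G ⟶ F)

theorem map_mk {T S : 𝒮} (t : T ⟶ S) {W : G.obj ⟨op T⟩} {U : G.obj ⟨op S⟩}
    (φ : W ⟶ (FibSite.invImage G t).obj U) :
    (CoGrothendieck.map α).map (mk t φ) =
      mk (F := F) t ((α.app ⟨op T⟩).toFunctor.map φ ≫
        (α.naturality t.op.toLoc).hom.toNatTrans.app U) := rfl

attribute [local simp] PrelaxFunctor.map₂_eqToHom in
theorem map_ι_map {S : 𝒮} {V U : G.obj ⟨op S⟩} (φ : V ⟶ U) :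
    (CoGrothendieck.map α).map ((ι G S).map φ) =
      (ι F S).map ((α.app ⟨op S⟩).toFunctor.map φ) := by
  ext
  · simp
  · simp [Cat.Hom.comp_toFunctor, naturality_id_hom_app, Cat.Hom.id_toFunctor,
      ← Functor.map_comp_assoc, ← Cat.Hom₂.comp_app]

/-- The functor induced on total categories restricts on fibres to the fibre functors. -/
def ιCompMapIso (S : 𝒮) :
    ι G S ⋙ CoGrothendieck.map α ≅ (α.app ⟨op S⟩).toFunctor ⋙ ι F S :=
  NatIso.ofComponents (fun _ => Iso.refl _) (fun φ => by
    dsimp only [Functor.comp_map, Iso.refl_hom]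
    erw [Category.comp_id, Category.id_comp]
    exact map_ι_map α φ)

end Groth.Agent.Lib.Helper14.FibSite
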