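import Groth.Agent.Lib.Helper14.FibSite12

/-!
# Fibred sites: continuity of the functor induced by a morphism of fibred sites (helper14)
-/

set_option autoImplicit false

universe w v u v₃ u₃ v₂ u₂ v₁ u₁

open CategoryTheory CategoryTheory.Limits Opposite Pseudofunctor Pseudofunctor.CoGrothendieck
open scoped CategoryTheory.Pseudofunctor.StrongTrans

namespace Groth.Agent.Lib.Helper14.FibSite

variable {𝒮 : Type u₁} [Category.{v₁} 𝒮]

theorem isContinuous_of_forall_ι_comp
    (F : Pseudofunctor (LocallyDiscrete 𝒮ᵒᵖ) Cat.{v₂, u₂}) (J : FibSite.Topologies F)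
    (hF : FibSite.IsPreFibSite F J) {D : Type u₃} [Category.{v₃} D]
    (K : GrothendieckTopology D) (m : ∫ᶜ F ⥤ D)
    (h : ∀ S : 𝒮, (ι F S ⋙ m).IsContinuous (J S) K) :
    m.IsContinuous (FibSite.totalTopology F J) K := by
  refine ⟨fun P => ?_⟩
  rw [isSheaf_totalTopology_iff_types F J hF]
  intro S
  have := h S
  exact Functor.op_comp_isSheaf_of_types (ι F S ⋙ m) (J S) K P

theorem isContinuous_map
    {F G : Pseudofunctor (LocallyDiscrete 𝒮ᵒᵖ) Cat.{v₂, u₂}} (J : FibSite.Topologies F)
    (K : FibSite.Topologies G) (hF : FibSite.IsPreFibSite F J) (hG : FibSite.IsPreFibSite G K)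
    (α : G ⟶ F)
    (hα : ∀ S : 𝒮, (α.app ⟨op S⟩).toFunctor.IsContinuous (K S) (J S)) :
    (CoGrothendieck.map α).IsContinuous (FibSite.totalTopology G K)
      (FibSite.totalTopology F J) := by
  apply isContinuous_of_forall_ι_comp G K hG
  intro S
  have h1 := hα S
  have h2 := isContinuous_ι F J hF S
  have h3 : ((α.app ⟨op S⟩).toFunctor ⋙ ι F S).IsContinuous (K S) (FibSite.totalTopology F J) :=
    Functor.isContinuous_comp _ _ (K S) (J S) (FibSite.totalTopology F J)
  exact Functor.isContinuous_of_iso (ιCompMapIso α S).symm (K S) (FibSite.totalTopology F J)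

end Groth.Agent.Lib.Helper14.FibSite
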