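import Groth.Agent.Lib.Helper14.FibSite13

/-!
# Fibred sites: base change of right Kan extensions along fibre inclusions (helper14)
-/

set_option autoImplicit false
set_option backward.defeqAttrib.useBackward true
set_option backward.isDefEq.respectTransparency false

universe w v u v₃ u₃ v₂ u₂ v₁ u₁

open CategoryTheory CategoryTheory.Limits Opposite Pseudofunctor Pseudofunctor.CoGrothendieck
open CategoryTheory.Functor Category Discrete Bicategory StrongTrans

namespace Groth.Agent.Lib.Helper14.FibSite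

variable {𝒮 : Type u₁} [Category.{v₁} 𝒮]
variable {F G : Pseudofunctor (LocallyDiscrete 𝒮ᵒᵖ) Cat.{v₂, u₂}} (α : G ⟶ F)

/-- The comparison `α_T (f^* V) ⟶ f^* (α_S V)`. -/
abbrev natApp {T S : 𝒮} (f : T ⟶ S) (V : G.obj ⟨op S⟩) :
    (α.app ⟨op T⟩).toFunctor.obj ((FibSite.invImage G f).obj V) ⟶
      (FibSite.invImage F f).obj ((α.app ⟨op S⟩).toFunctor.obj V) :=
  (α.naturality f.op.toLoc).hom.toNatTrans.app V

/-- Its inverse. -/
abbrev natAppInv {T S : 𝒮} (f : T ⟶ S) (V : G.obj ⟨op S⟩) :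
    (FibSite.invImage F f).obj ((α.app ⟨op S⟩).toFunctor.obj V) ⟶
      (α.app ⟨op T⟩).toFunctor.obj ((FibSite.invImage G f).obj V) :=
  (α.naturality f.op.toLoc).inv.toNatTrans.app V

theorem natApp_natAppInv {T S : 𝒮} (f : T ⟶ S) (V : G.obj ⟨op S⟩) :
    natApp α f V ≫ natAppInv α f V = 𝟙 _ := by
  simp [natApp, natAppInv, ← Cat.Hom₂.comp_app]

theorem natAppInv_natApp {T S : 𝒮} (f : T ⟶ S) (V : G.obj ⟨op S⟩) :
    natAppInv α f V ≫ natApp α f V = 𝟙 _ := by
  simp [natApp, natAppInv, ← Cat.Hom₂.comp_app]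

theorem map_mk_id {T S : 𝒮} (f : T ⟶ S) (V : G.obj ⟨op S⟩) :
    (CoGrothendieck.map α).map (mk f (𝟙 ((FibSite.invImage G f).obj V))) =
      mk (F := F) f (natApp α f V) := by
  rw [map_mk]
  simp

section Comparison

variable {T : 𝒮} {b : (F.obj ⟨op T⟩)ᵒᵖ ⥤ Type w} {EF : (∫ᶜ F)ᵒᵖ ⥤ Type w}
  (εF : (ι F T).op ⋙ EF ⟶ b)

/-- The counit of the pulled back extension. -/
def pullCounit :
    (ι G T).op ⋙ (CoGrothendieck.map α).op ⋙ EF ⟶ (α.app ⟨op T⟩).toFunctor.op ⋙ b where
  app W := εF.app (op ((α.app ⟨op T⟩).toFunctor.obj (unop W)))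
  naturality W W' k := by
    have h1 := εF.naturality ((α.app ⟨op T⟩).toFunctor.map k.unop).op
    have h2 : ((ι G T).op ⋙ (CoGrothendieck.map α).op ⋙ EF).map k =
        EF.map ((ι F T).map ((α.app ⟨op T⟩).toFunctor.map k.unop)).op := by
      change EF.map ((CoGrothendieck.map α).map ((ι G T).map k.unop)).op = _
      rw [map_ι_map]
    rw [h2]
    exact h1

theorem ranProj_pullCounit {S : 𝒮} (f : T ⟶ S) (V : G.obj ⟨op S⟩)
    (x : EF.obj (op ((ι F S).obj ((α.app ⟨op S⟩).toFunctor.obj V)))) :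
    ranProj G (pullCounit α εF) f V x =
      b.map (natApp α f V).op (ranProj F εF f ((α.app ⟨op S⟩).toFunctor.obj V) x) := by
  rw [← ranProj_eq_of_mk, ← map_mk_id]
  rfl

theorem bijective_of_fac (hF : (Functor.RightExtension.mk EF εF).IsPointwiseRightKanExtension)
    {EG : (∫ᶜ G)ᵒᵖ ⥤ Type w} (εG : (ι G T).op ⋙ EG ⟶ (α.app ⟨op T⟩).toFunctor.op ⋙ b)
    (hG : (Functor.RightExtension.mk EG εG).IsPointwiseRightKanExtension)
    (Θ : (CoGrothendieck.map α).op ⋙ EF ⟶ EG)
    (hΘ : Functor.whiskerLeft (ι G T).op Θ ≫ εG = pullCounit α εF) (X : (∫ᶜ G)ᵒᵖ) :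
    Function.Bijective (Θ.app X) := by
  obtain ⟨⟨S, V⟩⟩ := X
  have hbF := ranProj_bijective F εF hF (j := S) ((α.app ⟨op S⟩).toFunctor.obj V)
  have hbG := ranProj_bijective G εG hG (j := S) V
  have key : ∀ (f : T ⟶ S) (x : EF.obj (op ((ι F S).obj ((α.app ⟨op S⟩).toFunctor.obj V)))),
      ranProj G εG f V (Θ.app (op ((ι G S).obj V)) x) =
        b.map (natApp α f V).op (ranProj F εF f ((α.app ⟨op S⟩).toFunctor.obj V) x) := by
    intro f x
    rw [← ranProj_pullCounit]
    have := ranProj_natural_in G (pullCounit α εF) εG Θ (𝟙 _)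
      (by rw [hΘ, Category.comp_id]) f V x
    exact this
  have hinv : ∀ (f : T ⟶ S) (z : b.obj (op ((FibSite.invImage F f).obj
      ((α.app ⟨op S⟩).toFunctor.obj V)))),
      b.map (natAppInv α f V).op (b.map (natApp α f V).op z) = z := by
    intro f z
    rw [← Functor.map_comp_apply, ← op_comp, natAppInv_natApp, op_id, b.map_id]
    rfl
  have hinv' : ∀ (f : T ⟶ S) (z : b.obj (op ((α.app ⟨op T⟩).toFunctor.obj
      ((FibSite.invImage G f).obj V)))),
      b.map (natApp α f V).op (b.map (natAppInv α f V).op z) = z := by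
    intro f z
    rw [← Functor.map_comp_apply, ← op_comp, natApp_natAppInv, op_id, b.map_id]
    rfl
  constructor
  · intro x x' hxx'
    apply hbF.1
    funext f
    have h1 := key f x
    have h2 := key f x'
    have hxx'' : Θ.app (op ((ι G S).obj V)) x = Θ.app (op ((ι G S).obj V)) x' := hxx'
    rw [hxx''] at h1
    have h3 := h1.symm.trans h2
    have h4 := congrArg (b.map (natAppInv α f V).op) h3
    rw [hinv, hinv] at h4
    exact h4
  · intro z
    obtain ⟨x, hx⟩ := hbF.2 (fun f => b.map (natAppInv α f V).op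
      (ranProj G εG f V z))
    refine ⟨x, ?_⟩
    apply hbG.1
    funext f
    have h1 := key f x
    have h2 := congrFun hx f
    change ranProj G εG f V (Θ.app (op ((ι G S).obj V)) x) = ranProj G εG f V z
    rw [h1]
    change ranProj F εF f ((α.app ⟨op S⟩).toFunctor.obj V) x = _ at h2
    rw [h2, hinv']

end Comparison

end Groth.Agent.Lib.Helper14.FibSite
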