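import Groth.Agent.Lib.Helper14.FibSite14

/-!
# Fibred sites: `coextend` commutes with the direct image of a morphism of fibred sites (helper14)
-/

set_option autoImplicit false

universe w v u v₃ u₃ v₂ u₂ v₁ u₁

open CategoryTheory CategoryTheory.Limits Opposite Pseudofunctor Pseudofunctor.CoGrothendieck
open scoped CategoryTheory.Pseudofunctor.StrongTrans

namespace Groth.Agent.Lib.Helper14.FibSite

section Small

variable {𝒮 : Type u} [SmallCategory 𝒮]
variable {F G : Pseudofunctor (LocallyDiscrete 𝒮ᵒᵖ) Cat.{u, u}} (J : FibSite.Topologies F)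
  (K : FibSite.Topologies G) (α : G ⟶ F) (T : 𝒮)

/-- The presheaf-level comparison `(Ran^F b) ∘ m ⟶ Ran^G (b ∘ α_T)`. -/
noncomputable def ranComparison (b : (F.obj ⟨op T⟩)ᵒᵖ ⥤ Type u) :
    (CoGrothendieck.map α).op ⋙ (ι F T).op.ran.obj b ⟶
      (ι G T).op.ran.obj ((α.app ⟨op T⟩).toFunctor.op ⋙ b) :=
  Functor.liftOfIsRightKanExtension _
    ((ι G T).op.ranCounit.app ((α.app ⟨op T⟩).toFunctor.op ⋙ b)) _
    (pullCounit α ((ι F T).op.ranCounit.app b))

theorem ranComparison_fac (b : (F.obj ⟨op T⟩)ᵒᵖ ⥤ Type u) :
    Functor.whiskerLeft (ι G T).op (ranComparison α T b) ≫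
      (ι G T).op.ranCounit.app ((α.app ⟨op T⟩).toFunctor.op ⋙ b) =
      pullCounit α ((ι F T).op.ranCounit.app b) :=
  Functor.liftOfIsRightKanExtension_fac _ _ _ _

theorem isIso_ranComparison (b : (F.obj ⟨op T⟩)ᵒᵖ ⥤ Type u) :
    IsIso (ranComparison α T b) := by
  refine @NatIso.isIso_of_isIso_app _ _ _ _ _ _ _ (fun X => ?_)
  rw [isIso_iff_bijective]
  exact bijective_of_fac α ((ι F T).op.ranCounit.app b)
    ((ι F T).op.isPointwiseRightKanExtensionRanCounit b)
    ((ι G T).op.ranCounit.app ((α.app ⟨op T⟩).toFunctor.op ⋙ b))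
    ((ι G T).op.isPointwiseRightKanExtensionRanCounit _)
    (ranComparison α T b) (ranComparison_fac α T b) X

theorem ranComparison_naturality {b b₂ : (F.obj ⟨op T⟩)ᵒᵖ ⥤ Type u} (β : b ⟶ b₂) :
    Functor.whiskerLeft (CoGrothendieck.map α).op ((ι F T).op.ran.map β) ≫ ranComparison α T b₂ =
      ranComparison α T b ≫
        (ι G T).op.ran.map (Functor.whiskerLeft (α.app ⟨op T⟩).toFunctor.op β) := by
  apply Functor.hom_ext_of_isRightKanExtension _
    ((ι G T).op.ranCounit.app ((α.app ⟨op T⟩).toFunctor.op ⋙ b₂))
  rw [Functor.whiskerLeft_comp, Functor.whiskerLeft_comp, Category.assoc, Category.assoc,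
    ranComparison_fac]
  have h1 := (ι G T).op.ranCounit.naturality
    (Functor.whiskerLeft (α.app ⟨op T⟩).toFunctor.op β)
  dsimp only [Functor.comp_map, Functor.id_map, Functor.whiskeringLeft_obj_map] at h1
  rw [h1, ← Category.assoc, ranComparison_fac]
  ext W x
  have h2 := (ι F T).op.ranCounit.naturality β
  have h3 := congrArg (fun n => n.app (op ((α.app ⟨op T⟩).toFunctor.obj (unop W)))) h2
  exact congrFun (congrArg (fun m => (ConcreteCategory.hom m : _ → _)) h3) x

variable [(CoGrothendieck.map α).IsContinuous (FibSite.totalTopology G K)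
    (FibSite.totalTopology F J)]
  [(ι F T).IsContinuous (J T) (FibSite.totalTopology F J)]
  [(ι F T).IsCocontinuous (J T) (FibSite.totalTopology F J)]
  [(ι G T).IsContinuous (K T) (FibSite.totalTopology G K)]
  [(ι G T).IsCocontinuous (K T) (FibSite.totalTopology G K)]
  [(α.app ⟨op T⟩).toFunctor.IsContinuous (K T) (J T)]

/-- `coextend_T` followed by the direct image along `map α` is the direct image along `α_T`
followed by `coextend_T`. -/
noncomputable def coextendPushforwardIso :
    FibSite.coextend F J (Type u) T ⋙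
        (CoGrothendieck.map α).sheafPushforwardContinuous (Type u)
          (FibSite.totalTopology G K) (FibSite.totalTopology F J) ≅
      (α.app ⟨op T⟩).toFunctor.sheafPushforwardContinuous (Type u) (K T) (J T) ⋙
        FibSite.coextend G K (Type u) T :=
  haveI : ∀ b : Sheaf (J T) (Type u), IsIso (ObjectProperty.homMk (ranComparison α T b.obj) :
      (FibSite.coextend F J (Type u) T ⋙
        (CoGrothendieck.map α).sheafPushforwardContinuous (Type u)
          (FibSite.totalTopology G K) (FibSite.totalTopology F J)).obj b ⟶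
      ((α.app ⟨op T⟩).toFunctor.sheafPushforwardContinuous (Type u) (K T) (J T) ⋙
        FibSite.coextend G K (Type u) T).obj b) := fun b => by
    have h : IsIso ((sheafToPresheaf (FibSite.totalTopology G K) (Type u)).map
        (ObjectProperty.homMk (ranComparison α T b.obj) :
      (FibSite.coextend F J (Type u) T ⋙
        (CoGrothendieck.map α).sheafPushforwardContinuous (Type u)
          (FibSite.totalTopology G K) (FibSite.totalTopology F J)).obj b ⟶
      ((α.app ⟨op T⟩).toFunctor.sheafPushforwardContinuous (Type u) (K T) (J T) ⋙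
        FibSite.coextend G K (Type u) T).obj b)) := isIso_ranComparison α T b.obj
    exact isIso_of_fully_faithful (sheafToPresheaf (FibSite.totalTopology G K) (Type u)) _
  NatIso.ofComponents (fun b => asIso (ObjectProperty.homMk (ranComparison α T b.obj)))
    (fun {b b₂} β => by
      apply ObjectProperty.hom_ext
      exact ranComparison_naturality α T β.hom)

end Small

end Groth.Agent.Lib.Helper14.FibSite
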