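import Groth.Agent.Lib.Helper14.FibSite15

/-!
# Fibred sites: a morphism of fibred sites induces a morphism of the total sites (helper14)
-/

set_option autoImplicit false

universe w v u v₃ u₃ v₂ u₂ v₁ u₁

open CategoryTheory CategoryTheory.Limits Opposite Pseudofunctor Pseudofunctor.CoGrothendieck
open scoped CategoryTheory.Pseudofunctor.StrongTrans

namespace Groth.Agent.Lib.Helper14.FibSite

section Small

variable {𝒮 : Type u} [SmallCategory 𝒮]
variable {F G : Pseudofunctor (LocallyDiscrete 𝒮ᵒᵖ) Cat.{u, u}} (J : FibSite.Topologies F)
  (K : FibSite.Topologies G) (α : G ⟶ F) (T : 𝒮)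

variable [(CoGrothendieck.map α).IsContinuous (FibSite.totalTopology G K)
    (FibSite.totalTopology F J)]
  [(ι F T).IsContinuous (J T) (FibSite.totalTopology F J)]
  [(ι F T).IsCocontinuous (J T) (FibSite.totalTopology F J)]
  [(ι G T).IsContinuous (K T) (FibSite.totalTopology G K)]
  [(ι G T).IsCocontinuous (K T) (FibSite.totalTopology G K)]
  [(α.app ⟨op T⟩).toFunctor.IsContinuous (K T) (J T)]
  [((CoGrothendieck.map α).sheafPushforwardContinuous (Type u)
    (FibSite.totalTopology G K) (FibSite.totalTopology F J)).IsRightAdjoint]
  [((α.app ⟨op T⟩).toFunctor.sheafPushforwardContinuous (Type u) (K T) (J T)).IsRightAdjoint]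

/-- The inverse image along `map α` restricted to the fibre over `T` is the restriction
followed by the inverse image along `α_T`. -/
noncomputable def pullbackRestrIso :
    (CoGrothendieck.map α).sheafPullback (Type u)
        (FibSite.totalTopology G K) (FibSite.totalTopology F J) ⋙ FibSite.restr F J (Type u) T ≅
      FibSite.restr G K (Type u) T ⋙
        (α.app ⟨op T⟩).toFunctor.sheafPullback (Type u) (K T) (J T) :=
  ((((CoGrothendieck.map α).sheafAdjunctionContinuous (Type u)
      (FibSite.totalTopology G K) (FibSite.totalTopology F J)).comp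
    ((ι F T).sheafAdjunctionCocontinuous (Type u) (J T)
      (FibSite.totalTopology F J))).ofNatIsoRight
        (coextendPushforwardIso J K α T)).leftAdjointUniq
    (((ι G T).sheafAdjunctionCocontinuous (Type u) (K T) (FibSite.totalTopology G K)).comp
      ((α.app ⟨op T⟩).toFunctor.sheafAdjunctionContinuous (Type u) (K T) (J T)))

end Small

end Groth.Agent.Lib.Helper14.FibSite
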