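import Groth.Agent.Lib.Helper14.FibSite16
import Mathlib.CategoryTheory.Limits.Types.Colimits

/-!
# Fibred sites: the left Kan extension along a fibre inclusion, restricted to the fibre (helper14)

The unit `X ⟶ ι^* Lan X` is injective, and its image consists of the elements "of degree `𝟙`".
-/

set_option autoImplicit false

universe w v u v₃ u₃ v₂ u₂ v₁ u₁

open CategoryTheory CategoryTheory.Limits Opposite Pseudofunctor Pseudofunctor.CoGrothendieck

namespace Groth.Agent.Lib.Helper14.FibSite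

variable {𝒮 : Type u₁} [Category.{v₁} 𝒮]
variable (F : Pseudofunctor (LocallyDiscrete 𝒮ᵒᵖ) Cat.{v₂, u₂})

section Vert

variable {F} {i : 𝒮}

/-- A morphism of the total category between objects of the fibre over `i` whose base is the
identity comes from a (unique) morphism of the fibre. -/
noncomputable def vertLift {V W : F.obj ⟨op i⟩} (a : (ι F i).obj V ⟶ (ι F i).obj W)
    (h : a.base = 𝟙 i) : V ⟶ W :=
  (exists_map_eq_of_base_eq_id F a h).choose

theorem ι_map_vertLift {V W : F.obj ⟨op i⟩} (a : (ι F i).obj V ⟶ (ι F i).obj W)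
    (h : a.base = 𝟙 i) : (ι F i).map (vertLift a h) = a :=
  (exists_map_eq_of_base_eq_id F a h).choose_spec

theorem base_ι_map {V W : F.obj ⟨op i⟩} (k : V ⟶ W) : ((ι F i).map k).base = 𝟙 i := rfl

theorem base_comp_ι_map {V W W' : F.obj ⟨op i⟩} (a : (ι F i).obj V ⟶ (ι F i).obj W')
    (k : W' ⟶ W) : (a ≫ (ι F i).map k).base = a.base := by
  change a.base ≫ 𝟙 i = a.base
  exact Category.comp_id _

theorem vertLift_ι_map {V W : F.obj ⟨op i⟩} (k : V ⟶ W) (h : ((ι F i).map k).base = 𝟙 i) :
    vertLift ((ι F i).map k) h = k :=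
  ι_map_injective F _ _ (ι_map_vertLift _ h)

theorem vertLift_comp_ι_map {V W W' : F.obj ⟨op i⟩} (a : (ι F i).obj V ⟶ (ι F i).obj W')
    (k : W' ⟶ W) (h : (a ≫ (ι F i).map k).base = 𝟙 i) (h' : a.base = 𝟙 i) :
    vertLift (a ≫ (ι F i).map k) h = vertLift a h' ≫ k := by
  apply ι_map_injective F
  rw [ι_map_vertLift, Functor.map_comp, ι_map_vertLift]

end Vert

section Core

variable {i : 𝒮} {X : (F.obj ⟨op i⟩)ᵒᵖ ⥤ Type w} {E : (∫ᶜ F)ᵒᵖ ⥤ Type w}
  (η : X ⟶ (ι F i).op ⋙ E)

open Functor in
/-- Every element of `E (ι V)` comes from some `X W` along a morphism `ι V ⟶ ι W`. -/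
theorem exists_rep (h : (LeftExtension.mk E η).IsPointwiseLeftKanExtension)
    (V : F.obj ⟨op i⟩) (ξ : E.obj (op ((ι F i).obj V))) :
    ∃ (W : F.obj ⟨op i⟩) (a : (ι F i).obj V ⟶ (ι F i).obj W) (x : X.obj (op W)),
      E.map a.op (η.app (op W) x) = ξ := by
  obtain ⟨g, x, hx⟩ := Types.jointly_surjective_of_isColimit (h (op ((ι F i).obj V))) ξ
  exact ⟨unop g.left, g.hom.unop, x, hx⟩

open Classical in
/-- The value of the retraction on a representative. -/
noncomputable def retrFun (V : F.obj ⟨op i⟩) {W : F.obj ⟨op i⟩}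
    (a : (ι F i).obj V ⟶ (ι F i).obj W) (x : X.obj (op W)) : Option (X.obj (op V)) :=
  if h : a.base = 𝟙 i then some (X.map (vertLift a h).op x) else none

theorem retrFun_comp (V : F.obj ⟨op i⟩) {W W' : F.obj ⟨op i⟩}
    (a : (ι F i).obj V ⟶ (ι F i).obj W') (k : W' ⟶ W) (x : X.obj (op W)) :
    retrFun F V (a ≫ (ι F i).map k) x = retrFun F V a (X.map k.op x) := by
  unfold retrFun
  by_cases h : a.base = 𝟙 i
  · have h' : (a ≫ (ι F i).map k).base = 𝟙 i := (base_comp_ι_map a k).trans h
    rw [dif_pos h, dif_pos h', vertLift_comp_ι_map a k h' h, op_comp, Functor.map_comp_apply]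
  · have h' : ¬ (a ≫ (ι F i).map k).base = 𝟙 i := fun e => h ((base_comp_ι_map a k).symm.trans e)
    rw [dif_neg h, dif_neg h']

theorem retrFun_id (V : F.obj ⟨op i⟩) (x : X.obj (op V)) :
    retrFun F V (𝟙 ((ι F i).obj V)) x = some x := by
  have h0 : (𝟙 ((ι F i).obj V) : (ι F i).obj V ⟶ (ι F i).obj V) = (ι F i).map (𝟙 V) :=
    ((ι F i).map_id V).symm
  unfold retrFun
  have hb : (𝟙 ((ι F i).obj V) : (ι F i).obj V ⟶ (ι F i).obj V).base = 𝟙 i := rfl
  rw [dif_pos hb]
  have : vertLift (𝟙 ((ι F i).obj V)) hb = 𝟙 V := by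
    apply ι_map_injective F
    rw [ι_map_vertLift]
    exact h0
  rw [this, op_id, X.map_id]
  rfl

open Functor in
/-- The unit of a pointwise left Kan extension along a fibre inclusion is injective. -/
theorem unit_injective (h : (LeftExtension.mk E η).IsPointwiseLeftKanExtension)
    (V : F.obj ⟨op i⟩) : Function.Injective (η.app (op V)) := by
  let c : Cocone (CostructuredArrow.proj (ι F i).op (op ((ι F i).obj V)) ⋙ X) :=
    { pt := Option (X.obj (op V))
      ι :=
        { app := fun g => TypeCat.ofHom (fun x => retrFun F V (W := unop g.left) g.hom.unop x)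
          naturality := fun g g' φ => by
            ext x
            have hw : g.hom.unop = g'.hom.unop ≫ (ι F i).map φ.left.unop := by
              have := CostructuredArrow.w φ
              rw [← this]
              rfl
            change retrFun F V (W := unop g'.left) g'.hom.unop (X.map φ.left x) =
              retrFun F V (W := unop g.left) g.hom.unop x
            rw [hw]
            exact (retrFun_comp F V g'.hom.unop φ.left.unop x).symm } }
  let ρ := (h (op ((ι F i).obj V))).desc c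
  intro x x' hxx'
  have key : ∀ y : X.obj (op V), ρ (η.app (op V) y) = some y := by
    intro y
    let g₀ : CostructuredArrow (ι F i).op (op ((ι F i).obj V)) :=
      CostructuredArrow.mk (S := (ι F i).op) (Y := op V) (𝟙 (op ((ι F i).obj V)))
    have h1 := (h (op ((ι F i).obj V))).fac c g₀
    have h2 := congrFun (congrArg (fun m => (ConcreteCategory.hom m : _ → _)) h1) y
    have h3 : ((LeftExtension.mk E η).coconeAt (op ((ι F i).obj V))).ι.app g₀ y =
        η.app (op V) y := by
      change E.map (𝟙 _) (η.app (op V) y) = _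
      rw [E.map_id]
      rfl
    change ρ (((LeftExtension.mk E η).coconeAt (op ((ι F i).obj V))).ι.app g₀ y) = _ at h2
    rw [h3] at h2
    rw [h2]
    exact retrFun_id F V y
  have := congrArg ρ hxx'
  rw [key, key] at this
  exact Option.some.inj this

end Core

section Degree

variable {𝒮 : Type u} [SmallCategory 𝒮]
variable (F : Pseudofunctor (LocallyDiscrete 𝒮ᵒᵖ) Cat.{u, u}) (i : 𝒮)

/-- The presheaf `X ↦ (X.base ⟶ i)` on the total category. -/
abbrev degPresheaf : (∫ᶜ F)ᵒᵖ ⥤ Type u := (forget F).op ⋙ yoneda.obj i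

variable {F i} {X : (F.obj ⟨op i⟩)ᵒᵖ ⥤ Type u} {E : (∫ᶜ F)ᵒᵖ ⥤ Type u}
  (η : X ⟶ (ι F i).op ⋙ E)

open Functor in
/-- An element of degree `𝟙` comes from the fibre. -/
theorem exists_unit_eq_of_deg (h : (LeftExtension.mk E η).IsPointwiseLeftKanExtension)
    (δ : E ⟶ degPresheaf F i)
    (hδ : ∀ (W : F.obj ⟨op i⟩) (x : X.obj (op W)),
      δ.app (op ((ι F i).obj W)) (η.app (op W) x) = 𝟙 i)
    (V : F.obj ⟨op i⟩) (ξ : E.obj (op ((ι F i).obj V)))
    (hξ : δ.app (op ((ι F i).obj V)) ξ = 𝟙 i) :
    ∃ x : X.obj (op V), η.app (op V) x = ξ := by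
  obtain ⟨W, a, x, rfl⟩ := exists_rep F η h V ξ
  have h1 := NatTrans.naturality_apply δ a.op (η.app (op W) x)
  rw [hδ] at h1
  have hb : a.base = 𝟙 i := by
    have h2 : (degPresheaf F i).map a.op (𝟙 i) = a.base := Category.comp_id a.base
    exact (h2.symm.trans h1.symm).trans hξ
  refine ⟨X.map (vertLift a hb).op x, ?_⟩
  have h3 := NatTrans.naturality_apply η (vertLift a hb).op x
  rw [h3]
  change E.map ((ι F i).map (vertLift a hb)).op _ = _
  rw [ι_map_vertLift]

end Degree

end Groth.Agent.Lib.Helper14.FibSite
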