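import Groth.Agent.Lib.Helper14.FibSite17
import Mathlib.CategoryTheory.Sites.LocallyBijective

/-!
# Fibred sites: bicovering morphisms and left Kan extension along a fibre inclusion (helper14)
-/

set_option autoImplicit false

universe w v u v₃ u₃ v₂ u₂ v₁ u₁

open CategoryTheory CategoryTheory.Limits Opposite Pseudofunctor Pseudofunctor.CoGrothendieck

namespace Groth.Agent.Lib.Helper14.FibSite

variable {𝒮 : Type u} [SmallCategory 𝒮]
variable (F : Pseudofunctor (LocallyDiscrete 𝒮ᵒᵖ) Cat.{u, u}) (J : FibSite.Topologies F) (i : 𝒮)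

/-- The constant map `X ⟶ ι^* (degPresheaf)` with value `𝟙 i`. -/
def degConst (X : (F.obj ⟨op i⟩)ᵒᵖ ⥤ Type u) : X ⟶ (ι F i).op ⋙ degPresheaf F i where
  app _ := TypeCat.ofHom (fun _ => 𝟙 i)
  naturality W W' k := by
    ext x
    exact (Category.comp_id (𝟙 i)).symm

/-- The degree map on the left Kan extension. -/
noncomputable def degLan (X : (F.obj ⟨op i⟩)ᵒᵖ ⥤ Type u) :
    ((ι F i).op.lan (H := Type u)).obj X ⟶ degPresheaf F i :=
  (((ι F i).op.lanAdjunction (Type u)).homEquiv X (degPresheaf F i)).symm (degConst F i X)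

theorem degLan_unit (X : (F.obj ⟨op i⟩)ᵒᵖ ⥤ Type u) (W : F.obj ⟨op i⟩) (x : X.obj (op W)) :
    (degLan F i X).app (op ((ι F i).obj W)) (((ι F i).op.lanUnit.app X).app (op W) x) = 𝟙 i := by
  have h := (((ι F i).op.lanAdjunction (Type u)).homEquiv X (degPresheaf F i)).apply_symm_apply
    (degConst F i X)
  rw [Adjunction.homEquiv_unit, Functor.lanAdjunction_unit] at h
  have h2 := congrArg (fun n => n.app (op W)) h
  exact congrFun (congrArg (fun m => (ConcreteCategory.hom m : _ → _)) h2) x

theorem lan_map_degLan {X Y : (F.obj ⟨op i⟩)ᵒᵖ ⥤ Type u} (u : X ⟶ Y) :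
    ((ι F i).op.lan (H := Type u)).map u ≫ degLan F i Y = degLan F i X := by
  apply (((ι F i).op.lanAdjunction (Type u)).homEquiv X (degPresheaf F i)).injective
  rw [Adjunction.homEquiv_naturality_left, degLan, degLan, Equiv.apply_symm_apply,
    Equiv.apply_symm_apply]
  rfl

theorem lanUnit_injective (X : (F.obj ⟨op i⟩)ᵒᵖ ⥤ Type u) (V : F.obj ⟨op i⟩) :
    Function.Injective (((ι F i).op.lanUnit.app X).app (op V)) :=
  unit_injective F ((ι F i).op.lanUnit.app X)
    ((ι F i).op.isPointwiseLeftKanExtensionLeftKanExtensionUnit X) V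

theorem lan_map_unit {X Y : (F.obj ⟨op i⟩)ᵒᵖ ⥤ Type u} (u : X ⟶ Y) (V : F.obj ⟨op i⟩)
    (x : X.obj (op V)) :
    (((ι F i).op.lan (H := Type u)).map u).app (op ((ι F i).obj V))
        (((ι F i).op.lanUnit.app X).app (op V) x) =
      ((ι F i).op.lanUnit.app Y).app (op V) (u.app (op V) x) := by
  have h := (ι F i).op.lanUnit.naturality u
  have h2 := congrArg (fun n => n.app (op V)) h
  exact (congrFun (congrArg (fun m => (ConcreteCategory.hom m : _ → _)) h2) x).symm

theorem lanUnit_map (X : (F.obj ⟨op i⟩)ᵒᵖ ⥤ Type u) {V V' : F.obj ⟨op i⟩} (k : V' ⟶ V)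
    (x : X.obj (op V)) :
    (((ι F i).op.lan (H := Type u)).obj X).map ((ι F i).map k).op
        (((ι F i).op.lanUnit.app X).app (op V) x) =
      ((ι F i).op.lanUnit.app X).app (op V') (X.map k.op x) :=
  (NatTrans.naturality_apply ((ι F i).op.lanUnit.app X) k.op x).symm

theorem W_of_W_lan_map (hF : FibSite.IsPreFibSite F J) {R Y : (F.obj ⟨op i⟩)ᵒᵖ ⥤ Type u}
    (u : R ⟶ Y)
    (h : (FibSite.totalTopology F J).W (((ι F i).op.lan (H := Type u)).map u)) :
    (J i).W u := by
  rw [GrothendieckTopology.W_iff_isLocallyBijective] at h ⊢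
  obtain ⟨hinj, hsurj⟩ := h
  constructor
  · constructor
    intro V r₁ r₂ hr
    have h1 : (((ι F i).op.lan (H := Type u)).map u).app (op ((ι F i).obj (unop V)))
          (((ι F i).op.lanUnit.app R).app (op (unop V)) r₁) =
        (((ι F i).op.lan (H := Type u)).map u).app (op ((ι F i).obj (unop V)))
          (((ι F i).op.lanUnit.app R).app (op (unop V)) r₂) := by
      rw [lan_map_unit, lan_map_unit]
      exact congrArg _ hr
    have h2 := hinj.equalizerSieve_mem _ _ h1
    obtain ⟨R₀, hR₀, hle⟩ := (mem_totalTopology_iff F J hF _ _).1 h2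
    refine (J i).superset_covering ?_ hR₀
    intro V' k hk
    have h3 := hle _ (Presieve.image_mem_functorPushforward (ι F i) R₀.arrows hk)
    change (((ι F i).op.lan (H := Type u)).obj R).map ((ι F i).map k).op _ =
      (((ι F i).op.lan (H := Type u)).obj R).map ((ι F i).map k).op _ at h3
    rw [lanUnit_map, lanUnit_map] at h3
    exact lanUnit_injective F i R V' h3
  · constructor
    intro V s
    have h2 := hsurj.imageSieve_mem (((ι F i).op.lanUnit.app Y).app (op V) s)
    obtain ⟨R₀, hR₀, hle⟩ := (mem_totalTopology_iff F J hF _ _).1 h2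
    refine (J i).superset_covering ?_ hR₀
    intro V' k hk
    obtain ⟨ξ, hξ⟩ := hle _ (Presieve.image_mem_functorPushforward (ι F i) R₀.arrows hk)
    change (((ι F i).op.lan (H := Type u)).map u).app (op ((ι F i).obj V')) ξ =
      (((ι F i).op.lan (H := Type u)).obj Y).map ((ι F i).map k).op _ at hξ
    rw [lanUnit_map] at hξ
    -- degree of ξ
    have hdeg : (degLan F i R).app (op ((ι F i).obj V')) ξ = 𝟙 i := by
      have h4 := congrArg (fun n => n.app (op ((ι F i).obj V'))) (lan_map_degLan F i u)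
      have h5 := congrFun (congrArg (fun m => (ConcreteCategory.hom m : _ → _)) h4) ξ
      change (degLan F i Y).app _ ((((ι F i).op.lan (H := Type u)).map u).app _ ξ) = _ at h5
      rw [← h5, hξ]
      exact degLan_unit F i Y V' _
    obtain ⟨r', hr'⟩ := exists_unit_eq_of_deg ((ι F i).op.lanUnit.app R)
      ((ι F i).op.isPointwiseLeftKanExtensionLeftKanExtensionUnit R) (degLan F i R)
      (degLan_unit F i R) V' ξ hdeg
    refine ⟨r', ?_⟩
    apply lanUnit_injective F i Y V'
    rw [← lan_map_unit, hr']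
    exact hξ

end Groth.Agent.Lib.Helper14.FibSite
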