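import Groth.Agent.Lib.Helper14.FibSite16
import Mathlib.CategoryTheory.Extensive
import Mathlib.CategoryTheory.Sites.LeftExact

/-!
# Fibred sites: general categorical lemmas for the converse direction (helper14)

* splitting one summand off a coproduct;
* naturality of `mateInj`;
* functors preserving binary coproducts between extensive categories preserve pullbacks along
  coproduct injections;
* pasting lemmas for pullbacks over a cartesian natural transformation.
-/

set_option autoImplicit false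

universe w v u v₃ u₃ v₂ u₂ v₁ u₁

open CategoryTheory CategoryTheory.Limits Opposite

namespace Groth.Agent.Lib.Helper14.FibSite

section Split

variable {C : Type u₁} [Category.{v₁} C] {ι : Type w} {X : ι → C}

open Classical in
/-- Split one summand off a coproduct. -/
noncomputable def isColimitBinaryCofanOfCofan (c : Cofan X) (hc : IsColimit c) (i₀ : ι)
    (c' : Cofan (fun i : {i : ι // i ≠ i₀} => X i.1)) (hc' : IsColimit c') :
    IsColimit (BinaryCofan.mk (c.inj i₀) (Cofan.IsColimit.desc hc' (fun i => c.inj i.1))) :=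
  BinaryCofan.isColimitMk
    (fun s => Cofan.IsColimit.desc hc (fun i =>
      if h : i = i₀ then eqToHom (show X i = X i₀ by rw [h]) ≫ s.inl else c'.inj ⟨i, h⟩ ≫ s.inr))
    (fun s => by
      rw [Cofan.IsColimit.fac]
      simp)
    (fun s => by
      apply Cofan.IsColimit.hom_ext hc'
      intro i
      rw [← Category.assoc, Cofan.IsColimit.fac, Cofan.IsColimit.fac, dif_neg i.2])
    (fun s m h1 h2 => by
      apply Cofan.IsColimit.hom_ext hc
      intro i
      rw [Cofan.IsColimit.fac]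
      by_cases h : i = i₀
      · subst h
        rw [dif_pos rfl, eqToHom_refl, Category.id_comp]
        exact h1
      · rw [dif_neg h, ← h2, ← Category.assoc]
        congr 1
        exact (Cofan.IsColimit.fac hc' (fun i => c.inj i.1) ⟨i, h⟩).symm)

end Split

section MateNat

variable {𝒜 : Type u₁} [Category.{v₁} 𝒜] {ℬ : Type u₂} [Category.{v₂} ℬ] {I : Type w}
  {L : 𝒜 ⥤ ℬ} {R : ℬ ⥤ 𝒜} (adj : L ⊣ R)
  {Lf : I → (𝒜 ⥤ ℬ)} {Rf : I → (ℬ ⥤ 𝒜)} (adjf : ∀ f, Lf f ⊣ Rf f)
  (p : ∀ f, R ⟶ Rf f)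

theorem mateInj_naturality {a a' : 𝒜} (g : a ⟶ a') (f : I) :
    (Lf f).map g ≫ mateInj adj adjf p a' f = mateInj adj adjf p a f ≫ L.map g := by
  apply ((adjf f).homEquiv a (L.obj a')).injective
  rw [homEquiv_mateInj_comp, Adjunction.homEquiv_naturality_left, mateInj,
    Equiv.apply_symm_apply, Adjunction.homEquiv_unit]
  rw [← Category.assoc]
  exact congrArg (fun k => k ≫ (p f).app (L.obj a')) (adj.unit.naturality g)

end MateNat

section Extensive

variable {𝒜 : Type u₁} [Category.{v₁} 𝒜] {ℬ : Type u₂} [Category.{v₂} ℬ]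
  [FinitaryExtensive 𝒜] [FinitaryExtensive ℬ] [HasPullbacks 𝒜]
  (L : 𝒜 ⥤ ℬ) [PreservesColimitsOfShape (Discrete WalkingPair) L]

/-- A functor preserving binary coproducts between finitary extensive categories preserves
pullbacks along coproduct injections. -/
theorem isPullback_map_of_isColimit_binaryCofan {P Q X Y : 𝒜} (c : BinaryCofan P Q)
    (hc : IsColimit c) {a : X ⟶ Y} {b : X ⟶ P} {y : Y ⟶ c.pt} (sq : IsPullback a b y c.inl) :
    IsPullback (L.map a) (L.map b) (L.map y) (L.map c.inl) := by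
  let a' := pullback.fst y c.inr
  let b' := pullback.snd y c.inr
  have sq' : IsPullback a' b' y c.inr := IsPullback.of_hasPullback y c.inr
  have hvk := FinitaryExtensive.vanKampen c hc
  have h1 := (BinaryCofan.isVanKampen_iff c).1 hvk (BinaryCofan.mk a a') b b' y sq.w.symm sq'.w.symm
  have hc₁ : IsColimit (BinaryCofan.mk a a') := (h1.2 ⟨sq, sq'⟩).some
  have hLc₁ : IsColimit (BinaryCofan.mk (L.map a) (L.map a')) :=
    isColimitMapCoconeBinaryCofanEquiv L a a' (isColimitOfPreserves L hc₁)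
  have hc0 : IsColimit (BinaryCofan.mk c.inl c.inr) := hc.ofIsoColimit (isoBinaryCofanMk c)
  have hLc : IsColimit (BinaryCofan.mk (L.map c.inl) (L.map c.inr)) :=
    isColimitMapCoconeBinaryCofanEquiv L c.inl c.inr (isColimitOfPreserves L hc0)
  have hvk' := FinitaryExtensive.vanKampen _ hLc
  have h2 := (BinaryCofan.isVanKampen_iff _).1 hvk' (BinaryCofan.mk (L.map a) (L.map a'))
    (L.map b) (L.map b') (L.map y)
    (by have := congrArg L.map sq.w; rw [L.map_comp, L.map_comp] at this; exact this.symm)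
    (by have := congrArg L.map sq'.w; rw [L.map_comp, L.map_comp] at this; exact this.symm)
  exact (h2.1 ⟨hLc₁⟩).1

end Extensive

section Pasting

variable {C : Type u₁} [Category.{v₁} C]
  {X₀ X₁ X₂ Y₀ Y₁ Y₂ PX PY : C}
  {x₁ : X₁ ⟶ X₀} {x₂ : X₂ ⟶ X₀} {y₁ : Y₁ ⟶ Y₀} {y₂ : Y₂ ⟶ Y₀}
  {m₀ : X₀ ⟶ Y₀} {m₁ : X₁ ⟶ Y₁} {m₂ : X₂ ⟶ Y₂}
  {q₁ : PY ⟶ Y₁} {q₂ : PY ⟶ Y₂} {p₁ : PX ⟶ X₁} {p₂ : PX ⟶ X₂} {mP : PX ⟶ PY}

theorem isPullback_of_cartesian (s1 : IsPullback m₁ x₁ y₁ m₀) (s2 : IsPullback m₂ x₂ y₂ m₀)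
    (sY : IsPullback q₁ q₂ y₁ y₂) (sP : IsPullback mP (p₁ ≫ x₁) (q₁ ≫ y₁) m₀)
    (h1 : p₁ ≫ m₁ = mP ≫ q₁) (h2 : p₂ ≫ m₂ = mP ≫ q₂) (h12 : p₁ ≫ x₁ = p₂ ≫ x₂) :
    IsPullback p₁ p₂ x₁ x₂ := by
  refine ⟨⟨h12⟩, ⟨PullbackCone.IsLimit.mk _ (fun c => ?_) ?_ ?_ ?_⟩⟩
  · refine sP.lift (sY.lift (c.fst ≫ m₁) (c.snd ≫ m₂) ?_) (c.fst ≫ x₁) ?_
    · rw [Category.assoc, Category.assoc, s1.w, s2.w, ← Category.assoc, ← Category.assoc,
        c.condition]
    · rw [← Category.assoc, sY.lift_fst, Category.assoc, Category.assoc, s1.w]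
  · intro c
    apply s1.hom_ext
    · rw [Category.assoc, h1, ← Category.assoc, sP.lift_fst, sY.lift_fst]
    · rw [Category.assoc, sP.lift_snd]
  · intro c
    apply s2.hom_ext
    · rw [Category.assoc, h2, ← Category.assoc, sP.lift_fst, sY.lift_snd]
    · rw [Category.assoc, ← h12, sP.lift_snd, c.condition]
  · intro c m hm1 hm2
    apply sP.hom_ext
    · rw [sP.lift_fst]
      apply sY.hom_ext
      · rw [sY.lift_fst, Category.assoc, ← h1, ← Category.assoc, hm1]
      · rw [sY.lift_snd, Category.assoc, ← h2, ← Category.assoc, hm2]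
    · rw [sP.lift_snd, ← Category.assoc, hm1]

theorem isPullback_to_cartesian (s1 : IsPullback m₁ x₁ y₁ m₀) (s2 : IsPullback m₂ x₂ y₂ m₀)
    (sY : IsPullback q₁ q₂ y₁ y₂) (sX : IsPullback p₁ p₂ x₁ x₂)
    (h1 : p₁ ≫ m₁ = mP ≫ q₁) (h2 : p₂ ≫ m₂ = mP ≫ q₂) :
    IsPullback mP (p₁ ≫ x₁) (q₁ ≫ y₁) m₀ := by
  refine ⟨⟨by rw [← Category.assoc, ← h1, Category.assoc, Category.assoc, s1.w]⟩,
    ⟨PullbackCone.IsLimit.mk _ (fun c => ?_) ?_ ?_ ?_⟩⟩
  · refine sX.lift (s1.lift (c.fst ≫ q₁) c.snd ?_) (s2.lift (c.fst ≫ q₂) c.snd ?_) ?_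
    · rw [Category.assoc]; exact c.condition
    · rw [Category.assoc, ← sY.w]; exact c.condition
    · rw [s1.lift_snd, s2.lift_snd]
  · intro c
    apply sY.hom_ext
    · rw [Category.assoc, ← h1, ← Category.assoc, sX.lift_fst, s1.lift_fst]
    · rw [Category.assoc, ← h2, ← Category.assoc, sX.lift_snd, s2.lift_fst]
  · intro c
    rw [← Category.assoc, sX.lift_fst, s1.lift_snd]
  · intro c m hm1 hm2
    apply sX.hom_ext
    · rw [sX.lift_fst]
      apply s1.hom_ext
      · rw [s1.lift_fst, Category.assoc, h1, ← Category.assoc, hm1]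
      · rw [s1.lift_snd, Category.assoc, hm2]
    · rw [sX.lift_snd]
      apply s2.hom_ext
      · rw [s2.lift_fst, Category.assoc, h2, ← Category.assoc, hm1]
      · rw [s2.lift_snd, Category.assoc, ← sX.w, hm2]

end Pasting

end Groth.Agent.Lib.Helper14.FibSite
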