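import Groth.Agent.Lib.Helper14.FibSite1

/-!
# Fibred sites: explicit description of the total topology (helper14)
-/

set_option autoImplicit false

universe v₃ u₃ v₂ u₂ v₁ u₁

open CategoryTheory CategoryTheory.Limits Opposite Pseudofunctor Pseudofunctor.CoGrothendieck

namespace Groth.Agent.Lib.Helper14.FibSite

variable {𝒮 : Type u₁} [Category.{v₁} 𝒮]
variable (F : Pseudofunctor (LocallyDiscrete 𝒮ᵒᵖ) Cat.{v₂, u₂}) (J : FibSite.Topologies F)

theorem coverPreserving_invImage (hF : FibSite.IsPreFibSite F J) {T S : 𝒮} (t : T ⟶ S) :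
    CoverPreserving (J S) (J T) (FibSite.invImage F t) :=
  haveI := hF t
  CoverPreserving.of_isContinuous _ _ _

theorem pushforward_pullback_le {T S₀ : 𝒮} {U : F.obj ⟨op S₀⟩} {W : F.obj ⟨op T⟩}
    (S : Sieve ((ι F S₀).obj U)) (R : Sieve U)
    (hRS : Sieve.functorPushforward (ι F S₀) R ≤ S) (t : T ⟶ S₀)
    (φ : W ⟶ (FibSite.invImage F t).obj U) :
    Sieve.functorPushforward (ι F T)
      ((Sieve.functorPushforward (FibSite.invImage F t) R).pullback φ) ≤ S.pullback (mk t φ) := by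
  rintro Z m ⟨W', k, a, ⟨V, f, b, hf, hkb⟩, rfl⟩
  have e : (a ≫ (ι F T).map k) ≫ mk t φ = (a ≫ mk t b) ≫ (ι F S₀).map f := by
    rw [Category.assoc, ι_comp_mk, hkb, ← mk_comp_ι, Category.assoc]
  rw [Sieve.pullback_apply, e]
  exact S.downward_closed (hRS _ ⟨V, f, 𝟙 _, hf, (Category.id_comp _).symm⟩) _

theorem pushforward_bind_le {S₀ : 𝒮} {U : F.obj ⟨op S₀⟩}
    (R₂ : Sieve ((ι F S₀).obj U)) (R : Sieve U)
    (R' : ∀ ⦃V : F.obj ⟨op S₀⟩⦄ (f : V ⟶ U), R.arrows f → Sieve V)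
    (hR' : ∀ ⦃V : F.obj ⟨op S₀⟩⦄ (f : V ⟶ U) (hf : R.arrows f),
      Sieve.functorPushforward (ι F S₀) (R' f hf) ≤ R₂.pullback ((ι F S₀).map f)) :
    Sieve.functorPushforward (ι F S₀) (Sieve.bind R.arrows R') ≤ R₂ := by
  rintro Z m ⟨W', k, a, ⟨V, k', f, hf, hk', rfl⟩, rfl⟩
  have := hR' f hf _ ⟨W', k', a, hk', rfl⟩
  rw [Sieve.pullback_apply, Category.assoc, ← Functor.map_comp] at this
  exact this

/-- The explicit total topology: sieves containing the image of a covering sieve of the fibre. -/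
def fibTop (hF : FibSite.IsPreFibSite F J) : GrothendieckTopology (∫ᶜ F) where
  sieves X := {S | ∃ R ∈ J X.base X.fiber, Sieve.functorPushforward (ι F X.base) R ≤ S}
  top_mem' X := ⟨⊤, (J _).top_mem _, le_top⟩
  pullback_stable' := by
    rintro ⟨S₀, U⟩ ⟨T, W⟩ S ⟨t, φ⟩ ⟨R, hR, hRS⟩
    exact ⟨(Sieve.functorPushforward (FibSite.invImage F t) R).pullback φ,
      (J _).pullback_stable φ ((coverPreserving_invImage F J hF t).cover_preserve hR),
      pushforward_pullback_le F S R hRS t φ⟩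
  transitive' := by
    rintro ⟨S₀, U⟩ S ⟨R, hR, hRS⟩ R₂ h
    have h' : ∀ ⦃V : F.obj ⟨op S₀⟩⦄ (f : V ⟶ U), R.arrows f →
        ∃ R' ∈ J S₀ V, Sieve.functorPushforward (ι F S₀) R' ≤
          Sieve.pullback ((ι F S₀).map f) R₂ := fun V f hf =>
      h (hRS _ ⟨V, f, 𝟙 _, hf, (Category.id_comp _).symm⟩)
    choose R' hR' hR'₂ using h'
    exact ⟨Sieve.bind R.arrows R', (J _).bind_covering hR (fun V f hf => hR' f hf),
      pushforward_bind_le F R₂ R R' hR'₂⟩

theorem mem_fibTop_iff (hF : FibSite.IsPreFibSite F J) (X : ∫ᶜ F) (S : Sieve X) :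
    S ∈ fibTop F J hF X ↔
      ∃ R ∈ J X.base X.fiber, Sieve.functorPushforward (ι F X.base) R ≤ S := Iff.rfl

theorem totalTopology_eq_fibTop (hF : FibSite.IsPreFibSite F J) :
    FibSite.totalTopology F J = fibTop F J hF := by
  apply le_antisymm
  · exact FibSite.totalTopology_le (fun S U R hR => ⟨R, hR, le_rfl⟩)
  · intro X S ⟨R, hR, hRS⟩
    exact (FibSite.totalTopology F J).superset_covering hRS
      (FibSite.functorPushforward_mem_totalTopology hR)

theorem mem_totalTopology_iff (hF : FibSite.IsPreFibSite F J) (X : ∫ᶜ F) (S : Sieve X) :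
    S ∈ FibSite.totalTopology F J X ↔
      ∃ R ∈ J X.base X.fiber, Sieve.functorPushforward (ι F X.base) R ≤ S := by
  rw [totalTopology_eq_fibTop F J hF]
  exact Iff.rfl

end Groth.Agent.Lib.Helper14.FibSite
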