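import Groth.Agent.Lib.Helper14.FibSite19

/-!
# Fibred sites: preservation of pullbacks via a cartesian natural transformation (helper14)
-/

set_option autoImplicit false

universe w v u v₃ u₃ v₂ u₂ v₁ u₁

open CategoryTheory CategoryTheory.Limits Opposite

namespace Groth.Agent.Lib.Helper14.FibSite

variable {𝒜 : Type u₁} [Category.{v₁} 𝒜] {ℬ : Type u₂} [Category.{v₂} ℬ]

/-- If `j : Θ ⟶ Ψ` is a cartesian natural transformation, `L` preserves pullbacks along the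
components of `j` and pullbacks of `Ψ`-cospans, then `L` preserves pullbacks of `Θ`-cospans. -/
theorem isPullback_map_of_cartesian (L : 𝒜 ⥤ ℬ) (Θ Ψ : 𝒜 ⥤ 𝒜) (j : Θ ⟶ Ψ)
    (hcart : ∀ {a b : 𝒜} (g : a ⟶ b), IsPullback (j.app a) (Θ.map g) (Ψ.map g) (j.app b))
    (hLj : ∀ {x y b : 𝒜} (p : x ⟶ y) (q : x ⟶ Θ.obj b) (t : y ⟶ Ψ.obj b),
      IsPullback p q t (j.app b) → IsPullback (L.map p) (L.map q) (L.map t) (L.map (j.app b)))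
    {b₀ b₁ b₂ P : 𝒜} (g₁ : b₁ ⟶ b₀) (g₂ : b₂ ⟶ b₀) (π₁ : P ⟶ b₁) (π₂ : P ⟶ b₂)
    (hP : IsPullback (Θ.map π₁) (Θ.map π₂) (Θ.map g₁) (Θ.map g₂))
    {PY : 𝒜} (q₁ : PY ⟶ Ψ.obj b₁) (q₂ : PY ⟶ Ψ.obj b₂)
    (sY : IsPullback q₁ q₂ (Ψ.map g₁) (Ψ.map g₂))
    (sYL : IsPullback (L.map q₁) (L.map q₂) (L.map (Ψ.map g₁)) (L.map (Ψ.map g₂))) :
    IsPullback (L.map (Θ.map π₁)) (L.map (Θ.map π₂)) (L.map (Θ.map g₁)) (L.map (Θ.map g₂)) := by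
  have s1 := hcart g₁
  have s2 := hcart g₂
  have hcomm : (Θ.map π₁ ≫ j.app b₁) ≫ Ψ.map g₁ = (Θ.map π₂ ≫ j.app b₂) ≫ Ψ.map g₂ := by
    rw [Category.assoc, Category.assoc, s1.w, s2.w, ← Category.assoc, ← Category.assoc, hP.w]
  let mP := sY.lift (Θ.map π₁ ≫ j.app b₁) (Θ.map π₂ ≫ j.app b₂) hcomm
  have h1 : Θ.map π₁ ≫ j.app b₁ = mP ≫ q₁ := (sY.lift_fst _ _ _).symm
  have h2 : Θ.map π₂ ≫ j.app b₂ = mP ≫ q₂ := (sY.lift_snd _ _ _).symm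
  have sP := isPullback_to_cartesian s1 s2 sY hP h1 h2
  have LsP := hLj mP (Θ.map π₁ ≫ Θ.map g₁) (q₁ ≫ Ψ.map g₁) sP
  rw [L.map_comp, L.map_comp] at LsP
  have Ls1 := hLj _ _ _ s1
  have Ls2 := hLj _ _ _ s2
  refine isPullback_of_cartesian Ls1 Ls2 sYL LsP ?_ ?_ ?_
  · rw [← L.map_comp, ← L.map_comp, h1]
  · rw [← L.map_comp, ← L.map_comp, h2]
  · rw [← L.map_comp, ← L.map_comp, hP.w]

end Groth.Agent.Lib.Helper14.FibSite
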