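import Groth.Agent.Lib.Helper14.FibSite20

/-!
# Fibred sites: the identity summand of `restr_S ∘ extend_S` is a cartesian coproduct injection
(helper14)
-/

set_option autoImplicit false

universe w v u v₃ u₃ v₂ u₂ v₁ u₁

open CategoryTheory CategoryTheory.Limits Opposite Pseudofunctor Pseudofunctor.CoGrothendieck

namespace Groth.Agent.Lib.Helper14.FibSite

section Small

variable {𝒮 : Type u} [SmallCategory 𝒮]
variable (F : Pseudofunctor (LocallyDiscrete 𝒮ᵒᵖ) Cat.{u, u}) (J : FibSite.Topologies F)

variable (S : 𝒮)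
  [(ι F S).IsContinuous (J S) (FibSite.totalTopology F J)]
  [((ι F S).sheafPushforwardContinuous (Type u) (J S)
    (FibSite.totalTopology F J)).IsRightAdjoint]
  [(ι F S).IsCocontinuous (J S) (FibSite.totalTopology F J)]
  [∀ (R S : 𝒮) (f : R ⟶ S), (FibSite.invImage F f).IsContinuous (J S) (J R)]
  [∀ (R S : 𝒮) (f : R ⟶ S),
    ((FibSite.invImage F f).sheafPushforwardContinuous (Type u) (J S) (J R)).IsRightAdjoint]

/-- `(f^*)_s` -/
noncomputable abbrev pullF (f : S ⟶ S) : Sheaf (J S) (Type u) ⥤ Sheaf (J S) (Type u) :=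
  (FibSite.invImage F f).sheafPullback (Type u) (J S) (J S)

/-- `restr_S ∘ extend_S` -/
noncomputable abbrev psiF : Sheaf (J S) (Type u) ⥤ Sheaf (J S) (Type u) :=
  FibSite.extend F J (Type u) S ⋙ FibSite.restr F J (Type u) S

/-- the injection of the summand `f` -/
noncomputable def injF (f : S ⟶ S) (a : Sheaf (J S) (Type u)) :
    (pullF F J S f).obj a ⟶ (psiF F J S).obj a :=
  (restrExtendCofan F J S S a).inj f

theorem injF_naturality (f : S ⟶ S) {a b : Sheaf (J S) (Type u)} (g : a ⟶ b) :
    (pullF F J S f).map g ≫ injF F J S f b = injF F J S f a ≫ (psiF F J S).map g :=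
  mateInj_naturality
    (L := FibSite.extend F J (Type u) S ⋙ FibSite.restr F J (Type u) S)
    (R := FibSite.coextend F J (Type u) S ⋙ FibSite.restr F J (Type u) S)
    (((ι F S).sheafAdjunctionContinuous (Type u) (J S) (FibSite.totalTopology F J)).comp
      ((ι F S).sheafAdjunctionCocontinuous (Type u) (J S) (FibSite.totalTopology F J)))
    (fun f : S ⟶ S => (FibSite.invImage F f).sheafAdjunctionContinuous (Type u) (J S) (J S))
    (fun f : S ⟶ S => coextendRestrProj F J S S f) g f

/-- the natural transformation `(id^*)_s ⟶ restr ∘ extend` -/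
noncomputable def jNat : pullF F J S (𝟙 S) ⟶ psiF F J S where
  app a := injF F J S (𝟙 S) a
  naturality _ _ g := injF_naturality F J S (𝟙 S) g

/-- the complement of the identity summand -/
noncomputable abbrev compl (a : Sheaf (J S) (Type u)) : Sheaf (J S) (Type u) :=
  ∐ (fun f : {f : S ⟶ S // f ≠ 𝟙 S} => (pullF F J S f.1).obj a)

noncomputable def complInr (a : Sheaf (J S) (Type u)) : compl F J S a ⟶ (psiF F J S).obj a :=
  Sigma.desc (fun f : {f : S ⟶ S // f ≠ 𝟙 S} => injF F J S f.1 a)

noncomputable def complMap {a b : Sheaf (J S) (Type u)} (g : a ⟶ b) :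
    compl F J S a ⟶ compl F J S b :=
  Limits.Sigma.map (fun f : {f : S ⟶ S // f ≠ 𝟙 S} => (pullF F J S f.1).map g)

theorem complInr_naturality {a b : Sheaf (J S) (Type u)} (g : a ⟶ b) :
    complMap F J S g ≫ complInr F J S b = complInr F J S a ≫ (psiF F J S).map g := by
  apply Limits.Sigma.hom_ext
  intro f
  unfold complMap complInr
  rw [← Category.assoc, Limits.Sigma.ι_map, Category.assoc, Limits.Sigma.ι_desc,
    ← Category.assoc, Limits.Sigma.ι_desc]
  exact injF_naturality F J S f.1 g

/-- the binary cofan `(id^*)_s a ⟶ restr (extend a) ⟵ compl a` is a coproduct -/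
noncomputable def isColimitBinaryCofan (a : Sheaf (J S) (Type u)) :
    IsColimit (BinaryCofan.mk ((jNat F J S).app a) (complInr F J S a)) :=
  isColimitBinaryCofanOfCofan (restrExtendCofan F J S S a) (restrExtendCofanIsColimit F J S S a)
    (𝟙 S) _ (coproductIsCoproduct _)

theorem isPullback_jNat {a b : Sheaf (J S) (Type u)} (g : a ⟶ b) :
    IsPullback ((jNat F J S).app a) ((pullF F J S (𝟙 S)).map g) ((psiF F J S).map g)
      ((jNat F J S).app b) := by
  have hvk := FinitaryExtensive.vanKampen _ (isColimitBinaryCofan F J S b)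
  have h := (BinaryCofan.isVanKampen_iff _).1 hvk
    (BinaryCofan.mk ((jNat F J S).app a) (complInr F J S a))
    ((pullF F J S (𝟙 S)).map g) (complMap F J S g) ((psiF F J S).map g)
    ((jNat F J S).naturality g) (complInr_naturality F J S g)
  exact (h.1 ⟨isColimitBinaryCofan F J S a⟩).1

end Small

end Groth.Agent.Lib.Helper14.FibSite
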