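import Groth.Agent.Lib.Helper14.FibSite21

/-!
# Fibred sites: `(id^*)_s ≅ 𝟭` (helper14)
-/

set_option autoImplicit false

universe w v u v₃ u₃ v₂ u₂ v₁ u₁

open CategoryTheory CategoryTheory.Limits Opposite Pseudofunctor Pseudofunctor.CoGrothendieck

namespace Groth.Agent.Lib.Helper14.FibSite

section Small

variable {𝒮 : Type u} [SmallCategory 𝒮]
variable (F : Pseudofunctor (LocallyDiscrete 𝒮ᵒᵖ) Cat.{u, u}) (J : FibSite.Topologies F)

variable (S : 𝒮)

/-- `id^* ≅ 𝟭` -/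
def invImageIdIso : FibSite.invImage F (𝟙 S) ≅ 𝟭 (F.obj ⟨op S⟩) :=
  Cat.Hom.toNatIso (F.mapId ⟨op S⟩)

variable
  [(FibSite.invImage F (𝟙 S)).IsContinuous (J S) (J S)]
  [((FibSite.invImage F (𝟙 S)).sheafPushforwardContinuous (Type u) (J S) (J S)).IsRightAdjoint]

/-- `(id^*)_s ≅ 𝟭` -/
noncomputable def pullFIdIso :
    (FibSite.invImage F (𝟙 S)).sheafPullback (Type u) (J S) (J S) ≅ 𝟭 _ :=
  ((FibSite.invImage F (𝟙 S)).sheafAdjunctionContinuous (Type u) (J S) (J S)).leftAdjointUniq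
    (Adjunction.id.ofNatIsoRight
      (Functor.sheafPushforwardContinuousId' (invImageIdIso F S) (Type u) (J S)).symm)

end Small

end Groth.Agent.Lib.Helper14.FibSite
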