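import Groth.Agent.Lib.Helper14.FibSite22
import Groth.Agent.Lib.Helper14.FibSite16
import Mathlib.CategoryTheory.Sites.Limits

/-!
# Fibred sites: continuity of the fibre functors of a cartesian morphism of total sites (helper14)
-/

set_option autoImplicit false

universe w v u v₃ u₃ v₂ u₂ v₁ u₁

open CategoryTheory CategoryTheory.Limits Opposite Pseudofunctor Pseudofunctor.CoGrothendieck
open scoped CategoryTheory.Pseudofunctor.StrongTrans

namespace Groth.Agent.Lib.Helper14.FibSite

theorem isSheaf_of_isPullback {C : Type u₁} [Category.{v₁} C] (J : GrothendieckTopology C)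
    {P A B D : Cᵒᵖ ⥤ Type w}
    {fst : P ⟶ A} {snd : P ⟶ B} {f : A ⟶ D} {g : B ⟶ D} (sq : IsPullback fst snd f g)
    (hA : Presheaf.IsSheaf J A) (hB : Presheaf.IsSheaf J B) (hD : Presheaf.IsSheaf J D) :
    Presheaf.IsSheaf J P := by
  let A' : Sheaf J (Type w) := ⟨A, hA⟩
  let B' : Sheaf J (Type w) := ⟨B, hB⟩
  let D' : Sheaf J (Type w) := ⟨D, hD⟩
  let f' : A' ⟶ D' := ⟨f⟩
  let g' : B' ⟶ D' := ⟨g⟩
  have sq' := (IsPullback.of_hasPullback f' g').map (sheafToPresheaf J (Type w))
  exact (Presheaf.isSheaf_of_iso_iff (sq.isoIsPullback _ _ sq')).2 (pullback f' g').property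

section Small

variable {𝒮 : Type u} [SmallCategory 𝒮]
variable {F G : Pseudofunctor (LocallyDiscrete 𝒮ᵒᵖ) Cat.{u, u}} (J : FibSite.Topologies F)
  (K : FibSite.Topologies G) (α : G ⟶ F) (S : 𝒮)

section A

variable [(CoGrothendieck.map α).IsContinuous (FibSite.totalTopology G K)
    (FibSite.totalTopology F J)]
  [(ι F S).IsContinuous (J S) (FibSite.totalTopology F J)]
  [(ι G S).IsContinuous (K S) (FibSite.totalTopology G K)]

/-- `α_S^p` of the restriction of a sheaf on the total site of `F` is a sheaf. -/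
theorem isSheaf_app_op_comp_restr (T : FibSite.TotSh F J (Type u)) :
    Presheaf.IsSheaf (K S) ((α.app ⟨op S⟩).toFunctor.op ⋙
      ((FibSite.restr F J (Type u) S).obj T).obj) := by
  have h := ((FibSite.restr G K (Type u) S).obj
    (((CoGrothendieck.map α).sheafPushforwardContinuous (Type u)
      (FibSite.totalTopology G K) (FibSite.totalTopology F J)).obj T)).property
  refine (Presheaf.isSheaf_of_iso_iff ?_).1 h
  exact Functor.isoWhiskerRight (NatIso.op (ιCompMapIso α S)).symm T.obj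

end A

section B

variable [(CoGrothendieck.map α).IsContinuous (FibSite.totalTopology G K)
    (FibSite.totalTopology F J)]
  [(ι G S).IsContinuous (K S) (FibSite.totalTopology G K)]
  [(ι F S).IsContinuous (J S) (FibSite.totalTopology F J)]
  [((ι F S).sheafPushforwardContinuous (Type u) (J S)
    (FibSite.totalTopology F J)).IsRightAdjoint]
  [(ι F S).IsCocontinuous (J S) (FibSite.totalTopology F J)]
  [∀ (R S : 𝒮) (f : R ⟶ S), (FibSite.invImage F f).IsContinuous (J S) (J R)]
  [∀ (R S : 𝒮) (f : R ⟶ S),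
    ((FibSite.invImage F f).sheafPushforwardContinuous (Type u) (J S) (J R)).IsRightAdjoint]

include J K in
theorem isContinuous_app : (α.app ⟨op S⟩).toFunctor.IsContinuous (K S) (J S) := by
  constructor
  intro P
  rw [← isSheaf_iff_isSheaf_of_type]
  let Φ : Sheaf (J S) (Type u) ⥤ ((G.obj ⟨op S⟩)ᵒᵖ ⥤ Type u) :=
    sheafToPresheaf _ _ ⋙ (Functor.whiskeringLeft _ _ _).obj (α.app ⟨op S⟩).toFunctor.op
  have sq := (isPullback_jNat F J S (terminal.from P)).map Φ
  have hA : Presheaf.IsSheaf (K S) (Φ.obj ((psiF F J S).obj P)) :=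
    isSheaf_app_op_comp_restr J K α S ((FibSite.extend F J (Type u) S).obj P)
  have hD : Presheaf.IsSheaf (K S) (Φ.obj ((psiF F J S).obj (⊤_ _))) :=
    isSheaf_app_op_comp_restr J K α S ((FibSite.extend F J (Type u) S).obj (⊤_ _))
  have hB : Presheaf.IsSheaf (K S) (Φ.obj ((pullF F J S (𝟙 S)).obj (⊤_ _))) := by
    have e1 : (pullF F J S (𝟙 S)).obj (⊤_ _) ≅ ⊤_ _ := (pullFIdIso F J S).app (⊤_ _)
    have e2 : (FibSite.restr F J (Type u) S).obj (⊤_ _) ≅ ⊤_ _ :=
      PreservesTerminal.iso (FibSite.restr F J (Type u) S)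
    refine (Presheaf.isSheaf_of_iso_iff (Φ.mapIso (e1 ≪≫ e2.symm))).2 ?_
    exact isSheaf_app_op_comp_restr J K α S (⊤_ _)
  have hP := isSheaf_of_isPullback (K S) sq hA hB hD
  exact (Presheaf.isSheaf_of_iso_iff (Φ.mapIso ((pullFIdIso F J S).app P))).1 hP

end B

end Small

end Groth.Agent.Lib.Helper14.FibSite
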