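import Groth.Agent.Lib.Helper14.FibSite23
import Mathlib.CategoryTheory.Limits.Constructions.LimitsOfProductsAndEqualizers

/-!
# Fibred sites: left exactness of the inverse image along the fibre functors of a cartesian
morphism of total sites (helper14)
-/

set_option autoImplicit false

universe w v u v₃ u₃ v₂ u₂ v₁ u₁

open CategoryTheory CategoryTheory.Limits Opposite Pseudofunctor Pseudofunctor.CoGrothendieck
open scoped CategoryTheory.Pseudofunctor.StrongTrans

namespace Groth.Agent.Lib.Helper14.FibSite

section Small

variable {𝒮 : Type u} [SmallCategory 𝒮]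
variable {F G : Pseudofunctor (LocallyDiscrete 𝒮ᵒᵖ) Cat.{u, u}} (J : FibSite.Topologies F)
  (K : FibSite.Topologies G) (α : G ⟶ F) (S : 𝒮)

variable [(CoGrothendieck.map α).IsContinuous (FibSite.totalTopology G K)
    (FibSite.totalTopology F J)]
  [(ι F S).IsContinuous (J S) (FibSite.totalTopology F J)]
  [(ι F S).IsCocontinuous (J S) (FibSite.totalTopology F J)]
  [(ι G S).IsContinuous (K S) (FibSite.totalTopology G K)]
  [(ι G S).IsCocontinuous (K S) (FibSite.totalTopology G K)]
  [((ι G S).sheafPushforwardContinuous (Type u) (K S)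
    (FibSite.totalTopology G K)).IsRightAdjoint]
  [(α.app ⟨op S⟩).toFunctor.IsContinuous (K S) (J S)]
  [((CoGrothendieck.map α).sheafPushforwardContinuous (Type u)
    (FibSite.totalTopology G K) (FibSite.totalTopology F J)).IsRightAdjoint]
  [((α.app ⟨op S⟩).toFunctor.sheafPushforwardContinuous (Type u) (K S) (J S)).IsRightAdjoint]
  [∀ (R S : 𝒮) (f : R ⟶ S), (FibSite.invImage G f).IsContinuous (K S) (K R)]
  [∀ (R S : 𝒮) (f : R ⟶ S),
    ((FibSite.invImage G f).sheafPushforwardContinuous (Type u) (K S) (K R)).IsRightAdjoint]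
  [PreservesFiniteLimits ((CoGrothendieck.map α).sheafPullback (Type u)
    (FibSite.totalTopology G K) (FibSite.totalTopology F J))]

include J K in
theorem preservesFiniteLimits_restr_comp_pullback_app :
    PreservesFiniteLimits (FibSite.restr G K (Type u) S ⋙
      (α.app ⟨op S⟩).toFunctor.sheafPullback (Type u) (K S) (J S)) := by
  have h1 : PreservesFiniteLimits (FibSite.restr F J (Type u) S) := inferInstance
  have h2 : PreservesFiniteLimits ((CoGrothendieck.map α).sheafPullback (Type u)
    (FibSite.totalTopology G K) (FibSite.totalTopology F J) ⋙ FibSite.restr F J (Type u) S) :=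
    comp_preservesFiniteLimits _ _
  exact preservesFiniteLimits_of_natIso (pullbackRestrIso J K α S)

include J K in
theorem preservesTerminal_pullback_app :
    PreservesLimitsOfShape (Discrete.{0} PEmpty)
      ((α.app ⟨op S⟩).toFunctor.sheafPullback (Type u) (K S) (J S)) := by
  have h := preservesFiniteLimits_restr_comp_pullback_app J K α S
  have e2 : (FibSite.restr G K (Type u) S).obj (⊤_ _) ≅ ⊤_ _ :=
    PreservesTerminal.iso (FibSite.restr G K (Type u) S)
  have h' : PreservesLimit (Functor.empty.{0} _) (FibSite.restr G K (Type u) S ⋙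
      (α.app ⟨op S⟩).toFunctor.sheafPullback (Type u) (K S) (J S)) :=
    (h.preservesFiniteLimits (Discrete.{0} PEmpty)).preservesLimit
  have e3 : (FibSite.restr G K (Type u) S ⋙
      (α.app ⟨op S⟩).toFunctor.sheafPullback (Type u) (K S) (J S)).obj (⊤_ _) ≅ ⊤_ _ :=
    PreservesTerminal.iso _
  have := preservesTerminal_of_iso _
    ((((α.app ⟨op S⟩).toFunctor.sheafPullback (Type u) (K S) (J S)).mapIso e2.symm) ≪≫ e3)
  exact preservesLimitsOfShape_pempty_of_preservesTerminal _

include J in
theorem preservesPullbacks_pullback_app :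
    PreservesLimitsOfShape WalkingCospan
      ((α.app ⟨op S⟩).toFunctor.sheafPullback (Type u) (K S) (J S)) := by
  let L := (α.app ⟨op S⟩).toFunctor.sheafPullback (Type u) (K S) (J S)
  let Θ := pullF G K S (𝟙 S)
  let Ψ := psiF G K S
  let E := FibSite.extend G K (Type u) S
  let Rr := FibSite.restr G K (Type u) S
  have hRL := preservesFiniteLimits_restr_comp_pullback_app J K α S
  have hΘ : PreservesLimitsOfShape WalkingCospan Θ :=
    preservesLimitsOfShape_of_natIso (pullFIdIso G K S).symm
  have hLcolim : PreservesColimitsOfShape (Discrete WalkingPair) L :=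
    (((α.app ⟨op S⟩).toFunctor.sheafAdjunctionContinuous (Type u) (K S)
      (J S)).leftAdjoint_preservesColimits).preservesColimitsOfShape
  have hpb : HasPullbacks (Sheaf (FibSite.totalTopology G K) (Type u)) := inferInstance
  have key : PreservesLimitsOfShape WalkingCospan (Θ ⋙ L) := by
    apply Limits.preservesLimitsOfShape_walkingCospan_of_forall_isPullback
    intro b₁ b₂ b₀ g₁ g₂ _
    refine ⟨pullback g₁ g₂, pullback.fst g₁ g₂, pullback.snd g₁ g₂,
      IsPullback.of_hasPullback g₁ g₂, ?_⟩
    have hP := (IsPullback.of_hasPullback g₁ g₂).map Θ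
    have hlim : HasLimit (cospan (E.map g₁) (E.map g₂)) := hpb.has_limit _
    have sY := (IsPullback.of_hasPullback (E.map g₁) (E.map g₂)).map Rr
    have hpl : PreservesLimit (cospan (E.map g₁) (E.map g₂)) (Rr ⋙ L) :=
      (hRL.preservesFiniteLimits WalkingCospan).preservesLimit
    have sYL := (IsPullback.of_hasPullback (E.map g₁) (E.map g₂)).map (Rr ⋙ L)
    exact isPullback_map_of_cartesian L Θ Ψ (jNat G K S) (fun g => isPullback_jNat G K S g)
      (fun {x y b} p q t sq => isPullback_map_of_isColimit_binaryCofan L
        (BinaryCofan.mk ((jNat G K S).app b) (complInr G K S b))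
        (isColimitBinaryCofan G K S b) sq)
      g₁ g₂ _ _ hP _ _ sY sYL
  exact preservesLimitsOfShape_of_natIso
    (Functor.isoWhiskerRight (pullFIdIso G K S) L ≪≫ L.leftUnitor)

include J in
theorem preservesFiniteLimits_pullback_app :
    PreservesFiniteLimits
      ((α.app ⟨op S⟩).toFunctor.sheafPullback (Type u) (K S) (J S)) := by
  have h1 := preservesTerminal_pullback_app J K α S
  have h2 := preservesPullbacks_pullback_app J K α S
  exact preservesFiniteLimits_of_preservesTerminal_and_pullbacks _

end Small

end Groth.Agent.Lib.Helper14.FibSite
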