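import Groth.Agent.Lib.Helper14.FibSite2
import Mathlib.CategoryTheory.Sites.ConcreteSheafification
import Mathlib.CategoryTheory.Sites.Continuous

/-!
# Fibred sites: the fibre inclusions are continuous for the total topology (helper14)
-/

set_option autoImplicit false

universe w v u v₃ u₃ v₂ u₂ v₁ u₁

open CategoryTheory CategoryTheory.Limits Opposite Pseudofunctor Pseudofunctor.CoGrothendieck

namespace Groth.Agent.Lib.Helper14.FibSite

/-- A separated presheaf of (large enough) types embeds into a sheaf (its plus construction). -/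
theorem exists_sheaf_of_separated {C : Type u} [Category.{v} C] (J : GrothendieckTopology C)
    (P : Cᵒᵖ ⥤ Type (max u v w)) (hP : Presieve.IsSeparated J P) :
    ∃ (Q : Cᵒᵖ ⥤ Type (max u v w)) (η : P ⟶ Q), Presieve.IsSheaf J Q ∧
      ∀ X : C, Function.Injective (η.app (op X)) := by
  have hsep : ∀ (X : C) (S : J.Cover X) (x y : ToType (P.obj (op X))),
      (∀ I : S.Arrow, P.map I.f.op x = P.map I.f.op y) → x = y := by
    intro X S x y h
    exact (hP S.1 S.2).ext (fun Y f hf => h ⟨Y, f, hf⟩)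
  refine ⟨J.plusObj P, J.toPlus P, ?_, ?_⟩
  · rw [← isSheaf_iff_isSheaf_of_type]
    exact GrothendieckTopology.Plus.isSheaf_of_sep P hsep
  · intro X
    exact GrothendieckTopology.Plus.inj_of_sep P hsep X

variable {𝒮 : Type u₁} [Category.{v₁} 𝒮]
variable (F : Pseudofunctor (LocallyDiscrete 𝒮ᵒᵖ) Cat.{v₂, u₂}) (J : FibSite.Topologies F)

/-- Lemma A: the restriction to a fibre of a separated presheaf on the total site is separated. -/
theorem isSeparated_restrict {P : (∫ᶜ F)ᵒᵖ ⥤ Type w}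
    (hP : Presieve.IsSeparated (FibSite.totalTopology F J) P) (T : 𝒮) :
    Presieve.IsSeparated (J T) ((ι F T).op ⋙ P) := by
  intro W R hR x t₁ t₂ h₁ h₂
  refine (hP _ (FibSite.functorPushforward_mem_totalTopology hR)).ext ?_
  rintro Z g ⟨V, f, a, hf, rfl⟩
  have e : P.map ((ι F T).map f).op t₁ = P.map ((ι F T).map f).op t₂ :=
    (h₁ f hf).trans (h₂ f hf).symm
  rw [op_comp, P.map_comp]
  exact congrArg (P.map a.op) e

/-- Lemma B: the key compatibility. -/
theorem map_mk_eq_of_compatible (hF : FibSite.IsPreFibSite F J)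
    {P : (∫ᶜ F)ᵒᵖ ⥤ Type (max u₂ v₂ w)}
    (hP : Presieve.IsSeparated (FibSite.totalTopology F J) P)
    {S T : 𝒮} {U : F.obj ⟨op S⟩} (R : Sieve U) (hR : R ∈ J S U)
    (x : Presieve.FamilyOfElements ((ι F S).op ⋙ P) R.arrows) (hx : x.Compatible)
    (t : T ⟶ S) {W : F.obj ⟨op T⟩} {V₁ V₂ : F.obj ⟨op S⟩} (f₁ : V₁ ⟶ U) (f₂ : V₂ ⟶ U)
    (h₁ : R f₁) (h₂ : R f₂)
    (φ₁ : W ⟶ (FibSite.invImage F t).obj V₁) (φ₂ : W ⟶ (FibSite.invImage F t).obj V₂)
    (e : φ₁ ≫ (FibSite.invImage F t).map f₁ = φ₂ ≫ (FibSite.invImage F t).map f₂) :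
    P.map (mk t φ₁).op (x f₁ h₁) = P.map (mk t φ₂).op (x f₂ h₂) := by
  obtain ⟨Q, η, hQ, hη⟩ := exists_sheaf_of_separated.{w} (J T) ((ι F T).op ⋙ P)
    (isSeparated_restrict F J hP T)
  have := hF t
  have hGQ : Presieve.IsSheaf (J S) ((FibSite.invImage F t).op ⋙ Q) :=
    Functor.op_comp_isSheaf_of_types (FibSite.invImage F t) (J S) (J T)
      ⟨Q, (isSheaf_iff_isSheaf_of_type _ _).2 hQ⟩
  -- the family `m`
  let m : Presieve.FamilyOfElements ((FibSite.invImage F t).op ⋙ Q) R.arrows :=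
    fun V f hf => η.app (op ((FibSite.invImage F t).obj V))
      (P.map (mk t (𝟙 ((FibSite.invImage F t).obj V))).op (x f hf))
  have key : ∀ {V : F.obj ⟨op S⟩} (f : V ⟶ U) (hf : R f) {W' : F.obj ⟨op T⟩}
      (φ : W' ⟶ (FibSite.invImage F t).obj V),
      η.app (op W') (P.map (mk t φ).op (x f hf)) = Q.map φ.op (m f hf) := by
    intro V f hf W' φ
    have h1 : mk t φ = (ι F T).map φ ≫ mk t (𝟙 ((FibSite.invImage F t).obj V)) := by
      rw [ι_comp_mk, Category.comp_id]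
    have h2 := NatTrans.naturality_apply η φ.op
      (P.map (mk t (𝟙 ((FibSite.invImage F t).obj V))).op (x f hf))
    rw [h1, op_comp, P.map_comp]
    exact h2
  have hm : m.Compatible := by
    rw [Presieve.compatible_iff_sieveCompatible]
    intro V V' f g hf
    have hxc := (Presieve.compatible_iff_sieveCompatible _).1 hx f g hf
    change η.app _ (P.map _ (x (g ≫ f) _)) = Q.map ((FibSite.invImage F t).map g).op (m f hf)
    rw [← key f hf, hxc]
    change η.app _ (P.map _ (P.map ((ι F S).map g).op (x f hf))) = _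
    rw [← Functor.map_comp_apply, ← op_comp, mk_comp_ι, Category.id_comp]
  have hs := (hGQ R hR).isAmalgamation hm
  set s := (hGQ R hR).amalgamate m hm with hs_def
  apply hη
  rw [key f₁ h₁ φ₁, key f₂ h₂ φ₂, ← hs f₁ h₁, ← hs f₂ h₂]
  change Q.map φ₁.op (Q.map ((FibSite.invImage F t).map f₁).op s) =
    Q.map φ₂.op (Q.map ((FibSite.invImage F t).map f₂).op s)
  rw [← Functor.map_comp_apply, ← Functor.map_comp_apply, ← op_comp, ← op_comp, e]

theorem map_mk_eq_of_compatible' (hF : FibSite.IsPreFibSite F J)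
    {P : (∫ᶜ F)ᵒᵖ ⥤ Type (max u₂ v₂ w)}
    (hP : Presieve.IsSeparated (FibSite.totalTopology F J) P)
    {S T : 𝒮} {U : F.obj ⟨op S⟩} (R : Sieve U) (hR : R ∈ J S U)
    (x : Presieve.FamilyOfElements ((ι F S).op ⋙ P) R.arrows) (hx : x.Compatible)
    {V₁ V₂ : F.obj ⟨op S⟩} (f₁ : V₁ ⟶ U) (f₂ : V₂ ⟶ U) (h₁ : R f₁) (h₂ : R f₂)
    {W : F.obj ⟨op T⟩} (t₁ t₂ : T ⟶ S)
    (φ₁ : W ⟶ (FibSite.invImage F t₁).obj V₁) (φ₂ : W ⟶ (FibSite.invImage F t₂).obj V₂)
    (e : mk t₁ φ₁ ≫ (ι F S).map f₁ = mk t₂ φ₂ ≫ (ι F S).map f₂) :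
    P.map (mk t₁ φ₁).op (x f₁ h₁) = P.map (mk t₂ φ₂).op (x f₂ h₂) := by
  rw [mk_comp_ι, mk_comp_ι] at e
  have hb : t₁ = t₂ := congrArg Hom.base e
  subst hb
  have hf : φ₁ ≫ (FibSite.invImage F t₁).map f₁ = φ₂ ≫ (FibSite.invImage F t₁).map f₂ := by
    have := (Hom.ext_iff _ _).1 e
    obtain ⟨_, h2⟩ := this
    simp only [eqToHom_refl, Category.comp_id] at h2
    exact h2
  exact map_mk_eq_of_compatible F J hF hP R hR x hx t₁ f₁ f₂ h₁ h₂ φ₁ φ₂ hf

/-- Lemma B', in the form used for the pushed-forward family. -/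
theorem map_comp_eq_of_compatible (hF : FibSite.IsPreFibSite F J)
    {P : (∫ᶜ F)ᵒᵖ ⥤ Type (max u₂ v₂ w)}
    (hP : Presieve.IsSeparated (FibSite.totalTopology F J) P)
    {S : 𝒮} {U : F.obj ⟨op S⟩} (R : Sieve U) (hR : R ∈ J S U)
    (x : Presieve.FamilyOfElements ((ι F S).op ⋙ P) R.arrows) (hx : x.Compatible)
    {V₁ V₂ : F.obj ⟨op S⟩} (f₁ : V₁ ⟶ U) (f₂ : V₂ ⟶ U) (h₁ : R f₁) (h₂ : R f₂)
    (Z : ∫ᶜ F) (a₁ : Z ⟶ (ι F S).obj V₁) (a₂ : Z ⟶ (ι F S).obj V₂)
    (e : a₁ ≫ (ι F S).map f₁ = a₂ ≫ (ι F S).map f₂) :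
    P.map a₁.op (x f₁ h₁) = P.map a₂.op (x f₂ h₂) := by
  obtain ⟨T, W⟩ := Z
  obtain ⟨t₁, φ₁⟩ := a₁
  obtain ⟨t₂, φ₂⟩ := a₂
  exact map_mk_eq_of_compatible' F J hF hP R hR x hx f₁ f₂ h₁ h₂ t₁ t₂ φ₁ φ₂ e

/-- Lemma C: the restriction to a fibre of a sheaf for the total topology is a sheaf. -/
theorem isSheaf_restrict (hF : FibSite.IsPreFibSite F J)
    {P : (∫ᶜ F)ᵒᵖ ⥤ Type (max u₂ v₂ w)}
    (hP : Presieve.IsSheaf (FibSite.totalTopology F J) P) (S : 𝒮) :
    Presieve.IsSheaf (J S) ((ι F S).op ⋙ P) := by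
  have hPsep : Presieve.IsSeparated (FibSite.totalTopology F J) P := hP.isSeparated
  intro U R hR
  rw [← Presieve.isSeparatedFor_and_exists_isAmalgamation_iff_isSheafFor]
  refine ⟨isSeparated_restrict F J hPsep S R hR, ?_⟩
  intro x hx
  have hy : (x.functorPushforward (ι F S)).Compatible := by
    rintro Z₁ Z₂ Z g₁ g₂ f₁' f₂' H₁ H₂ eq
    unfold Presieve.FamilyOfElements.functorPushforward
    rcases Presieve.getFunctorPushforwardStructure H₁ with ⟨X₁, f₁, h₁, hf₁, rfl⟩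
    rcases Presieve.getFunctorPushforwardStructure H₂ with ⟨X₂, f₂, h₂, hf₂, rfl⟩
    suffices P.map (g₁ ≫ h₁).op (x f₁ hf₁) = P.map (g₂ ≫ h₂).op (x f₂ hf₂) by
      simpa using this
    apply map_comp_eq_of_compatible F J hF hPsep R hR x hx f₁ f₂ hf₁ hf₂
    simpa using eq
  have hcov := FibSite.functorPushforward_mem_totalTopology (F := F) (J := J) hR
  have hs := (hP _ hcov).isAmalgamation hy
  refine ⟨(hP _ hcov).amalgamate _ hy, ?_⟩
  intro V f hf
  have h1 := hs ((ι F S).map f) (Presieve.image_mem_functorPushforward (ι F S) R.arrows hf)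
  refine h1.trans ?_
  unfold Presieve.FamilyOfElements.functorPushforward
  rcases Presieve.getFunctorPushforwardStructure
    (Presieve.image_mem_functorPushforward (ι F S) R.arrows hf) with ⟨X, g, f', hg, eq⟩
  have := map_comp_eq_of_compatible F J hF hPsep R hR x hx g f hg hf _ f' (𝟙 _)
    (by simp [eq])
  simpa using this

/-- The fibre inclusions are continuous for the total topology. -/
theorem isContinuous_ι (hF : FibSite.IsPreFibSite F J) (S : 𝒮) :
    (ι F S).IsContinuous (J S) (FibSite.totalTopology F J) where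
  op_comp_isSheaf_of_types G :=
    isSheaf_restrict.{max u₁ v₁} F J hF ((isSheaf_iff_isSheaf_of_type _ _).1 G.2) S

/-- The restriction to a fibre of a sheaf (any coefficients) for the total topology is a sheaf. -/
theorem presheafIsSheaf_restrict (hF : FibSite.IsPreFibSite F J)
    {A : Type u₃} [Category.{v₃} A] {P : (∫ᶜ F)ᵒᵖ ⥤ A}
    (hP : Presheaf.IsSheaf (FibSite.totalTopology F J) P) (S : 𝒮) :
    Presheaf.IsSheaf (J S) ((ι F S).op ⋙ P) :=
  have := isContinuous_ι F J hF S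
  Functor.op_comp_isSheaf_of_isSheaf (ι F S) (J S) (FibSite.totalTopology F J) P hP

end Groth.Agent.Lib.Helper14.FibSite
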