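import Groth.Agent.Lib.Helper14.FibSite3

/-!
# Fibred sites: sheaves for the total topology are the presheaves whose restrictions to the
fibres are sheaves (helper14)
-/

set_option autoImplicit false

universe w v u v₃ u₃ v₂ u₂ v₁ u₁

open CategoryTheory CategoryTheory.Limits Opposite Pseudofunctor Pseudofunctor.CoGrothendieck

namespace Groth.Agent.Lib.Helper14.FibSite

theorem isSeparatedFor_of_le {C : Type u} [Category.{v} C] {X : C} (P : Cᵒᵖ ⥤ Type w)
    {R R' : Presieve X} (h : R ≤ R') (hR : Presieve.IsSeparatedFor P R) :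
    Presieve.IsSeparatedFor P R' := by
  intro x t₁ t₂ h₁ h₂
  exact hR (x.restrict h) t₁ t₂ (Presieve.isAmalgamation_restrict h x t₁ h₁)
    (Presieve.isAmalgamation_restrict h x t₂ h₂)

variable {𝒮 : Type u₁} [Category.{v₁} 𝒮]
variable (F : Pseudofunctor (LocallyDiscrete 𝒮ᵒᵖ) Cat.{v₂, u₂}) (J : FibSite.Topologies F)

/-- Step 1: a presheaf whose restriction to the fibre over `S` is a sheaf satisfies the sheaf
condition for the image of a covering sieve of the fibre. -/
theorem isSheafFor_functorPushforward {P : (∫ᶜ F)ᵒᵖ ⥤ Type w} {S : 𝒮}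
    (hP : Presieve.IsSheaf (J S) ((ι F S).op ⋙ P)) {U : F.obj ⟨op S⟩} (R : Sieve U)
    (hR : R ∈ J S U) :
    Presieve.IsSheafFor P (Sieve.functorPushforward (ι F S) R).arrows := by
  rw [← Presieve.isSeparatedFor_and_exists_isAmalgamation_iff_isSheafFor]
  constructor
  · intro x t₁ t₂ h₁ h₂
    refine (hP R hR).isSeparatedFor.ext ?_
    intro V f hf
    have hm := Presieve.image_mem_functorPushforward (ι F S) R.arrows hf
    exact (h₁ _ hm).trans (h₂ _ hm).symm
  · intro x hx
    let x' : Presieve.FamilyOfElements ((ι F S).op ⋙ P) R.arrows :=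
      fun V f hf => x ((ι F S).map f) (Presieve.image_mem_functorPushforward (ι F S) R.arrows hf)
    have hx' : x'.Compatible := by
      intro V₁ V₂ V g₁ g₂ f₁ f₂ h₁ h₂ eq
      exact hx ((ι F S).map g₁) ((ι F S).map g₂) _ _
        (by rw [← Functor.map_comp, ← Functor.map_comp, eq])
    have hs := (hP R hR).isAmalgamation hx'
    refine ⟨(hP R hR).amalgamate x' hx', ?_⟩
    rintro Z g ⟨V, f, a, hf, rfl⟩
    have h1 : P.map ((ι F S).map f).op ((hP R hR).amalgamate x' hx') = x' f hf := hs f hf
    have h2 := (Presieve.compatible_iff_sieveCompatible _).1 hx ((ι F S).map f) a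
      (Presieve.image_mem_functorPushforward (ι F S) R.arrows hf)
    rw [op_comp, P.map_comp]
    change P.map a.op (P.map ((ι F S).map f).op _) = _
    rw [h1]
    exact h2.symm

/-- Step 2: such a presheaf is separated for the total topology. -/
theorem isSeparated_of_forall_restrict (hF : FibSite.IsPreFibSite F J)
    {P : (∫ᶜ F)ᵒᵖ ⥤ Type w}
    (hP : ∀ S : 𝒮, Presieve.IsSheaf (J S) ((ι F S).op ⋙ P)) :
    Presieve.IsSeparated (FibSite.totalTopology F J) P := by
  rintro ⟨S₀, U⟩ S hS
  obtain ⟨R, hR, hRS⟩ := (mem_totalTopology_iff F J hF _ S).1 hS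
  exact isSeparatedFor_of_le P hRS
    (isSheafFor_functorPushforward F J (hP S₀) R hR).isSeparatedFor

/-- Step 3: such a presheaf is a sheaf for the total topology. -/
theorem isSheaf_of_forall_restrict (hF : FibSite.IsPreFibSite F J)
    {P : (∫ᶜ F)ᵒᵖ ⥤ Type w}
    (hP : ∀ S : 𝒮, Presieve.IsSheaf (J S) ((ι F S).op ⋙ P)) :
    Presieve.IsSheaf (FibSite.totalTopology F J) P := by
  have hsep := isSeparated_of_forall_restrict F J hF hP
  rintro ⟨S₀, U⟩ S hS
  obtain ⟨R, hR, hRS⟩ := (mem_totalTopology_iff F J hF _ S).1 hS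
  refine Presieve.isSheafFor_subsieve_aux P hRS
    (isSheafFor_functorPushforward F J (hP S₀) R hR) ?_
  intro Y f _
  exact hsep _ ((FibSite.totalTopology F J).pullback_stable f
    (FibSite.functorPushforward_mem_totalTopology hR))

theorem isSheaf_totalTopology_iff_types (hF : FibSite.IsPreFibSite F J)
    (P : (∫ᶜ F)ᵒᵖ ⥤ Type w) :
    Presieve.IsSheaf (FibSite.totalTopology F J) P ↔
      ∀ S : 𝒮, Presieve.IsSheaf (J S) ((ι F S).op ⋙ P) := by
  constructor
  · intro h S
    have := isContinuous_ι F J hF S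
    exact Functor.op_comp_isSheaf_of_isSheaf_type (ι F S) (J S) h
  · exact isSheaf_of_forall_restrict F J hF

theorem isSheaf_totalTopology_iff (hF : FibSite.IsPreFibSite F J)
    {A : Type u₃} [Category.{v₃} A] (P : (∫ᶜ F)ᵒᵖ ⥤ A) :
    Presheaf.IsSheaf (FibSite.totalTopology F J) P ↔
      ∀ S : 𝒮, Presheaf.IsSheaf (J S) ((ι F S).op ⋙ P) := by
  constructor
  · intro h S
    exact presheafIsSheaf_restrict F J hF h S
  · intro h E
    exact isSheaf_of_forall_restrict F J hF (fun S => h S E)

end Groth.Agent.Lib.Helper14.FibSite
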