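import Groth.Agent.Lib.Helper14.FibSite4
import Mathlib.CategoryTheory.Sites.InducedTopology

/-!
# Fibred sites: the total topology induces the given topology on each fibre (helper14)
-/

set_option autoImplicit false
set_option backward.defeqAttrib.useBackward true
set_option backward.isDefEq.respectTransparency false

universe w v u v₃ u₃ v₂ u₂ v₁ u₁

open CategoryTheory CategoryTheory.Limits Opposite Pseudofunctor Pseudofunctor.CoGrothendieck
open CategoryTheory.Functor Category Discrete Bicategory

namespace Groth.Agent.Lib.Helper14.FibSite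

variable {𝒮 : Type u₁} [Category.{v₁} 𝒮]
variable (F : Pseudofunctor (LocallyDiscrete 𝒮ᵒᵖ) Cat.{v₂, u₂})

theorem exists_map_eq_of_base_eq_id {S : 𝒮} {V V' : F.obj ⟨op S⟩}
    (a : (ι F S).obj V ⟶ (ι F S).obj V') (h : a.base = 𝟙 S) :
    ∃ k : V ⟶ V', (ι F S).map k = a := by
  refine ⟨a.fiber ≫ eqToHom (by simp [h]) ≫ (F.mapId ⟨op S⟩).hom.toNatTrans.app V', ?_⟩
  ext <;> simp [h, ← Cat.Hom₂.comp_app]

theorem ι_map_injective {S : 𝒮} {V V' : F.obj ⟨op S⟩} (f g : V ⟶ V')
    (h : (ι F S).map f = (ι F S).map g) : f = g := by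
  simpa [cancel_mono, ← Cat.Hom.toNatIso_hom, ← Cat.Hom.toNatIso_inv] using
    ((Hom.ext_iff _ _).mp h).2

theorem mem_of_map_mem_functorPushforward {S : 𝒮} {U V : F.obj ⟨op S⟩} (R : Sieve U)
    (f : V ⟶ U) (h : (Sieve.functorPushforward (ι F S) R) ((ι F S).map f)) : R f := by
  obtain ⟨V', g, a, hg, e⟩ := h
  have hb : a.base = 𝟙 S := by
    have := congrArg Hom.base e
    simpa using this.symm
  obtain ⟨k, rfl⟩ := exists_map_eq_of_base_eq_id F a hb
  rw [← Functor.map_comp] at e
  rw [ι_map_injective F _ _ e]
  exact R.downward_closed hg k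

variable (J : FibSite.Topologies F)

theorem inducedTopology_ι_totalTopology (hF : FibSite.IsPreFibSite F J) (S : 𝒮) :
    (ι F S).inducedTopology (FibSite.totalTopology F J) = J S := by
  apply le_antisymm
  · intro U R hR
    have hcov := (CoverPreserving.of_isContinuous (ι F S)
      ((ι F S).inducedTopology (FibSite.totalTopology F J))
      (FibSite.totalTopology F J)).cover_preserve hR
    obtain ⟨R', hR', hle⟩ := (mem_totalTopology_iff F J hF _ _).1 hcov
    refine (J S).superset_covering ?_ hR'
    intro V f hf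
    exact mem_of_map_mem_functorPushforward F R f
      (hle _ (Presieve.image_mem_functorPushforward (ι F S) R'.arrows hf))
  · rw [Functor.le_inducedTopology_iff]
    exact isContinuous_ι F J hF S

end Groth.Agent.Lib.Helper14.FibSite
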