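import Groth.Agent.Lib.Helper14.FibSite5
import Mathlib.CategoryTheory.Adjunction.Triple
import Mathlib.CategoryTheory.Sites.CoverLifting
import Mathlib.CategoryTheory.Sites.Pullback

/-!
# Fibred sites: the fibre over a terminal object (helper14)
-/

set_option autoImplicit false

universe w v u v₃ u₃ v₂ u₂ v₁ u₁

open CategoryTheory CategoryTheory.Limits Opposite Pseudofunctor Pseudofunctor.CoGrothendieck

namespace Groth.Agent.Lib.Helper14.FibSite

variable {𝒮 : Type u₁} [Category.{v₁} 𝒮]
variable (F : Pseudofunctor (LocallyDiscrete 𝒮ᵒᵖ) Cat.{v₂, u₂}) (J : FibSite.Topologies F)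

theorem isCocontinuous_ι (hF : FibSite.IsPreFibSite F J) (S : 𝒮) :
    (ι F S).IsCocontinuous (J S) (FibSite.totalTopology F J) := by
  constructor
  intro U S' hS'
  obtain ⟨R, hR, hRS⟩ := (mem_totalTopology_iff F J hF ((ι F S).obj U) S').1 hS'
  refine (J S).superset_covering ?_ hR
  intro V f hf
  exact hRS _ ⟨V, f, 𝟙 _, hf, (Category.id_comp _).symm⟩

theorem faithful_ι (S : 𝒮) : (ι F S).Faithful where
  map_injective {_ _} _ _ h := ι_map_injective F _ _ h

theorem full_ι_of_isTerminal (i : 𝒮) (hi : IsTerminal i) : (ι F i).Full where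
  map_surjective {V V'} a :=
    exists_map_eq_of_base_eq_id F a (hi.hom_ext _ _)

section Small

variable {𝒮 : Type u} [SmallCategory 𝒮]
variable (F : Pseudofunctor (LocallyDiscrete 𝒮ᵒᵖ) Cat.{u, u}) (J : FibSite.Topologies F)

theorem isIso_unit_extend_of_isTerminal (hF : FibSite.IsPreFibSite F J) (i : 𝒮)
    (hi : IsTerminal i)
    [(ι F i).IsContinuous (J i) (FibSite.totalTopology F J)]
    [((ι F i).sheafPushforwardContinuous (Type u) (J i)
      (FibSite.totalTopology F J)).IsRightAdjoint] :
    IsIso ((ι F i).sheafAdjunctionContinuous (Type u) (J i) (FibSite.totalTopology F J)).unit := by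
  have hcoc := isCocontinuous_ι F J hF i
  have hfaith := faithful_ι F i
  have hfull := full_ι_of_isTerminal F i hi
  let t : Adjunction.Triple (FibSite.extend F J (Type u) i) (FibSite.restr F J (Type u) i)
      (FibSite.coextend F J (Type u) i) :=
    { adj₁ := (ι F i).sheafAdjunctionContinuous (Type u) (J i) (FibSite.totalTopology F J)
      adj₂ := (ι F i).sheafAdjunctionCocontinuous (Type u) (J i) (FibSite.totalTopology F J) }
  refine t.isIso_unit_iff_isIso_counit.2 ?_
  refine @NatIso.isIso_of_isIso_app _ _ _ _ _ _ _ (fun b => ?_)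
  have h : IsIso ((sheafToPresheaf (J i) (Type u)).map (t.adj₂.counit.app b)) := by
    change IsIso (t.adj₂.counit.app b).hom
    rw [Functor.sheafAdjunctionCocontinuous_counit_app_hom]
    have : IsIso (((ι F i).op.ranAdjunction (Type u)).counit.app b.obj) := inferInstance
    exact this
  exact isIso_of_fully_faithful (sheafToPresheaf (J i) (Type u)) _

end Small

end Groth.Agent.Lib.Helper14.FibSite
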