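import Groth.Agent.Lib.Helper14.FibSite6
import Mathlib.CategoryTheory.Functor.KanExtension.Pointwise
import Mathlib.CategoryTheory.Limits.Types.Limits

/-!
# Fibred sites: right Kan extension along a fibre inclusion, restricted to another fibre
(helper14)
-/

set_option autoImplicit false

universe w v u v₃ u₃ v₂ u₂ v₁ u₁

open CategoryTheory CategoryTheory.Limits Opposite Pseudofunctor Pseudofunctor.CoGrothendieck

namespace Groth.Agent.Lib.Helper14.FibSite

variable {𝒮 : Type u₁} [Category.{v₁} 𝒮]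
variable (F : Pseudofunctor (LocallyDiscrete 𝒮ᵒᵖ) Cat.{v₂, u₂})

section Core

variable {i j : 𝒮} {b : (F.obj ⟨op i⟩)ᵒᵖ ⥤ Type w} {E : (∫ᶜ F)ᵒᵖ ⥤ Type w}
  (ε : (ι F i).op ⋙ E ⟶ b)

/-- The component at `f : i ⟶ j` of the comparison map. -/
def ranProj (f : i ⟶ j) (V : F.obj ⟨op j⟩) (x : E.obj (op ((ι F j).obj V))) :
    b.obj (op ((FibSite.invImage F f).obj V)) :=
  ε.app (op ((FibSite.invImage F f).obj V))
    (E.map (mk f (𝟙 ((FibSite.invImage F f).obj V))).op x)

variable {F} in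
/-- The section of the diagram attached to a family `y`. -/
def ranSec {V : F.obj ⟨op j⟩} (y : ∀ f : i ⟶ j, b.obj (op ((FibSite.invImage F f).obj V)))
    {W : F.obj ⟨op i⟩} (a : (ι F i).obj W ⟶ (ι F j).obj V) : b.obj (op W) :=
  b.map (Quiver.Hom.op (X := W) (Y := (FibSite.invImage F a.base).obj V) a.fiber) (y a.base)

theorem ranSec_mk {V : F.obj ⟨op j⟩}
    (y : ∀ f : i ⟶ j, b.obj (op ((FibSite.invImage F f).obj V)))
    {W : F.obj ⟨op i⟩} (f : i ⟶ j) (φ : W ⟶ (FibSite.invImage F f).obj V) :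
    ranSec y (mk f φ) = b.map φ.op (y f) := rfl

theorem ranSec_ι_comp_mk {V : F.obj ⟨op j⟩}
    (y : ∀ f : i ⟶ j, b.obj (op ((FibSite.invImage F f).obj V)))
    {W W' : F.obj ⟨op i⟩} (k : W' ⟶ W) (f : i ⟶ j) (φ : W ⟶ (FibSite.invImage F f).obj V) :
    ranSec y ((ι F i).map k ≫ mk f φ) = b.map k.op (ranSec y (mk f φ)) := by
  rw [ι_comp_mk, ranSec_mk, ranSec_mk, op_comp, Functor.map_comp_apply]

theorem ranSec_ι_comp {V : F.obj ⟨op j⟩}
    (y : ∀ f : i ⟶ j, b.obj (op ((FibSite.invImage F f).obj V)))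
    {W W' : F.obj ⟨op i⟩} (k : W' ⟶ W) (a : (ι F i).obj W ⟶ (ι F j).obj V) :
    ranSec y ((ι F i).map k ≫ a) = b.map k.op (ranSec y a) := by
  obtain ⟨f, φ⟩ := a
  exact ranSec_ι_comp_mk F y k f φ

theorem ranProj_eq_of_mk (f : i ⟶ j) (V : F.obj ⟨op j⟩) {W : F.obj ⟨op i⟩}
    (φ : W ⟶ (FibSite.invImage F f).obj V) (x : E.obj (op ((ι F j).obj V))) :
    ε.app (op W) (E.map (mk f φ).op x) = b.map φ.op (ranProj F ε f V x) := by
  have h1 : mk f φ = (ι F i).map φ ≫ mk f (𝟙 ((FibSite.invImage F f).obj V)) := by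
    rw [ι_comp_mk, Category.comp_id]
  have h2 := NatTrans.naturality_apply ε φ.op
    (E.map (mk f (𝟙 ((FibSite.invImage F f).obj V))).op x)
  rw [h1, op_comp, Functor.map_comp_apply]
  exact h2

theorem ranProj_eq_ranSec (V : F.obj ⟨op j⟩) {W : F.obj ⟨op i⟩}
    (a : (ι F i).obj W ⟶ (ι F j).obj V) (x : E.obj (op ((ι F j).obj V))) :
    ε.app (op W) (E.map a.op x) = ranSec (fun f => ranProj F ε f V x) a := by
  obtain ⟨f, φ⟩ := a
  exact ranProj_eq_of_mk F ε f V φ x

open Functor in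
theorem ranProj_bijective (h : (RightExtension.mk E ε).IsPointwiseRightKanExtension)
    (V : F.obj ⟨op j⟩) :
    Function.Bijective
      (fun (x : E.obj (op ((ι F j).obj V))) (f : i ⟶ j) => ranProj F ε f V x) := by
  have hlim := (Types.isLimit_iff _).1 ⟨h (op ((ι F j).obj V))⟩
  -- the section attached to a family
  have hsec : ∀ y : (∀ f : i ⟶ j, b.obj (op ((FibSite.invImage F f).obj V))),
      (fun g : StructuredArrow (op ((ι F j).obj V)) (ι F i).op =>
        (ranSec y (W := unop g.right) g.hom.unop : (StructuredArrow.proj _ _ ⋙ b).obj g)) ∈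
      (StructuredArrow.proj _ _ ⋙ b).sections := by
    intro y g g' k
    have hw : g'.hom.unop = (ι F i).map k.right.unop ≫ g.hom.unop := by
      have := StructuredArrow.w k
      rw [← this]
      rfl
    change b.map k.right (ranSec y (W := unop g.right) g.hom.unop) =
      ranSec y (W := unop g'.right) g'.hom.unop
    rw [hw]
    exact (ranSec_ι_comp F y k.right.unop g.hom.unop).symm
  have hπ : ∀ (x : E.obj (op ((ι F j).obj V)))
      (g : StructuredArrow (op ((ι F j).obj V)) (ι F i).op),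
      ((RightExtension.mk E ε).coneAt (op ((ι F j).obj V))).π.app g x =
        ranSec (fun f => ranProj F ε f V x) (W := unop g.right) g.hom.unop := by
    intro x g
    exact ranProj_eq_ranSec F ε V (W := unop g.right) g.hom.unop x
  constructor
  · intro x x' hxx'
    obtain ⟨x₀, -, huniq⟩ := hlim _ (hsec (fun f => ranProj F ε f V x))
    have e1 : x = x₀ := huniq x (hπ x)
    have e2 : x' = x₀ := huniq x' (fun g => by
      rw [hπ x' g]
      have : (fun f => ranProj F ε f V x') = (fun f => ranProj F ε f V x) := hxx'.symm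
      rw [this])
    rw [e1, e2]
  · intro y
    obtain ⟨x₀, hx₀, -⟩ := hlim _ (hsec y)
    refine ⟨x₀, funext fun f => ?_⟩
    have := hx₀ (StructuredArrow.mk (Y := op ((FibSite.invImage F f).obj V))
      (mk f (𝟙 ((FibSite.invImage F f).obj V))).op)
    rw [hπ] at this
    have h3 := ranSec_mk F (fun f => ranProj F ε f V x₀) f (𝟙 ((FibSite.invImage F f).obj V))
    have h4 := ranSec_mk F y f (𝟙 ((FibSite.invImage F f).obj V))
    have hid : ∀ z : b.obj (op ((FibSite.invImage F f).obj V)),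
        b.map (𝟙 ((FibSite.invImage F f).obj V)).op z = z := fun z => by
      rw [op_id, b.map_id]; rfl
    rw [hid] at h3 h4
    exact h3.symm.trans (this.trans h4)

theorem ranProj_naturality (f : i ⟶ j) {V V' : F.obj ⟨op j⟩} (g : V' ⟶ V)
    (x : E.obj (op ((ι F j).obj V))) :
    ranProj F ε f V' (E.map ((ι F j).map g).op x) =
      b.map ((FibSite.invImage F f).map g).op (ranProj F ε f V x) := by
  have h1 : (ι F j).map g ≫ 𝟙 _ = (ι F j).map g := Category.comp_id _
  have h2 : mk f (𝟙 ((FibSite.invImage F f).obj V')) ≫ (ι F j).map g =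
      mk f ((FibSite.invImage F f).map g) := by
    rw [mk_comp_ι, Category.id_comp]
  rw [← ranProj_eq_of_mk, ← h2, op_comp, Functor.map_comp_apply]
  rfl

/-- The projection to the factor `f`, as a morphism of presheaves on the fibre over `j`. -/
def ranProjNat (f : i ⟶ j) : (ι F j).op ⋙ E ⟶ (FibSite.invImage F f).op ⋙ b where
  app V := TypeCat.ofHom (fun x => ranProj F ε f (unop V) x)
  naturality V V' g := by
    ext x
    exact ranProj_naturality F ε f g.unop x

@[simp]
theorem ranProjNat_app_apply (f : i ⟶ j) (V : (F.obj ⟨op j⟩)ᵒᵖ)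
    (x : E.obj (op ((ι F j).obj (unop V)))) :
    (ranProjNat F ε f).app V x = ranProj F ε f (unop V) x := rfl

theorem ranProj_natural_in {b' : (F.obj ⟨op i⟩)ᵒᵖ ⥤ Type w} {E' : (∫ᶜ F)ᵒᵖ ⥤ Type w}
    (ε' : (ι F i).op ⋙ E' ⟶ b') (τ : E ⟶ E') (β : b ⟶ b')
    (hτ : Functor.whiskerLeft (ι F i).op τ ≫ ε' = ε ≫ β) (f : i ⟶ j) (V : F.obj ⟨op j⟩)
    (x : E.obj (op ((ι F j).obj V))) :
    ranProj F ε' f V (τ.app _ x) = β.app _ (ranProj F ε f V x) := by
  have h1 := NatTrans.naturality_apply τ (mk f (𝟙 ((FibSite.invImage F f).obj V))).op x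
  have h2 := congrArg (fun m => (ConcreteCategory.hom m : _ → _))
    (congrArg (fun n => n.app (op ((FibSite.invImage F f).obj V))) hτ)
  have h3 := congrFun h2 (E.map (mk f (𝟙 ((FibSite.invImage F f).obj V))).op x)
  unfold ranProj
  rw [← h1]
  exact h3

theorem isIso_ranProjNat_of_unique (h : (Functor.RightExtension.mk E ε).IsPointwiseRightKanExtension)
    (f : i ⟶ j) (huniq : ∀ g : i ⟶ j, g = f) : IsIso (ranProjNat F ε f) := by
  refine @NatIso.isIso_of_isIso_app _ _ _ _ _ _ _ (fun V => ?_)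
  rw [isIso_iff_bijective]
  have hb := ranProj_bijective F ε h (unop V)
  constructor
  · intro x x' hxx'
    apply hb.1
    funext g
    rw [huniq g]
    exact hxx'
  · intro y
    obtain ⟨x, hx⟩ := hb.2 (fun g => (huniq g) ▸ y)
    exact ⟨x, congrFun hx f⟩

end Core

end Groth.Agent.Lib.Helper14.FibSite
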