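import Groth.Agent.Lib.Helper14.FibSite7
import Mathlib.CategoryTheory.Limits.FunctorCategory.Basic
import Mathlib.CategoryTheory.Limits.Preserves.Basic

/-!
# Fibred sites: `restr_j ∘ coextend_i` is a product over `i ⟶ j` (helper14)
-/

set_option autoImplicit false

universe w v u v₃ u₃ v₂ u₂ v₁ u₁

open CategoryTheory CategoryTheory.Limits Opposite Pseudofunctor Pseudofunctor.CoGrothendieck

namespace Groth.Agent.Lib.Helper14.FibSite

section Small

variable {𝒮 : Type u} [SmallCategory 𝒮]
variable (F : Pseudofunctor (LocallyDiscrete 𝒮ᵒᵖ) Cat.{u, u}) (J : FibSite.Topologies F)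

variable (i j : 𝒮)
  [(ι F j).IsContinuous (J j) (FibSite.totalTopology F J)]
  [(ι F i).IsCocontinuous (J i) (FibSite.totalTopology F J)]
  [∀ P : (F.obj ⟨op i⟩)ᵒᵖ ⥤ Type u, (ι F i).op.HasPointwiseRightKanExtension P]
  [∀ (R S : 𝒮) (f : R ⟶ S), (FibSite.invImage F f).IsContinuous (J S) (J R)]

/-- The projection `restr_j (coextend_i a) ⟶ (f^*)_* a`. -/
noncomputable def restrCoextendProj (a : Sheaf (J i) (Type u)) (f : i ⟶ j) :
    (FibSite.restr F J (Type u) j).obj ((FibSite.coextend F J (Type u) i).obj a) ⟶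
      ((FibSite.invImage F f).sheafPushforwardContinuous (Type u) (J j) (J i)).obj a :=
  ObjectProperty.homMk (ranProjNat F ((ι F i).op.ranCounit.app a.obj) f)

/-- The fan exhibiting `restr_j (coextend_i a)` as a product. -/
noncomputable def restrCoextendFan (a : Sheaf (J i) (Type u)) :
    Fan fun f : i ⟶ j =>
      ((FibSite.invImage F f).sheafPushforwardContinuous (Type u) (J j) (J i)).obj a :=
  Fan.mk _ (restrCoextendProj F J i j a)

noncomputable def restrCoextendFanIsLimit (a : Sheaf (J i) (Type u)) :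
    IsLimit (restrCoextendFan F J i j a) := by
  apply isLimitOfReflects (sheafToPresheaf (J j) (Type u))
  apply evaluationJointlyReflectsLimits
  intro V
  apply Nonempty.some
  rw [Types.isLimit_iff]
  intro s hs
  have hbij := ranProj_bijective F ((ι F i).op.ranCounit.app a.obj) (j := j)
    ((ι F i).op.isPointwiseRightKanExtensionRanCounit a.obj) (unop V)
  obtain ⟨x, hx⟩ := hbij.2 (fun f => s ⟨f⟩)
  refine ⟨x, ?_, ?_⟩
  · rintro ⟨f⟩
    exact congrFun hx f
  · intro x' hx'
    apply hbij.1
    funext f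
    exact (hx' ⟨f⟩).trans (congrFun hx f).symm

end Small

end Groth.Agent.Lib.Helper14.FibSite
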