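import Groth.Agent.Lib.Helper14.FibSite8
import Mathlib.CategoryTheory.Adjunction.Unique

/-!
# Fibred sites: `extend_i` followed by restriction to a fibre, when `i` is terminal (helper14)
-/

set_option autoImplicit false

universe w v u v₃ u₃ v₂ u₂ v₁ u₁

open CategoryTheory CategoryTheory.Limits Opposite Pseudofunctor Pseudofunctor.CoGrothendieck

namespace Groth.Agent.Lib.Helper14.FibSite

section Small

variable {𝒮 : Type u} [SmallCategory 𝒮]
variable (F : Pseudofunctor (LocallyDiscrete 𝒮ᵒᵖ) Cat.{u, u}) (J : FibSite.Topologies F)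

variable (i j : 𝒮)
  [(ι F j).IsContinuous (J j) (FibSite.totalTopology F J)]
  [(ι F i).IsCocontinuous (J i) (FibSite.totalTopology F J)]
  [∀ P : (F.obj ⟨op i⟩)ᵒᵖ ⥤ Type u, (ι F i).op.HasPointwiseRightKanExtension P]
  [∀ (R S : 𝒮) (f : R ⟶ S), (FibSite.invImage F f).IsContinuous (J S) (J R)]

theorem restrCoextendProj_naturality {a a' : Sheaf (J i) (Type u)} (β : a ⟶ a') (f : i ⟶ j) :
    (FibSite.restr F J (Type u) j).map ((FibSite.coextend F J (Type u) i).map β) ≫
        restrCoextendProj F J i j a' f =
      restrCoextendProj F J i j a f ≫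
        ((FibSite.invImage F f).sheafPushforwardContinuous (Type u) (J j) (J i)).map β := by
  apply ObjectProperty.hom_ext
  ext V x
  exact ranProj_natural_in F ((ι F i).op.ranCounit.app a.obj) ((ι F i).op.ranCounit.app a'.obj)
    ((ι F i).op.ran.map β.hom) β.hom ((ι F i).op.ranCounit.naturality β.hom) f (unop V) x

theorem isIso_restrCoextendProj (a : Sheaf (J i) (Type u)) (f : i ⟶ j)
    (huniq : ∀ g : i ⟶ j, g = f) : IsIso (restrCoextendProj F J i j a f) := by
  have h : IsIso ((sheafToPresheaf (J j) (Type u)).map (restrCoextendProj F J i j a f)) :=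
    isIso_ranProjNat_of_unique F ((ι F i).op.ranCounit.app a.obj)
      ((ι F i).op.isPointwiseRightKanExtensionRanCounit a.obj) f huniq
  exact isIso_of_fully_faithful (sheafToPresheaf (J j) (Type u)) _

/-- When `f` is the only morphism `i ⟶ j`, `coextend_i` followed by `restr_j` is `(f^*)_*`. -/
noncomputable def coextendRestrIso (f : i ⟶ j) (huniq : ∀ g : i ⟶ j, g = f) :
    FibSite.coextend F J (Type u) i ⋙ FibSite.restr F J (Type u) j ≅
      (FibSite.invImage F f).sheafPushforwardContinuous (Type u) (J j) (J i) :=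
  haveI := fun a => isIso_restrCoextendProj F J i j a f huniq
  NatIso.ofComponents (fun a => asIso (restrCoextendProj F J i j a f))
    (fun β => restrCoextendProj_naturality F J i j β f)

end Small

section Small2

variable {𝒮 : Type u} [SmallCategory 𝒮]
variable (F : Pseudofunctor (LocallyDiscrete 𝒮ᵒᵖ) Cat.{u, u}) (J : FibSite.Topologies F)

variable (i₀ T : 𝒮)
  [(ι F i₀).IsContinuous (J i₀) (FibSite.totalTopology F J)]
  [((ι F i₀).sheafPushforwardContinuous (Type u) (J i₀)
    (FibSite.totalTopology F J)).IsRightAdjoint]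
  [(ι F T).IsContinuous (J T) (FibSite.totalTopology F J)]
  [(ι F T).IsCocontinuous (J T) (FibSite.totalTopology F J)]
  [∀ (R S : 𝒮) (f : R ⟶ S), (FibSite.invImage F f).IsContinuous (J S) (J R)]

/-- When `t` is the only morphism `T ⟶ i₀`, `extend_{i₀}` followed by `restr_T` is the sheaf
pullback along `t^*`. -/
noncomputable def extendRestrIso (t : T ⟶ i₀) (huniq : ∀ g : T ⟶ i₀, g = t)
    [((FibSite.invImage F t).sheafPushforwardContinuous (Type u) (J i₀) (J T)).IsRightAdjoint] :
    FibSite.extend F J (Type u) i₀ ⋙ FibSite.restr F J (Type u) T ≅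
      (FibSite.invImage F t).sheafPullback (Type u) (J i₀) (J T) :=
  ((((ι F i₀).sheafAdjunctionContinuous (Type u) (J i₀) (FibSite.totalTopology F J)).comp
    ((ι F T).sheafAdjunctionCocontinuous (Type u) (J T) (FibSite.totalTopology F J))).ofNatIsoRight
      (coextendRestrIso F J T i₀ t huniq)).leftAdjointUniq
    ((FibSite.invImage F t).sheafAdjunctionContinuous (Type u) (J i₀) (J T))

end Small2

end Groth.Agent.Lib.Helper14.FibSite
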