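import Mathlib
import Groth.Agent.Lib.Helper14.FibreTrans1

/-!
# helper14: `f (b · c) = f (b · a)` for `c` in the connected component of `a` in its fibre
(`X` a proper connected group scheme over a field, `f : X ⟶ Y`, `Y` separated)
-/

set_option autoImplicit false
universe u
open CategoryTheory CategoryTheory.Limits MonoidalCategory CartesianMonoidalCategory MonObj GrpObj
  AlgebraicGeometry

namespace Groth.Agent.Lib.Helper14.FibreTrans

variable {k : Type u} [Field k]
variable (X : Over (Spec (CommRingCat.of k))) [GrpObj X]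

theorem map_translate_eq [IsProper X.hom] [ConnectedSpace X.left] {Y : Scheme.{u}}
    (q : Y ⟶ Spec (CommRingCat.of k)) [IsSeparated q] (f : X.left ⟶ Y) (hf : f ≫ q = X.hom)
    (a b : 𝟙_ (Over (Spec (CommRingCat.of k))) ⟶ X) (c : X.left)
    (hc : c ∈ connectedComponentIn (f ⁻¹' {f (a.left (IsLocalRing.closedPoint k))})
      (a.left (IsLocalRing.closedPoint k))) :
    f ((tr X b).left c) = f ((b * a).left (IsLocalRing.closedPoint k)) := by
  classical
  set pt : Spec (CommRingCat.of k) := IsLocalRing.closedPoint k with hpt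
  set xa : X.left := a.left pt with hxa
  haveI hsub : Subsingleton ↥(Spec (CommRingCat.of k)) :=
    inferInstanceAs (Subsingleton (PrimeSpectrum k))
  let al : Spec (CommRingCat.of k) ⟶ X.left := a.left
  have hwa : al ≫ X.hom = 𝟙 (Spec (CommRingCat.of k)) := Over.w a
  -- the rational point `f a` of `Y`
  let σ : Spec (CommRingCat.of k) ⟶ Y := al ≫ f
  have hσq : σ ≫ q = 𝟙 (Spec (CommRingCat.of k)) := by
    show (al ≫ f) ≫ q = _
    rw [Category.assoc, hf, hwa]
  haveI : IsClosedImmersion σ := isClosedImmersion_of_comp_eq_id q σ hσq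
  have hrσ : Set.range σ = {f xa} := by
    ext y
    constructor
    · rintro ⟨p, rfl⟩
      rw [Subsingleton.elim p pt]
      rfl
    · rintro rfl
      exact ⟨pt, rfl⟩
  have hcl0 : IsClosed ({f xa} : Set Y) := by
    rw [← hrσ]
    exact σ.isClosedEmbedding.isClosed_range
  have hF : IsClosed (f ⁻¹' {f xa}) := hcl0.preimage f.continuous
  have hxaF : xa ∈ f ⁻¹' {f xa} := rfl
  have hCcl : IsClosed (connectedComponentIn (f ⁻¹' {f xa}) xa) :=
    isClosed_connectedComponentIn hF xa
  let Cc : TopologicalSpace.Closeds X.left := ⟨connectedComponentIn (f ⁻¹' {f xa}) xa, hCcl⟩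
  let W : Over (Spec (CommRingCat.of k)) := Groth.Agent.Lib.helper3.GrpIrr.sub X Cc
  let i : W ⟶ X := Groth.Agent.Lib.helper3.GrpIrr.incl X Cc
  have hrange : Set.range i.left = connectedComponentIn (f ⁻¹' {f xa}) xa :=
    Groth.Agent.Lib.helper3.GrpIrr.range_incl X Cc
  haveI : IsClosedImmersion i.left :=
    inferInstanceAs (IsClosedImmersion (Scheme.IdealSheafData.vanishingIdeal Cc).subschemeι)
  haveI : IsReduced W.left := Groth.Agent.S2285.isReduced_subscheme_vanishingIdeal Cc
  haveI : IsProper W.hom :=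
    inferInstanceAs (IsProper ((Scheme.IdealSheafData.vanishingIdeal Cc).subschemeι ≫ X.hom))
  have hWhom : W.hom = i.left ≫ X.hom := rfl
  haveI : ConnectedSpace W.left := by
    have hemb : Topology.IsEmbedding i.left := i.left.isClosedEmbedding.isEmbedding
    have hconn : _root_.IsConnected (Set.range i.left) := by
      rw [hrange]
      exact isConnected_connectedComponentIn_iff.mpr hxaF
    haveI : ConnectedSpace (Set.range i.left) := isConnected_iff_connectedSpace.mp hconn
    exact hemb.toHomeomorph.symm.surjective.connectedSpace hemb.toHomeomorph.symm.continuous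
  -- the rational point `a` of `W`
  have hxaC : xa ∈ connectedComponentIn (f ⁻¹' {f xa}) xa := mem_connectedComponentIn hxaF
  obtain ⟨l, hl⟩ := exists_lift_of_range_subset al i.left (by
    rintro _ ⟨p, rfl⟩
    rw [hrange, Subsingleton.elim p pt]
    exact hxaC)
  have hlW : l ≫ W.hom = 𝟙 (Spec (CommRingCat.of k)) := by
    rw [hWhom, ← Category.assoc, hl, hwa]
  let a' : 𝟙_ (Over (Spec (CommRingCat.of k))) ⟶ W := Over.homMk l (by rw [hlW]; rfl)
  have ha' : a' ≫ i = a := by
    apply Over.OverMorphism.ext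
    exact hl
  have h0 := bijective_snd_appTop W.hom l hlW
  -- the target
  let Yo : Over (Spec (CommRingCat.of k)) := Over.mk q
  let fO : X ⟶ Yo := Over.homMk f hf
  haveI : IsSeparated Yo.hom := inferInstanceAs (IsSeparated q)
  -- `i ≫ f` is constant
  have hconst : i ≫ fO = toUnit W ≫ (a ≫ fO) := by
    obtain ⟨l', hl'⟩ := exists_lift_of_range_subset (i.left ≫ f) σ (by
      rintro _ ⟨w, rfl⟩
      rw [hrσ]
      have hw : i.left w ∈ connectedComponentIn (f ⁻¹' {f xa}) xa := by
        rw [← hrange]; exact ⟨w, rfl⟩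
      have hw2 : i.left w ∈ f ⁻¹' {f xa} := connectedComponentIn_subset _ _ hw
      exact hw2)
    have hl'W : l' = W.hom := by
      have h1 : l' = l' ≫ σ ≫ q := by rw [hσq, Category.comp_id]
      rw [h1, ← Category.assoc, hl', Category.assoc, hf]
      exact hWhom.symm
    apply Over.OverMorphism.ext
    show i.left ≫ f = (toUnit W).left ≫ a.left ≫ f
    rw [Over.toUnit_left, ← hl'W]
    exact hl'.symm
  -- the morphism `(w, z) ↦ f (z a⁻¹ w)`
  let Ψ : W ⊗ X ⟶ Yo := ((snd W X) * (toUnit (W ⊗ X) ≫ a⁻¹) * (fst W X ≫ i)) ≫ fO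
  have hΨ : ∀ {T : Over (Spec (CommRingCat.of k))} (w : T ⟶ W) (z : T ⟶ X),
      lift w z ≫ Ψ = (z * (toUnit T ≫ a⁻¹) * (w ≫ i)) ≫ fO := by
    intro T w z
    show lift w z ≫ ((snd W X) * (toUnit (W ⊗ X) ≫ a⁻¹) * (fst W X ≫ i)) ≫ fO = _
    rw [← Category.assoc, MonObj.comp_mul, MonObj.comp_mul, lift_snd, lift_fst_assoc,
      ← Category.assoc (lift w z) (toUnit (W ⊗ X)),
      toUnit_unique (lift w z ≫ toUnit (W ⊗ X)) (toUnit T)]
  have hinv : ∀ (T : Over (Spec (CommRingCat.of k))),
      (toUnit T ≫ a) * (toUnit T ≫ a⁻¹) = 1 := by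
    intro T
    rw [GrpObj.comp_inv, mul_inv_cancel]
  have hinv' : ∀ (T : Over (Spec (CommRingCat.of k))),
      (toUnit T ≫ a⁻¹) * (toUnit T ≫ a) = 1 := by
    intro T
    rw [GrpObj.comp_inv, inv_mul_cancel]
  -- collapse at `a`
  letI : X.left.Over (Spec (CommRingCat.of k)) := ⟨X.hom⟩
  have hfac : X.left.fromSpecResidueField xa = X.left.fromSpecResidueField xa ≫ X.hom ≫ a.left := by
    have h1 := Groth.Agent.Lib.Helper14.RatPtIso.specMap_desc_comp X.left al
    have h2 := Groth.Agent.Lib.Helper14.RatPtIso.fromSpecResidueField_comp_specMap_desc X.left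
      al hwa
    show X.left.fromSpecResidueField xa = X.left.fromSpecResidueField xa ≫ X.hom ≫ al
    conv_rhs => rw [← h1]
    rw [← Category.assoc, ← Category.assoc]
    have h3 : (X.left.fromSpecResidueField xa ≫ X.hom) ≫
        Spec.map (X.left.descResidueField (Scheme.stalkClosedPointTo al)) = 𝟙 _ := h2
    rw [h3, Category.id_comp]
  have hcol : Groth.Agent.Lib.Helper14.Rigid.CollapseAt Ψ xa := by
    refine Groth.Agent.Lib.Helper14.Rigid.collapseAt_of_section Ψ a (a ≫ fO) ?_ xa hfac
    rw [hΨ, hinv, _root_.one_mul, Category.id_comp]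
    exact hconst
  haveI : LocallyOfFiniteType X.hom := inferInstance
  haveI : IsLocallyNoetherian X.left := LocallyOfFiniteType.isLocallyNoetherian X.hom
  haveI : JacobsonSpace X.left := LocallyOfFiniteType.jacobsonSpace (Y := Spec _) X.hom
  haveI : Flat W.hom := inferInstance
  obtain ⟨ψ, hψ⟩ := Groth.Agent.Lib.Helper14.Rigid.factor_snd_of_product W X Yo h0 Ψ
    (fun y _ => ⟨Set.univ, isPreconnected_univ, Set.mem_univ y, xa, Set.mem_univ xa, hcol⟩)
  -- `ψ = f`
  have hψf : ψ = fO := by
    have h1 : lift (toUnit X ≫ a') (𝟙 X) ≫ Ψ = fO := by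
      rw [hΨ, Category.assoc, ha', _root_.mul_assoc, hinv', _root_.mul_one, Category.id_comp]
    rw [hψ, ← Category.assoc, lift_snd, Category.id_comp] at h1
    exact h1
  -- evaluate at the point `c`
  rw [← hrange] at hc
  obtain ⟨w₀, rfl⟩ := hc
  let T : Over (Spec (CommRingCat.of k)) := Over.mk (W.left.fromSpecResidueField w₀ ≫ W.hom)
  let r : T ⟶ W := Over.homMk (W.left.fromSpecResidueField w₀) rfl
  have key : (r ≫ i ≫ tr X b) ≫ fO = (toUnit T ≫ (b * a)) ≫ fO := by
    have h1 : lift r (toUnit T ≫ (b * a)) ≫ Ψ = (r ≫ i ≫ tr X b) ≫ fO := by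
      rw [hΨ, ← Category.assoc r i, comp_tr, MonObj.comp_mul, _root_.mul_assoc (toUnit T ≫ b),
        hinv, _root_.mul_one]
    rw [← h1, hψ, ← Category.assoc, lift_snd, hψf]
  have key2 := congrArg (fun g => g.left) key
  have key3 : (r ≫ i ≫ tr X b).left ≫ f = (toUnit T ≫ (b * a)).left ≫ f := key2
  have key4 := congr($key3 (IsLocalRing.closedPoint (W.left.residueField w₀)))
  have hL : ((r ≫ i ≫ tr X b).left ≫ f) (IsLocalRing.closedPoint (W.left.residueField w₀)) =
      f ((tr X b).left (i.left w₀)) := by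
    show f ((tr X b).left (i.left (W.left.fromSpecResidueField w₀
      (IsLocalRing.closedPoint (W.left.residueField w₀))))) = _
    rw [Scheme.fromSpecResidueField_apply]
  have hR : ((toUnit T ≫ (b * a)).left ≫ f) (IsLocalRing.closedPoint (W.left.residueField w₀)) =
      f ((b * a).left pt) := by
    show f ((b * a).left ((toUnit T).left (IsLocalRing.closedPoint (W.left.residueField w₀)))) = _
    exact congrArg (fun p : ↥(Spec (CommRingCat.of k)) => f ((b * a).left p))
      (Subsingleton.elim _ _)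
  rw [← hL, key4, hR]

end Groth.Agent.Lib.Helper14.FibreTrans
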