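import Mathlib
import Groth.Agent.Lib.Helper14.FibreTrans2

/-!
# helper14: translation by a rational point carries the connected component of `e` in its fibre
onto the connected component of `x` in its fibre (S7806)
-/

set_option autoImplicit false
universe u
open CategoryTheory CategoryTheory.Limits MonoidalCategory CartesianMonoidalCategory MonObj GrpObj
  AlgebraicGeometry

namespace Groth.Agent.Lib.Helper14.FibreTrans

variable {k : Type u} [Field k]
variable (X : Over (Spec (CommRingCat.of k))) [GrpObj X]

theorem tr_apply_point (a b : 𝟙_ (Over (Spec (CommRingCat.of k))) ⟶ X) :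
    (tr X b).left (a.left (IsLocalRing.closedPoint k)) =
      (b * a).left (IsLocalRing.closedPoint k) := by
  have h1 : a ≫ tr X b = b * a := by
    rw [comp_tr, toUnit_unique (toUnit _) (𝟙 _), Category.id_comp]
  have h2 := congrArg (fun g => g.left) h1
  exact congr($h2 (IsLocalRing.closedPoint k))

theorem image_tr_subset [IsProper X.hom] [ConnectedSpace X.left] {Y : Scheme.{u}}
    (q : Y ⟶ Spec (CommRingCat.of k)) [IsSeparated q] (f : X.left ⟶ Y) (hf : f ≫ q = X.hom)
    (a b : 𝟙_ (Over (Spec (CommRingCat.of k))) ⟶ X) :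
    (tr X b).left '' connectedComponentIn (f ⁻¹' {f (a.left (IsLocalRing.closedPoint k))})
        (a.left (IsLocalRing.closedPoint k)) ⊆
      connectedComponentIn (f ⁻¹' {f ((b * a).left (IsLocalRing.closedPoint k))})
        ((b * a).left (IsLocalRing.closedPoint k)) := by
  have hmem : a.left (IsLocalRing.closedPoint k) ∈
      connectedComponentIn (f ⁻¹' {f (a.left (IsLocalRing.closedPoint k))})
        (a.left (IsLocalRing.closedPoint k)) :=
    mem_connectedComponentIn (rfl : a.left (IsLocalRing.closedPoint k) ∈
      f ⁻¹' {f (a.left (IsLocalRing.closedPoint k))})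
  refine IsPreconnected.subset_connectedComponentIn ?_ ?_ ?_
  · exact isPreconnected_connectedComponentIn.image _ (tr X b).left.continuous.continuousOn
  · exact ⟨_, hmem, tr_apply_point X a b⟩
  · rintro _ ⟨c, hc, rfl⟩
    exact map_translate_eq X q f hf a b c hc

theorem image_tr_connectedComponentIn [IsProper X.hom] [ConnectedSpace X.left] {Y : Scheme.{u}}
    (q : Y ⟶ Spec (CommRingCat.of k)) [IsSeparated q] (f : X.left ⟶ Y) (hf : f ≫ q = X.hom)
    (x : 𝟙_ (Over (Spec (CommRingCat.of k))) ⟶ X) :
    (tr X x).left '' connectedComponentIn (f ⁻¹' {f (η[X].left (IsLocalRing.closedPoint k))})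
        (η[X].left (IsLocalRing.closedPoint k)) =
      connectedComponentIn (f ⁻¹' {f (x.left (IsLocalRing.closedPoint k))})
        (x.left (IsLocalRing.closedPoint k)) := by
  have h1 : (η[X] : 𝟙_ _ ⟶ X) = 1 := by
    rw [Hom.one_def, toUnit_unique (toUnit _) (𝟙 _), Category.id_comp]
  apply Set.Subset.antisymm
  · have h := image_tr_subset X q f hf η[X] x
    rw [h1, _root_.mul_one] at h
    rw [h1]
    exact h
  · intro c hc
    have h := image_tr_subset X q f hf x x⁻¹
    rw [inv_mul_cancel, ← h1] at h
    have hc' : (tr X x⁻¹).left c ∈ connectedComponentIn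
        (f ⁻¹' {f (η[X].left (IsLocalRing.closedPoint k))})
        (η[X].left (IsLocalRing.closedPoint k)) := h ⟨c, hc, rfl⟩
    refine ⟨(tr X x⁻¹).left c, hc', ?_⟩
    have h2 : tr X x⁻¹ ≫ tr X x = 𝟙 X := by rw [tr_comp_tr, mul_inv_cancel, tr_one]
    have h3 := congrArg (fun g => g.left) h2
    exact congr($h3 c)

end Groth.Agent.Lib.Helper14.FibreTrans
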