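import Groth.Agent.Lib.Helper14.FibreTrans3
import Groth.Agent.Lib.Helper3.SecCompDim2
import Groth.Agent.Lib.Helper3.DimCriteria
import Groth.Agent.Lib.Helper5.FibreDimLocal

/-!
# helper14: the local fibre dimension of a morphism from a proper connected group scheme over a
field to a separated scheme is the same at all rational points
-/

set_option autoImplicit false
universe u
open CategoryTheory CategoryTheory.Limits MonoidalCategory CartesianMonoidalCategory MonObj GrpObj
  AlgebraicGeometry

namespace Groth.Agent.Lib.Helper14.FibreTrans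

variable {k : Type u} [Field k]
variable (X : Over (Spec (CommRingCat.of k))) [GrpObj X]

instance isIso_tr (x : 𝟙_ (Over (Spec (CommRingCat.of k))) ⟶ X) : IsIso (tr X x) :=
  ⟨tr X x⁻¹, by rw [tr_comp_tr, inv_mul_cancel, tr_one], by rw [tr_comp_tr, mul_inv_cancel, tr_one]⟩

theorem fibreDimAt_point_eq [IsProper X.hom] [ConnectedSpace X.left] {Y : Scheme.{u}}
    (q : Y ⟶ Spec (CommRingCat.of k)) [IsSeparated q] (f : X.left ⟶ Y) (hf : f ≫ q = X.hom)
    (x : 𝟙_ (Over (Spec (CommRingCat.of k))) ⟶ X) :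
    FlatMor.fibreDimAt f (x.left (IsLocalRing.closedPoint k)) =
      FlatMor.fibreDimAt f (η[X].left (IsLocalRing.closedPoint k)) := by
  haveI : LocallyOfFiniteType f := by
    haveI : LocallyOfFiniteType (f ≫ q) := by rw [hf]; infer_instance
    exact locallyOfFiniteType_of_comp f q
  have hC := image_tr_connectedComponentIn X q f hf x
  set pt := IsLocalRing.closedPoint k with hpt
  set a := x.left pt with ha
  set e := η[X].left pt with he
  obtain ⟨Oa, hOa, hCa⟩ :=
    Groth.Agent.Lib.helper3.SecCompDim.exists_isOpen_connectedComponentIn_fibre f (f a) a rfl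
  obtain ⟨Oe, hOe, hCe⟩ :=
    Groth.Agent.Lib.helper3.SecCompDim.exists_isOpen_connectedComponentIn_fibre f (f e) e rfl
  have haC : a ∈ connectedComponentIn (f ⁻¹' {f a}) a := mem_connectedComponentIn rfl
  have heC : e ∈ connectedComponentIn (f ⁻¹' {f e}) e := mem_connectedComponentIn rfl
  rw [Groth.Agent.Lib.helper5.FibreDimLocal.fibreDimAt_eq_localDim_preimage,
    Groth.Agent.Lib.helper5.FibreDimLocal.fibreDimAt_eq_localDim_preimage,
    ← Groth.Agent.Lib.helper5.FibreDimLocal.localDim_eq_of_inter_open _ _ Oa hOa hCa a haC,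
    ← Groth.Agent.Lib.helper5.FibreDimLocal.localDim_eq_of_inter_open _ _ Oe hOe hCe e heC]
  symm
  haveI : IsIso (tr X x).left := (Over.forget _).map_isIso (tr X x)
  have htemb : Topology.IsEmbedding (tr X x).left := (tr X x).left.isOpenEmbedding.isEmbedding
  have h1 : (η[X] : 𝟙_ _ ⟶ X) = 1 := by
    rw [Hom.one_def, toUnit_unique (toUnit _) (𝟙 _), Category.id_comp]
  refine Groth.Agent.Lib.helper3.DimCriteria.localDim_eq_of_range_eq
    (fun c : connectedComponentIn (f ⁻¹' {f e}) e => (tr X x).left c.1) Subtype.val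
    (htemb.comp Topology.IsEmbedding.subtypeVal) Topology.IsEmbedding.subtypeVal ?_
    ⟨e, heC⟩ ⟨a, haC⟩ ?_
  · rw [Subtype.range_val, ← hC]
    ext z
    constructor
    · rintro ⟨c, rfl⟩
      exact ⟨c.1, c.2, rfl⟩
    · rintro ⟨c, hc, rfl⟩
      exact ⟨⟨c, hc⟩, rfl⟩
  · show (tr X x).left e = a
    rw [he, tr_apply_point X η[X] x, h1, _root_.mul_one]

end Groth.Agent.Lib.Helper14.FibreTrans
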