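import Groth.Agent.Lib.Helper14.FibreTrans4
import Groth.Agent.Lib.Helper3.FibreDimBC
import Groth.Agent.Lib.Helper3.RelDim
import Groth.Agent.Lib.Helper3.NowhereDenseGen
import Groth.Agent.Lib.Helper5.GrpHomLocus2

/-!
# helper14: all fibres of a morphism from an abelian variety to a separated scheme are
equidimensional of the same dimension (S7799)
-/

set_option autoImplicit false
universe u
open CategoryTheory CategoryTheory.Limits MonoidalCategory CartesianMonoidalCategory MonObj GrpObj
  AlgebraicGeometry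

namespace Groth.Agent.Lib.Helper14.FibreTrans

open scoped CategoryTheory.Obj

variable {k : Type u} [Field k]
variable (X : Over (Spec (CommRingCat.of k))) [GrpObj X]

theorem fibreDimAt_eq_unit [IsProper X.hom] [GeometricallyIntegral X.hom] {Y : Scheme.{u}}
    (q : Y ⟶ Spec (CommRingCat.of k)) [IsSeparated q] (f : X.left ⟶ Y) (hf : f ≫ q = X.hom)
    (x : X.left) :
    FlatMor.fibreDimAt f x = FlatMor.fibreDimAt f (η[X].left (IsLocalRing.closedPoint k)) := by
  haveI : LocallyOfFiniteType f := by
    haveI : LocallyOfFiniteType (f ≫ q) := by rw [hf]; infer_instance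
    exact locallyOfFiniteType_of_comp f q
  let K := X.left.residueField x
  let Ω := AlgebraicClosure K
  let ιx : Spec (CommRingCat.of Ω) ⟶ X.left :=
    Spec.map (CommRingCat.ofHom (algebraMap K Ω)) ≫ X.left.fromSpecResidueField x
  let g : Spec (CommRingCat.of Ω) ⟶ Spec (CommRingCat.of k) := ιx ≫ X.hom
  let X' : Over (Spec (CommRingCat.of Ω)) := (Over.pullback g).obj X
  let Yo : Over (Spec (CommRingCat.of k)) := Over.mk q
  let fo : X ⟶ Yo := Over.homMk f hf
  let Y' : Over (Spec (CommRingCat.of Ω)) := (Over.pullback g).obj Yo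
  let f' : X'.left ⟶ Y'.left := ((Over.pullback g).map fo).left
  have hf' : f' ≫ Y'.hom = X'.hom := Over.w _
  have sq : IsPullback (pullback.fst X.hom g) f' f (pullback.fst q g) :=
    Groth.Agent.Lib.helper5.GrpHomLocus.isPullback_pullback_map g fo
  haveI : IsProper X'.hom := inferInstanceAs (IsProper (pullback.snd X.hom g))
  haveI : IsSeparated Y'.hom := inferInstanceAs (IsSeparated (pullback.snd q g))
  haveI : GeometricallyIntegral X'.hom :=
    inferInstanceAs (GeometricallyIntegral (pullback.snd X.hom g))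
  haveI : Subsingleton ↥(Spec (CommRingCat.of Ω)) :=
    inferInstanceAs (Subsingleton (PrimeSpectrum Ω))
  haveI : IsIntegral X'.left := GeometricallyIntegral.isIntegral_of_subsingleton X'.hom
  haveI : ConnectedSpace X'.left := inferInstance
  -- the rational point over `x`
  let σ : Spec (CommRingCat.of Ω) ⟶ X'.left := pullback.lift ιx (𝟙 _) (by simp [g])
  let xt : 𝟙_ (Over (Spec (CommRingCat.of Ω))) ⟶ X' := Over.homMk σ (pullback.lift_snd _ _ _)
  set pt := IsLocalRing.closedPoint Ω with hpt
  have h1 := fibreDimAt_point_eq X' Y'.hom f' hf' xt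
  have h2 := Groth.Agent.Lib.helper3.FibreDimBC.fibreDimAt_eq_of_isPullback f (pullback.fst q g)
    (pullback.fst X.hom g) f' sq (xt.left pt)
  have h3 := Groth.Agent.Lib.helper3.FibreDimBC.fibreDimAt_eq_of_isPullback f (pullback.fst q g)
    (pullback.fst X.hom g) f' sq (η[X'].left pt)
  have h4 : pullback.fst X.hom g (xt.left pt) = x := by
    have e1 : xt.left ≫ pullback.fst X.hom g = ιx := pullback.lift_fst _ _ _
    rw [← Scheme.Hom.comp_apply, e1, Scheme.Hom.comp_apply]
    exact Scheme.fromSpecResidueField_apply _ _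
  have h5 : pullback.fst X.hom g (η[X'].left pt) = η[X].left (IsLocalRing.closedPoint k) := by
    have e1 : η[X'].left ≫ pullback.fst X.hom g =
        ((Functor.LaxMonoidal.ε (Over.pullback g)).left ≫
          pullback.fst (𝟙_ (Over (Spec (CommRingCat.of k)))).hom g) ≫ η[X].left := by
      rw [Functor.obj.η_def, Over.comp_left, Category.assoc, Category.assoc,
        (Groth.Agent.Lib.helper5.GrpHomLocus.isPullback_pullback_map g η[X]).w]
    rw [← Scheme.Hom.comp_apply, e1, Scheme.Hom.comp_apply]
    haveI : Subsingleton ↥(Spec (CommRingCat.of k)) :=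
      inferInstanceAs (Subsingleton (PrimeSpectrum k))
    congr 1
    exact @Subsingleton.elim ↥(Spec (CommRingCat.of k)) _ _ _
  rw [← h4, ← h2, h1, h3, h5]

/-- **S7799** -/
theorem exists_dim_fibre_components [IsProper X.hom] [GeometricallyIntegral X.hom]
    {Y : Scheme.{u}} (q : Y ⟶ Spec (CommRingCat.of k)) [IsSeparated q] (f : X.left ⟶ Y)
    (hf : f ≫ q = X.hom) :
    ∃ d : ℕ, ∀ (y : Y) (Z : Set ↥(f.fiber y)), Z ∈ irreducibleComponents ↥(f.fiber y) →
      topologicalKrullDim ↥Z = d := by
  haveI : LocallyOfFiniteType f := by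
    haveI : LocallyOfFiniteType (f ≫ q) := by rw [hf]; infer_instance
    exact locallyOfFiniteType_of_comp f q
  obtain ⟨d, hd⟩ := Groth.Agent.Lib.helper3.NowhereDenseGen.exists_nat_fibreDimAt f
    (η[X].left (IsLocalRing.closedPoint k))
  refine ⟨d, ?_⟩
  exact Groth.Agent.Lib.helper3.RelDim.hasRelDim_of_forall_fibreDimAt f d
    (fun x => (fibreDimAt_eq_unit X q f hf x).trans hd)

end Groth.Agent.Lib.Helper14.FibreTrans
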