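import Mathlib

/-!
# helper14: finite connected schemes with a rational point over a field are radicial, and
consequences for torsors

* `bijective_residueFieldMap_of_section`: if `e ≫ f = 𝟙`, then `κ(f (e s)) → κ(e s)` is bijective.
* `universallyInjective_of_section`: a morphism `f : Y ⟶ S` with a section and `Y` a single point
  is universally injective.
* `subsingleton_of_isFinite_of_preconnected`: a preconnected scheme finite over a field has at most
  one point.
* `universallyInjective_of_snd`: if the second projection `X ×_S X ⟶ X` is universally injective, so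
  is `X ⟶ S`.
* `exists_section_of_universallyInjective_of_etale`: `X ⟶ Spec K` universally injective, and an étale
  `S' ⟶ Spec K` with `S'` nonempty factoring through `X`  ⟹ `X ⟶ Spec K` has a section.
-/

set_option autoImplicit false
universe u
open CategoryTheory CategoryTheory.Limits AlgebraicGeometry

namespace Groth.Agent.Lib.Helper14.FinConnTorsor

variable {Y S : Scheme.{u}}

theorem bijective_residueFieldMap_of_section (f : Y ⟶ S) (e : S ⟶ Y) (he : e ≫ f = 𝟙 S) (s : S) :
    Function.Bijective (f.residueFieldMap (e s)).hom := by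
  have h1 : (e ≫ f).residueFieldMap s = f.residueFieldMap (e s) ≫ e.residueFieldMap s :=
    Scheme.residueFieldMap_comp e f s
  have key : ∀ (g : S ⟶ S), g = 𝟙 S → Function.Bijective (g.residueFieldMap s).hom := by
    rintro g rfl
    rw [Scheme.residueFieldMap_id]
    exact Function.bijective_id
  have h3 : Function.Bijective ((f.residueFieldMap (e s) ≫ e.residueFieldMap s).hom) := by
    rw [← h1]
    exact key _ he
  refine ⟨RingHom.injective _, fun z => ?_⟩
  obtain ⟨w, hw⟩ := h3.2 ((e.residueFieldMap s).hom z)
  refine ⟨w, (RingHom.injective (e.residueFieldMap s).hom) ?_⟩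
  simpa using hw

theorem isPurelyInseparable_of_surjective {F E : Type*} [Field F] [Field E] (φ : F →+* E)
    (h : Function.Surjective φ) : φ.IsPurelyInseparable := by
  unfold RingHom.IsPurelyInseparable
  letI : Algebra F E := φ.toAlgebra
  rw [isPurelyInseparable_iff]
  intro x
  obtain ⟨a, rfl⟩ := h x
  exact ⟨isIntegral_algebraMap (R := F) (A := E) (x := a), fun _ => ⟨a, rfl⟩⟩

theorem universallyInjective_of_section [Subsingleton Y] (f : Y ⟶ S) (e : S ⟶ Y)
    (he : e ≫ f = 𝟙 S) : UniversallyInjective f := by
  have := (tfae_universallyInjective f).out 0 2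
  rw [this]
  refine ⟨fun a b _ => Subsingleton.elim a b, fun y => ?_⟩
  have hy : e (f y) = y := Subsingleton.elim _ _
  have hb := bijective_residueFieldMap_of_section f e he (f y)
  rw [hy] at hb
  exact isPurelyInseparable_of_surjective _ hb.2

theorem subsingleton_of_isFinite_of_preconnected {K : Type u} [Field K] (f : Y ⟶ Spec (CommRingCat.of K))
    [IsFinite f] [PreconnectedSpace Y] : Subsingleton Y := by
  haveI : IsAffine Y := isAffine_of_isAffineHom f
  have hfin : f.appTop.hom.Finite := f.finite_appTop
  let φ : K →+* Γ(Y, ⊤) := f.appTop.hom.comp (Scheme.ΓSpecIso (CommRingCat.of K)).inv.hom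
  have hφ : φ.Finite := by
    refine RingHom.Finite.comp hfin ?_
    exact RingHom.Finite.of_surjective _
      (ConcreteCategory.bijective_of_isIso (Scheme.ΓSpecIso (CommRingCat.of K)).inv).2
  letI : Algebra K Γ(Y, ⊤) := φ.toAlgebra
  haveI : Module.Finite K Γ(Y, ⊤) := hφ
  haveI : IsArtinianRing Γ(Y, ⊤) := IsArtinianRing.of_finite K Γ(Y, ⊤)
  haveI : DiscreteTopology (Spec Γ(Y, ⊤)) := inferInstanceAs (DiscreteTopology (PrimeSpectrum _))
  haveI : DiscreteTopology Y :=
    (Y.isoSpec.hom.homeomorph).isEmbedding.discreteTopology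
  exact subsingleton_of_preconnected_totallyDisconnected


theorem universallyInjective_of_snd {X : Scheme.{u}} (f : X ⟶ S)
    [UniversallyInjective (pullback.snd f f)] : UniversallyInjective f := by
  have h01 := (tfae_universallyInjective f).out 0 1
  rw [h01]
  intro F _ g₁ g₂ hg
  have hUI : UniversallyInjective (pullback.snd f f) := inferInstance
  have h01' : UniversallyInjective (pullback.snd f f) ↔ ∀ (K : Type u) [Field K],
      Function.Injective (fun g : Spec (CommRingCat.of K) ⟶ pullback f f ↦ g ≫ pullback.snd f f) :=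
    (tfae_universallyInjective (pullback.snd f f)).out 0 1
  have hsnd := h01'.mp hUI F
  have hg' : g₁ ≫ f = g₂ ≫ f := hg
  have hq : pullback.lift g₁ g₂ hg' = pullback.lift g₂ g₂ rfl := by
    apply hsnd
    change pullback.lift g₁ g₂ hg' ≫ pullback.snd f f = pullback.lift g₂ g₂ rfl ≫ pullback.snd f f
    rw [pullback.lift_snd, pullback.lift_snd]
  calc g₁ = pullback.lift g₁ g₂ hg' ≫ pullback.fst f f := (pullback.lift_fst _ _ _).symm
    _ = pullback.lift g₂ g₂ rfl ≫ pullback.fst f f := by rw [hq]
    _ = g₂ := pullback.lift_fst _ _ _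

theorem exists_retraction_residueField {K : Type u} [Field K] (z : ↥(Spec (CommRingCat.of K))) :
    ∃ ρ : (Spec (CommRingCat.of K)).residueField z ⟶ CommRingCat.of K,
      Spec.map ρ ≫ (Spec (CommRingCat.of K)).fromSpecResidueField z = 𝟙 _ := by
  haveI : Subsingleton ↥(Spec (CommRingCat.of K)) :=
    inferInstanceAs (Subsingleton (PrimeSpectrum K))
  obtain rfl : z = (𝟙 (Spec (CommRingCat.of K))) (IsLocalRing.closedPoint K) :=
    Subsingleton.elim _ _
  exact ⟨_, Scheme.descResidueField_stalkClosedPointTo_fromSpecResidueField K _ (𝟙 _)⟩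

theorem exists_section_of_universallyInjective_of_etale {K : Type u} [Field K]
    {X S' : Scheme.{u}} (f : X ⟶ Spec (CommRingCat.of K)) [UniversallyInjective f]
    (s : S' ⟶ X) [Etale (s ≫ f)] (y : S') :
    ∃ t : Spec (CommRingCat.of K) ⟶ X, t ≫ f = 𝟙 _ := by
  have hUI : UniversallyInjective f := inferInstance
  have h02 : UniversallyInjective f ↔ Function.Injective f ∧
      ∀ x, (f.residueFieldMap x).hom.IsPurelyInseparable :=
    (tfae_universallyInjective f).out 0 2
  have hpi : (f.residueFieldMap (s y)).hom.IsPurelyInseparable := (h02.mp hUI).2 (s y)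
  have hcomp : (s ≫ f).residueFieldMap y = f.residueFieldMap (s y) ≫ s.residueFieldMap y :=
    Scheme.residueFieldMap_comp s f y
  letI a3 : Algebra ((Spec (CommRingCat.of K)).residueField ((s ≫ f) y)) (S'.residueField y) :=
    ((s ≫ f).residueFieldMap y).hom.toAlgebra
  haveI hsepL : Algebra.IsSeparable ((Spec (CommRingCat.of K)).residueField ((s ≫ f) y))
      (S'.residueField y) := inferInstance
  letI a1 : Algebra ((Spec (CommRingCat.of K)).residueField ((s ≫ f) y)) (X.residueField (s y)) :=
    (f.residueFieldMap (s y)).hom.toAlgebra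
  letI a2 : Algebra (X.residueField (s y)) (S'.residueField y) :=
    (s.residueFieldMap y).hom.toAlgebra
  haveI : IsScalarTower ((Spec (CommRingCat.of K)).residueField ((s ≫ f) y))
      (X.residueField (s y)) (S'.residueField y) := by
    apply IsScalarTower.of_algebraMap_eq'
    change ((s ≫ f).residueFieldMap y).hom =
      (s.residueFieldMap y).hom.comp (f.residueFieldMap (s y)).hom
    rw [hcomp]
    rfl
  haveI hsepM : Algebra.IsSeparable ((Spec (CommRingCat.of K)).residueField ((s ≫ f) y))
      (X.residueField (s y)) :=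
    Algebra.isSeparable_tower_bot_of_isSeparable _ _ (S'.residueField y)
  haveI : IsPurelyInseparable ((Spec (CommRingCat.of K)).residueField ((s ≫ f) y))
      (X.residueField (s y)) := hpi
  have hsurj : Function.Surjective (f.residueFieldMap (s y)).hom :=
    IsPurelyInseparable.surjective_algebraMap_of_isSeparable
      ((Spec (CommRingCat.of K)).residueField ((s ≫ f) y)) (X.residueField (s y))
  have hbij : Function.Bijective (f.residueFieldMap (s y)).hom :=
    ⟨RingHom.injective _, hsurj⟩
  haveI : IsIso (f.residueFieldMap (s y)) :=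
    (ConcreteCategory.isIso_iff_bijective _).mpr hbij
  obtain ⟨ρ, hρ⟩ := exists_retraction_residueField (f (s y))
  refine ⟨Spec.map ρ ≫ Spec.map (inv (f.residueFieldMap (s y))) ≫ X.fromSpecResidueField (s y), ?_⟩
  rw [Category.assoc, Category.assoc, ← Scheme.Hom.SpecMap_residueFieldMap_fromSpecResidueField,
    ← Category.assoc (Spec.map (inv _)), ← Spec.map_comp, IsIso.hom_inv_id, Spec.map_id,
    Category.id_comp, hρ]

end Groth.Agent.Lib.Helper14.FinConnTorsor
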