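import Mathlib
import Groth.Agent.Lib.Helper14.FinConnTorsor

/-!
# helper14: radicial schemes over a perfect field have rational points

* `exists_section_of_bijective`: `f : X ⟶ Spec K` and a point `x` with `κ(f x) → κ(x)` bijective ⟹
  `f` has a section.
* `residueField_equiv`: the residue field of `Spec K` at its point is `K`.
* `exists_section_of_universallyInjective_of_perfectField`: `K` perfect, `f : X ⟶ Spec K`
  universally injective, `X` nonempty ⟹ `f` has a section.
-/

set_option autoImplicit false
universe u
open CategoryTheory CategoryTheory.Limits AlgebraicGeometry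

namespace Groth.Agent.Lib.Helper14.FinConnTorsor

theorem exists_section_of_bijective {K : Type u} [Field K] {X : Scheme.{u}}
    (f : X ⟶ Spec (CommRingCat.of K)) (x : X)
    (hbij : Function.Bijective (f.residueFieldMap x).hom) :
    ∃ t : Spec (CommRingCat.of K) ⟶ X, t ≫ f = 𝟙 _ := by
  haveI : IsIso (f.residueFieldMap x) := (ConcreteCategory.isIso_iff_bijective _).mpr hbij
  obtain ⟨ρ, hρ⟩ := exists_retraction_residueField (f x)
  refine ⟨Spec.map ρ ≫ Spec.map (inv (f.residueFieldMap x)) ≫ X.fromSpecResidueField x, ?_⟩
  rw [Category.assoc, Category.assoc, ← Scheme.Hom.SpecMap_residueFieldMap_fromSpecResidueField,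
    ← Category.assoc (Spec.map (inv _)), ← Spec.map_comp, IsIso.hom_inv_id, Spec.map_id,
    Category.id_comp, hρ]

theorem residueField_equiv {K : Type u} [Field K] (z : ↥(Spec (CommRingCat.of K))) :
    Nonempty (K ≃+* (Spec (CommRingCat.of K)).residueField z) := by
  obtain ⟨ρ, hρ⟩ := exists_retraction_residueField z
  obtain ⟨θ, hθ⟩ := Spec.map_surjective ((Spec (CommRingCat.of K)).fromSpecResidueField z)
  have h1 : θ ≫ ρ = 𝟙 _ := by
    apply Spec.map_injective
    rw [Spec.map_comp, hθ, hρ, Spec.map_id]
  have hsurj : Function.Surjective ρ.hom := by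
    intro c
    refine ⟨θ.hom c, ?_⟩
    have := congrArg (fun g => g.hom c) h1
    simpa using this
  exact ⟨(RingEquiv.ofBijective ρ.hom ⟨RingHom.injective _, hsurj⟩).symm⟩

theorem exists_section_of_universallyInjective_of_perfectField {K : Type u} [Field K]
    [PerfectField K] {X : Scheme.{u}} (f : X ⟶ Spec (CommRingCat.of K)) [UniversallyInjective f]
    (x : X) : ∃ t : Spec (CommRingCat.of K) ⟶ X, t ≫ f = 𝟙 _ := by
  obtain ⟨e⟩ := residueField_equiv (f x)
  haveI : PerfectField ((Spec (CommRingCat.of K)).residueField (f x)) :=
    PerfectField.of_ringEquiv e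
  have hUI : UniversallyInjective f := inferInstance
  have h02 : UniversallyInjective f ↔ Function.Injective f ∧
      ∀ x, (f.residueFieldMap x).hom.IsPurelyInseparable :=
    (tfae_universallyInjective f).out 0 2
  have hpi : (f.residueFieldMap x).hom.IsPurelyInseparable := (h02.mp hUI).2 x
  letI a1 : Algebra ((Spec (CommRingCat.of K)).residueField (f x)) (X.residueField x) :=
    (f.residueFieldMap x).hom.toAlgebra
  haveI : IsPurelyInseparable ((Spec (CommRingCat.of K)).residueField (f x))
      (X.residueField x) := hpi
  haveI : Algebra.IsAlgebraic ((Spec (CommRingCat.of K)).residueField (f x))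
      (X.residueField x) := inferInstance
  haveI : Algebra.IsSeparable ((Spec (CommRingCat.of K)).residueField (f x))
      (X.residueField x) := Algebra.IsAlgebraic.isSeparable_of_perfectField
  have hsurj : Function.Surjective (f.residueFieldMap x).hom :=
    IsPurelyInseparable.surjective_algebraMap_of_isSeparable
      ((Spec (CommRingCat.of K)).residueField (f x)) (X.residueField x)
  exact exists_section_of_bijective f x ⟨RingHom.injective _, hsurj⟩

end Groth.Agent.Lib.Helper14.FinConnTorsor
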