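import Mathlib
import Groth.Prelude.Def_AlgGrp

/-!
# helper14: kernels of homomorphisms of group objects in `Over S`: `G × H ≅ G ×_Q G`
-/

set_option autoImplicit false
universe u
open CategoryTheory MonoidalCategory CartesianMonoidalCategory MonObj GrpObj AlgebraicGeometry

namespace Groth.Agent.Lib.Helper14.KerPullback

variable {S : Scheme.{u}} {G H Q : Over S} [GrpObj G] [GrpObj Q] (h : H ⟶ G) (q : G ⟶ Q)

theorem mono_of_isKernel (hk : AlgGrp.IsKernel h q) : Mono h :=
  ⟨fun {Z} a b hab => by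
    apply hk.hom_ext hab
    exact toUnit_unique _ _⟩

theorem exists_lift_of_comp_eq_one (hk : AlgGrp.IsKernel h q) {Z : Over S} (t : Z ⟶ G)
    (ht : t ≫ q = 1) : ∃ x : Z ⟶ H, x ≫ h = t := by
  refine ⟨hk.lift t (toUnit Z) ?_, hk.lift_fst _ _ _⟩
  rw [ht, Hom.one_def]

theorem comp_eq_one_of_isKernel (hk : AlgGrp.IsKernel h q) {Z : Over S} (x : Z ⟶ H) :
    (x ≫ h) ≫ q = 1 := by
  rw [Category.assoc, hk.w, ← Category.assoc, Hom.one_def]
  congr 1
  exact toUnit_unique _ _

theorem lift_whisker_mul {Z : Over S} (a : Z ⟶ G) (x : Z ⟶ H) :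
    lift a x ≫ (G ◁ h) ≫ μ[G] = a * (x ≫ h) := by
  rw [Hom.mul_def, ← Category.assoc]
  congr 1
  apply CartesianMonoidalCategory.hom_ext <;> simp

/-- `(g, x) ↦ (g, g · h(x))` identifies `G × H` with `G ×_Q G` -/
theorem isPullback_of_isKernel [IsMonHom q] (hk : AlgGrp.IsKernel h q) :
    IsPullback (fst G H) ((G ◁ h) ≫ μ[G]) q q := by
  haveI := mono_of_isKernel h q hk
  have hw : fst G H ≫ q = ((G ◁ h) ≫ μ[G]) ≫ q := by
    have e : (G ◁ h) ≫ μ[G] = fst G H * (snd G H ≫ h) := by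
      have := lift_whisker_mul h (fst G H) (snd G H)
      rwa [lift_fst_snd, Category.id_comp] at this
    rw [e, MonObj.mul_comp, comp_eq_one_of_isKernel h q hk, _root_.mul_one]
  refine ⟨⟨hw⟩, ⟨Limits.PullbackCone.IsLimit.mk _ (fun s => ?_) (fun s => ?_) (fun s => ?_)
    (fun s m hm1 hm2 => ?_)⟩⟩
  · have h1 : (s.fst⁻¹ * s.snd) ≫ q = 1 := by
      rw [MonObj.mul_comp, GrpObj.inv_comp, s.condition, inv_mul_cancel]
    exact lift s.fst (exists_lift_of_comp_eq_one h q hk _ h1).choose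
  · simp
  · have h1 : (s.fst⁻¹ * s.snd) ≫ q = 1 := by
      rw [MonObj.mul_comp, GrpObj.inv_comp, s.condition, inv_mul_cancel]
    show lift s.fst (exists_lift_of_comp_eq_one h q hk _ h1).choose ≫ (G ◁ h) ≫ μ[G] = s.snd
    rw [lift_whisker_mul, (exists_lift_of_comp_eq_one h q hk _ h1).choose_spec,
      mul_inv_cancel_left]
  · have h1 : (s.fst⁻¹ * s.snd) ≫ q = 1 := by
      rw [MonObj.mul_comp, GrpObj.inv_comp, s.condition, inv_mul_cancel]
    show m = lift s.fst (exists_lift_of_comp_eq_one h q hk _ h1).choose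
    apply CartesianMonoidalCategory.hom_ext
    · rw [lift_fst]; exact hm1
    · rw [lift_snd, ← cancel_mono h, (exists_lift_of_comp_eq_one h q hk _ h1).choose_spec]
      have e : m = lift (m ≫ fst G H) (m ≫ snd G H) := by
        apply CartesianMonoidalCategory.hom_ext <;> simp
      have h2 : m ≫ (G ◁ h) ≫ μ[G] = s.snd := hm2
      rw [e, lift_whisker_mul, hm1] at h2
      rw [← h2, inv_mul_cancel_left]

end Groth.Agent.Lib.Helper14.KerPullback
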