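import Mathlib
import Groth.Agent.Lib.Helper14.GeomConnDescent

/-!
# helper14: descent of properties from the kernel to a faithfully flat homomorphism (version
without a group structure on the kernel)
-/

set_option autoImplicit false
universe u
open CategoryTheory AlgebraicGeometry CategoryTheory.Limits MorphismProperty
open MonoidalCategory CartesianMonoidalCategory MonObj GrpObj

namespace Groth.Agent.Lib.Helper14.GeomConnDescent

variable {S : Scheme.{u}} {N G Q : Over S} [GrpObj G] [GrpObj Q]
  (i : N ⟶ G) (q : G ⟶ Q) [IsMonHom q] (hker : AlgGrp.IsKernel i q)

include hker in
/-- a property of `N ⟶ S` stable under base change which descends along fppf covers passes to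
the quotient map `q : G ⟶ Q` with kernel `N` -/
theorem property_quotientMap' (P : MorphismProperty Scheme.{u}) [P.IsStableUnderBaseChange]
    [P.DescendsAlong (@Surjective ⊓ @Flat ⊓ @LocallyOfFinitePresentation)]
    [Flat q.left] [Surjective q.left] [LocallyOfFinitePresentation q.left]
    (hP : P N.hom) : P q.left := by
  have hpb := (KerPullback.isPullback_of_isKernel i q hker).map (Over.forget S)
  have h1 : P (fst G N).left := by
    change P (pullback.fst G.hom N.hom)
    exact P.pullback_fst _ _ hP
  exact MorphismProperty.of_isPullback_of_descendsAlong
    (Q := (@Surjective ⊓ @Flat ⊓ @LocallyOfFinitePresentation : MorphismProperty Scheme.{u}))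
    hpb ⟨⟨inferInstanceAs (Surjective q.left), inferInstanceAs (Flat q.left)⟩,
      inferInstanceAs (LocallyOfFinitePresentation q.left)⟩ h1

include hker in
/-- conversely a base change stable property of `q` passes to the kernel -/
theorem property_kernel (P : MorphismProperty Scheme.{u}) [P.IsStableUnderBaseChange]
    (hP : P q.left) : P N.hom := by
  have hpb : IsPullback i.left (toUnit N).left q.left η[Q].left := hker.map (Over.forget S)
  have h1 : P (toUnit N).left := P.of_isPullback hpb hP
  have h2 : (toUnit N).left = N.hom := by
    have := Over.w (toUnit N)
    simpa using this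
  rwa [h2] at h1

end Groth.Agent.Lib.Helper14.GeomConnDescent
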