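import Mathlib
import Groth.Agent.Lib.Helper14.GeomConnDescent2

/-!
# helper14: a morphism with a surjective section is universally injective; finite connected
schemes over a field are one-point spaces
-/

set_option autoImplicit false
universe u
open CategoryTheory AlgebraicGeometry CategoryTheory.Limits MorphismProperty

namespace Groth.Agent.Lib.Helper14.UnivInjSection

/-- a morphism with a surjective section is universally injective -/
theorem universallyInjective_of_surjective_section {X Y : Scheme.{u}} (f : X ⟶ Y) (σ : Y ⟶ X)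
    (hσ : σ ≫ f = 𝟙 Y) [Surjective σ] : UniversallyInjective f := by
  rw [universallyInjective_eq]
  intro X' Y' i₁ i₂ f' hpb
  let σ' : Y' ⟶ X' := hpb.lift (𝟙 Y') (i₂ ≫ σ) (by
    rw [Category.id_comp, Category.assoc, hσ, Category.comp_id])
  have hσ'1 : σ' ≫ f' = 𝟙 Y' := hpb.lift_fst _ _ _
  have hσ'2 : σ' ≫ i₁ = i₂ ≫ σ := hpb.lift_snd _ _ _
  have hsq : IsPullback σ' i₂ i₁ σ := by
    refine ⟨⟨hσ'2⟩, ⟨PullbackCone.IsLimit.mk _ (fun s => s.fst ≫ f') (fun s => ?_) (fun s => ?_)
      (fun s m h1 h2 => ?_)⟩⟩
    · apply hpb.hom_ext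
      · rw [Category.assoc, Category.assoc, hσ'1, Category.comp_id]
      · have h1 : s.fst ≫ i₁ ≫ f = s.snd := by
          rw [← Category.assoc, s.condition, Category.assoc, hσ, Category.comp_id]
        rw [Category.assoc, Category.assoc, hσ'2, ← Category.assoc f', hpb.w, Category.assoc,
          ← Category.assoc s.fst, s.condition, Category.assoc, ← Category.assoc σ, hσ,
          Category.id_comp]
    · rw [Category.assoc, hpb.w, ← Category.assoc, s.condition, Category.assoc, hσ,
        Category.comp_id]
    · rw [← h1, Category.assoc, hσ'1, Category.comp_id]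
  haveI : Surjective σ' := MorphismProperty.of_isPullback (P := @Surjective) hsq.flip inferInstance
  intro p₁ p₂ h
  obtain ⟨t₁, rfl⟩ := σ'.surjective p₁
  obtain ⟨t₂, rfl⟩ := σ'.surjective p₂
  have e : ∀ t, f' (σ' t) = t := fun t => by
    rw [← Scheme.Hom.comp_apply, hσ'1]; rfl
  have h' : f' (σ' t₁) = f' (σ' t₂) := h
  rw [e, e] at h'
  rw [h']

variable {k : Type u} [Field k]

/-- a connected scheme finite over a field has exactly one point -/
theorem subsingleton_of_isFinite_of_connected {N : Scheme.{u}} (f : N ⟶ Spec (CommRingCat.of k))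
    [IsFinite f] [ConnectedSpace N] : Subsingleton N := by
  haveI : IsAffine N := isAffine_of_isAffineHom f
  have hfin := f.finite_appTop
  haveI : IsArtinianRing Γ(Spec (CommRingCat.of k), ⊤) :=
    (Scheme.ΓSpecIso (CommRingCat.of k)).commRingCatIsoToRingEquiv.symm.isArtinianRing
  haveI : IsArtinianRing Γ(N, ⊤) := by
    algebraize [f.appTop.hom]
    exact IsArtinianRing.of_finite Γ(Spec (CommRingCat.of k), ⊤) Γ(N, ⊤)
  haveI : IsLocallyArtinian (Spec Γ(N, ⊤)) := Scheme.isLocallyArtinianScheme_Spec.mpr inferInstance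
  haveI : IsLocallyArtinian N := IsLocallyArtinian.of_isImmersion N.isoSpec.hom
  exact PreconnectedSpace.trivial_of_discrete

end Groth.Agent.Lib.Helper14.UnivInjSection
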