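import Mathlib
import Groth.Prelude.Def_AlgGrp
import Groth.Agent.Lib.Helper14.HomFlat2
import Groth.Agent.Lib.Helper14.UnivInjSection

/-!
# helper14: a finite group scheme over a field is the product of its reduced subgroup (when it
exists) and its neutral component
-/

set_option autoImplicit false
universe u
open CategoryTheory MonoidalCategory CartesianMonoidalCategory MonObj GrpObj AlgebraicGeometry
  CategoryTheory.Limits

namespace Groth.Agent.Lib.Helper14.FinGrpSplit

variable {k : Type u} [Field k]

/-- a scheme finite over a field is discrete -/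
theorem discreteTopology_of_isFinite {N : Scheme.{u}} (f : N ⟶ Spec (CommRingCat.of k))
    [IsFinite f] : DiscreteTopology N := by
  haveI : IsAffine N := isAffine_of_isAffineHom f
  have hfin := f.finite_appTop
  haveI : IsArtinianRing Γ(Spec (CommRingCat.of k), ⊤) :=
    (Scheme.ΓSpecIso (CommRingCat.of k)).commRingCatIsoToRingEquiv.symm.isArtinianRing
  haveI : IsArtinianRing Γ(N, ⊤) := by
    algebraize [f.appTop.hom]
    exact IsArtinianRing.of_finite Γ(Spec (CommRingCat.of k), ⊤) Γ(N, ⊤)
  haveI : IsLocallyArtinian (Spec Γ(N, ⊤)) := Scheme.isLocallyArtinianScheme_Spec.mpr inferInstance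
  haveI : IsLocallyArtinian N := IsLocallyArtinian.of_isImmersion N.isoSpec.hom
  infer_instance

/-- a reduced one-point scheme over a field with a rational point is the point -/
theorem isIso_of_section_of_subsingleton {I : Scheme.{u}} [IsReduced I] [Subsingleton I]
    (f : I ⟶ Spec (CommRingCat.of k)) (σ : Spec (CommRingCat.of k) ⟶ I) (hσ : σ ≫ f = 𝟙 _) :
    IsIso f := by
  haveI : IsClosedImmersion σ := isClosedImmersion_of_comp_eq_id f σ hσ
  haveI : Surjective σ := ⟨fun x => ⟨IsLocalRing.closedPoint k, Subsingleton.elim _ _⟩⟩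
  haveI : IsIso σ := isIso_of_isClosedImmersion_of_surjective σ
  have : f = inv σ := by
    rw [← cancel_epi σ, hσ, IsIso.hom_inv_id]
  rw [this]
  infer_instance

variable {G Gr G₀ : Over (Spec (CommRingCat.of k))} [GrpObj G] [GrpObj Gr] [GrpObj G₀]
  (r : Gr ⟶ G) [IsMonHom r] (i₀ : G₀ ⟶ G) [IsMonHom i₀]

/-- `(a, b) ↦ r(a) i₀(b)` -/
theorem mulMap_eq : (r ⊗ₘ i₀) ≫ μ[G] = (fst Gr G₀ ≫ r) * (snd Gr G₀ ≫ i₀) := by
  rw [Hom.mul_def]
  congr 1

/-- the multiplication map through the shear automorphism -/
theorem mulMap_eq' : (r ⊗ₘ i₀) ≫ μ[G] = (Gr ◁ i₀) ≫ (HomFlat.shear' r).hom ≫ snd Gr G := by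
  rw [mulMap_eq]
  change _ = (Gr ◁ i₀) ≫ lift (fst Gr G) ((fst Gr G ≫ r) * snd Gr G) ≫ snd Gr G
  rw [lift_snd, MonObj.comp_mul, whiskerLeft_fst_assoc, whiskerLeft_snd]

/-- **A finite group scheme over a field with a reduced subgroup `G_red` and neutral component
`G⁰` is `G_red × G⁰`.** -/
theorem isIso_mulMap [IsFinite G.hom] [IsClosedImmersion r.left] [IsReduced Gr.left]
    [Surjective r.left] [IsOpenImmersion i₀.left] [ConnectedSpace G₀.left] :
    IsIso ((r ⊗ₘ i₀) ≫ μ[G]) := by
  set m := (r ⊗ₘ i₀) ≫ μ[G] with hm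
  -- `G⁰` is a point
  haveI : DiscreteTopology G.left := discreteTopology_of_isFinite G.hom
  haveI : DiscreteTopology G₀.left := i₀.left.isOpenEmbedding.isEmbedding.discreteTopology
  haveI : Subsingleton G₀.left := PreconnectedSpace.trivial_of_discrete
  -- flatness
  haveI : IsOpenImmersion (Gr ◁ i₀).left := by
    rw [Over.whiskerLeft_left]
    exact MorphismProperty.pullbackMap (P := @IsOpenImmersion) (i₁ := 𝟙 Gr.left) (i₂ := i₀.left)
      (inferInstanceAs (IsOpenImmersion (𝟙 Gr.left))) (inferInstanceAs (IsOpenImmersion i₀.left))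
      (Category.id_comp _).symm (Over.w i₀).symm
  haveI : Flat Gr.hom := inferInstance
  haveI : Flat (snd Gr G).left := by
    change Flat (pullback.snd Gr.hom G.hom); infer_instance
  haveI : IsIso (HomFlat.shear' r).hom.left :=
    inferInstanceAs (IsIso ((Over.forget _).map (HomFlat.shear' r).hom))
  haveI hflat : Flat m.left := by
    rw [hm, mulMap_eq', Over.comp_left, Over.comp_left]
    infer_instance
  -- finite presentation
  haveI : LocallyOfFiniteType G.hom := inferInstance
  haveI : IsLocallyNoetherian G.left := LocallyOfFiniteType.isLocallyNoetherian G.hom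
  haveI : LocallyOfFiniteType Gr.hom := by
    rw [← Over.w r]; infer_instance
  haveI : LocallyOfFiniteType G₀.hom := by
    rw [← Over.w i₀]; infer_instance
  haveI : LocallyOfFiniteType (Gr ⊗ G₀).hom := by
    have h1 : (Gr ⊗ G₀).hom = (snd Gr G₀).left ≫ G₀.hom := (Over.w (snd Gr G₀)).symm
    haveI : LocallyOfFiniteType (snd Gr G₀).left := by
      change LocallyOfFiniteType (pullback.snd Gr.hom G₀.hom); infer_instance
    rw [h1]; infer_instance
  haveI : LocallyOfFiniteType m.left := by
    have h1 : LocallyOfFiniteType (m.left ≫ G.hom) := by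
      rw [Over.w m]; infer_instance
    exact locallyOfFiniteType_of_comp m.left G.hom
  haveI : LocallyOfFinitePresentation m.left := inferInstance
  -- the intersection `G_red ∩ G⁰` is trivial
  have htriv : ∀ (T : Over (Spec (CommRingCat.of k))) (a : T ⟶ Gr) (b : T ⟶ G₀),
      a ≫ r = b ≫ i₀ → a = 1 ∧ b = 1 := by
    intro T a b hab
    let I := pullback r.left i₀.left
    haveI : IsReduced I := isReduced_of_isOpenImmersion (pullback.fst r.left i₀.left)
    haveI : Subsingleton I := by
      refine ⟨fun x y => ?_⟩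
      exact (pullback.snd r.left i₀.left).isEmbedding.injective (Subsingleton.elim _ _)
    -- the unit section of `I`
    let σ : Spec (CommRingCat.of k) ⟶ I :=
      pullback.lift η[Gr].left η[G₀].left (by
        rw [← Over.comp_left, ← Over.comp_left, IsMonHom.one_hom, IsMonHom.one_hom])
    let fI : I ⟶ Spec (CommRingCat.of k) := pullback.fst r.left i₀.left ≫ Gr.hom
    have hσ : σ ≫ fI = 𝟙 _ := by
      change σ ≫ pullback.fst r.left i₀.left ≫ Gr.hom = 𝟙 _
      rw [← Category.assoc, pullback.lift_fst]
      exact Over.w η[Gr]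
    haveI : IsIso fI := isIso_of_section_of_subsingleton fI σ hσ
    -- the two `T`-points of `I`
    let u : T.left ⟶ I := pullback.lift a.left b.left (by
      rw [← Over.comp_left, ← Over.comp_left, hab])
    let v : T.left ⟶ I := T.hom ≫ σ
    have huv : u = v := by
      rw [← cancel_mono fI]
      change pullback.lift a.left b.left _ ≫ pullback.fst r.left i₀.left ≫ Gr.hom =
        (T.hom ≫ σ) ≫ fI
      rw [← Category.assoc, pullback.lift_fst, Category.assoc, hσ, Category.comp_id, Over.w a]
    constructor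
    · ext1
      have := congrArg (fun w => w ≫ pullback.fst r.left i₀.left) huv
      simp only [u, v, pullback.lift_fst, Category.assoc, σ] at this
      rw [this]
      rfl
    · ext1
      have := congrArg (fun w => w ≫ pullback.snd r.left i₀.left) huv
      simp only [u, v, pullback.lift_snd, Category.assoc, σ] at this
      rw [this]
      rfl
  -- `m` is a monomorphism
  haveI hmono : Mono m := by
    refine ⟨fun {T} s t hst => ?_⟩
    rw [hm, mulMap_eq, MonObj.comp_mul, MonObj.comp_mul] at hst
    simp only [← Category.assoc] at hst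
    set a := s ≫ fst Gr G₀ with ha
    set b := s ≫ snd Gr G₀ with hb
    set a' := t ≫ fst Gr G₀ with ha'
    set b' := t ≫ snd Gr G₀ with hb'
    have h1 : (a'⁻¹ * a) ≫ r = (b' * b⁻¹) ≫ i₀ := by
      have e1 : ∀ (x : T ⟶ Gr), x⁻¹ ≫ r = (x ≫ r)⁻¹ := by
        intro x
        apply eq_inv_of_mul_eq_one_left
        rw [← MonObj.mul_comp, inv_mul_cancel, MonObj.one_comp]
      have e2 : ∀ (x : T ⟶ G₀), x⁻¹ ≫ i₀ = (x ≫ i₀)⁻¹ := by
        intro x
        apply eq_inv_of_mul_eq_one_left
        rw [← MonObj.mul_comp, inv_mul_cancel, MonObj.one_comp]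
      rw [MonObj.mul_comp, MonObj.mul_comp, e1, e2, inv_mul_eq_iff_eq_mul, ← _root_.mul_assoc,
        eq_mul_inv_iff_mul_eq]
      exact hst
    obtain ⟨h2, h3⟩ := htriv T _ _ h1
    have h4 : a = a' := by
      rw [inv_mul_eq_one] at h2
      exact h2.symm
    have h5 : b = b' := by
      rw [mul_inv_eq_one] at h3
      exact h3.symm
    apply CartesianMonoidalCategory.hom_ext
    · exact h4
    · exact h5
  haveI : Mono m.left := by
    haveI : Mono ((Over.forget _).map m) := inferInstance
    exact ‹Mono ((Over.forget _).map m)›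
  haveI : IsOpenImmersion m.left := IsOpenImmersion.of_flat_of_mono m.left
  -- surjectivity
  haveI : Surjective m.left := by
    refine ⟨fun g => ?_⟩
    obtain ⟨x, rfl⟩ := r.left.surjective g
    refine ⟨(lift (𝟙 Gr) (toUnit Gr ≫ η[G₀])).left x, ?_⟩
    rw [← Scheme.Hom.comp_apply, ← Over.comp_left, hm, mulMap_eq, MonObj.comp_mul, lift_fst_assoc,
      lift_snd_assoc, Category.id_comp, Category.assoc, IsMonHom.one_hom]
    have : toUnit Gr ≫ η[G] = (1 : Gr ⟶ G) := (Hom.one_def).symm
    rw [this, _root_.mul_one]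
  haveI : IsIso m.left := (isIso_iff_isOpenImmersion_and_surjective m.left).mpr ⟨‹_›, ‹_›⟩
  haveI : IsIso ((Over.forget _).map m) := ‹IsIso m.left›
  exact isIso_of_reflects_iso m (Over.forget _)

end Groth.Agent.Lib.Helper14.FinGrpSplit
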