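import Mathlib
import Groth.Prelude.Def_AlgGrp
import Groth.Agent.Lib.Helper14.OrbitSmooth
import Groth.Agent.Lib.Helper22.ActPts

/-!
# helper14: orbits of group schemes flat and locally of finite presentation: set-theoretic
stability of the orbit and of its closure under the action
-/

set_option autoImplicit false
universe u
open CategoryTheory MonoidalCategory CartesianMonoidalCategory MonObj GrpObj AlgebraicGeometry
  CategoryTheory.Limits TopologicalSpace

namespace Groth.Agent.Lib.Helper14.OrbitLC

open Groth.Agent.Lib.helper22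

/-- points of a cartesian square of schemes -/
theorem exists_preimage_of_isPullback {P X Y Z : Scheme.{u}} {fst : P ⟶ X} {snd : P ⟶ Y}
    {f : X ⟶ Z} {g : Y ⟶ Z} (h : IsPullback fst snd f g) (x : X) (y : Y) (hxy : f x = g y) :
    ∃ p : P, fst p = x ∧ snd p = y := by
  obtain ⟨z, hz1, hz2⟩ := Scheme.Pullback.exists_preimage_pullback x y hxy
  refine ⟨h.isoPullback.inv z, ?_, ?_⟩
  · rw [← Scheme.Hom.comp_apply, h.isoPullback_inv_fst, hz1]
  · rw [← Scheme.Hom.comp_apply, h.isoPullback_inv_snd, hz2]

variable {S : Scheme.{u}}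

/-- `A ⊗ B` is the pullback of `A ⊗ C ⟶ C` along `g : B ⟶ C` -/
theorem isPullback_whiskerLeft (A : Over S) {B C : Over S} (g : B ⟶ C) :
    IsPullback (A ◁ g) (snd A B) (snd A C) g := by
  apply isPullback_of_points
  · rw [whiskerLeft_snd]
  · intro T s t hst
    refine ⟨lift (s ≫ fst A C) t, ?_, lift_snd _ _⟩
    apply CartesianMonoidalCategory.hom_ext
    · rw [Category.assoc, whiskerLeft_fst, lift_fst]
    · rw [Category.assoc, whiskerLeft_snd, ← Category.assoc, lift_snd, hst]
  · intro T l l' h1 h2
    apply CartesianMonoidalCategory.hom_ext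
    · have := congrArg (fun f => f ≫ fst A C) h1
      simpa only [Category.assoc, whiskerLeft_fst] using this
    · exact h2

/-- points of `A ⊗ C` whose second coordinate is in the range of `g : B ⟶ C` lift to `A ⊗ B` -/
theorem exists_preimage_whiskerLeft (A : Over S) {B C : Over S} (g : B ⟶ C) (q : (A ⊗ C).left)
    (z : B.left) (hq : (snd A C).left q = g.left z) :
    ∃ w : (A ⊗ B).left, (A ◁ g).left w = q ∧ (snd A B).left w = z :=
  exists_preimage_of_isPullback ((isPullback_whiskerLeft A g).map (Over.forget S)) q z hq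

/-- points of a product with given coordinates -/
theorem exists_point_tensor (A B : Over S) (x : A.left) (y : B.left) (h : A.hom x = B.hom y) :
    ∃ w : (A ⊗ B).left, (fst A B).left w = x ∧ (snd A B).left w = y :=
  Scheme.Pullback.exists_preimage_pullback x y h

variable {G X : Over S} [GrpObj G] (a : AlgGrp.Action G X) (x : 𝟙_ (Over S) ⟶ X)

/-- the map `(g, y) ↦ (g⁻¹, g y)` -/
noncomputable def invShear : G ⊗ X ⟶ G ⊗ X := lift (fst G X)⁻¹ a.act

theorem invShear_snd : invShear a ≫ snd G X = a.act := lift_snd _ _

theorem invShear_act : invShear a ≫ a.act = snd G X := by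
  have h : invShear a ≫ a.act = smul a (fst G X)⁻¹ (smul a (fst G X) (snd G X)) := by
    rw [← act_eq_smul]
    rfl
  rw [h, Groth.Agent.Lib.helper22.inv_smul_smul]

/-- the orbit is stable under the action, on the level of points of `G ⊗ X` -/
theorem act_mem_orbit (q : (G ⊗ X).left)
    (hq : (snd G X).left q ∈ Set.range (a.orbitMap x).left) :
    a.act.left q ∈ Set.range (a.orbitMap x).left := by
  obtain ⟨z, hz⟩ := hq
  obtain ⟨w, hw, -⟩ := exists_preimage_whiskerLeft G (a.orbitMap x) q z hz.symm
  refine ⟨μ[G].left w, ?_⟩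
  rw [← hw, ← Scheme.Hom.comp_apply, ← Scheme.Hom.comp_apply, ← Over.comp_left, ← Over.comp_left,
    Groth.Agent.Lib.Helper14.OrbitSmooth.orbitMap_equivariant]

/-- converse of `act_mem_orbit` -/
theorem snd_mem_orbit (q : (G ⊗ X).left)
    (hq : a.act.left q ∈ Set.range (a.orbitMap x).left) :
    (snd G X).left q ∈ Set.range (a.orbitMap x).left := by
  have h1 : (snd G X).left ((invShear a).left q) ∈ Set.range (a.orbitMap x).left := by
    rw [← Scheme.Hom.comp_apply, ← Over.comp_left, invShear_snd]
    exact hq
  have h2 := act_mem_orbit a x _ h1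
  rwa [← Scheme.Hom.comp_apply, ← Over.comp_left, invShear_act] at h2

/-- the projection `G ⊗ X ⟶ X` is open if `G` is flat and locally of finite presentation -/
theorem isOpenMap_snd [Flat G.hom] [LocallyOfFinitePresentation G.hom] :
    IsOpenMap (snd G X).left := by
  haveI : UniversallyOpen (snd G X).left := by
    change UniversallyOpen (pullback.snd G.hom X.hom); infer_instance
  exact (snd G X).left.isOpenMap

/-- the action `G ⊗ X ⟶ X` is open if `G` is flat and locally of finite presentation -/
theorem isOpenMap_act [Flat G.hom] [LocallyOfFinitePresentation G.hom] :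
    IsOpenMap a.act.left := by
  haveI : UniversallyOpen (snd G X).left := by
    change UniversallyOpen (pullback.snd G.hom X.hom); infer_instance
  haveI : IsIso (shear a).hom.left :=
    inferInstanceAs (IsIso ((Over.forget S).map (shear a).hom))
  haveI : UniversallyOpen a.act.left := by
    rw [← shear_hom_snd a, Over.comp_left]
    infer_instance
  exact a.act.left.isOpenMap

variable [Flat G.hom] [LocallyOfFinitePresentation G.hom]

/-- the closure of the orbit is stable under the action -/
theorem act_mem_closure_orbit (q : (G ⊗ X).left)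
    (hq : (snd G X).left q ∈ closure (Set.range (a.orbitMap x).left)) :
    a.act.left q ∈ closure (Set.range (a.orbitMap x).left) := by
  have h1 : q ∈ closure ((snd G X).left ⁻¹' Set.range (a.orbitMap x).left) := by
    rw [← (isOpenMap_snd (G := G) (X := X)).preimage_closure_eq_closure_preimage
      (snd G X).left.continuous]
    exact hq
  have h2 := image_closure_subset_closure_image a.act.left.continuous ⟨q, h1, rfl⟩
  refine closure_mono ?_ h2
  rintro _ ⟨q', hq', rfl⟩
  exact act_mem_orbit a x q' hq'

/-- converse of `act_mem_closure_orbit` -/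
theorem snd_mem_closure_orbit (q : (G ⊗ X).left)
    (hq : a.act.left q ∈ closure (Set.range (a.orbitMap x).left)) :
    (snd G X).left q ∈ closure (Set.range (a.orbitMap x).left) := by
  have h1 : (snd G X).left ((invShear a).left q) ∈ closure (Set.range (a.orbitMap x).left) := by
    rw [← Scheme.Hom.comp_apply, ← Over.comp_left, invShear_snd]
    exact hq
  have h2 := act_mem_closure_orbit a x _ h1
  rwa [← Scheme.Hom.comp_apply, ← Over.comp_left, invShear_act] at h2

/-- the difference map `(g, h) ↦ (g h⁻¹, h x)` -/
noncomputable def diffMap : G ⊗ G ⟶ G ⊗ X :=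
  lift (fst G G * (snd G G)⁻¹) (snd G G ≫ a.orbitMap x)

theorem diffMap_snd : diffMap a x ≫ snd G X = snd G G ≫ a.orbitMap x := lift_snd _ _

theorem diffMap_act : diffMap a x ≫ a.act = fst G G ≫ a.orbitMap x := by
  have h : diffMap a x ≫ a.act =
      smul a (fst G G * (snd G G)⁻¹) (snd G G ≫ a.orbitMap x) := rfl
  rw [h, comp_orbitMap, ← Groth.Agent.Lib.helper22.mul_smul, inv_mul_cancel_right, ← comp_orbitMap]

/-- **The orbit is locally closed as soon as it contains a nonempty relatively open subset of
its closure.** More precisely, if `V` is open, meets the orbit and `V ∩ closure O ⊆ O`, then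
`O = G·V ∩ closure O`. -/
theorem orbit_eq_inter [Subsingleton S] (V : Set X.left) (hV : IsOpen V)
    (hVO : V ∩ closure (Set.range (a.orbitMap x).left) ⊆ Set.range (a.orbitMap x).left)
    (hne : (V ∩ Set.range (a.orbitMap x).left).Nonempty) :
    ∃ W : Set X.left, IsOpen W ∧
      Set.range (a.orbitMap x).left = W ∩ closure (Set.range (a.orbitMap x).left) := by
  refine ⟨a.act.left '' ((snd G X).left ⁻¹' V),
    isOpenMap_act a _ (hV.preimage (snd G X).left.continuous), ?_⟩
  apply Set.Subset.antisymm
  · rintro _ ⟨g, rfl⟩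
    refine ⟨?_, subset_closure ⟨g, rfl⟩⟩
    obtain ⟨_, hvV, h, rfl⟩ := hne
    obtain ⟨r, hr1, hr2⟩ := exists_point_tensor G G g h (Subsingleton.elim _ _)
    refine ⟨(diffMap a x).left r, ?_, ?_⟩
    · rw [Set.mem_preimage, ← Scheme.Hom.comp_apply, ← Over.comp_left, diffMap_snd,
        Over.comp_left, Scheme.Hom.comp_apply, hr2]
      exact hvV
    · rw [← Scheme.Hom.comp_apply, ← Over.comp_left, diffMap_act,
        Over.comp_left, Scheme.Hom.comp_apply, hr1]
  · rintro _ ⟨⟨q, hqV, rfl⟩, hcl⟩
    have h1 := snd_mem_closure_orbit a x q hcl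
    exact act_mem_orbit a x q (hVO ⟨hqV, h1⟩)

end Groth.Agent.Lib.Helper14.OrbitLC
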