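import Mathlib
import Groth.Agent.Lib.Helper14.OrbitLC1
import Groth.Agent.Lib.Helper14.DenseRat3
import Groth.Agent.Lib.Helper3.GrobFreeSch

/-!
# helper14: a dominant morphism of finite type to a reduced scheme hits a nonempty open; orbits
of smooth group schemes of finite type over a field are locally closed
-/

set_option autoImplicit false
universe u
open CategoryTheory MonoidalCategory CartesianMonoidalCategory MonObj GrpObj AlgebraicGeometry
  CategoryTheory.Limits TopologicalSpace

namespace Groth.Agent.Lib.Helper14.OrbitLC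

/-- a quasi-compact morphism locally of finite type with dense range to a nonempty reduced scheme
has a nonempty open subset of the target inside its range (generic flatness) -/
theorem exists_open_subset_range {X C : Scheme.{u}} (f : X ⟶ C) [IsReduced C] [Nonempty C]
    [LocallyOfFiniteType f] [QuasiCompact f] (hd : DenseRange f) :
    ∃ V : Set C, IsOpen V ∧ V.Nonempty ∧ V ⊆ Set.range f := by
  obtain ⟨U, hUd, hfl, hfp⟩ := Groth.Agent.Lib.helper3.GrobFree.exists_dense_open_flat_lfp f
  haveI := hfl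
  haveI := hfp
  haveI : UniversallyOpen (f ∣_ U) := inferInstance
  haveI : UniversallyOpen ((f ⁻¹ᵁ U).ι ≫ f) := by
    rw [← morphismRestrict_ι]
    infer_instance
  refine ⟨Set.range ((f ⁻¹ᵁ U).ι ≫ f), ((f ⁻¹ᵁ U).ι ≫ f).isOpenMap.isOpen_range, ?_, ?_⟩
  · obtain ⟨c, hc⟩ := hUd.nonempty
    obtain ⟨y, hyU, x, rfl⟩ := hd.inter_open_nonempty U U.2 ⟨c, hc⟩
    exact ⟨f x, ⟨⟨x, hyU⟩, rfl⟩⟩
  · rintro _ ⟨z, rfl⟩
    exact ⟨(f ⁻¹ᵁ U).ι z, rfl⟩

variable {k : Type u} [Field k]

/-- **Orbits of smooth group schemes of finite type over a field are locally closed**: there is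
an open `W` with `O = W ∩ closure O`. -/
theorem orbit_eq_open_inter_closure {G X : Over (Spec (CommRingCat.of k))} [GrpObj G]
    [Smooth G.hom] [QuasiCompact G.hom] [LocallyOfFiniteType X.hom] [QuasiSeparated X.hom]
    (a : AlgGrp.Action G X) (x : 𝟙_ (Over (Spec (CommRingCat.of k))) ⟶ X) :
    ∃ W : Set X.left, IsOpen W ∧
      Set.range (a.orbitMap x).left = W ∩ closure (Set.range (a.orbitMap x).left) := by
  haveI hGred : IsReduced G.left := FibreH0.isReduced_of_smooth_field k G.hom
  set φ := (a.orbitMap x).left with hφ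
  let Cl : Closeds X.left := ⟨closure (Set.range φ), isClosed_closure⟩
  let C := (Scheme.IdealSheafData.vanishingIdeal Cl).subscheme
  let ιC : C ⟶ X.left := (Scheme.IdealSheafData.vanishingIdeal Cl).subschemeι
  haveI : IsReduced C := DenseRat.isReduced_subscheme_vanishingIdeal Cl
  have hrange : Set.range ιC = closure (Set.range φ) :=
    DenseRat.range_subschemeι_vanishingIdeal Cl
  obtain ⟨φ', hφ'⟩ := OrbitSmooth.exists_lift_immersion ιC φ (by
    rw [hrange]; exact subset_closure)
  haveI : Nonempty G.left := ⟨η[G].left (IsLocalRing.closedPoint k)⟩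
  haveI : Nonempty C := ⟨φ' (η[G].left (IsLocalRing.closedPoint k))⟩
  haveI : LocallyOfFiniteType φ := by
    have h1 : LocallyOfFiniteType (φ ≫ X.hom) := by
      rw [hφ, Over.w (a.orbitMap x)]; infer_instance
    exact locallyOfFiniteType_of_comp φ X.hom
  haveI : LocallyOfFiniteType φ' := by
    have h1 : LocallyOfFiniteType (φ' ≫ ιC) := by rw [hφ']; infer_instance
    exact locallyOfFiniteType_of_comp φ' ιC
  haveI : QuasiCompact φ := by
    have h1 : QuasiCompact (φ ≫ X.hom) := by
      rw [hφ, Over.w (a.orbitMap x)]; infer_instance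
    exact QuasiCompact.of_comp φ X.hom
  haveI : QuasiCompact φ' := by
    have h1 : QuasiCompact (φ' ≫ ιC) := by rw [hφ']; infer_instance
    exact QuasiCompact.of_comp φ' ιC
  have hd : DenseRange φ' := by
    rw [DenseRange, dense_iff_closure_eq,
      ιC.isClosedEmbedding.isInducing.closure_eq_preimage_closure_image, ← Set.range_comp]
    have : (⇑ιC ∘ ⇑φ') = ⇑φ := by
      rw [← hφ']; rfl
    rw [this, ← hrange]
    exact Set.preimage_range _
  obtain ⟨V', hV'o, hV'ne, hV'⟩ := exists_open_subset_range φ' hd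
  obtain ⟨V, hVo, rfl⟩ := ιC.isClosedEmbedding.isInducing.isOpen_iff.mp hV'o
  refine orbit_eq_inter a x V hVo ?_ ?_
  · rintro y ⟨hyV, hycl⟩
    rw [← hrange] at hycl
    obtain ⟨c, rfl⟩ := hycl
    obtain ⟨g, rfl⟩ := hV' hyV
    exact ⟨g, by rw [← hφ, ← hφ']; rfl⟩
  · obtain ⟨c, hc⟩ := hV'ne
    obtain ⟨g, rfl⟩ := hV' hc
    exact ⟨ιC (φ' g), hc, g, by rw [← hφ, ← hφ']; rfl⟩

/-- the reduced orbit: a reduced scheme with an immersion onto the orbit -/
theorem exists_reduced_orbit {G X : Over (Spec (CommRingCat.of k))} [GrpObj G]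
    [Smooth G.hom] [QuasiCompact G.hom] [LocallyOfFiniteType X.hom] [QuasiSeparated X.hom]
    (a : AlgGrp.Action G X) (x : 𝟙_ (Over (Spec (CommRingCat.of k))) ⟶ X) :
    ∃ (O : Scheme.{u}) (i : O ⟶ X.left), IsImmersion i ∧ IsReduced O ∧
      Set.range i = Set.range (a.orbitMap x).left := by
  obtain ⟨W, hW, hO⟩ := orbit_eq_open_inter_closure a x
  set φ := (a.orbitMap x).left with hφ
  let Cl : Closeds X.left := ⟨closure (Set.range φ), isClosed_closure⟩
  let C := (Scheme.IdealSheafData.vanishingIdeal Cl).subscheme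
  let ιC : C ⟶ X.left := (Scheme.IdealSheafData.vanishingIdeal Cl).subschemeι
  haveI : IsReduced C := DenseRat.isReduced_subscheme_vanishingIdeal Cl
  have hrange : Set.range ιC = closure (Set.range φ) :=
    DenseRat.range_subschemeι_vanishingIdeal Cl
  let Wo : X.left.Opens := ⟨W, hW⟩
  refine ⟨(ιC ⁻¹ᵁ Wo).toScheme, (ιC ⁻¹ᵁ Wo).ι ≫ ιC, inferInstance, inferInstance, ?_⟩
  rw [Scheme.Hom.comp_base, TopCat.coe_comp, Set.range_comp, Scheme.Opens.range_ι, hO, ← hrange]
  exact Set.image_preimage_eq_inter_range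

end Groth.Agent.Lib.Helper14.OrbitLC
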