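import Mathlib
import Groth.Prelude.Def_AGF
import Groth.Agent.Lib.Helper14.OrbitLC2

/-!
# helper14: the reduced orbit of a smooth group scheme of finite type over a field is the
quotient of the group by the stabilizer
-/

set_option autoImplicit false
universe u
open CategoryTheory MonoidalCategory CartesianMonoidalCategory MonObj GrpObj AlgebraicGeometry
  CategoryTheory.Limits TopologicalSpace

namespace Groth.Agent.Lib.Helper14.OrbitLC

open Groth.Agent.Lib.helper22 Groth.Agent.Lib.Helper14.OrbitSmooth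

variable {k : Type u} [Field k]

/-- cancelling a monomorphism in a pullback square -/
theorem isPullback_of_comp_mono {C : Type*} [Category C] {P A B D E : C} {p₁ : P ⟶ A} {p₂ : P ⟶ B}
    {f : A ⟶ D} {g : B ⟶ D} (m : D ⟶ E) [Mono m] (h : IsPullback p₁ p₂ (f ≫ m) (g ≫ m)) :
    IsPullback p₁ p₂ f g := by
  apply isPullback_of_points
  · rw [← cancel_mono m, Category.assoc, Category.assoc, h.w]
  · intro T s t hst
    exact ⟨h.lift s t (by rw [← Category.assoc, hst, Category.assoc]), h.lift_fst _ _ _,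
      h.lift_snd _ _ _⟩
  · intro T l l' h1 h2
    exact h.hom_ext h1 h2

/-- **The reduced orbit with its action**: given a reduced immersion onto the orbit of a
rational point under a smooth group scheme, the group acts on it, the orbit map to it is flat
and surjective. -/
theorem exists_action_on_orbit {G X : Over (Spec (CommRingCat.of k))} [GrpObj G]
    [Smooth G.hom] [LocallyOfFiniteType X.hom] (a : AlgGrp.Action G X)
    (x : 𝟙_ (Over (Spec (CommRingCat.of k))) ⟶ X) {O : Scheme.{u}} (i : O ⟶ X.left)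
    [IsImmersion i] [IsReduced O] (hO : Set.range i = Set.range (a.orbitMap x).left) :
    ∃ (b : AlgGrp.Action G (Over.mk (i ≫ X.hom)))
      (y : 𝟙_ (Over (Spec (CommRingCat.of k))) ⟶ Over.mk (i ≫ X.hom)),
      (G ◁ (Over.homMk i rfl : Over.mk (i ≫ X.hom) ⟶ X)) ≫ a.act =
        b.act ≫ (Over.homMk i rfl : Over.mk (i ≫ X.hom) ⟶ X) ∧
      y ≫ (Over.homMk i rfl : Over.mk (i ≫ X.hom) ⟶ X) = x ∧
      b.orbitMap y ≫ (Over.homMk i rfl : Over.mk (i ≫ X.hom) ⟶ X) = a.orbitMap x ∧
      Flat (b.orbitMap y).left ∧ Surjective (b.orbitMap y).left := by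
  haveI hGred : IsReduced G.left := FibreH0.isReduced_of_smooth_field k G.hom
  let Oo : Over (Spec (CommRingCat.of k)) := Over.mk (i ≫ X.hom)
  let iO : Oo ⟶ X := Over.homMk i rfl
  haveI hmono : Mono iO := by
    haveI : Mono ((Over.forget _).map iO) := inferInstanceAs (Mono i)
    exact (Over.forget _).mono_of_mono_map ‹_›
  -- the orbit map lifts to `g : G ⟶ Oo`
  obtain ⟨g₁, hg₁⟩ := exists_lift_immersion i (a.orbitMap x).left (by rw [hO])
  let g : G ⟶ Oo := Over.homMk g₁ (by
    change g₁ ≫ i ≫ X.hom = G.hom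
    rw [← Category.assoc, hg₁, Over.w])
  have hg : g ≫ iO = a.orbitMap x := by
    ext1
    exact hg₁
  haveI hgs : Surjective g.left := by
    refine ⟨fun o => ?_⟩
    have h1 : i o ∈ Set.range (a.orbitMap x).left := by rw [← hO]; exact ⟨o, rfl⟩
    obtain ⟨z, hz⟩ := h1
    refine ⟨z, ?_⟩
    apply i.isEmbedding.injective
    change (g₁ ≫ i) z = _
    rw [hg₁]
    exact hz
  -- `G ⊗ Oo` is reduced
  haveI : Smooth (snd G Oo).left := by
    change Smooth (pullback.snd G.hom Oo.hom); infer_instance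
  haveI : IsReduced Oo.left := ‹IsReduced O›
  haveI : IsReduced (G ⊗ Oo).left :=
    Groth.Agent.H1.SmoothReduced.isReduced_of_smooth (snd G Oo).left
  have heq := orbitMap_equivariant a x
  haveI : Surjective (G ◁ g).left := surjective_whiskerLeft_left g
  have hr : Set.range ((G ◁ iO) ≫ a.act).left ⊆ Set.range i := by
    rintro _ ⟨z, rfl⟩
    obtain ⟨w, rfl⟩ := (G ◁ g).left.surjective z
    rw [hO]
    refine ⟨μ[G].left w, ?_⟩
    rw [← Scheme.Hom.comp_apply, ← Scheme.Hom.comp_apply, ← Over.comp_left, ← Over.comp_left,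
      ← heq, ← hg, MonoidalCategory.whiskerLeft_comp, Category.assoc]
  obtain ⟨b₁, hb₁⟩ := exists_lift_immersion i ((G ◁ iO) ≫ a.act).left hr
  let bact : G ⊗ Oo ⟶ Oo := Over.homMk b₁ (by
    change b₁ ≫ i ≫ X.hom = (G ⊗ Oo).hom
    rw [← Category.assoc, hb₁, Over.w])
  have hb : bact ≫ iO = (G ◁ iO) ≫ a.act := by
    ext1
    exact hb₁
  let b : AlgGrp.Action G Oo :=
    { act := bact
      one_act := by
        rw [← cancel_mono iO, Category.assoc, hb, ← whisker_exchange_assoc, a.one_act,
          leftUnitor_naturality]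
      mul_act := by
        rw [← cancel_mono iO, Category.assoc, hb, ← whisker_exchange_assoc, a.mul_act,
          Category.assoc, Category.assoc, hb, ← MonoidalCategory.whiskerLeft_comp_assoc, hb,
          MonoidalCategory.whiskerLeft_comp, Category.assoc, associator_naturality_right_assoc] }
  have hgeq : (G ◁ g) ≫ b.act = μ[G] ≫ g := by
    rw [← cancel_mono iO, Category.assoc, hb, ← MonoidalCategory.whiskerLeft_comp_assoc, hg, heq,
      Category.assoc, hg]
  -- flatness of `g`
  haveI : LocallyOfFiniteType Oo.hom := inferInstanceAs (LocallyOfFiniteType (i ≫ X.hom))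
  haveI : IsLocallyNoetherian Oo.left := LocallyOfFiniteType.isLocallyNoetherian Oo.hom
  haveI : LocallyOfFiniteType g.left := by
    have h1 : LocallyOfFiniteType (g.left ≫ Oo.hom) := by rw [Over.w g]; infer_instance
    exact locallyOfFiniteType_of_comp g.left Oo.hom
  haveI : LocallyOfFinitePresentation g.left := inferInstance
  haveI : Nonempty G.left := ⟨η[G].left (IsLocalRing.closedPoint k)⟩
  haveI : Nonempty Oo.left := ⟨g.left (η[G].left (IsLocalRing.closedPoint k))⟩
  obtain ⟨y, hy⟩ := HomFlat.exists_maximal_point Oo.left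
  obtain ⟨z, rfl⟩ := g.left.surjective y
  obtain ⟨U, hU, hUflat⟩ := HomFlat.exists_flatLocus g.left
  have hzU : z ∈ U := (hU z).mpr (HomFlat.flat_stalkMap_of_maximal g.left z hy)
  haveI : Nonempty U := ⟨⟨z, hzU⟩⟩
  let Uo : Over (Spec (CommRingCat.of k)) := Over.mk (U.ι ≫ G.hom)
  let j : Uo ⟶ G := Over.homMk U.ι rfl
  haveI : Flat G.hom := inferInstance
  haveI : Flat Uo.hom := inferInstanceAs (Flat (U.ι ≫ G.hom))
  haveI : Surjective Uo.hom := HomFlat.surjective_of_nonempty_field (W := U) (U.ι ≫ G.hom)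
  haveI : Flat (j ≫ g).left := by
    rw [Over.comp_left]
    exact hUflat
  haveI : Flat g.left := HomFlat.flat_of_flat_comp_equivariant b g hgeq j
  -- the base point
  have hgorb : b.orbitMap (η[G] ≫ g) = g := by
    rw [← cancel_mono iO, hg]
    have h1 : b.orbitMap (η[G] ≫ g) ≫ iO =
        smul a (𝟙 G) (toUnit G ≫ (η[G] ≫ g) ≫ iO) := by
      have h2 : b.orbitMap (η[G] ≫ g) = smul b (𝟙 G) (toUnit G ≫ η[G] ≫ g) := by
        rw [← comp_orbitMap, Category.id_comp]
      rw [h2, smul, smul, Category.assoc, hb, ← Category.assoc, lift_whiskerLeft, Category.assoc,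
        Category.assoc]
    rw [h1, Category.assoc, hg, ← Category.assoc (toUnit G)]
    have h3 : (toUnit G ≫ η[G]) ≫ a.orbitMap x = smul a (toUnit G ≫ η[G]) (toUnit G ≫ x) := by
      rw [comp_orbitMap]
    rw [h3, ← Groth.Agent.Lib.helper22.mul_smul]
    have h4 : 𝟙 G * (toUnit G ≫ η[G]) = 𝟙 G := by
      change 𝟙 G * (1 : G ⟶ G) = 𝟙 G
      rw [_root_.mul_one]
    rw [h4, ← comp_orbitMap, Category.id_comp]
  refine ⟨b, η[G] ≫ g, hb.symm, ?_, ?_, ?_, ?_⟩
  · rw [Category.assoc, hg]
    have h3 : η[G] ≫ a.orbitMap x = smul a η[G] (toUnit _ ≫ x) := by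
      rw [comp_orbitMap]
    rw [h3, toUnit_unique (toUnit (𝟙_ (Over (Spec (CommRingCat.of k))))) (𝟙 _), Category.id_comp]
    exact Groth.Agent.Lib.helper22.one_smul a x
  · rw [hgorb, hg]
  · rw [hgorb]; infer_instance
  · rw [hgorb]; infer_instance

end Groth.Agent.Lib.Helper14.OrbitLC
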