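import Mathlib
import Groth.Prelude.Def_AGF
import Groth.Prelude.Def_ChGrp
import Groth.Agent.Lib.Helper14.OrbitLC3

/-!
# helper14: if `G/H` is proper, the closure of a `G`-orbit is `G` times the closure of the
`H`-orbit
-/

set_option autoImplicit false
universe u
open CategoryTheory MonoidalCategory CartesianMonoidalCategory MonObj GrpObj AlgebraicGeometry
  CategoryTheory.Limits TopologicalSpace

namespace Groth.Agent.Lib.Helper14.OrbitClosure

open Groth.Agent.Lib.helper22 Groth.Agent.Lib.Helper14.OrbitLC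

variable {S : Scheme.{u}}

/-- `X ⊗ -` preserves pullback squares -/
theorem isPullback_whiskerLeft_of_isPullback (X : Over S) {P A B D : Over S} {p₁ : P ⟶ A}
    {p₂ : P ⟶ B} {f : A ⟶ D} {g : B ⟶ D} (h : IsPullback p₁ p₂ f g) :
    IsPullback (X ◁ p₁) (X ◁ p₂) (X ◁ f) (X ◁ g) := by
  apply isPullback_of_points
  · rw [← MonoidalCategory.whiskerLeft_comp, ← MonoidalCategory.whiskerLeft_comp, h.w]
  · intro T s t hst
    have h1 : s ≫ fst X A = t ≫ fst X B := by
      have := congrArg (fun m => m ≫ fst X D) hst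
      simpa only [Category.assoc, whiskerLeft_fst] using this
    have h2 : (s ≫ snd X A) ≫ f = (t ≫ snd X B) ≫ g := by
      have := congrArg (fun m => m ≫ snd X D) hst
      simpa only [Category.assoc, whiskerLeft_snd] using this
    refine ⟨lift (s ≫ fst X A) (h.lift (s ≫ snd X A) (t ≫ snd X B) h2), ?_, ?_⟩
    · apply CartesianMonoidalCategory.hom_ext
      · rw [Category.assoc, whiskerLeft_fst, lift_fst]
      · rw [Category.assoc, whiskerLeft_snd, ← Category.assoc, lift_snd, h.lift_fst]
    · apply CartesianMonoidalCategory.hom_ext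
      · rw [Category.assoc, whiskerLeft_fst, lift_fst, h1]
      · rw [Category.assoc, whiskerLeft_snd, ← Category.assoc, lift_snd, h.lift_snd]
  · intro T l l' h1 h2
    apply CartesianMonoidalCategory.hom_ext
    · have := congrArg (fun m => m ≫ fst X A) h1
      simpa only [Category.assoc, whiskerLeft_fst] using this
    · apply h.hom_ext
      · have := congrArg (fun m => m ≫ snd X A) h1
        simpa only [Category.assoc, whiskerLeft_snd] using this
      · have := congrArg (fun m => m ≫ snd X B) h2
        simpa only [Category.assoc, whiskerLeft_snd] using this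

/-- base change stable properties pass to `A ◁ g` -/
theorem whiskerLeft_left_of_isStableUnderBaseChange (P : MorphismProperty Scheme.{u})
    [P.IsStableUnderBaseChange] (A : Over S) {B C : Over S} (g : B ⟶ C) (hg : P g.left) :
    P (A ◁ g).left :=
  P.of_isPullback ((isPullback_whiskerLeft A g).map (Over.forget S)).flip hg

variable {G X : Over S} [GrpObj G] (a : AlgGrp.Action G X)

/-- `(y, g) ↦ g⁻¹ y` -/
noncomputable def divMap : X ⊗ G ⟶ X := smul a (snd X G)⁻¹ (fst X G)

/-- `(g, y) ↦ (g y, g)` -/
noncomputable def swapShear : G ⊗ X ⟶ X ⊗ G := lift a.act (fst G X)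

/-- `(y, g) ↦ (g, g⁻¹ y)` -/
noncomputable def swapShearInv : X ⊗ G ⟶ G ⊗ X := lift (snd X G) (divMap a)

theorem swapShear_divMap : swapShear a ≫ divMap a = snd G X := by
  rw [divMap, comp_smul, GrpObj.comp_inv, swapShear, lift_snd, lift_fst]
  have : a.act = smul a (fst G X) (snd G X) := act_eq_smul a
  conv_lhs => rw [this]
  exact Groth.Agent.Lib.helper22.inv_smul_smul a _ _

theorem swapShear_fst : swapShear a ≫ fst X G = a.act := lift_fst _ _

theorem swapShearInv_snd : swapShearInv a ≫ snd G X = divMap a := lift_snd _ _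

theorem swapShearInv_act : swapShearInv a ≫ a.act = fst X G := by
  change smul a (snd X G) (divMap a) = fst X G
  exact Groth.Agent.Lib.helper22.smul_inv_smul a _ _

variable {H : Over S} [GrpObj H] (i : H ⟶ G) [IsMonHom i]

theorem restrict_orbitMap (x : 𝟙_ (Over S) ⟶ X) :
    (a.restrict i).orbitMap x = i ≫ a.orbitMap x := by
  rw [AlgGrp.Action.comp_orbitMap, AlgGrp.Action.orbitMap, AlgGrp.Action.restrict_act,
    lift_whiskerRight_assoc, Category.id_comp]

/-- `(y, (g, h)) ↦ (h⁻¹, g⁻¹ y)` -/
noncomputable def kap : X ⊗ (G ⊗ H) ⟶ H ⊗ X :=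
  lift (snd X (G ⊗ H) ≫ snd G H)⁻¹ ((X ◁ fst G H) ≫ divMap a)

theorem kap_snd : kap (H := H) a ≫ snd H X = (X ◁ fst G H) ≫ divMap a := lift_snd _ _

theorem kap_act : kap a ≫ (a.restrict i).act = (X ◁ ((G ◁ i) ≫ μ[G])) ≫ divMap a := by
  have hL : kap a ≫ (a.restrict i).act =
      smul a ((snd X (G ⊗ H) ≫ snd G H)⁻¹ ≫ i) ((X ◁ fst G H) ≫ divMap a) := by
    rw [kap, AlgGrp.Action.lift_restrict_act]
    rfl
  have hmul : snd X (G ⊗ H) ≫ (G ◁ i) ≫ μ[G] =
      (snd X (G ⊗ H) ≫ fst G H) * (snd X (G ⊗ H) ≫ snd G H ≫ i) := by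
    rw [Hom.mul_def, ← Category.assoc]
    congr 1
    apply CartesianMonoidalCategory.hom_ext
    · rw [Category.assoc, whiskerLeft_fst, lift_fst]
    · rw [Category.assoc, whiskerLeft_snd, lift_snd]
  have hR : (X ◁ ((G ◁ i) ≫ μ[G])) ≫ divMap a =
      smul a ((snd X (G ⊗ H) ≫ fst G H) * (snd X (G ⊗ H) ≫ snd G H ≫ i))⁻¹ (fst X (G ⊗ H)) := by
    rw [divMap, comp_smul, GrpObj.comp_inv, whiskerLeft_snd, whiskerLeft_fst, hmul]
  have hL2 : (X ◁ fst G H) ≫ divMap a =
      smul a (snd X (G ⊗ H) ≫ fst G H)⁻¹ (fst X (G ⊗ H)) := by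
    rw [divMap, comp_smul, GrpObj.comp_inv, whiskerLeft_snd, whiskerLeft_fst]
  have hi : (snd X (G ⊗ H) ≫ snd G H)⁻¹ ≫ i = (snd X (G ⊗ H) ≫ snd G H ≫ i)⁻¹ := by
    have h1 : ∀ (T : Over S) (t : T ⟶ H), t⁻¹ ≫ i = (t ≫ i)⁻¹ := by
      intro T t
      apply eq_inv_of_mul_eq_one_left
      rw [← MonObj.mul_comp, inv_mul_cancel, MonObj.one_comp]
    rw [h1, Category.assoc]
  rw [hL, hR, hL2, hi, ← Groth.Agent.Lib.helper22.mul_smul, _root_.mul_inv_rev]


theorem left_apply_comp {A B C : Over S} (f : A ⟶ B) (g : B ⟶ C) (p : A.left) :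
    g.left (f.left p) = (f ≫ g).left p := by
  rw [Over.comp_left, Scheme.Hom.comp_apply]

/-- the unit point maps to the base point under the orbit map -/
theorem unit_orbitMap (x : 𝟙_ (Over S) ⟶ X) : η[G] ≫ a.orbitMap x = x := by
  rw [AlgGrp.Action.comp_orbitMap, toUnit_unique (toUnit (𝟙_ (Over S))) (𝟙 _), Category.id_comp]
  exact AlgGrp.Action.lift_one_act a x

/-- a closed set saturated for an open surjective map has closed image -/
theorem isClosed_image_of_saturated {A B : Type*} [TopologicalSpace A] [TopologicalSpace B]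
    (r : A → B) (hr : IsOpenMap r) (hs : Function.Surjective r) (T : Set A) (hT : IsClosed T)
    (hsat : ∀ t w, r t = r w → t ∈ T → w ∈ T) : IsClosed (r '' T) := by
  have : (r '' T)ᶜ = r '' Tᶜ := by
    apply Set.Subset.antisymm
    · intro y hy
      obtain ⟨w, rfl⟩ := hs y
      exact ⟨w, fun hw => hy ⟨w, hw, rfl⟩, rfl⟩
    · rintro _ ⟨w, hw, rfl⟩ ⟨t, ht, htw⟩
      exact hw (hsat t w htw ht)
  rw [← isOpen_compl_iff, this]
  exact hr _ hT.isOpen_compl

/-- **If `G/H` is proper, then `G · Z` is closed for `Z` the closure of an `H`-orbit**, and equals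
the closure of the `G`-orbit. -/
theorem closure_orbit_eq [Flat G.hom] [LocallyOfFinitePresentation G.hom]
    [Flat H.hom] [LocallyOfFinitePresentation H.hom]
    {Y : Over S} (b : AlgGrp.Action G Y) (o' : 𝟙_ (Over S) ⟶ Y)
    (hpb : IsPullback (fst G H) ((G ◁ i) ≫ μ[G]) (b.orbitMap o') (b.orbitMap o'))
    [Flat (b.orbitMap o').left] [Surjective (b.orbitMap o').left]
    [LocallyOfFinitePresentation (b.orbitMap o').left] [UniversallyClosed Y.hom]
    (x : 𝟙_ (Over S) ⟶ X) :
    closure (Set.range (a.orbitMap x).left) =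
      a.act.left '' ((snd G X).left ⁻¹' closure (Set.range (i ≫ a.orbitMap x).left)) := by
  set OG := Set.range (a.orbitMap x).left with hOG
  set OH := Set.range (i ≫ a.orbitMap x).left with hOH
  have hOHG : OH ⊆ OG := by
    rintro _ ⟨h, rfl⟩
    exact ⟨i.left h, by rw [Over.comp_left, Scheme.Hom.comp_apply]⟩
  apply Set.Subset.antisymm
  · -- `closure OG ⊆ G · Z` since `G · Z` is closed and contains `OG`
    have hcl : IsClosed (a.act.left '' ((snd G X).left ⁻¹' closure OH)) := by
      set π := b.orbitMap o' with hπ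
      -- rewrite as the image of a saturated closed set
      have himg : a.act.left '' ((snd G X).left ⁻¹' closure OH) =
          (fst X Y).left '' ((X ◁ π).left '' ((divMap a).left ⁻¹' closure OH)) := by
        apply Set.Subset.antisymm
        · rintro _ ⟨q, hq, rfl⟩
          refine ⟨(X ◁ π).left ((swapShear a).left q), ⟨(swapShear a).left q, ?_, rfl⟩, ?_⟩
          · rw [Set.mem_preimage, left_apply_comp, swapShear_divMap]
            exact hq
          · rw [left_apply_comp, left_apply_comp, whiskerLeft_fst, swapShear_fst]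
        · rintro _ ⟨_, ⟨t, ht, rfl⟩, rfl⟩
          refine ⟨(swapShearInv a).left t, ?_, ?_⟩
          · rw [Set.mem_preimage, left_apply_comp, swapShearInv_snd]
            exact ht
          · rw [left_apply_comp, left_apply_comp, swapShearInv_act, whiskerLeft_fst]
      rw [himg]
      haveI : UniversallyClosed (fst X Y).left := by
        change UniversallyClosed (pullback.fst X.hom Y.hom); infer_instance
      apply (fst X Y).left.isClosedMap
      haveI : UniversallyOpen π.left := inferInstance
      haveI : UniversallyOpen (X ◁ π).left :=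
        whiskerLeft_left_of_isStableUnderBaseChange @UniversallyOpen X π inferInstance
      haveI : Surjective (X ◁ π).left := OrbitSmooth.surjective_whiskerLeft_left π
      apply isClosed_image_of_saturated _ (X ◁ π).left.isOpenMap (X ◁ π).left.surjective _
        (isClosed_closure.preimage (divMap a).left.continuous)
      intro t w htw ht
      obtain ⟨v, hv1, hv2⟩ := exists_preimage_of_isPullback
        ((isPullback_whiskerLeft_of_isPullback X hpb).map (Over.forget S)) t w htw
      have hv1' : (X ◁ fst G H).left v = t := hv1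
      have hv2' : (X ◁ ((G ◁ i) ≫ μ[G])).left v = w := hv2
      have h1 : (snd H X).left ((kap a).left v) ∈
          closure (Set.range ((a.restrict i).orbitMap x).left) := by
        rw [restrict_orbitMap, left_apply_comp, kap_snd, ← left_apply_comp, hv1']
        exact ht
      have h2 := act_mem_closure_orbit (a.restrict i) x _ h1
      rw [restrict_orbitMap, left_apply_comp, kap_act a i, ← left_apply_comp, hv2'] at h2
      exact h2
    apply closure_minimal _ hcl
    rintro _ ⟨g, rfl⟩
    refine ⟨(lift (𝟙 G) (toUnit G ≫ x)).left g, ?_, ?_⟩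
    · rw [Set.mem_preimage, left_apply_comp, lift_snd]
      apply subset_closure
      refine ⟨η[H].left ((toUnit G).left g), ?_⟩
      rw [left_apply_comp, left_apply_comp, ← Category.assoc η[H], IsMonHom.one_hom,
        unit_orbitMap]
    · rw [left_apply_comp]
      rfl
  · -- `G · Z ⊆ closure OG`
    rintro _ ⟨q, hq, rfl⟩
    have h1 : q ∈ closure ((snd G X).left ⁻¹' OH) := by
      rw [← (isOpenMap_snd (G := G) (X := X)).preimage_closure_eq_closure_preimage
        (snd G X).left.continuous]
      exact hq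
    have h2 := image_closure_subset_closure_image a.act.left.continuous ⟨q, h1, rfl⟩
    refine closure_mono ?_ h2
    rintro _ ⟨q', hq', rfl⟩
    exact act_mem_orbit a x q' (hOHG hq')

end Groth.Agent.Lib.Helper14.OrbitClosure
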