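import Mathlib
import Groth.Agent.Lib.Helper14.OrbitClosure

/-!
# helper14: if `G/H` is proper and `Z` is a closed `H`-stable subset of a `G`-scheme, then
`G · Z` is closed; the union of the conjugates of `H` is closed
-/

set_option autoImplicit false
universe u
open CategoryTheory MonoidalCategory CartesianMonoidalCategory MonObj GrpObj AlgebraicGeometry
  CategoryTheory.Limits TopologicalSpace

namespace Groth.Agent.Lib.Helper14.OrbitClosure

open Groth.Agent.Lib.helper22 Groth.Agent.Lib.Helper14.OrbitLC

variable {S : Scheme.{u}} {G X : Over S} [GrpObj G] (a : AlgGrp.Action G X)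
variable {H : Over S} [GrpObj H] (i : H ⟶ G) [IsMonHom i]

/-- **If `G/H` is universally closed and `Z` is a closed subset of `X` stable under `H`, then
`G · Z` is closed.** -/
theorem isClosed_act_image_of_stable
    {Y : Over S} (b : AlgGrp.Action G Y) (o' : 𝟙_ (Over S) ⟶ Y)
    (hpb : IsPullback (fst G H) ((G ◁ i) ≫ μ[G]) (b.orbitMap o') (b.orbitMap o'))
    [Flat (b.orbitMap o').left] [Surjective (b.orbitMap o').left]
    [LocallyOfFinitePresentation (b.orbitMap o').left] [UniversallyClosed Y.hom]
    (Z : Set X.left) (hZ : IsClosed Z)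
    (hstab : ∀ q : (H ⊗ X).left, (snd H X).left q ∈ Z → (a.restrict i).act.left q ∈ Z) :
    IsClosed (a.act.left '' ((snd G X).left ⁻¹' Z)) := by
  set π := b.orbitMap o' with hπ
  have himg : a.act.left '' ((snd G X).left ⁻¹' Z) =
      (fst X Y).left '' ((X ◁ π).left '' ((divMap a).left ⁻¹' Z)) := by
    apply Set.Subset.antisymm
    · rintro _ ⟨q, hq, rfl⟩
      refine ⟨(X ◁ π).left ((swapShear a).left q), ⟨(swapShear a).left q, ?_, rfl⟩, ?_⟩
      · rw [Set.mem_preimage, left_apply_comp, swapShear_divMap]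
        exact hq
      · rw [left_apply_comp, left_apply_comp, whiskerLeft_fst, swapShear_fst]
    · rintro _ ⟨_, ⟨t, ht, rfl⟩, rfl⟩
      refine ⟨(swapShearInv a).left t, ?_, ?_⟩
      · rw [Set.mem_preimage, left_apply_comp, swapShearInv_snd]
        exact ht
      · rw [left_apply_comp, left_apply_comp, swapShearInv_act, whiskerLeft_fst]
  rw [himg]
  haveI : UniversallyClosed (fst X Y).left := by
    change UniversallyClosed (pullback.fst X.hom Y.hom); infer_instance
  apply (fst X Y).left.isClosedMap
  haveI : UniversallyOpen π.left := inferInstance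
  haveI : UniversallyOpen (X ◁ π).left :=
    whiskerLeft_left_of_isStableUnderBaseChange @UniversallyOpen X π inferInstance
  haveI : Surjective (X ◁ π).left := OrbitSmooth.surjective_whiskerLeft_left π
  apply isClosed_image_of_saturated _ (X ◁ π).left.isOpenMap (X ◁ π).left.surjective _
    (hZ.preimage (divMap a).left.continuous)
  intro t w htw ht
  obtain ⟨v, hv1, hv2⟩ := exists_preimage_of_isPullback
    ((isPullback_whiskerLeft_of_isPullback X hpb).map (Over.forget S)) t w htw
  have hv1' : (X ◁ fst G H).left v = t := hv1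
  have hv2' : (X ◁ ((G ◁ i) ≫ μ[G])).left v = w := hv2
  have h1 : (snd H X).left ((kap a).left v) ∈ Z := by
    rw [left_apply_comp, kap_snd, ← left_apply_comp, hv1']
    exact ht
  have h2 := hstab _ h1
  rw [left_apply_comp, kap_act a i, ← left_apply_comp, hv2'] at h2
  exact h2

omit [IsMonHom i] in
theorem inv_comp_hom [IsMonHom i] {T : Over S} (t : T ⟶ H) : t⁻¹ ≫ i = (t ≫ i)⁻¹ := by
  apply eq_inv_of_mul_eq_one_left
  rw [← MonObj.mul_comp, inv_mul_cancel, MonObj.one_comp]

/-- the conjugation action of `G` on itself -/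
noncomputable def conjAct (G : Over S) [GrpObj G] : AlgGrp.Action G G where
  act := fst G G * snd G G * (fst G G)⁻¹
  one_act := by
    apply AlgGrp.Action.hom_ext_lift₂
    intro T t y
    rw [lift_whiskerRight_assoc, MonObj.comp_mul, MonObj.comp_mul, GrpObj.comp_inv, lift_fst,
      lift_snd, leftUnitor_hom, lift_snd]
    have : t ≫ η[G] = (1 : T ⟶ G) := by
      rw [Hom.one_def, toUnit_unique t (toUnit T)]
    rw [this, _root_.one_mul, inv_one, _root_.mul_one]
  mul_act := by
    apply AlgGrp.Action.hom_ext_lift₃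
    intro T g g' y
    rw [lift_whiskerRight_assoc, lift_lift_associator_hom_assoc, lift_whiskerLeft_assoc,
      ← Hom.mul_def]
    simp only [MonObj.comp_mul, GrpObj.comp_inv, lift_fst, lift_snd]
    rw [_root_.mul_inv_rev]
    simp only [_root_.mul_assoc]

theorem conjAct_act (G : Over S) [GrpObj G] :
    (conjAct G).act = fst G G * snd G G * (fst G G)⁻¹ := rfl

/-- the conjugation map `(g, h) ↦ g h g⁻¹` through the conjugation action -/
theorem conj_eq : fst G H * (snd G H ≫ i) * (fst G H)⁻¹ = (G ◁ i) ≫ (conjAct G).act := by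
  rw [conjAct_act, MonObj.comp_mul, MonObj.comp_mul, GrpObj.comp_inv, whiskerLeft_fst,
    whiskerLeft_snd]

/-- **The union of the conjugates of `H` is closed if `G/H` is universally closed.** -/
theorem isClosed_range_conj
    {Y : Over S} (b : AlgGrp.Action G Y) (o' : 𝟙_ (Over S) ⟶ Y)
    (hpb : IsPullback (fst G H) ((G ◁ i) ≫ μ[G]) (b.orbitMap o') (b.orbitMap o'))
    [Flat (b.orbitMap o').left] [Surjective (b.orbitMap o').left]
    [LocallyOfFinitePresentation (b.orbitMap o').left] [UniversallyClosed Y.hom]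
    (hi : IsClosed (Set.range i.left)) :
    IsClosed (Set.range (fst G H * (snd G H ≫ i) * (fst G H)⁻¹).left) := by
  have hrange : Set.range (fst G H * (snd G H ≫ i) * (fst G H)⁻¹).left =
      (conjAct G).act.left '' ((snd G G).left ⁻¹' Set.range i.left) := by
    rw [conj_eq]
    apply Set.Subset.antisymm
    · rintro _ ⟨w, rfl⟩
      refine ⟨(G ◁ i).left w, ?_, ?_⟩
      · rw [Set.mem_preimage, left_apply_comp, whiskerLeft_snd, ← left_apply_comp]
        exact ⟨_, rfl⟩
      · rw [left_apply_comp]
    · rintro _ ⟨q, ⟨z, hz⟩, rfl⟩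
      obtain ⟨w, hw, -⟩ := exists_preimage_whiskerLeft G i q z hz.symm
      exact ⟨w, by rw [← left_apply_comp, hw]⟩
  rw [hrange]
  apply isClosed_act_image_of_stable (conjAct G) i b o' hpb _ hi
  rintro q ⟨z, hz⟩
  obtain ⟨w, hw, -⟩ := exists_preimage_whiskerLeft H i q z hz.symm
  refine ⟨(fst H H * snd H H * (fst H H)⁻¹).left w, ?_⟩
  rw [← hw, left_apply_comp, left_apply_comp]
  congr 2
  rw [AlgGrp.Action.restrict_act, conjAct_act]
  simp only [MonObj.comp_mul, GrpObj.comp_inv, MonObj.mul_comp, whiskerLeft_fst_assoc,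
    whiskerLeft_snd_assoc, whiskerRight_fst, whiskerRight_snd, whiskerLeft_fst, whiskerLeft_snd,
    Category.assoc]
  rw [inv_comp_hom]

end Groth.Agent.Lib.Helper14.OrbitClosure
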