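import Mathlib
import Groth.Agent.Lib.Helper14.FibreH0

/-!
# helper14: small facts on faithfully flat quotient maps and on maps from proper connected reduced
schemes over a field to affine schemes
-/

set_option autoImplicit false
universe u
open CategoryTheory MonoidalCategory CartesianMonoidalCategory AlgebraicGeometry

namespace Groth.Agent.Lib.Helper14.QuotProps

/-- the target of a flat surjective morphism from a reduced scheme is reduced -/
theorem isReduced_of_flat_surjective {X Y : Scheme.{u}} (f : X ⟶ Y) [Flat f] [Surjective f]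
    [IsReduced X] : IsReduced Y := by
  haveI : ∀ y : Y, _root_.IsReduced (Y.presheaf.stalk y) := by
    intro y
    obtain ⟨x, rfl⟩ := f.surjective y
    have hinj : Function.Injective (f.stalkMap x).hom := by
      algebraize [(f.stalkMap x).hom]
      have : Module.FaithfullyFlat (Y.presheaf.stalk (f x)) (X.presheaf.stalk x) :=
        @Module.FaithfullyFlat.of_flat_of_isLocalHom _ _ _ _ _ _ _
          (Flat.stalkMap f x) (f.toLRSHom.prop x)
      exact ‹RingHom.FaithfullyFlat _›.injective
    exact isReduced_of_injective _ hinj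
  exact isReduced_of_isReduced_stalk Y

/-- descent of a morphism in `Over S` along a morphism whose underlying morphism is an effective
epimorphism -/
theorem exists_desc_over {S : Scheme.{u}} {G Q H : Over S} (q : G ⟶ Q) [EffectiveEpi q.left]
    (f : G ⟶ H)
    (hf : ∀ (Z : Over S) (g₁ g₂ : Z ⟶ G), g₁ ≫ q = g₂ ≫ q → g₁ ≫ f = g₂ ≫ f) :
    ∃ φ : Q ⟶ H, q ≫ φ = f := by
  have hdesc : ∀ {Z : Scheme.{u}} (g₁ g₂ : Z ⟶ G.left), g₁ ≫ q.left = g₂ ≫ q.left →
      g₁ ≫ f.left = g₂ ≫ f.left := by
    intro Z g₁ g₂ h
    have hw : g₂ ≫ G.hom = g₁ ≫ G.hom := by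
      rw [← Over.w q, ← Category.assoc, ← h, Category.assoc]
    let Z' : Over S := Over.mk (g₁ ≫ G.hom)
    let a₁ : Z' ⟶ G := Over.homMk g₁ rfl
    let a₂ : Z' ⟶ G := Over.homMk g₂ hw
    have := hf Z' a₁ a₂ (by ext; exact h)
    exact congrArg CommaMorphism.left this
  have hfac : q.left ≫ EffectiveEpi.desc q.left f.left hdesc = f.left :=
    EffectiveEpi.fac q.left f.left hdesc
  have hepi : Epi q.left := inferInstance
  refine ⟨Over.homMk (EffectiveEpi.desc q.left f.left hdesc) ?_, ?_⟩
  · rw [← cancel_epi q.left, ← Category.assoc, hfac, Over.w f, Over.w q]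
  · ext
    exact hfac

/-- a morphism from a universally closed, reduced, connected scheme with a rational point over a
field to an affine scheme is constant -/
theorem const_of_proper_to_affine (K : Type u) [Field K] (Q H : Over (Spec (CommRingCat.of K)))
    [UniversallyClosed Q.hom] [IsReduced Q.left] [ConnectedSpace ↥Q.left]
    (e : 𝟙_ (Over (Spec (CommRingCat.of K))) ⟶ Q) [IsAffine H.left] (φ : Q ⟶ H) :
    φ = toUnit Q ≫ e ≫ φ := by
  have he : e.left ≫ Q.hom = 𝟙 _ := Over.w e
  have hb := Groth.Agent.Lib.Helper14.FibreH0.bijective_appTop_of_section K Q.hom e.left he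
  have h1 : Q.hom.appTop ≫ e.left.appTop = 𝟙 _ := by
    rw [← Scheme.Hom.comp_appTop, he]
    rfl
  have h2 : e.left.appTop ≫ Q.hom.appTop = 𝟙 _ := by
    ext b
    obtain ⟨a, rfl⟩ := hb.2 b
    have := congrArg (fun ψ => ψ.hom a) h1
    simp only [CommRingCat.hom_comp, RingHom.coe_comp, Function.comp_apply, CommRingCat.hom_id,
      RingHom.id_apply] at this ⊢
    rw [this]
  ext
  show φ.left = Q.hom ≫ e.left ≫ φ.left
  apply ext_of_isAffine
  rw [Scheme.Hom.comp_appTop, Scheme.Hom.comp_appTop, Category.assoc, h2, Category.comp_id]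

end Groth.Agent.Lib.Helper14.QuotProps
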