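import Mathlib
import Groth.Prelude.Def_AGF
import Groth.Agent.Lib.Helper14.OrbitClosure2
import Groth.Agent.Lib.Helper14.QuotProps
import Groth.Agent.Lib.Helper4.AffineDescent
import Groth.Agent.Lib.Helper22.FlatSrc

/-!
# helper14: the map `G/H ⟶ G/H'` for `H ⊆ H' ⊆ G` becomes `G × (H'/H) ⟶ G` after base change
along `G ⟶ G/H'`
-/

set_option autoImplicit false
universe u
open CategoryTheory MonoidalCategory CartesianMonoidalCategory MonObj GrpObj AlgebraicGeometry
  CategoryTheory.Limits TopologicalSpace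

namespace Groth.Agent.Lib.Helper14.QuotUniq

open Groth.Agent.Lib.helper22 Groth.Agent.Lib.Helper14.OrbitLC
  Groth.Agent.Lib.Helper14.OrbitClosure

variable {S : Scheme.{u}} {G H X : Over S} [GrpObj G] [GrpObj H]

/-- the `T`-points form of the quotient square -/
theorem eq_iff_of_square (i : H ⟶ G) (π : G ⟶ X)
    (hpb : IsPullback (fst G H) ((G ◁ i) ≫ μ[G]) π π) {T : Over S} (s t : T ⟶ G) :
    s ≫ π = t ≫ π ↔ ∃ h : T ⟶ H, t = s * (h ≫ i) := by
  have hmul : ∀ (h : T ⟶ H), lift s h ≫ (G ◁ i) ≫ μ[G] = s * (h ≫ i) := by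
    intro h
    rw [lift_whiskerLeft_assoc, Hom.mul_def]
  constructor
  · intro hst
    refine ⟨hpb.lift s t hst ≫ snd G H, ?_⟩
    rw [← hmul]
    have h1 : hpb.lift s t hst = lift s (hpb.lift s t hst ≫ snd G H) := by
      apply CartesianMonoidalCategory.hom_ext
      · rw [lift_fst, hpb.lift_fst]
      · rw [lift_snd]
    rw [← h1, hpb.lift_snd]
  · rintro ⟨h, rfl⟩
    rw [← hmul, Category.assoc, Category.assoc, ← Category.assoc (G ◁ i), ← hpb.w,
      ← Category.assoc, lift_fst]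

section main

variable {H' X' Y : Over S} [GrpObj H'] (i : H ⟶ G) (i' : H' ⟶ G) [IsMonHom i'] [Mono i']
  (l : H ⟶ H') (hl : l ≫ i' = i)
  (π : G ⟶ X) (π' : G ⟶ X') (ρ : H' ⟶ Y) (qbar : X ⟶ X') (hq : π ≫ qbar = π')
  (hX : IsPullback (fst G H) ((G ◁ i) ≫ μ[G]) π π)
  (hX' : IsPullback (fst G H') ((G ◁ i') ≫ μ[G]) π' π')
  (hY : IsPullback (fst H' H) ((H' ◁ l) ≫ μ[H']) ρ ρ)

/-- the map `G × H' ⟶ G ×_{X'} X`, `(g, h') ↦ (g, π(g h'))` -/
noncomputable def uMap : G ⊗ H' ⟶ pullback π' qbar :=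
  pullback.lift (fst G H') (((G ◁ i') ≫ μ[G]) ≫ π) (by
    rw [hX'.w, Category.assoc, Category.assoc, Category.assoc, hq])

include hX' in
theorem uMap_fst : uMap i' π π' qbar hq hX' ≫ pullback.fst π' qbar = fst G H' :=
  pullback.lift_fst _ _ _

include hX' in
theorem uMap_snd : uMap i' π π' qbar hq hX' ≫ pullback.snd π' qbar = ((G ◁ i') ≫ μ[G]) ≫ π :=
  pullback.lift_snd _ _ _

omit [IsMonHom i'] [Mono i'] in
theorem mulMap_pt {T : Over S} (g : T ⟶ G) (h : T ⟶ H') :
    lift g h ≫ (G ◁ i') ≫ μ[G] = g * (h ≫ i') := by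
  rw [lift_whiskerLeft_assoc, Hom.mul_def]

omit [IsMonHom i'] [Mono i'] in
theorem comp_mulMap {T : Over S} (s : T ⟶ G ⊗ H') :
    s ≫ (G ◁ i') ≫ μ[G] = (s ≫ fst G H') * (s ≫ snd G H' ≫ i') := by
  have hs : s = lift (s ≫ fst G H') (s ≫ snd G H') := by
    apply CartesianMonoidalCategory.hom_ext <;> simp
  conv_lhs => rw [hs]
  rw [mulMap_pt, Category.assoc]

/-- `G × H'` is the pullback of `G ×_{X'} X ⟶ X` along `π` -/
theorem isPullback_uMap :
    IsPullback (uMap i' π π' qbar hq hX') ((G ◁ i') ≫ μ[G]) (pullback.snd π' qbar) π := by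
  apply isPullback_of_points
  · exact uMap_snd i' π π' qbar hq hX'
  · intro T s t hst
    have h1 : (s ≫ pullback.fst π' qbar) ≫ π' = t ≫ π' := by
      rw [Category.assoc, pullback.condition, ← Category.assoc, hst, Category.assoc, hq]
    obtain ⟨h', rfl⟩ := (eq_iff_of_square i' π' hX' _ _).mp h1
    refine ⟨lift (s ≫ pullback.fst π' qbar) h', ?_, mulMap_pt i' _ _⟩
    apply pullback.hom_ext
    · rw [Category.assoc, uMap_fst, lift_fst]
    · rw [Category.assoc, uMap_snd, ← Category.assoc, mulMap_pt, hst]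
  · intro T a b h1 h2
    have hf : a ≫ fst G H' = b ≫ fst G H' := by
      have := congrArg (fun m => m ≫ pullback.fst π' qbar) h1
      simpa only [Category.assoc, uMap_fst] using this
    apply CartesianMonoidalCategory.hom_ext
    · exact hf
    · rw [comp_mulMap, comp_mulMap, hf] at h2
      have h3 := mul_left_cancel h2
      rw [← Category.assoc, ← Category.assoc] at h3
      exact (cancel_mono i').mp h3

include hl hq hX hX' hY in
/-- `uMap` and `G ◁ ρ` have the same kernel pair, I -/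
theorem eq_of_uMap_eq {T : Over S} (s t : T ⟶ G ⊗ H')
    (h : s ≫ uMap i' π π' qbar hq hX' = t ≫ uMap i' π π' qbar hq hX') :
    s ≫ (G ◁ ρ) = t ≫ (G ◁ ρ) := by
  have hf : s ≫ fst G H' = t ≫ fst G H' := by
    have := congrArg (fun m => m ≫ pullback.fst π' qbar) h
    simpa only [Category.assoc, uMap_fst] using this
  have h2 := congrArg (fun m => m ≫ pullback.snd π' qbar) h
  simp only [Category.assoc, uMap_snd] at h2
  have h2' : (s ≫ (G ◁ i') ≫ μ[G]) ≫ π = (t ≫ (G ◁ i') ≫ μ[G]) ≫ π := by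
    simpa only [Category.assoc] using h2
  rw [comp_mulMap, comp_mulMap] at h2'
  obtain ⟨h₀, hh₀⟩ := (eq_iff_of_square i π hX _ _).mp h2'
  have hh₁ : (t ≫ snd G H') ≫ i' = ((s ≫ snd G H') * (h₀ ≫ l)) ≫ i' := by
    rw [MonObj.mul_comp, Category.assoc, Category.assoc, Category.assoc, hl]
    rw [← hf, _root_.mul_assoc] at hh₀
    exact mul_left_cancel hh₀
  have h3 := (cancel_mono i').mp hh₁
  have h4 : (s ≫ snd G H') ≫ ρ = (t ≫ snd G H') ≫ ρ :=
    (eq_iff_of_square l ρ hY _ _).mpr ⟨h₀, h3⟩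
  apply CartesianMonoidalCategory.hom_ext
  · rw [Category.assoc, Category.assoc, whiskerLeft_fst, hf]
  · rw [Category.assoc, Category.assoc, whiskerLeft_snd, ← Category.assoc, ← Category.assoc, h4]

include hl hq hX hX' hY in
/-- `uMap` and `G ◁ ρ` have the same kernel pair, II -/
theorem uMap_eq_of_eq {T : Over S} (s t : T ⟶ G ⊗ H')
    (h : s ≫ (G ◁ ρ) = t ≫ (G ◁ ρ)) :
    s ≫ uMap i' π π' qbar hq hX' = t ≫ uMap i' π π' qbar hq hX' := by
  have hf : s ≫ fst G H' = t ≫ fst G H' := by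
    have := congrArg (fun m => m ≫ fst G Y) h
    simpa only [Category.assoc, whiskerLeft_fst] using this
  have h4 : (s ≫ snd G H') ≫ ρ = (t ≫ snd G H') ≫ ρ := by
    have := congrArg (fun m => m ≫ snd G Y) h
    simpa only [Category.assoc, whiskerLeft_snd] using this
  obtain ⟨h₀, hh₀⟩ := (eq_iff_of_square l ρ hY _ _).mp h4
  apply pullback.hom_ext
  · rw [Category.assoc, Category.assoc, uMap_fst, hf]
  · rw [Category.assoc, Category.assoc, uMap_snd]
    have key : (s ≫ (G ◁ i') ≫ μ[G]) ≫ π = (t ≫ (G ◁ i') ≫ μ[G]) ≫ π := by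
      rw [comp_mulMap, comp_mulMap]
      refine (eq_iff_of_square i π hX _ _).mpr ⟨h₀, ?_⟩
      rw [← Category.assoc t, hh₀, hf, MonObj.mul_comp]
      simp only [Category.assoc, hl, _root_.mul_assoc]
    simpa only [Category.assoc] using key

end main

section iso

variable {H' X' Y : Over S} [GrpObj H'] (i : H ⟶ G) (i' : H' ⟶ G) [IsMonHom i'] [Mono i']
  (l : H ⟶ H') (hl : l ≫ i' = i)
  (π : G ⟶ X) (π' : G ⟶ X') (ρ : H' ⟶ Y) (qbar : X ⟶ X') (hq : π ≫ qbar = π')
  (hX : IsPullback (fst G H) ((G ◁ i) ≫ μ[G]) π π)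
  (hX' : IsPullback (fst G H') ((G ◁ i') ≫ μ[G]) π' π')
  (hY : IsPullback (fst H' H) ((H' ◁ l) ≫ μ[H']) ρ ρ)
  [Flat π.left] [Surjective π.left] [LocallyOfFinitePresentation π.left]
  [Flat ρ.left] [Surjective ρ.left] [LocallyOfFinitePresentation ρ.left]

include hl hq hX hX' hY in
/-- **`G ×_{X'} X ≅ G × Y` over `G`** (uniqueness of fppf quotients) -/
theorem exists_iso_pullback :
    ∃ e : pullback π' qbar ≅ G ⊗ Y, e.hom ≫ fst G Y = pullback.fst π' qbar := by
  set u := uMap i' π π' qbar hq hX' with hu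
  have hpbu := (isPullback_uMap i' π π' qbar hq hX').map (Over.forget S)
  haveI : Flat u.left :=
    MorphismProperty.of_isPullback (P := @Flat) hpbu.flip (inferInstanceAs (Flat π.left))
  haveI : Surjective u.left :=
    MorphismProperty.of_isPullback (P := @Surjective) hpbu.flip
      (inferInstanceAs (Surjective π.left))
  haveI : LocallyOfFinitePresentation u.left :=
    MorphismProperty.of_isPullback (P := @LocallyOfFinitePresentation) hpbu.flip
      (inferInstanceAs (LocallyOfFinitePresentation π.left))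
  haveI : Flat (G ◁ ρ).left := HomFlat.flat_whiskerLeft_left ρ
  haveI : Surjective (G ◁ ρ).left := OrbitSmooth.surjective_whiskerLeft_left ρ
  haveI : LocallyOfFinitePresentation (G ◁ ρ).left :=
    whiskerLeft_left_of_isStableUnderBaseChange @LocallyOfFinitePresentation G ρ inferInstance
  haveI : EffectiveEpi u.left := inferInstance
  haveI : EffectiveEpi (G ◁ ρ).left := inferInstance
  obtain ⟨e₁, he₁⟩ := QuotProps.exists_desc_over u (G ◁ ρ) (fun Z g₁ g₂ h =>
    eq_of_uMap_eq i i' l hl π π' ρ qbar hq hX hX' hY g₁ g₂ h)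
  obtain ⟨e₂, he₂⟩ := QuotProps.exists_desc_over (G ◁ ρ) u (fun Z g₁ g₂ h =>
    uMap_eq_of_eq i i' l hl π π' ρ qbar hq hX hX' hY g₁ g₂ h)
  haveI : Epi u := by
    haveI : Epi ((Over.forget S).map u) := inferInstanceAs (Epi u.left)
    exact (Over.forget S).epi_of_epi_map ‹_›
  haveI : Epi (G ◁ ρ) := by
    haveI : Epi ((Over.forget S).map (G ◁ ρ)) := inferInstanceAs (Epi (G ◁ ρ).left)
    exact (Over.forget S).epi_of_epi_map ‹_›
  refine ⟨⟨e₁, e₂, ?_, ?_⟩, ?_⟩
  · rw [← cancel_epi u, ← Category.assoc, he₁, he₂, Category.comp_id]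
  · rw [← cancel_epi (G ◁ ρ), ← Category.assoc, he₂, he₁, Category.comp_id]
  · change e₁ ≫ fst G Y = _
    rw [← cancel_epi u, ← Category.assoc, he₁, whiskerLeft_fst, hu, uMap_fst]

include hl hq hX hX' hY in
/-- properties of `Y ⟶ S` stable under base change and descending along fppf covers pass to
`qbar : X ⟶ X'` -/
theorem property_qbar (P : MorphismProperty Scheme.{u}) [P.IsStableUnderBaseChange]
    [P.RespectsIso]
    [P.DescendsAlong (@Surjective ⊓ @Flat ⊓ @LocallyOfFinitePresentation)]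
    [Flat π'.left] [Surjective π'.left] [LocallyOfFinitePresentation π'.left]
    (hP : P Y.hom) : P qbar.left := by
  obtain ⟨e, he⟩ := exists_iso_pullback i i' l hl π π' ρ qbar hq hX hX' hY
  have h1 : P (fst G Y).left := by
    change P (pullback.fst G.hom Y.hom)
    exact P.pullback_fst _ _ hP
  have h2 : P (pullback.fst π' qbar).left := by
    rw [← he, Over.comp_left]
    haveI : IsIso e.hom.left := inferInstanceAs (IsIso ((Over.forget S).map e.hom))
    exact (P.cancel_left_of_respectsIso e.hom.left _).mpr h1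
  have hpb := (IsPullback.of_hasPullback π' qbar).map (Over.forget S)
  exact MorphismProperty.of_isPullback_of_descendsAlong
    (Q := (@Surjective ⊓ @Flat ⊓ @LocallyOfFinitePresentation : MorphismProperty Scheme.{u}))
    hpb ⟨⟨inferInstanceAs (Surjective π'.left), inferInstanceAs (Flat π'.left)⟩,
      inferInstanceAs (LocallyOfFinitePresentation π'.left)⟩ h2

end iso

end Groth.Agent.Lib.Helper14.QuotUniq
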