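import Mathlib
import Groth.Prelude.Def_AlgGrp
import Groth.Agent.Lib.Helper14.KerPullback
import Groth.Agent.Lib.Helper14.QuotUniq
import Groth.Agent.Lib.Helper4.AffineDescent

/-!
# helper14: the five lemma for closed immersions of extensions of group schemes
-/

set_option autoImplicit false
set_option linter.style.haveILetI false
universe u
open CategoryTheory MonoidalCategory CartesianMonoidalCategory MonObj GrpObj AlgebraicGeometry
  CategoryTheory.Limits

namespace Groth.Agent.Lib.Helper14.FiveCI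

open Groth.Agent.Lib.helper22 Groth.Agent.Lib.Helper14.KerPullback

variable {S : Scheme.{u}} {H₁' H₁ H₁'' H₂' H₂ H₂'' : Over S}
  [GrpObj H₁'] [GrpObj H₁] [GrpObj H₁''] [GrpObj H₂'] [GrpObj H₂] [GrpObj H₂'']
  (a₁ : H₁' ⟶ H₁) (b₁ : H₁ ⟶ H₁'') (a₂ : H₂' ⟶ H₂) (b₂ : H₂ ⟶ H₂'')
  [IsMonHom a₁] [IsMonHom b₁] [IsMonHom a₂] [IsMonHom b₂]
  (h₁ : AlgGrp.IsKernel a₁ b₁) (h₂ : AlgGrp.IsKernel a₂ b₂)
  (j' : H₁' ⟶ H₂') (j : H₁ ⟶ H₂) (j'' : H₁'' ⟶ H₂'') [IsMonHom j'] [IsMonHom j] [IsMonHom j'']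
  (sq₁ : a₁ ≫ j = j' ≫ a₂) (sq₂ : b₁ ≫ j'' = j ≫ b₂)

/-- `T`-points: `s ≫ q = t ≫ q` iff `t = s * n` for a point `n` of the kernel -/
theorem eq_iff_of_isKernel {N G Q : Over S} [GrpObj N] [GrpObj G] [GrpObj Q] (i : N ⟶ G)
    (q : G ⟶ Q) [IsMonHom q] (hk : AlgGrp.IsKernel i q) {T : Over S} (s t : T ⟶ G) :
    s ≫ q = t ≫ q ↔ ∃ n : T ⟶ N, t = s * (n ≫ i) :=
  Groth.Agent.Lib.Helper14.QuotUniq.eq_iff_of_square i q (isPullback_of_isKernel i q hk) s t


include sq₂ in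
/-- the comparison map `H₁ ⟶ H₂ ×_{H₂''} H₁''` -/
noncomputable def cMap : H₁ ⟶ pullback b₂ j'' := pullback.lift j b₁ sq₂.symm

include h₂ sq₂ in
theorem m₂_aux : ((fst H₁ H₂' ≫ j) * (snd H₁ H₂' ≫ a₂)) ≫ b₂ = (fst H₁ H₂' ≫ b₁) ≫ j'' := by
  rw [MonObj.mul_comp, comp_eq_one_of_isKernel a₂ b₂ h₂, _root_.mul_one, Category.assoc,
    Category.assoc, sq₂]

/-- `(h, n₂) ↦ (j h · a₂ n₂, b₁ h)` -/
noncomputable def m₂ : H₁ ⊗ H₂' ⟶ pullback b₂ j'' :=
  pullback.lift ((fst H₁ H₂' ≫ j) * (snd H₁ H₂' ≫ a₂)) (fst H₁ H₂' ≫ b₁)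
    (m₂_aux b₁ a₂ b₂ h₂ j j'' sq₂)

/-- `(h, n) ↦ h · a₁ n` -/
noncomputable def m₁ : H₁ ⊗ H₁' ⟶ H₁ := fst H₁ H₁' * (snd H₁ H₁' ≫ a₁)

theorem comp_m₂ {T : Over S} (l : T ⟶ H₁ ⊗ H₂') :
    l ≫ m₂ b₁ a₂ b₂ h₂ j j'' sq₂ = pullback.lift (((l ≫ fst H₁ H₂') ≫ j) * ((l ≫ snd H₁ H₂') ≫ a₂))
      ((l ≫ fst H₁ H₂') ≫ b₁) (by
        rw [MonObj.mul_comp, comp_eq_one_of_isKernel a₂ b₂ h₂, _root_.mul_one, Category.assoc,
          Category.assoc, Category.assoc, Category.assoc, sq₂]) := by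
  apply pullback.hom_ext
  · rw [pullback.lift_fst, m₂, Category.assoc, pullback.lift_fst, MonObj.comp_mul]
    simp only [Category.assoc]
  · rw [pullback.lift_snd, m₂, Category.assoc, pullback.lift_snd, Category.assoc]


/-- square B: `m₂` is the base change of `b₁` along the projection `P ⟶ H₁''` -/
theorem isPullback_m₂ :
    IsPullback (m₂ b₁ a₂ b₂ h₂ j j'' sq₂) (fst H₁ H₂') (pullback.snd b₂ j'') b₁ := by
  haveI := mono_of_isKernel a₂ b₂ h₂
  apply isPullback_of_points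
  · rw [m₂, pullback.lift_snd]
  · intro T s t hst
    have h3 : (s ≫ pullback.fst b₂ j'') ≫ b₂ = (t ≫ j) ≫ b₂ := by
      rw [Category.assoc, pullback.condition, ← Category.assoc, hst, Category.assoc,
        Category.assoc, sq₂]
    obtain ⟨n₂, hn₂⟩ := (eq_iff_of_isKernel a₂ b₂ h₂ (t ≫ j) (s ≫ pullback.fst b₂ j'')).mp h3.symm
    refine ⟨lift t n₂, ?_, lift_fst _ _⟩
    rw [comp_m₂]
    apply pullback.hom_ext
    · rw [pullback.lift_fst, lift_fst, lift_snd, hn₂]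
    · rw [pullback.lift_snd, lift_fst, hst]
  · intro T l l' h4 h5
    apply CartesianMonoidalCategory.hom_ext
    · exact h5
    · have h6 := congrArg (fun f => f ≫ pullback.fst b₂ j'') h4
      simp only [comp_m₂, pullback.lift_fst] at h6
      rw [h5] at h6
      have h7 := mul_left_cancel h6
      exact (cancel_mono a₂).mp h7


theorem comp_m₁ {T : Over S} (l : T ⟶ H₁ ⊗ H₁') :
    l ≫ m₁ a₁ = (l ≫ fst H₁ H₁') * ((l ≫ snd H₁ H₁') ≫ a₁) := by
  rw [m₁, MonObj.comp_mul]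
  simp only [Category.assoc]

include h₁ sq₁ in
/-- square A: the base change of `cMap` along `m₂` is `H₁ ◁ j'` -/
theorem isPullback_cMap [Mono j'] :
    IsPullback (H₁ ◁ j') (m₁ a₁) (m₂ b₁ a₂ b₂ h₂ j j'' sq₂) (cMap b₁ b₂ j j'' sq₂) := by
  haveI := mono_of_isKernel a₂ b₂ h₂
  apply isPullback_of_points
  · apply pullback.hom_ext
    · have e1 : (m₁ a₁ ≫ cMap b₁ b₂ j j'' sq₂) ≫ pullback.fst b₂ j'' = m₁ a₁ ≫ j := by
        rw [Category.assoc, cMap, pullback.lift_fst]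
      rw [comp_m₂, pullback.lift_fst, e1, whiskerLeft_fst, whiskerLeft_snd, m₁, MonObj.mul_comp]
      simp only [Category.assoc, sq₁]
    · have e1 : (m₁ a₁ ≫ cMap b₁ b₂ j j'' sq₂) ≫ pullback.snd b₂ j'' = m₁ a₁ ≫ b₁ := by
        rw [Category.assoc, cMap, pullback.lift_snd]
      rw [comp_m₂, pullback.lift_snd, e1, whiskerLeft_fst, m₁, MonObj.mul_comp,
        comp_eq_one_of_isKernel a₁ b₁ h₁, _root_.mul_one]
  · intro T s t hst
    have h3 : (s ≫ fst H₁ H₂') ≫ b₁ = t ≫ b₁ := by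
      have := congrArg (fun f => f ≫ pullback.snd b₂ j'') hst
      simpa only [comp_m₂, pullback.lift_snd, Category.assoc, cMap] using this
    obtain ⟨n, hn⟩ := (eq_iff_of_isKernel a₁ b₁ h₁ (s ≫ fst H₁ H₂') t).mp h3
    have h4 : ((s ≫ fst H₁ H₂') ≫ j) * ((s ≫ snd H₁ H₂') ≫ a₂) = t ≫ j := by
      have := congrArg (fun f => f ≫ pullback.fst b₂ j'') hst
      simpa only [comp_m₂, pullback.lift_fst, Category.assoc, cMap] using this
    have h5 : (s ≫ snd H₁ H₂') ≫ a₂ = (n ≫ j') ≫ a₂ := by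
      rw [hn, MonObj.mul_comp, Category.assoc n, sq₁] at h4
      rw [Category.assoc n]
      exact mul_left_cancel h4
    have h6 : s ≫ snd H₁ H₂' = n ≫ j' := (cancel_mono a₂).mp h5
    refine ⟨lift (s ≫ fst H₁ H₂') n, ?_, ?_⟩
    · apply CartesianMonoidalCategory.hom_ext
      · rw [Category.assoc, whiskerLeft_fst, lift_fst]
      · rw [Category.assoc, whiskerLeft_snd, ← Category.assoc, lift_snd, h6]
    · rw [comp_m₁, lift_fst, lift_snd, hn]
  · intro T l l' h4 h5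
    apply CartesianMonoidalCategory.hom_ext
    · have := congrArg (fun f => f ≫ fst H₁ H₂') h4
      simpa only [Category.assoc, whiskerLeft_fst] using this
    · have := congrArg (fun f => f ≫ snd H₁ H₂') h4
      simp only [Category.assoc, whiskerLeft_snd] at this
      exact (cancel_mono j').mp (by simpa only [Category.assoc] using this)


include h₁ h₂ sq₁ sq₂ in
/-- **Five lemma for closed immersions.** -/
theorem isClosedImmersion_middle (hfl : Flat b₁.left) (hsurj : Surjective b₁.left)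
    (hqc : QuasiCompact b₁.left)
    (hj' : IsClosedImmersion j'.left) (hj'' : IsClosedImmersion j''.left) :
    IsClosedImmersion j.left := by
  haveI : Mono j' := by
    haveI : Mono ((Over.forget S).map j') := inferInstanceAs (Mono j'.left)
    exact (Over.forget S).mono_of_mono_map ‹_›
  have hB := (isPullback_m₂ b₁ a₂ b₂ h₂ j j'' sq₂).map (Over.forget S)
  have hA := (isPullback_cMap a₁ b₁ a₂ b₂ h₁ h₂ j' j j'' sq₁ sq₂).map (Over.forget S)
  have hQ : (@Surjective ⊓ @Flat ⊓ @QuasiCompact : MorphismProperty Scheme.{u})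
      ((Over.forget S).map (m₂ b₁ a₂ b₂ h₂ j j'' sq₂)) :=
    ⟨⟨MorphismProperty.of_isPullback (P := @Surjective) hB.flip hsurj,
      MorphismProperty.of_isPullback (P := @Flat) hB.flip hfl⟩,
      MorphismProperty.of_isPullback (P := @QuasiCompact) hB.flip hqc⟩
  have hP : IsClosedImmersion ((Over.forget S).map (H₁ ◁ j')) :=
    Groth.Agent.Lib.Helper14.OrbitClosure.whiskerLeft_left_of_isStableUnderBaseChange
      @IsClosedImmersion H₁ j' hj'
  have hc : IsClosedImmersion ((Over.forget S).map (cMap b₁ b₂ j j'' sq₂)) :=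
    MorphismProperty.of_isPullback_of_descendsAlong hA hQ hP
  have hp : IsClosedImmersion ((Over.forget S).map (pullback.fst b₂ j'')) :=
    MorphismProperty.of_isPullback (P := @IsClosedImmersion)
      ((IsPullback.of_hasPullback b₂ j'').map (Over.forget S)).flip hj''
  have hfac : j.left = (Over.forget S).map (cMap b₁ b₂ j j'' sq₂) ≫
      (Over.forget S).map (pullback.fst b₂ j'') := by
    rw [← Functor.map_comp, cMap, pullback.lift_fst]
    rfl
  rw [hfac]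
  exact MorphismProperty.comp_mem @IsClosedImmersion _ _ hc hp

end Groth.Agent.Lib.Helper14.FiveCI
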