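import Groth.Agent.S0346

/-!
# helper14: every group scheme over a field is separated (no finiteness hypothesis)

`isClosedImmersion_of_section'`: a `k`-rational point of any `k`-scheme is a closed immersion.
`isSeparated_of_grpObj'`: a group scheme over a field is separated.
`isSeparated_fibre`: the fibres of a group scheme over any base are separated.
-/

set_option autoImplicit false
universe u
open CategoryTheory CategoryTheory.Limits AlgebraicGeometry MonoidalCategory CartesianMonoidalCategory
  MonObj

namespace Groth.Agent.Lib.Helper14.SepGrpField2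

theorem isClosedImmersion_of_section' {k : Type u} [Field k] {G : Scheme.{u}}
    (p : G ⟶ Spec (CommRingCat.of k)) (s : Spec (CommRingCat.of k) ⟶ G) (hs : s ≫ p = 𝟙 _) :
    IsClosedImmersion s := by
  haveI : IsImmersion (s ≫ p) := by rw [hs]; infer_instance
  haveI : IsImmersion s := IsImmersion.of_comp s p
  refine IsClosedImmersion.of_isPreimmersion s ?_
  haveI : Unique (Spec (CommRingCat.of k)) := inferInstanceAs (Unique (PrimeSpectrum k))
  have hr : Set.range s = {s default} := by
    ext x
    constructor
    · rintro ⟨y, rfl⟩
      rw [Unique.eq_default y]; rfl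
    · rintro rfl
      exact ⟨default, rfl⟩
  rw [hr]
  -- the point `x = s default` is closed
  rw [← closure_eq_iff_isClosed]
  refine Set.Subset.antisymm ?_ subset_closure
  intro y hy
  rw [← specializes_iff_mem_closure] at hy
  -- an affine open neighbourhood of `y`
  obtain ⟨_, ⟨U₀, hU, rfl⟩, hyU, -⟩ :=
    (G.isBasis_affineOpens).exists_subset_of_mem_open (Set.mem_univ y) isOpen_univ
  set U : G.Opens := U₀ with hUdef
  have hxU : s default ∈ U := hy.mem_open U.isOpen hyU
  have hrange : Set.range s ⊆ Set.range U.ι := by
    rw [hr, Scheme.Opens.range_ι]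
    exact Set.singleton_subset_iff.mpr hxU
  set s' : Spec (CommRingCat.of k) ⟶ U := IsOpenImmersion.lift U.ι s hrange with hs'
  have hs'ι : s' ≫ U.ι = s := IsOpenImmersion.lift_fac _ _ _
  haveI : IsAffine U.toScheme := hU
  have hsurj : Function.Surjective s'.appTop := by
    have h1 : (U.ι ≫ p).appTop ≫ s'.appTop = 𝟙 _ := by
      rw [← Scheme.Hom.comp_appTop, ← Category.assoc, hs'ι, hs]
      rfl
    intro a
    refine ⟨(U.ι ≫ p).appTop a, ?_⟩
    have := congrArg (fun φ => φ.hom a) h1
    exact this
  haveI : IsClosedImmersion s' := IsClosedImmersion.of_surjective_of_isAffine s' hsurj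
  have hcl : IsClosed ({s' default} : Set ↥(U.toScheme)) := by
    have h2 : Set.range s' = {s' default} := by
      ext x
      constructor
      · rintro ⟨y, rfl⟩
        rw [Unique.eq_default y]; rfl
      · rintro rfl
        exact ⟨default, rfl⟩
    rw [← h2]
    exact s'.isClosedEmbedding.isClosed_range
  -- transfer the specialization to `U`
  have hx' : U.ι (s' default) = s default := by
    rw [← Scheme.Hom.comp_apply, hs'ι]
  have hspec : s' default ⤳ (⟨y, hyU⟩ : ↥(U.toScheme)) := by
    rw [← U.ι.isEmbedding.isInducing.specializes_iff, hx']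
    exact hy
  have : (⟨y, hyU⟩ : ↥(U.toScheme)) ∈ ({s' default} : Set ↥(U.toScheme)) := by
    rw [← hcl.closure_eq]
    exact specializes_iff_mem_closure.mp hspec
  have h3 : (⟨y, hyU⟩ : ↥(U.toScheme)) = s' default := this
  have h4 : y = U.ι (s' default) := by
    rw [← h3]; rfl
  rw [h4, hx']
  rfl

theorem isSeparated_of_grpObj' {k : Type u} [Field k] (G : Over (Spec (CommRingCat.of k)))
    [GrpObj G] : IsSeparated G.hom := by
  refine (Groth.Agent.S0346.result _ G).1.mpr ?_
  have h1 : η[G].left ≫ G.hom = 𝟙 _ := by
    have := Over.w η[G]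
    simpa using this
  exact isClosedImmersion_of_section' G.hom η[G].left h1

/-- the fibres of a group scheme are separated -/
theorem isSeparated_fibre {S : Scheme.{u}} (H : Over S) [GrpObj H] (s : S) :
    IsSeparated (pullback.snd H.hom (S.fromSpecResidueField s)) := by
  letI G' : Over (Spec (CommRingCat.of ↑(S.residueField s))) :=
    (Over.pullback (S.fromSpecResidueField s)).obj H
  haveI : GrpObj G' := Functor.grpObjObj
  exact isSeparated_of_grpObj' (k := ↑(S.residueField s)) G'

end Groth.Agent.Lib.Helper14.SepGrpField2
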