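import Mathlib
import Groth.Agent.Lib.Helper14.FixLocus1

/-!
# helper14: fixed locus is a closed subscheme as soon as it is cut out by an ideal on every affine
open (abstract form, any base)
-/

set_option autoImplicit false
universe u
open CategoryTheory CategoryTheory.Limits AlgebraicGeometry

namespace Groth.Agent.Lib.Helper14.FixLocus

section Abstract

variable {S X Y : Scheme.{u}} {fY : Y ⟶ S} {fX : X ⟶ S} {a : pullback fY fX ⟶ X}
  (I : ∀ U : X.affineOpens, Ideal Γ(X, U))
  (hI : ∀ (U : X.affineOpens) (R' : CommRingCat.{u}) (ρ : Γ(X, U) ⟶ R'),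
    Fix fY fX a (Spec.map ρ ≫ U.2.fromSpec) ↔ I U ≤ RingHom.ker ρ.hom)

include hI in
theorem map_ideal_basicOpen_of_criterion (U : X.affineOpens) (f : Γ(X, U)) :
    (I U).map (X.presheaf.map (homOfLE (X.basicOpen_le f)).op).hom =
      I (X.affineBasicOpen f) := by
  have hfs : Spec.map (X.presheaf.map (homOfLE (X.basicOpen_le f)).op) ≫ U.2.fromSpec =
      (X.affineBasicOpen f).2.fromSpec :=
    U.2.map_fromSpec (X.affineBasicOpen f).2 _
  apply le_antisymm
  · rw [Ideal.map_le_iff_le_comap]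
    let ρ' : Γ(X, X.affineBasicOpen f) ⟶
        CommRingCat.of (Γ(X, X.affineBasicOpen f) ⧸ I (X.affineBasicOpen f)) :=
      CommRingCat.ofHom (Ideal.Quotient.mk _)
    have h1 : Fix fY fX a (Spec.map ρ' ≫ (X.affineBasicOpen f).2.fromSpec) :=
      (hI (X.affineBasicOpen f) _ ρ').mpr (by
        change _ ≤ RingHom.ker (Ideal.Quotient.mk _)
        rw [Ideal.mk_ker])
    have e : Spec.map ρ' ≫ (X.affineBasicOpen f).2.fromSpec =
        Spec.map (X.presheaf.map (homOfLE (X.basicOpen_le f)).op ≫ ρ') ≫ U.2.fromSpec := by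
      rw [Spec.map_comp, Category.assoc]
      exact congrArg (Spec.map ρ' ≫ ·) hfs.symm
    rw [e] at h1
    have h2 := (hI U _ _).mp h1
    intro r hr
    have h3 := h2 hr
    rw [RingHom.mem_ker] at h3
    rw [Ideal.mem_comap]
    exact Ideal.Quotient.eq_zero_iff_mem.mp h3
  · let ρ' : Γ(X, X.affineBasicOpen f) ⟶
        CommRingCat.of (Γ(X, X.affineBasicOpen f) ⧸ (I U).map
          (X.presheaf.map (homOfLE (X.basicOpen_le f)).op).hom) :=
      CommRingCat.ofHom (Ideal.Quotient.mk _)
    have h1 : Fix fY fX a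
        (Spec.map (X.presheaf.map (homOfLE (X.basicOpen_le f)).op ≫ ρ') ≫ U.2.fromSpec) :=
      (hI U _ _).mpr (by
        intro r hr
        rw [RingHom.mem_ker]
        exact Ideal.Quotient.eq_zero_iff_mem.mpr (Ideal.mem_map_of_mem _ hr))
    have e : Spec.map (X.presheaf.map (homOfLE (X.basicOpen_le f)).op ≫ ρ') ≫ U.2.fromSpec =
        Spec.map ρ' ≫ (X.affineBasicOpen f).2.fromSpec := by
      rw [Spec.map_comp, Category.assoc]
      exact congrArg (Spec.map ρ' ≫ ·) hfs
    rw [e] at h1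
    have h2 := (hI (X.affineBasicOpen f) _ ρ').mp h1
    change _ ≤ RingHom.ker (Ideal.Quotient.mk _) at h2
    rw [Ideal.mk_ker] at h2
    exact h2

/-- **The fixed locus is a closed subscheme** as soon as it is cut out by an ideal on every
affine open. -/
theorem exists_fixedLocus_of_criterion (I : ∀ U : X.affineOpens, Ideal Γ(X, U))
    (hI : ∀ (U : X.affineOpens) (R' : CommRingCat.{u}) (ρ : Γ(X, U) ⟶ R'),
      Fix fY fX a (Spec.map ρ ≫ U.2.fromSpec) ↔ I U ≤ RingHom.ker ρ.hom) :
    ∃ (Z : Scheme.{u}) (j : Z ⟶ X), IsClosedImmersion j ∧ Fix fY fX a j ∧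
      ∀ (T : Scheme.{u}) (x : T ⟶ X), Fix fY fX a x → ∃ z : T ⟶ Z, z ≫ j = x := by
  let J : X.IdealSheafData :=
    { ideal := I
      map_ideal_basicOpen := map_ideal_basicOpen_of_criterion I hI }
  refine ⟨J.subscheme, J.subschemeι, inferInstance, ?_, ?_⟩
  · apply fix_of_openCover _ J.subschemeCover.openCover
    intro U
    have e : J.subschemeCover.f U ≫ J.subschemeι =
        Spec.map (CommRingCat.ofHom (Ideal.Quotient.mk (J.ideal U))) ≫ U.2.fromSpec := by
      rw [J.subschemeCover_map_subschemeι]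
      rfl
    change Fix fY fX a (J.subschemeCover.f U ≫ J.subschemeι)
    rw [e]
    refine (hI U _ _).mpr ?_
    change I U ≤ RingHom.ker (Ideal.Quotient.mk (I U))
    rw [Ideal.mk_ker]
  · intro T x hx
    have hle : J.subschemeι.ker ≤ x.ker := by
      rw [Scheme.IdealSheafData.ker_subschemeι, Scheme.Hom.ker,
        Scheme.IdealSheafData.le_ofIdeals_iff]
      intro U r hr
      rw [RingHom.mem_ker]
      apply T.IsSheaf.section_ext
      rintro p hp
      obtain ⟨W, hW, hpW, hWU⟩ :=
        exists_isAffineOpen_mem_and_subset (x := p) (U := x ⁻¹ᵁ U) hp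
      refine ⟨W, hWU, hpW, ?_⟩
      rw [map_zero]
      change (x.appLE U W hWU).hom r = 0
      have hfix : Fix fY fX a (Spec.map (x.appLE U W hWU) ≫ U.2.fromSpec) := by
        rw [IsAffineOpen.SpecMap_appLE_fromSpec x U.2 hW hWU]
        exact hx.comp _
      exact (hI U _ _).mp hfix hr
    exact ⟨IsClosedImmersion.lift _ x hle, IsClosedImmersion.lift_fac _ _ _⟩

end Abstract

end Groth.Agent.Lib.Helper14.FixLocus
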