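import Mathlib
import Groth.Agent.Lib.Helper14.FixLocus5
import Groth.Agent.Lib.Helper14.FixCoeffProj

/-!
# helper14: fixed locus, the chart criterion for an affine acting scheme `Y ⟶ S` whose base
changes to affine opens of `X` have projective coordinate rings
-/

set_option autoImplicit false
universe u
open CategoryTheory CategoryTheory.Limits AlgebraicGeometry TensorProduct

namespace Groth.Agent.Lib.Helper14.FixLocus

section AffChart

variable {S X Y : Scheme.{u}} (fY : Y ⟶ S) [IsAffineHom fY] (fX : X ⟶ S)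
  (a : pullback fY fX ⟶ X) {R : CommRingCat.{u}} (u : Spec R ⟶ X)

/-- the base change of `Y` to the chart `Spec R ⟶ X` -/
noncomputable abbrev affW : Scheme.{u} := pullback fY (u ≫ fX)

instance : IsAffine (affW fY fX u) := isAffine_of_isAffineHom (pullback.snd fY (u ≫ fX))

/-- its coordinate ring -/
noncomputable abbrev affM : CommRingCat.{u} := Γ(affW fY fX u, ⊤)

/-- `Spec M ≅ W` -/
noncomputable def affIso : Spec (affM fY fX u) ⟶ affW fY fX u := (affW fY fX u).isoSpec.inv

/-- the structure map `R ⟶ M` -/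
noncomputable def affφ : R ⟶ affM fY fX u :=
  Spec.preimage (affIso fY fX u ≫ pullback.snd _ _)

theorem affφ_spec : Spec.map (affφ fY fX u) = affIso fY fX u ≫ pullback.snd _ _ :=
  Spec.map_preimage _

/-- the chart `Spec M ⟶ Y ×_S X` -/
noncomputable def affChart : Spec (affM fY fX u) ⟶ pullback fY fX :=
  pullback.lift (affIso fY fX u ≫ pullback.fst _ _) (affIso fY fX u ≫ pullback.snd _ _ ≫ u) (by
    rw [Category.assoc, pullback.condition, Category.assoc, Category.assoc])

/-- `K` is the ideal of the equalizer of `a` and the second projection on the chart -/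
def IsEqIdeal' (K : Ideal (affM fY fX u)) : Prop :=
  ∀ (C : CommRingCat.{u}) (θ : affM fY fX u ⟶ C),
    Spec.map θ ≫ affChart fY fX u ≫ a =
        Spec.map θ ≫ affIso fY fX u ≫ pullback.snd _ _ ≫ u ↔
      K ≤ RingHom.ker θ.hom

variable {fY fX a u}

/-- **Chart criterion, projective case.** -/
theorem affChart_criterion {K : Ideal (affM fY fX u)} (hK : IsEqIdeal' fY fX a u K)
    [Algebra R (affM fY fX u)] (hφ : algebraMap R (affM fY fX u) = (affφ fY fX u).hom)
    [Module.Projective R (affM fY fX u)] {R' : CommRingCat.{u}} (ρ : R ⟶ R') :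
    (∀ (C : CommRingCat.{u}) (y : Spec C ⟶ Y) (x' : Spec C ⟶ X) (h : y ≫ fY = x' ≫ fX),
        (∃ t : Spec C ⟶ Spec R', t ≫ Spec.map ρ ≫ u = x') → pullback.lift y x' h ≫ a = x') ↔
      FixCoeffProj.coeffIdeal R (affM fY fX u) (K : Set (affM fY fX u)) ≤ RingHom.ker ρ.hom := by
  letI algR' : Algebra R R' := ρ.hom.toAlgebra
  have hker : RingHom.ker ρ.hom = RingHom.ker (algebraMap R R') := rfl
  rw [hker, ← FixCoeffProj.tmul_eq_zero_iff]
  constructor
  · intro H j hj
    let θ : affM fY fX u ⟶ CommRingCat.of (R' ⊗[R] affM fY fX u) := CommRingCat.ofHom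
      (Algebra.TensorProduct.includeRight : affM fY fX u →ₐ[R] R' ⊗[R] affM fY fX u).toRingHom
    let τ : R' ⟶ CommRingCat.of (R' ⊗[R] affM fY fX u) := CommRingCat.ofHom
      (Algebra.TensorProduct.includeLeft : R' →ₐ[R] R' ⊗[R] affM fY fX u).toRingHom
    have hcomm : affφ fY fX u ≫ θ = ρ ≫ τ := by
      ext r
      change (1 : R') ⊗ₜ[R] (affφ fY fX u).hom r = (ρ.hom r) ⊗ₜ[R] (1 : affM fY fX u)
      rw [← hφ, Algebra.algebraMap_eq_smul_one, TensorProduct.tmul_smul,
        TensorProduct.smul_tmul', Algebra.smul_def, mul_one]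
      rfl
    have hsnd : Spec.map θ ≫ affIso fY fX u ≫ pullback.snd _ _ ≫ u =
        Spec.map τ ≫ Spec.map ρ ≫ u := by
      rw [← Category.assoc (affIso fY fX u), ← affφ_spec, ← Category.assoc, ← Spec.map_comp,
        hcomm, Spec.map_comp, Category.assoc]
    have hcond : (Spec.map θ ≫ affIso fY fX u ≫ pullback.fst _ _) ≫ fY =
        (Spec.map τ ≫ Spec.map ρ ≫ u) ≫ fX := by
      rw [← hsnd]
      simp only [Category.assoc]
      rw [pullback.condition]
    have key := H _ (Spec.map θ ≫ affIso fY fX u ≫ pullback.fst _ _) _ hcond ⟨Spec.map τ, rfl⟩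
    have hlift : Spec.map θ ≫ affChart fY fX u = pullback.lift _ _ hcond := by
      apply pullback.hom_ext
      · rw [Category.assoc, affChart, pullback.lift_fst, pullback.lift_fst]
      · rw [Category.assoc, affChart, pullback.lift_snd, pullback.lift_snd, hsnd]
    have hθ : Spec.map θ ≫ affChart fY fX u ≫ a =
        Spec.map θ ≫ affIso fY fX u ≫ pullback.snd _ _ ≫ u := by
      rw [← Category.assoc, hlift, key, hsnd]
    exact (hK _ θ).mp hθ hj
  · intro H C y x' h ⟨t, ht⟩
    obtain ⟨τ, rfl⟩ : ∃ τ : R' ⟶ C, Spec.map τ = t := ⟨Spec.preimage t, Spec.map_preimage t⟩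
    have h' : y ≫ fY = (Spec.map τ ≫ Spec.map ρ) ≫ u ≫ fX := by
      rw [h, ← ht]
      simp only [Category.assoc]
    obtain ⟨θ, hθ⟩ : ∃ θ : affM fY fX u ⟶ C, Spec.map θ =
        pullback.lift y (Spec.map τ ≫ Spec.map ρ) h' ≫ (affW fY fX u).isoSpec.hom :=
      ⟨Spec.preimage _, Spec.map_preimage _⟩
    have hθ' : Spec.map θ ≫ affIso fY fX u = pullback.lift y (Spec.map τ ≫ Spec.map ρ) h' := by
      rw [hθ, affIso, Category.assoc, Iso.hom_inv_id, Category.comp_id]
    have hsnd : Spec.map θ ≫ affIso fY fX u ≫ pullback.snd _ _ ≫ u = x' := by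
      rw [← Category.assoc, hθ', ← Category.assoc, pullback.lift_snd, Category.assoc, ht]
    have hlift : Spec.map θ ≫ affChart fY fX u = pullback.lift y x' h := by
      apply pullback.hom_ext
      · rw [Category.assoc, affChart, pullback.lift_fst, pullback.lift_fst, ← Category.assoc,
          hθ', pullback.lift_fst]
      · rw [Category.assoc, affChart, pullback.lift_snd, pullback.lift_snd, hsnd]
    rw [← hlift, Category.assoc, ← hsnd]
    refine (hK _ θ).mpr ?_
    have hcomm : affφ fY fX u ≫ θ = ρ ≫ τ := by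
      apply Spec.map_injective
      rw [Spec.map_comp, affφ_spec, ← Category.assoc, hθ', pullback.lift_snd, Spec.map_comp]
    letI algC : Algebra R C := (ρ ≫ τ).hom.toAlgebra
    let τA : R' →ₐ[R] C := { τ.hom with commutes' := fun r => rfl }
    let θA : affM fY fX u →ₐ[R] C :=
      { θ.hom with
        commutes' := fun r => by
          change θ.hom (algebraMap R (affM fY fX u) r) = (ρ ≫ τ).hom r
          rw [hφ, ← hcomm]
          rfl }
    let θ' : R' ⊗[R] affM fY fX u →ₐ[R] C :=
      Algebra.TensorProduct.lift τA θA (fun _ _ => Commute.all _ _)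
    intro j hj
    rw [RingHom.mem_ker]
    have h1 : θ.hom j = θ' ((1 : R') ⊗ₜ[R] j) := by
      simp [θ', τA, θA]
    rw [h1, H j hj, map_zero]

end AffChart

end Groth.Agent.Lib.Helper14.FixLocus
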