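import Mathlib
import Groth.Agent.Lib.Helper14.FixLocus6
import Groth.Agent.Lib.Helper14.FixLocus4

/-!
# helper14: fixed locus for an affine acting scheme with projective coordinate rings; the
infinitesimal finite locally free case
-/

set_option autoImplicit false
universe u
open CategoryTheory CategoryTheory.Limits AlgebraicGeometry TensorProduct MonoidalCategory
  CartesianMonoidalCategory

namespace Groth.Agent.Lib.Helper14.FixLocus

theorem exists_fixedLocus_of_affine_projective {S X Y : Scheme.{u}} (fY : Y ⟶ S)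
    [IsAffineHom fY] (fX : X ⟶ S) (a : pullback fY fX ⟶ X)
    (hproj : ∀ U : X.affineOpens,
      @Module.Projective Γ(X, U) _ (affM fY fX U.2.fromSpec) _
        (affφ fY fX U.2.fromSpec).hom.toAlgebra.toModule)
    (hEq : ∀ U : X.affineOpens, ∃ K, IsEqIdeal' fY fX a U.2.fromSpec K) :
    ∃ (Z : Scheme.{u}) (j : Z ⟶ X), IsClosedImmersion j ∧ Fix fY fX a j ∧
      ∀ (T : Scheme.{u}) (x : T ⟶ X), Fix fY fX a x → ∃ z : T ⟶ Z, z ≫ j = x := by
  let I : ∀ U : X.affineOpens, Ideal Γ(X, U) := fun U =>
    letI := (affφ fY fX U.2.fromSpec).hom.toAlgebra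
    haveI := hproj U
    FixCoeffProj.coeffIdeal Γ(X, U) (affM fY fX U.2.fromSpec)
      ((hEq U).choose : Set (affM fY fX U.2.fromSpec))
  refine exists_fixedLocus_of_criterion I ?_
  intro U R' ρ
  letI := (affφ fY fX U.2.fromSpec).hom.toAlgebra
  haveI := hproj U
  have crit := affChart_criterion (hEq U).choose_spec (R := Γ(X, U)) rfl ρ
  constructor
  · intro hfix
    refine crit.mp ?_
    intro C y x' hc ht
    exact hfix _ y x' hc ht
  · intro hle
    apply fix_of_affine
    intro V C ψ x' hc ht
    exact crit.mpr hle C _ x' hc ht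

/-- projectivity of the coordinate ring of a finite flat finitely presented base change -/
theorem projective_affM {S X Y : Scheme.{u}} (fY : Y ⟶ S) [IsFinite fY] [Flat fY]
    [LocallyOfFinitePresentation fY] (fX : X ⟶ S) {R : CommRingCat.{u}} (u : Spec R ⟶ X) :
    @Module.Projective R _ (affM fY fX u) _ (affφ fY fX u).hom.toAlgebra.toModule := by
  have h1 : IsFinite (Spec.map (affφ fY fX u)) := by
    rw [affφ_spec, affIso]; infer_instance
  have h2 : Flat (Spec.map (affφ fY fX u)) := by
    rw [affφ_spec, affIso]; infer_instance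
  have h3 : LocallyOfFinitePresentation (Spec.map (affφ fY fX u)) := by
    rw [affφ_spec, affIso]; infer_instance
  rw [IsFinite.SpecMap_iff] at h1
  rw [Flat.SpecMap_iff] at h2
  rw [LocallyOfFinitePresentation.SpecMap_iff] at h3
  algebraize [(affφ fY fX u).hom]
  haveI : Module.FinitePresentation R (affM fY fX u) :=
    Module.FinitePresentation.of_finite_of_finitePresentation _ _
  exact Module.Flat.projective_of_finitePresentation

/-- **Fixed locus of an infinitesimal finite locally free pointed scheme acting on `X`.** -/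
theorem exists_fixedLocus_infinitesimal (S : Scheme.{u}) (F X : Over S) (e : 𝟙_ (Over S) ⟶ F)
    (act : F ⊗ X ⟶ X) (he : (e ▷ X) ≫ act = (λ_ X).hom)
    [IsFinite F.hom] [Flat F.hom] [LocallyOfFinitePresentation F.hom] [Surjective e.left] :
    ∃ (Z : Scheme.{u}) (i : Z ⟶ X.left), IsClosedImmersion i ∧
      ∀ (T : Over S) (x : T ⟶ X), (∃ y : T.left ⟶ Z, y ≫ i = x.left) ↔
        ∀ (T' : Over S) (t : T' ⟶ T) (g : T' ⟶ F), lift g (t ≫ x) ≫ act = t ≫ x := by
  -- `act` and the projection agree on points
  have htop : ∀ w : ↥(pullback F.hom X.hom),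
      (act.left : pullback F.hom X.hom ⟶ X.left) w = (pullback.snd F.hom X.hom) w := by
    haveI : Surjective (e ▷ X).left := by
      rw [Over.whiskerRight_left]
      exact MorphismProperty.pullbackMap (P := @Surjective) (i₁ := e.left) (i₂ := 𝟙 X.left)
        inferInstance inferInstance (Over.w e).symm (Category.id_comp _).symm
    intro w
    obtain ⟨w₀, rfl⟩ := (e ▷ X).left.surjective w
    have h1 : ((e ▷ X) ≫ act).left w₀ = ((e ▷ X) ≫ snd F X).left w₀ := by
      rw [he, whiskerRight_snd, CartesianMonoidalCategory.leftUnitor_hom]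
    exact h1
  have hEq : ∀ U : X.left.affineOpens, ∃ K,
      IsEqIdeal' F.hom X.hom (act.left : pullback F.hom X.hom ⟶ X.left) U.2.fromSpec K := by
    intro U
    have hβ : Set.range (affIso F.hom X.hom U.2.fromSpec ≫ pullback.snd _ _ ≫ U.2.fromSpec) ⊆
        (U.1 : Set X.left) := by
      rintro _ ⟨p, rfl⟩
      have : (affIso F.hom X.hom U.2.fromSpec ≫ pullback.snd _ _ ≫ U.2.fromSpec) p ∈
          Set.range U.2.fromSpec := ⟨(affIso F.hom X.hom U.2.fromSpec ≫ pullback.snd _ _) p, rfl⟩
      rw [U.2.range_fromSpec] at this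
      exact this
    refine exists_eqIdeal_of_range_subset (A := affM F.hom X.hom U.2.fromSpec) U.1 U.2
      (affChart F.hom X.hom U.2.fromSpec ≫ act.left)
      (affIso F.hom X.hom U.2.fromSpec ≫ pullback.snd _ _ ≫ U.2.fromSpec) ?_ hβ
    rintro _ ⟨p, rfl⟩
    change (act.left : pullback F.hom X.hom ⟶ X.left) (affChart F.hom X.hom U.2.fromSpec p) ∈ U.1
    rw [htop]
    have h2 : (affChart F.hom X.hom U.2.fromSpec ≫ pullback.snd F.hom X.hom) p ∈ U.1 := by
      rw [affChart, pullback.lift_snd]
      exact hβ ⟨p, rfl⟩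
    exact h2
  obtain ⟨Z, j, hj, hfix, huniv⟩ := exists_fixedLocus_of_affine_projective F.hom X.hom
    (act.left : pullback F.hom X.hom ⟶ X.left)
    (fun U => projective_affM F.hom X.hom U.2.fromSpec) hEq
  refine ⟨Z, j, hj, fun T x => ?_⟩
  rw [pointwise_iff_over, fix_iff_over]
  constructor
  · rintro ⟨y, hy⟩
    rw [← hy]
    exact hfix.comp y
  · intro hx
    exact huniv _ _ hx

end Groth.Agent.Lib.Helper14.FixLocus
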