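import Mathlib
import Groth.Agent.Lib.Helper14.FixLocus7

/-!
# helper14: projectivity of the chart coordinate ring over affine opens lying over an affine
open of the base on which the acting scheme has a free coordinate ring
-/

set_option autoImplicit false
universe u
open CategoryTheory CategoryTheory.Limits AlgebraicGeometry TensorProduct

namespace Groth.Agent.Lib.Helper14.FixLocus

theorem isPushout_of_isPullback_SpecMap {A B C P : CommRingCat.{u}} (f : A ⟶ B) (g : A ⟶ C)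
    (inl : B ⟶ P) (inr : C ⟶ P)
    (h : IsPullback (Spec.map inl) (Spec.map inr) (Spec.map f) (Spec.map g)) :
    IsPushout f g inl inr := by
  have e : inl.op ≫ f.op = inr.op ≫ g.op := by
    apply Quiver.Hom.unop_inj
    apply Spec.map_injective
    simp only [unop_comp, Quiver.Hom.unop_op, Spec.map_comp]
    exact h.w
  have h' : IsPullback inl.op inr.op f.op g.op := IsPullback.of_map Scheme.Spec e h
  exact h'.unop.flip

instance {S X Y : Scheme.{u}} (fY : Y ⟶ S) [IsAffineHom fY] (fX : X ⟶ S)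
    {R : CommRingCat.{u}} (u : Spec R ⟶ X) : IsIso (affIso fY fX u) := by
  unfold affIso
  infer_instance

/-- the chart square is a pushout of rings -/
theorem isPushout_affφ {S X Y : Scheme.{u}} (fY : Y ⟶ S) [IsAffineHom fY] (fX : X ⟶ S)
    (U : S.affineOpens) {R : CommRingCat.{u}} (u : Spec R ⟶ X) (ψ : Γ(S, U) ⟶ R)
    (hψ : u ≫ fX = Spec.map ψ ≫ U.2.fromSpec) :
    ∃ l : Γ(Y, fY ⁻¹ᵁ U) ⟶ affM fY fX u, IsPushout ψ (fY.app U) (affφ fY fX u) l := by
  have hfU : IsAffineOpen (fY ⁻¹ᵁ U.1) := U.2.preimage fY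
  have H : hfU.fromSpec ≫ fY = Spec.map (fY.app U) ≫ U.2.fromSpec := by
    rw [Scheme.Hom.app_eq_appLE]
    exact (IsAffineOpen.SpecMap_appLE_fromSpec fY U.2 hfU le_rfl).symm
  have SQ1 : IsPullback (Spec.map (fY.app U)) hfU.fromSpec U.2.fromSpec fY := by
    refine IsOpenImmersion.isPullback _ _ _ _ H ?_
    rw [IsAffineOpen.opensRange_fromSpec, IsAffineOpen.opensRange_fromSpec]
  have hc : (pullback.snd fY (u ≫ fX) ≫ Spec.map ψ) ≫ U.2.fromSpec =
      pullback.fst fY (u ≫ fX) ≫ fY := by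
    rw [Category.assoc, ← hψ, pullback.condition]
  let ℓ : affW fY fX u ⟶ Spec Γ(Y, fY ⁻¹ᵁ U) := SQ1.lift _ _ hc
  have hℓ1 : ℓ ≫ Spec.map (fY.app U) = pullback.snd fY (u ≫ fX) ≫ Spec.map ψ := SQ1.lift_fst _ _ hc
  have hℓ2 : ℓ ≫ hfU.fromSpec = pullback.fst fY (u ≫ fX) := SQ1.lift_snd _ _ hc
  have big : IsPullback (ℓ ≫ hfU.fromSpec) (pullback.snd fY (u ≫ fX)) fY
      (Spec.map ψ ≫ U.2.fromSpec) := by
    rw [hℓ2, ← hψ]
    exact IsPullback.of_hasPullback _ _
  have left : IsPullback ℓ (pullback.snd fY (u ≫ fX)) (Spec.map (fY.app U)) (Spec.map ψ) :=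
    IsPullback.of_right big hℓ1 SQ1.flip
  have iso : IsPullback (affIso fY fX u) (affIso fY fX u ≫ pullback.snd fY (u ≫ fX))
      (pullback.snd fY (u ≫ fX)) (𝟙 (Spec R)) :=
    IsPullback.of_horiz_isIso ⟨by rw [Category.comp_id]⟩
  have both := iso.paste_horiz left
  rw [Category.id_comp] at both
  obtain ⟨l, hl⟩ : ∃ l : Γ(Y, fY ⁻¹ᵁ U) ⟶ affM fY fX u, Spec.map l = affIso fY fX u ≫ ℓ :=
    ⟨Spec.preimage _, Spec.map_preimage _⟩
  rw [← hl, ← affφ_spec] at both
  exact ⟨l, (isPushout_of_isPullback_SpecMap _ _ _ _ both).flip⟩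

/-- projectivity (indeed freeness) of the chart coordinate ring over an affine open of the base
with free coordinate ring -/
theorem projective_affM_of_free {S X Y : Scheme.{u}} (fY : Y ⟶ S) [IsAffineHom fY] (fX : X ⟶ S)
    (U : S.affineOpens)
    (hfree : @Module.Free Γ(S, U) Γ(Y, fY ⁻¹ᵁ U) _ _ (fY.app U).hom.toAlgebra.toModule)
    {R : CommRingCat.{u}} (u : Spec R ⟶ X) (ψ : Γ(S, U) ⟶ R)
    (hψ : u ≫ fX = Spec.map ψ ≫ U.2.fromSpec) :
    @Module.Projective R _ (affM fY fX u) _ (affφ fY fX u).hom.toAlgebra.toModule := by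
  obtain ⟨l, hl⟩ := isPushout_affφ fY fX U u ψ hψ
  letI a1 : Algebra Γ(S, U) R := ψ.hom.toAlgebra
  letI a2 : Algebra Γ(S, U) Γ(Y, fY ⁻¹ᵁ U) := (fY.app U).hom.toAlgebra
  letI a3 : Algebra R (affM fY fX u) := (affφ fY fX u).hom.toAlgebra
  letI a4 : Algebra Γ(Y, fY ⁻¹ᵁ U) (affM fY fX u) := l.hom.toAlgebra
  letI a5 : Algebra Γ(S, U) (affM fY fX u) := (ψ ≫ affφ fY fX u).hom.toAlgebra
  haveI t1 : IsScalarTower Γ(S, U) R (affM fY fX u) := IsScalarTower.of_algebraMap_eq (fun _ => rfl)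
  haveI t2 : IsScalarTower Γ(S, U) Γ(Y, fY ⁻¹ᵁ U) (affM fY fX u) :=
    IsScalarTower.of_algebraMap_eq (fun r => congrArg (fun φ => φ.hom r) hl.w)
  have hp : Algebra.IsPushout Γ(S, U) R Γ(Y, fY ⁻¹ᵁ U) (affM fY fX u) :=
    CommRingCat.isPushout_iff_isPushout.mp hl
  haveI : Module.Free R (affM fY fX u) := hp.out.free
  infer_instance

end Groth.Agent.Lib.Helper14.FixLocus
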