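import Mathlib
import Groth.Agent.Lib.Helper14.FixLocus9
import Groth.Agent.Lib.Helper14.AbsClosed2

/-!
# helper14: fixed locus of an affine acting scheme whose coordinate ring is locally free over the
base, acting on a separated scheme, over any base
-/

set_option autoImplicit false
universe u
open CategoryTheory CategoryTheory.Limits AlgebraicGeometry TensorProduct MonoidalCategory
  CartesianMonoidalCategory

namespace Groth.Agent.Lib.Helper14.FixLocus

theorem isLocalPred_fix {S X Y : Scheme.{u}} (fY : Y ⟶ S) (fX : X ⟶ S) (a : pullback fY fX ⟶ X) :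
    AbsClosed.IsLocalPred (fun T (x : T ⟶ X) => Fix fY fX a x) :=
  ⟨fun _ _ t _ hx => hx.comp t, fun _ x 𝒰 H => fix_of_openCover x 𝒰 H⟩

/-- **Fixed locus, scheme form**: `fY` affine with coordinate ring free over a neighbourhood of
every point of the base, `fX` separated. -/
theorem exists_fixedLocus_of_locallyFree_scheme {S X Y : Scheme.{u}} (fY : Y ⟶ S)
    [IsAffineHom fY] (fX : X ⟶ S) [IsSeparated fX] (a : pullback fY fX ⟶ X)
    (ha : a ≫ fX = pullback.snd fY fX ≫ fX)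
    (hfree : ∀ s : S, ∃ U : S.affineOpens, s ∈ (U : S.Opens) ∧
      @Module.Free Γ(S, U) Γ(Y, fY ⁻¹ᵁ U) _ _ (fY.app U).hom.toAlgebra.toModule) :
    ∃ (Z : Scheme.{u}) (j : Z ⟶ X), IsClosedImmersion j ∧ Fix fY fX a j ∧
      ∀ (T : Scheme.{u}) (x : T ⟶ X), Fix fY fX a x → ∃ z : T ⟶ Z, z ≫ j = x := by
  let 𝓑 : Set X.affineOpens := {V | ∃ U : S.affineOpens,
    @Module.Free Γ(S, U) Γ(Y, fY ⁻¹ᵁ U) _ _ (fY.app U).hom.toAlgebra.toModule ∧
      V.1 ≤ fX ⁻¹ᵁ U.1}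
  have hlow : ∀ U ∈ 𝓑, ∀ V : X.affineOpens, V.1 ≤ U.1 → V ∈ 𝓑 := by
    rintro U ⟨W, hW, hUW⟩ V hVU
    exact ⟨W, hW, hVU.trans hUW⟩
  have hcov : ∀ x : X, ∃ U ∈ 𝓑, x ∈ U.1 := by
    intro x
    obtain ⟨U, hsU, hU⟩ := hfree (fX x)
    obtain ⟨V, hV, hxV, hVU⟩ :=
      exists_isAffineOpen_mem_and_subset (x := x) (U := fX ⁻¹ᵁ U.1) hsU
    exact ⟨⟨V, hV⟩, ⟨U, hU, hVU⟩, hxV⟩
  refine AbsClosed.exists_closed_of_criterion_on_basis' 𝓑 hlow hcov
    (isLocalPred_fix fY fX a) ?_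
  rintro V ⟨U, hU, hVU⟩
  have hproj : @Module.Projective Γ(X, V) _ (affM fY fX V.2.fromSpec) _
      (affφ fY fX V.2.fromSpec).hom.toAlgebra.toModule :=
    projective_affM_of_free fY fX U hU V.2.fromSpec (fX.appLE U V hVU)
      (IsAffineOpen.SpecMap_appLE_fromSpec fX U.2 V.2 hVU).symm
  have hEq : ∃ K, IsEqIdeal' fY fX a V.2.fromSpec K := by
    refine exists_eqIdeal_of_isSeparated (A := affM fY fX V.2.fromSpec) fX
      (affChart fY fX V.2.fromSpec ≫ a)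
      (affIso fY fX V.2.fromSpec ≫ pullback.snd _ _ ≫ V.2.fromSpec) ?_
    rw [Category.assoc, ha, ← Category.assoc, affChart, pullback.lift_snd]
  letI := (affφ fY fX V.2.fromSpec).hom.toAlgebra
  haveI := hproj
  refine ⟨FixCoeffProj.coeffIdeal Γ(X, V) (affM fY fX V.2.fromSpec)
    ((hEq).choose : Set (affM fY fX V.2.fromSpec)), ?_⟩
  intro R' ρ
  have crit := affChart_criterion (hEq).choose_spec (R := Γ(X, V)) rfl ρ
  constructor
  · intro hfix
    refine crit.mp ?_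
    intro C y x' hc ht
    exact hfix _ y x' hc ht
  · intro hle
    apply fix_of_affine
    intro W C ψ x' hc ht
    exact crit.mpr hle C _ x' hc ht

/-- **Fixed locus, `Over` form.** -/
theorem exists_fixedLocus_of_locallyFree {S : Scheme.{u}} {X Y : Over S} (a : Y ⊗ X ⟶ X)
    [IsAffineHom Y.hom] [IsSeparated X.hom]
    (hfree : ∀ s : S, ∃ U : S.affineOpens, s ∈ (U : S.Opens) ∧
      @Module.Free Γ(S, U) Γ(Y.left, Y.hom ⁻¹ᵁ U) _ _ (Y.hom.app U).hom.toAlgebra.toModule) :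
    ∃ (Z : Over S) (j : Z ⟶ X), IsClosedImmersion j.left ∧
      (Y ◁ j) ≫ a = snd Y Z ≫ j ∧
      ∀ (T : Over S) (x : T ⟶ X), (Y ◁ x) ≫ a = snd Y T ≫ x → ∃ z : T ⟶ Z, z ≫ j = x := by
  have h1 : (a.left : pullback Y.hom X.hom ⟶ X.left) ≫ X.hom =
      pullback.snd Y.hom X.hom ≫ X.hom := by
    change a.left ≫ X.hom = (snd Y X).left ≫ X.hom
    rw [Over.w a, Over.w (snd Y X)]
  obtain ⟨Z, j, hj, hfix, huniv⟩ := exists_fixedLocus_of_locallyFree_scheme Y.hom X.hom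
    (a.left : pullback Y.hom X.hom ⟶ X.left) h1 hfree
  refine ⟨Over.mk (j ≫ X.hom), Over.homMk j rfl, hj, ?_, ?_⟩
  · rw [fix_iff_over]
    exact hfix
  · intro T x hx
    rw [fix_iff_over] at hx
    obtain ⟨z, hz⟩ := huniv T.left x.left hx
    refine ⟨Over.homMk z ?_, ?_⟩
    · change z ≫ j ≫ X.hom = T.hom
      rw [← Category.assoc, hz, Over.w x]
    · ext
      exact hz

end Groth.Agent.Lib.Helper14.FixLocus
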