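import Mathlib
import Groth.Agent.Lib.Helper14.FixLocus7

/-!
# helper14: fixed locus of a finite flat finitely presented acting scheme over any base, and
centralizers of finite flat families of points in separated group schemes over any base
-/

set_option autoImplicit false
universe u
open CategoryTheory CategoryTheory.Limits AlgebraicGeometry TensorProduct MonoidalCategory
  CartesianMonoidalCategory MonObj GrpObj

namespace Groth.Agent.Lib.Helper14.FixLocus

/-- **Fixed locus over any base**: `Y` finite flat of finite presentation over `S`, `X` separated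
over `S`, `a : Y × X ⟶ X` any `S`-morphism. The locus of points `x` of `X` with `a (y, x) = x` for
all `y` is a closed subscheme. -/
theorem exists_fixedLocus_finiteFlat {S : Scheme.{u}} {X Y : Over S} (a : Y ⊗ X ⟶ X)
    [IsFinite Y.hom] [Flat Y.hom] [LocallyOfFinitePresentation Y.hom] [IsSeparated X.hom] :
    ∃ (Z : Over S) (j : Z ⟶ X), IsClosedImmersion j.left ∧
      (Y ◁ j) ≫ a = snd Y Z ≫ j ∧
      ∀ (T : Over S) (x : T ⟶ X), (Y ◁ x) ≫ a = snd Y T ≫ x → ∃ z : T ⟶ Z, z ≫ j = x := by
  have hEq : ∀ U : X.left.affineOpens, ∃ K,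
      IsEqIdeal' Y.hom X.hom (a.left : pullback Y.hom X.hom ⟶ X.left) U.2.fromSpec K := by
    intro U
    refine exists_eqIdeal_of_isSeparated (A := affM Y.hom X.hom U.2.fromSpec) X.hom
      (affChart Y.hom X.hom U.2.fromSpec ≫ a.left)
      (affIso Y.hom X.hom U.2.fromSpec ≫ pullback.snd _ _ ≫ U.2.fromSpec) ?_
    have h1 : (a.left : pullback Y.hom X.hom ⟶ X.left) ≫ X.hom =
        pullback.snd Y.hom X.hom ≫ X.hom := by
      change a.left ≫ X.hom = (snd Y X).left ≫ X.hom
      rw [Over.w a, Over.w (snd Y X)]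
    rw [Category.assoc, h1, ← Category.assoc, affChart, pullback.lift_snd]
  obtain ⟨Z, j, hj, hfix, huniv⟩ := exists_fixedLocus_of_affine_projective Y.hom X.hom
    (a.left : pullback Y.hom X.hom ⟶ X.left)
    (fun U => projective_affM Y.hom X.hom U.2.fromSpec) hEq
  refine ⟨Over.mk (j ≫ X.hom), Over.homMk j rfl, hj, ?_, ?_⟩
  · rw [fix_iff_over]
    exact hfix
  · intro T x hx
    rw [fix_iff_over] at hx
    obtain ⟨z, hz⟩ := huniv T.left x.left hx
    refine ⟨Over.homMk z ?_, ?_⟩
    · change z ≫ j ≫ X.hom = T.hom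
      rw [← Category.assoc, hz, Over.w x]
    · ext
      exact hz

variable {S : Scheme.{u}} {G : Over S} [GrpObj G]

/-- conjugation of `G` by the points of `H ⟶ G`, over any base -/
noncomputable def conjS {H : Over S} (i : H ⟶ G) : H ⊗ G ⟶ G :=
  (fst H G ≫ i) * snd H G * (fst H G ≫ i)⁻¹

theorem lift_conjS {H T : Over S} (i : H ⟶ G) (h : T ⟶ H) (x : T ⟶ G) :
    lift h x ≫ conjS i = (h ≫ i) * x * (h ≫ i)⁻¹ := by
  rw [conjS, MonObj.comp_mul, MonObj.comp_mul, GrpObj.comp_inv, ← Category.assoc, lift_fst,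
    lift_snd]

/-- **The centralizer of a finite flat finitely presented family of points `i : H ⟶ G` of a
separated group scheme over any base is a closed subscheme.** -/
theorem exists_centralizer_finiteFlat {H : Over S} (i : H ⟶ G)
    [IsFinite H.hom] [Flat H.hom] [LocallyOfFinitePresentation H.hom] [IsSeparated G.hom] :
    ∃ (Z : Over S) (incl : Z ⟶ G), IsClosedImmersion incl.left ∧
      ∀ (T : Over S) (g : T ⟶ G), (∃ z : T ⟶ Z, z ≫ incl = g) ↔
        ∀ (T' : Over S) (t : T' ⟶ T) (h : T' ⟶ H),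
          (t ≫ g) * (h ≫ i) = (h ≫ i) * (t ≫ g) := by
  obtain ⟨Z, j, hj, hfix, huniv⟩ := exists_fixedLocus_finiteFlat (conjS i)
  have key : ∀ (T : Over S) (g : T ⟶ G),
      ((H ◁ g) ≫ conjS i = snd H T ≫ g) ↔
        ∀ (T' : Over S) (t : T' ⟶ T) (h : T' ⟶ H),
          (t ≫ g) * (h ≫ i) = (h ≫ i) * (t ≫ g) := by
    intro T g
    rw [← pointwise_iff_over]
    refine forall_congr' fun T' => forall_congr' fun t => forall_congr' fun h => ?_
    rw [lift_conjS, mul_inv_eq_iff_eq_mul]
    exact eq_comm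
  refine ⟨Z, j, hj, fun T g => ?_⟩
  rw [← key]
  constructor
  · rintro ⟨z, rfl⟩
    rw [MonoidalCategory.whiskerLeft_comp, Category.assoc, hfix, ← Category.assoc,
      whiskerLeft_snd, Category.assoc]
  · intro h
    exact huniv T g h

end Groth.Agent.Lib.Helper14.FixLocus
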