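import Mathlib
import Groth.Agent.Lib.Helper21.FlatClosure2
import Groth.Agent.S18498
import Groth.Prelude.Def_Neron
import Groth.Prelude.Def_Red
import Groth.Agent.Lib.Helper14.HomImage2

/-!
# helper14: the schematic closure of a closed subgroup of the generic fibre of a group scheme over a
Dedekind domain is a flat closed subgroup scheme
-/

set_option autoImplicit false
universe u
open CategoryTheory CategoryTheory.Limits AlgebraicGeometry MonoidalCategory
  CartesianMonoidalCategory MonObj TopologicalSpace

namespace Groth.Agent.Lib.Helper14.FlatClosureGrp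

noncomputable section

/-- the local rings of the spectrum of a Dedekind domain are regular of dimension at most one -/
theorem stalk_spec_dedekind (R : Type u) [CommRing R] [IsDedekindDomain R]
    (y : ↥(Spec (CommRingCat.of R))) :
    IsRegularLocalRing ((Spec (CommRingCat.of R)).presheaf.stalk y) ∧
      ringKrullDim ((Spec (CommRingCat.of R)).presheaf.stalk y) ≤ 1 := by
  letI : Algebra R ((Spec (CommRingCat.of R)).presheaf.stalk y) :=
    StructureSheaf.stalkAlgebra R y
  haveI : IsLocalization.AtPrime ((Spec (CommRingCat.of R)).presheaf.stalk y) y.asIdeal :=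
    StructureSheaf.IsLocalization.to_stalk R y
  constructor
  · exact IsRegularLocalRing.of_ringEquiv (IsLocalization.algEquiv y.asIdeal.primeCompl
      (Localization.AtPrime y.asIdeal) ((Spec (CommRingCat.of R)).presheaf.stalk y)).toRingEquiv
  · rw [IsLocalization.AtPrime.ringKrullDim_eq_height y.asIdeal
      ((Spec (CommRingCat.of R)).presheaf.stalk y)]
    exact Ideal.height_le_ringKrullDim_of_isPrime.trans (Ring.krullDimLE_iff.mp inferInstance)

instance flat_genPt (R : Type u) [CommRing R] [IsDomain R] : Flat (Neron.genPt R) := by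
  rw [HasRingHomProperty.Spec_iff (P := @Flat)]
  exact RingHom.flat_algebraMap_iff.mpr (IsLocalization.flat (FractionRing R) (nonZeroDivisors R))

instance mono_genPt (R : Type u) [CommRing R] [IsDomain R] : Mono (Neron.genPt R) := by
  haveI : Epi (CommRingCat.ofHom (algebraMap R (FractionRing R))) :=
    IsLocalization.epi (nonZeroDivisors R) (FractionRing R)
  haveI : Mono (CommRingCat.ofHom (algebraMap R (FractionRing R))).op := inferInstance
  exact inferInstanceAs (Mono (Scheme.Spec.map
    (CommRingCat.ofHom (algebraMap R (FractionRing R))).op))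

variable (R : Type u) [CommRing R] [IsDedekindDomain R]

/-- lifting through a closed subscheme whose generic fibre contains the generic fibre of the map -/
theorem exists_lift_of_generic {G H Y : Over (Spec (CommRingCat.of R))} (j : H ⟶ G)
    [IsClosedImmersion j.left] [Flat Y.hom] (v : Y ⟶ G)
    (u : pullback Y.hom (Neron.genPt R) ⟶ H.left)
    (hu : u ≫ j.left = pullback.fst Y.hom (Neron.genPt R) ≫ v.left) : ∃ g : Y ⟶ H, g ≫ j = v := by
  haveI := Groth.Agent.S18498.schDominant_genPt R
  haveI : QuasiCompact (Neron.genPt R) := inferInstance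
  haveI : IsSchemeTheoreticallyDominant (pullback.fst Y.hom (Neron.genPt R)) := inferInstance
  have hker : j.left.ker ≤ v.left.ker := by
    have h1 : (pullback.fst Y.hom (Neron.genPt R) ≫ v.left).ker = v.left.ker := by
      rw [Scheme.Hom.ker_comp,
        IsSchemeTheoreticallyDominant.ker_eq_bot (pullback.fst Y.hom (Neron.genPt R)),
        Scheme.IdealSheafData.map_bot]
    rw [← h1, ← hu]
    exact Scheme.Hom.le_ker_comp _ _
  refine ⟨Over.homMk (IsClosedImmersion.lift j.left v.left hker) ?_, ?_⟩
  · rw [← Over.w j, ← Category.assoc, IsClosedImmersion.lift_fac, Over.w v]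
  · ext1
    exact IsClosedImmersion.lift_fac _ _ _

theorem exists_flat_closure_grp (G : Over (Spec (CommRingCat.of R))) [GrpObj G]
    (HK : Over (Spec (CommRingCat.of (FractionRing R)))) [GrpObj HK]
    (i : HK ⟶ Red.bc (Neron.genPt R) G) [IsMonHom i] [IsClosedImmersion i.left] :
    ∃ (H : Over (Spec (CommRingCat.of R))) (_ : GrpObj H) (j : H ⟶ G) (φ : HK.left ⟶ H.left),
      IsMonHom j ∧ IsClosedImmersion j.left ∧ Flat H.hom ∧
      IsPullback φ HK.hom H.hom (Neron.genPt R) ∧
      φ ≫ j.left = i.left ≫ pullback.fst G.hom (Neron.genPt R) ∧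
      φ.ker = ⊥ := by
  classical
  haveI := Groth.Agent.S18498.schDominant_genPt R
  haveI : QuasiCompact (Neron.genPt R) := inferInstance
  have hW : IsPullback (pullback.fst G.hom (Neron.genPt R)) (pullback.snd G.hom (Neron.genPt R))
      G.hom (Neron.genPt R) := IsPullback.of_hasPullback _ _
  haveI : Unique ↥(Spec (CommRingCat.of (FractionRing R))) :=
    inferInstanceAs (Unique (PrimeSpectrum (FractionRing R)))
  haveI : Flat (i.left ≫ pullback.snd G.hom (Neron.genPt R) ≫ Neron.genPt R) := by
    haveI : Flat (i.left ≫ pullback.snd G.hom (Neron.genPt R)) := inferInstance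
    rw [← Category.assoc]
    infer_instance
  obtain ⟨Z, z, w, hz, hflat, hpb⟩ := Groth.Agent.Lib.helper21.FlatClosure.exists_closure
    (Neron.genPt R) G.hom (pullback.fst G.hom (Neron.genPt R))
    (pullback.snd G.hom (Neron.genPt R)) hW i.left (stalk_spec_dedekind R)
  haveI := hz
  let H : Over (Spec (CommRingCat.of R)) := Over.mk (z ≫ G.hom)
  let j : H ⟶ G := Over.homMk z rfl
  haveI : IsClosedImmersion j.left := hz
  haveI : Flat H.hom := hflat
  haveI : Mono j := (Over.forget _).mono_of_mono_map (inferInstanceAs (Mono j.left))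
  have hiw : i.left ≫ pullback.snd G.hom (Neron.genPt R) = HK.hom := Over.w i
  have hpbH : IsPullback w HK.hom H.hom (Neron.genPt R) := by
    have := hpb.paste_vert hW
    rwa [hiw] at this
  have hwdom : IsSchemeTheoreticallyDominant w :=
    IsSchemeTheoreticallyDominant.of_isPullback hpbH.flip
  let F := Over.pullback (Neron.genPt R)
  let cK : HK ≅ F.obj H := Over.isoMk hpbH.isoPullback (by
    change hpbH.isoPullback.hom ≫ pullback.snd H.hom (Neron.genPt R) = HK.hom
    exact hpbH.isoPullback_hom_snd)
  have e : ∀ {A B : Over (Spec (CommRingCat.of R))} (k : A ⟶ B),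
      (F.map k).left ≫ pullback.fst B.hom (Neron.genPt R) =
        pullback.fst A.hom (Neron.genPt R) ≫ k.left := fun k => pullback.lift_fst _ _ _
  have e' : ∀ {A B : Over (Spec (CommRingCat.of R))} (k : A ⟶ B),
      (F.map k).left ≫ pullback.snd B.hom (Neron.genPt R) =
        pullback.snd A.hom (Neron.genPt R) := fun k => pullback.lift_snd _ _ _
  have hcK : cK.hom ≫ F.map j = i := by
    ext1
    apply pullback.hom_ext
    · change (hpbH.isoPullback.hom ≫ (F.map j).left) ≫ pullback.fst G.hom (Neron.genPt R) = _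
      rw [Category.assoc, e, ← Category.assoc, hpbH.isoPullback_hom_fst]
      exact hpb.w
    · change (hpbH.isoPullback.hom ≫ (F.map j).left) ≫ pullback.snd G.hom (Neron.genPt R) = _
      rw [Category.assoc, e', hpbH.isoPullback_hom_snd, hiw]
  have hFj : F.map j = cK.inv ≫ i := by rw [← hcK, Iso.inv_hom_id_assoc]
  have key : ∀ (Y : Over (Spec (CommRingCat.of R))), Flat Y.hom → ∀ (v : Y ⟶ G)
      (u' : F.obj Y ⟶ HK), F.map v = u' ≫ i → ∃ g : Y ⟶ H, g ≫ j = v := by
    intro Y hY v u' hu'
    haveI := hY
    refine exists_lift_of_generic R j v (u'.left ≫ w) ?_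
    have h1 : w ≫ j.left = i.left ≫ pullback.fst G.hom (Neron.genPt R) := hpb.w
    rw [Category.assoc, h1, ← Category.assoc, ← Over.comp_left, ← hu', e]
  obtain ⟨e₀, he₀⟩ := key (𝟙_ _) (inferInstanceAs (Flat (𝟙 (Spec (CommRingCat.of R))))) η[G] 1 (by
    have h1 : (η[G] : 𝟙_ (Over (Spec (CommRingCat.of R))) ⟶ G) = 1 := by
      rw [Hom.one_def, toUnit_unique (toUnit _) (𝟙 _), Category.id_comp]
    rw [h1, Functor.map_one, MonObj.one_comp])
  have hflatHH : Flat (H ⊗ H).hom :=
    inferInstanceAs (Flat (pullback.fst H.hom H.hom ≫ H.hom))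
  obtain ⟨d, hd⟩ := key (H ⊗ H) hflatHH ((fst H H ≫ j)⁻¹ * (snd H H ≫ j))
    ((F.map (fst H H) ≫ cK.inv)⁻¹ * (F.map (snd H H) ≫ cK.inv)) (by
      rw [Functor.map_mul, Functor.map_inv', Functor.map_comp, Functor.map_comp, hFj,
        MonObj.mul_comp, GrpObj.inv_comp, Category.assoc, Category.assoc])
  obtain ⟨str, hstr⟩ := Groth.Agent.Lib.Helper14.HomImage.exists_grpObj_of_div j e₀ he₀ d hd
  exact ⟨H, str, j, w, hstr, hz, hflat, hpbH, hpb.w, hwdom.ker_eq_bot⟩

end

end Groth.Agent.Lib.Helper14.FlatClosureGrp
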