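import Mathlib
import Groth.Agent.Lib.Helper14.SplitCov3

/-!
# helper14: the rank of a composite of finite étale covers; the splitting cover of degree `n!`
-/

set_option autoImplicit false
set_option linter.style.haveILetI false

namespace Groth.Agent.Lib.helper14.SplitCov

open AlgebraicGeometry CategoryTheory CategoryTheory.Limits
open Groth.Agent.Lib.helper14.FEtGal Groth.Agent.Lib.helper14.FibIso

universe u

/-- the rank of a composite of finite étale morphisms, the first one of constant rank -/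
theorem finrank_comp_of_const {Y X S : Scheme.{u}} (g : Y ⟶ X) (φ : X ⟶ S) [IsFinite g] [Etale g]
    [IsFinite φ] [Etale φ] {m : ℕ} (hm : ∀ x, g.finrank x = m) (s : S) :
    (g ≫ φ).finrank s = φ.finrank s * m := by
  obtain ⟨Ω, _, _, sb, hsb⟩ := exists_geomPoint s
  obtain ⟨hfin1, hcard1⟩ := card_fiberObj sb (mkObj (g ≫ φ))
  obtain ⟨hfin2, hcard2⟩ := card_fiberObj sb (mkObj φ)
  have hcard1' : Nat.card (FEt.fiberObj sb (mkObj (g ≫ φ))) = (g ≫ φ).finrank s :=
    hcard1.trans (congrArg (g ≫ φ).finrank (hsb default))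
  have hcard2' : Nat.card (FEt.fiberObj sb (mkObj φ)) = φ.finrank s :=
    hcard2.trans (congrArg φ.finrank (hsb default))
  let pt : FEt.fiberObj sb (mkObj φ) → (Spec (CommRingCat.of Ω) ⟶ X) := fun x => x.1
  let E : FEt.fiberObj sb (mkObj (g ≫ φ)) ≃
      Σ x : FEt.fiberObj sb (mkObj φ), FEt.fiberObj (pt x) (mkObj g) :=
    { toFun := fun t => ⟨⟨t.1 ≫ g, (Category.assoc _ _ _).trans t.2⟩, ⟨t.1, rfl⟩⟩
      invFun := fun p => ⟨p.2.1, by
        show p.2.1 ≫ g ≫ φ = sb
        have h1 : p.2.1 ≫ g = p.1.1 := p.2.2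
        have h2 : p.1.1 ≫ φ = sb := p.1.2
        rw [← Category.assoc, h1]
        exact h2⟩
      left_inv := fun t => rfl
      right_inv := fun p => by
        rcases p with ⟨⟨x, hx⟩, ⟨t, ht⟩⟩
        have ht' : t ≫ g = x := ht
        subst ht'
        rfl }
  haveI := hfin2
  letI : Fintype (FEt.fiberObj sb (mkObj φ)) := Fintype.ofFinite _
  haveI : ∀ x : FEt.fiberObj sb (mkObj φ), Finite (FEt.fiberObj (pt x) (mkObj g)) :=
    fun x => (card_fiberObj (pt x) (mkObj g)).1
  have hx : ∀ x : FEt.fiberObj sb (mkObj φ), Nat.card (FEt.fiberObj (pt x) (mkObj g)) = m :=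
    fun x => ((card_fiberObj (pt x) (mkObj g)).2).trans (hm _)
  rw [← hcard1', Nat.card_congr E, Nat.card_sigma, Finset.sum_congr rfl (fun x _ => hx x),
    Finset.sum_const, smul_eq_mul, Finset.card_univ, ← Nat.card_eq_fintype_card, hcard2']

/-- a finite étale cover of constant rank `n` acquires `n` pointwise distinct sections after a
finite étale surjective base change of constant rank `n!` -/
theorem exists_sections_factorial (n : ℕ) :
    ∀ {X S : Scheme.{u}} (φ : X ⟶ S) [IsFinite φ] [Etale φ] (_ : ∀ s, φ.finrank s = n),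
    ∃ (Y : Scheme.{u}) (ψ : Y ⟶ S) (_ : IsFinite ψ) (_ : Etale ψ) (_ : Surjective ψ)
      (σ : Fin n → (Y ⟶ X)), (∀ s, ψ.finrank s = n.factorial) ∧ (∀ i, σ i ≫ φ = ψ) ∧
      ∀ i j, i ≠ j → ∀ (K : Type u) [Field K] (y : Spec (CommRingCat.of K) ⟶ Y),
        y ≫ σ i ≠ y ≫ σ j := by
  induction n with
  | zero =>
    intro X S φ _ _ _
    refine ⟨S, 𝟙 S, inferInstance, inferInstance, inferInstance, fun i => i.elim0, fun s => ?_,
      fun i => i.elim0, fun i => i.elim0⟩
    rw [Scheme.Hom.finrank_eq_one_of_isIso]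
    rfl
  | succ n ih =>
    intro X S φ _ _ hn
    obtain ⟨Y, ψ', hfin, het, hsurj, τ, hrank, hτ, hdis⟩ := ih (dcHom φ) (finrank_dcHom φ hn)
    haveI : Surjective φ := by
      rw [← Scheme.Hom.one_le_finrank_iff_surjective]
      intro s
      show 1 ≤ φ.finrank s
      rw [hn]
      omega
    let σ : Fin (n + 1) → (Y ⟶ X) :=
      Fin.cons ψ' (fun j => τ j ≫ dcι φ ≫ pullback.snd φ φ)
    have hσ0 : σ 0 = ψ' := rfl
    have hσs : ∀ j : Fin n, σ j.succ = τ j ≫ dcι φ ≫ pullback.snd φ φ := fun j => rfl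
    have key0 : ∀ (j : Fin n) (K : Type u) [Field K] (y : Spec (CommRingCat.of K) ⟶ Y),
        y ≫ σ 0 ≠ y ≫ σ j.succ := by
      intro j K _ y h
      rw [hσ0, hσs, ← hτ j, ← Category.assoc, ← Category.assoc] at h
      exact dc_ne φ (y ≫ τ j) h
    refine ⟨Y, ψ' ≫ φ, inferInstance, inferInstance, inferInstance, σ, ?_, ?_, ?_⟩
    · intro s
      rw [finrank_comp_of_const ψ' φ hrank s, hn, Nat.factorial_succ]
    · intro i
      refine Fin.cases ?_ (fun j => ?_) i
      · rfl
      · rw [hσs, ← hτ j]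
        exact dc_snd_comp φ (τ j) _ rfl
    · intro i
      refine Fin.cases ?_ (fun i' => ?_) i
      · intro j
        refine Fin.cases ?_ (fun j' => ?_) j
        · intro h
          exact absurd rfl h
        · intro _ K _ y
          exact key0 j' K y
      · intro j
        refine Fin.cases ?_ (fun j' => ?_) j
        · intro _ K _ y h
          exact key0 i' K y h.symm
        · intro hij K _ y h
          have hij' : i' ≠ j' := fun e => hij (congrArg Fin.succ e)
          apply hdis i' j' hij' K y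
          rw [hσs, hσs] at h
          refine dc_ext φ _ _ ?_ ?_
          · rw [Category.assoc, Category.assoc, hτ, hτ]
          · rw [Category.assoc, Category.assoc]
            exact h

/-- a finite étale cover of constant rank `n` is trivialised by a finite étale surjective cover of
constant rank `n!` -/
theorem exists_split_factorial {X S : Scheme.{u}} (φ : X ⟶ S) [IsFinite φ] [Etale φ] (n : ℕ)
    (hn : ∀ s, φ.finrank s = n) :
    ∃ (Y : Scheme.{u}) (ψ : Y ⟶ S) (_ : IsFinite ψ) (_ : Etale ψ) (_ : Surjective ψ)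
      (e : pullback φ ψ ≅ ∐ fun _ : Fin n => Y), (∀ s, ψ.finrank s = n.factorial) ∧
      ∀ i : Fin n, Sigma.ι (fun _ : Fin n => Y) i ≫ e.inv ≫ pullback.snd φ ψ = 𝟙 Y := by
  obtain ⟨Y, ψ, hfin, het, hsurj, σ, hrk, hσ, hdis⟩ := exists_sections_factorial n φ hn
  let θ : Fin n → (Y ⟶ pullback φ ψ) := fun i =>
    pullback.lift (σ i) (𝟙 Y) (by rw [hσ i, Category.id_comp])
  have hθ : ∀ i, θ i ≫ pullback.snd φ ψ = 𝟙 Y := fun i => pullback.lift_snd _ _ _
  have hθ1 : ∀ i, θ i ≫ pullback.fst φ ψ = σ i := fun i => pullback.lift_fst _ _ _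
  have hrank : ∀ y, (pullback.snd φ ψ).finrank y = n := fun y => by
    rw [Scheme.Hom.finrank_pullback_snd]
    exact hn _
  haveI : IsIso (Sigma.desc θ) := by
    refine isIso_sigmaDesc_of_sections (pullback.snd φ ψ) hrank θ hθ ?_
    intro i j hij K _ y h
    apply hdis i j hij K y
    have := congrArg (· ≫ pullback.fst φ ψ) h
    simpa only [Category.assoc, hθ1] using this
  refine ⟨Y, ψ, hfin, het, hsurj, (asIso (Sigma.desc θ)).symm, hrk, fun i => ?_⟩
  show Sigma.ι (fun _ : Fin n => Y) i ≫ Sigma.desc θ ≫ pullback.snd φ ψ = 𝟙 Y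
  rw [Sigma.ι_desc_assoc, hθ]

end Groth.Agent.Lib.helper14.SplitCov
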