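import Mathlib
import Groth.Agent.Lib.Helper14.SplitCov4

/-!
# helper14: free actions of finite groups on finite étale covers
-/

set_option autoImplicit false
set_option linter.style.haveILetI false

namespace Groth.Agent.Lib.helper14.SplitCov

open AlgebraicGeometry CategoryTheory CategoryTheory.Limits
open Groth.Agent.Lib.helper14.FEtGal Groth.Agent.Lib.helper14.FibIso

universe u

/-- the rank of a cover all of whose geometric fibres have `n` points -/
lemma finrank_eq_of_card {X : Scheme.{u}} (Y : FEt.Cat X) (n : ℕ)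
    (hn : ∀ (Ω : Type u) [Field Ω] [IsSepClosed Ω] (ξ : Spec (CommRingCat.of Ω) ⟶ X),
      Nat.card (FEt.fiberObj ξ Y) = n) (x : X) : Y.hom.finrank x = n := by
  obtain ⟨Ω, _, _, xb, hxb⟩ := exists_geomPoint x
  have h1 := (card_fiberObj xb Y).2
  rw [hn Ω xb] at h1
  rw [← hxb default]
  exact h1.symm

/-- a field-valued point of a coproduct factors through a component -/
lemma exists_factor_sigma {ι : Type u} (f : ι → Scheme.{u}) {K : Type u} [Field K]
    (w : Spec (CommRingCat.of K) ⟶ ∐ f) :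
    ∃ (i : ι) (t : Spec (CommRingCat.of K) ⟶ f i), t ≫ Sigma.ι f i = w := by
  obtain ⟨i, y, hy⟩ := (sigmaOpenCover f).exists_eq (w default)
  refine ⟨i, IsOpenImmersion.lift (Sigma.ι f i) w ?_, IsOpenImmersion.lift_fac _ _ _⟩
  rintro _ ⟨x, rfl⟩
  rw [Subsingleton.elim x default]
  exact ⟨y, hy⟩

variable {Y P : Scheme.{u}} (p : P ⟶ Y) [IsFinite p] [Etale p]

/-- `isIso_sigmaDesc_of_sections` for an arbitrary finite index type -/
theorem isIso_sigmaDesc_of_sections' {ι : Type u} [Finite ι] (hn : ∀ y, p.finrank y = Nat.card ι)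
    (θ : ι → (Y ⟶ P)) (hθ : ∀ i, θ i ≫ p = 𝟙 Y)
    (hdis : ∀ i j, i ≠ j → ∀ (K : Type u) [Field K] (y : Spec (CommRingCat.of K) ⟶ Y),
      y ≫ θ i ≠ y ≫ θ j) :
    IsIso (Sigma.desc θ) := by
  let ε : Fin (Nat.card ι) ≃ ι := (Finite.equivFin ι).symm
  have h1 : (Sigma.reindex ε (fun _ : ι => Y)).hom ≫ Sigma.desc θ =
      Sigma.desc (fun a : Fin (Nat.card ι) => θ (ε a)) := by
    apply Sigma.hom_ext
    intro a
    rw [Sigma.ι_reindex_hom_assoc, Sigma.ι_desc, Sigma.ι_desc]
  haveI : IsIso (Sigma.desc (fun a : Fin (Nat.card ι) => θ (ε a))) :=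
    isIso_sigmaDesc_of_sections p hn (fun a => θ (ε a)) (fun a => hθ _)
      (fun a b hab => hdis _ _ (fun h => hab (ε.injective h)))
  haveI : IsIso ((Sigma.reindex ε (fun _ : ι => Y)).hom ≫ Sigma.desc θ) := by
    rw [h1]
    infer_instance
  exact IsIso.of_isIso_comp_left (Sigma.reindex ε (fun _ : ι => Y)).hom (Sigma.desc θ)

/-- if a family of pointwise distinct sections of a finite étale morphism of constant rank `n`
over a nonempty base trivialises it, there are exactly `n` of them; and there are at most `n` in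
general. -/
theorem card_sections_le {ι : Type u} [Finite ι] [Nonempty Y] {n : ℕ}
    (hn : ∀ y, p.finrank y = n)
    (θ : ι → (Y ⟶ P)) (hθ : ∀ i, θ i ≫ p = 𝟙 Y)
    (hdis : ∀ i j, i ≠ j → ∀ (K : Type u) [Field K] (y : Spec (CommRingCat.of K) ⟶ Y),
      y ≫ θ i ≠ y ≫ θ j) :
    Nat.card ι ≤ n ∧ (IsIso (Sigma.desc θ) → Nat.card ι = n) := by
  obtain ⟨y₀⟩ := ‹Nonempty Y›
  obtain ⟨Ω, _, _, yb, hyb⟩ := exists_geomPoint y₀
  let Q : FEt.Cat Y := mkObj p
  obtain ⟨hfin, hcard⟩ := card_fiberObj yb Q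
  have hcard' : Nat.card (FEt.fiberObj yb Q) = n := hcard.trans (hn _)
  let a : ι → FEt.fiberObj yb Q := fun i =>
    ⟨yb ≫ θ i, by
      show (yb ≫ θ i) ≫ p = yb
      rw [Category.assoc, hθ, Category.comp_id]⟩
  have ha : Function.Injective a := by
    intro i j hij
    by_contra hne
    exact hdis i j hne Ω yb (congrArg Subtype.val hij)
  haveI := hfin
  have hle : Nat.card ι ≤ n := by
    rw [← hcard']
    exact Nat.card_le_card_of_injective a ha
  refine ⟨hle, fun hiso => ?_⟩
  haveI := hiso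
  have hsurj : Function.Surjective a := by
    rintro ⟨w0, hw⟩
    obtain ⟨w, rfl⟩ : ∃ w : Spec (CommRingCat.of Ω) ⟶ P, w = w0 := ⟨w0, rfl⟩
    have hw' : w ≫ p = yb := hw
    obtain ⟨i, t, ht⟩ := exists_factor_sigma (fun _ : ι => Y) (w ≫ inv (Sigma.desc θ))
    have h2 : t ≫ θ i = w := by
      have h := congrArg (· ≫ Sigma.desc θ) ht
      simpa only [Category.assoc, Sigma.ι_desc, IsIso.inv_hom_id, Category.comp_id] using h
    have h3 : t = yb := by
      have := congrArg (· ≫ p) h2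
      simp only [Category.assoc, hθ, Category.comp_id] at this
      exact this.trans hw'
    refine ⟨i, Subtype.ext ?_⟩
    show yb ≫ θ i = w
    rw [← h3]
    exact h2
  rw [← hcard']
  exact Nat.card_eq_of_bijective a ⟨ha, hsurj⟩

end Groth.Agent.Lib.helper14.SplitCov
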