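import Mathlib
import Groth.Agent.Lib.Helper14.FreeAct1

/-!
# helper14: sections of a finite étale cover of a connected scheme
-/

set_option autoImplicit false
set_option linter.style.haveILetI false

namespace Groth.Agent.Lib.helper14.SplitCov

open AlgebraicGeometry CategoryTheory CategoryTheory.Limits
open Groth.Agent.Lib.helper14.FEtGal Groth.Agent.Lib.helper14.FibIso

universe u

variable {Y P : Scheme.{u}} (p : P ⟶ Y) [IsFinite p] [Etale p]

/-- two sections of a finite étale cover of a connected scheme which agree at one field-valued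
point are equal -/
theorem eq_of_comp_eq_of_connected [ConnectedSpace Y] (θ θ' : Y ⟶ P) (hθ : θ ≫ p = 𝟙 Y)
    (hθ' : θ' ≫ p = 𝟙 Y) {K : Type u} [Field K] (y : Spec (CommRingCat.of K) ⟶ Y)
    (h : y ≫ θ = y ≫ θ') : θ = θ' := by
  let pr : Y ⟶ pullback p p := pullback.lift θ θ' (by rw [hθ, hθ'])
  let ιE : pullback pr (pullback.diagonal p) ⟶ Y := pullback.fst pr (pullback.diagonal p)
  haveI : IsOpenImmersion ιE := inferInstance
  haveI : IsClosedImmersion ιE := inferInstance
  have hne : (Set.range ιE).Nonempty := by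
    have hy : y ≫ pr = (y ≫ θ) ≫ pullback.diagonal p := by
      apply pullback.hom_ext
      · rw [Category.assoc, pullback.lift_fst, Category.assoc, pullback.diagonal_fst,
          Category.comp_id]
      · rw [Category.assoc, pullback.lift_snd, Category.assoc, pullback.diagonal_snd,
          Category.comp_id, h]
    refine ⟨y default, pullback.lift y (y ≫ θ) hy default, ?_⟩
    rw [← Scheme.Hom.comp_apply, pullback.lift_fst]
  have hclopen : IsClopen (Set.range ιE) :=
    ⟨ιE.isClosedEmbedding.isClosed_range, ιE.isOpenEmbedding.isOpen_range⟩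
  have huniv : Set.range ιE = Set.univ := hclopen.eq_univ hne
  haveI : Surjective ιE := ⟨Set.range_eq_univ.mp huniv⟩
  haveI : IsIso ιE := (isIso_iff_isOpenImmersion_and_surjective ιE).mpr ⟨inferInstance, inferInstance⟩
  have h1 : ιE ≫ θ = ιE ≫ θ' := by
    have h2 : pr ≫ pullback.fst p p = θ := pullback.lift_fst _ _ _
    have h3 : pr ≫ pullback.snd p p = θ' := pullback.lift_snd _ _ _
    rw [← h2, ← h3, ← Category.assoc, ← Category.assoc, pullback.condition, Category.assoc,
      Category.assoc, pullback.diagonal_fst, pullback.diagonal_snd]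
  exact (cancel_epi ιE).mp h1

/-- the type of sections -/
abbrev Sec : Type u := {θ : Y ⟶ P // θ ≫ p = 𝟙 Y}

/-- on a nonempty connected base, a finite étale cover of constant rank `n` has at most `n`
sections, and exactly `n` iff it is trivial -/
theorem sections_card [ConnectedSpace Y] {n : ℕ} (hn : ∀ y, p.finrank y = n) :
    Finite (Sec p) ∧ Nat.card (Sec p) ≤ n ∧
      (Nat.card (Sec p) = n ↔ ∃ e : P ≅ ∐ fun _ : Fin n => Y,
        e.hom ≫ Sigma.desc (fun _ : Fin n => 𝟙 Y) = p) := by
  obtain ⟨y₀⟩ : Nonempty Y := inferInstance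
  obtain ⟨Ω, _, _, yb, hyb⟩ := exists_geomPoint y₀
  let Q : FEt.Cat Y := mkObj p
  obtain ⟨hfin, hcard⟩ := card_fiberObj yb Q
  haveI := hfin
  let a : Sec p → FEt.fiberObj yb Q := fun θ =>
    ⟨yb ≫ θ.1, by
      show (yb ≫ θ.1) ≫ p = yb
      rw [Category.assoc, θ.2, Category.comp_id]⟩
  have ha : Function.Injective a := by
    intro θ θ' hh
    exact Subtype.ext (eq_of_comp_eq_of_connected p θ.1 θ'.1 θ.2 θ'.2 yb
      (congrArg Subtype.val hh))
  haveI hfinSec : Finite (Sec p) := Finite.of_injective a ha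
  have hdis : ∀ i j : Sec p, i ≠ j → ∀ (K : Type u) [Field K]
      (y : Spec (CommRingCat.of K) ⟶ Y), y ≫ i.1 ≠ y ≫ j.1 := by
    intro i j hij K _ y h
    exact hij (Subtype.ext (eq_of_comp_eq_of_connected p i.1 j.1 i.2 j.2 y h))
  obtain ⟨hle, -⟩ := card_sections_le p hn (fun θ : Sec p => θ.1) (fun θ => θ.2) hdis
  refine ⟨hfinSec, hle, ⟨fun hc => ?_, ?_⟩⟩
  · haveI : IsIso (Sigma.desc (fun θ : Sec p => θ.1)) :=
      isIso_sigmaDesc_of_sections' p (fun y => (hn y).trans hc.symm) (fun θ : Sec p => θ.1)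
        (fun θ => θ.2) hdis
    let ε : Fin n ≃ Sec p := (finCongr hc.symm).trans (Finite.equivFin (Sec p)).symm
    let r := Sigma.reindex ε (fun _ : Sec p => Y)
    refine ⟨(r ≪≫ asIso (Sigma.desc (fun θ : Sec p => θ.1))).symm, ?_⟩
    show (inv (Sigma.desc (fun θ : Sec p => θ.1)) ≫ r.inv) ≫
      Sigma.desc (fun _ : Fin n => 𝟙 Y) = p
    rw [Category.assoc, IsIso.inv_comp_eq, Iso.inv_comp_eq]
    apply Sigma.hom_ext
    intro b
    rw [Sigma.ι_desc, Sigma.ι_reindex_hom_assoc, Sigma.ι_desc_assoc]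
    exact (ε b).2.symm
  · rintro ⟨e, he⟩
    apply le_antisymm hle
    let s : Fin n → Sec p := fun i => ⟨Sigma.ι (fun _ : Fin n => Y) i ≫ e.inv, by
      rw [← he, Category.assoc, Iso.inv_hom_id_assoc, Sigma.ι_desc]⟩
    have hs : Function.Injective s := by
      intro i j hij
      have h1 : Sigma.ι (fun _ : Fin n => Y) i ≫ e.inv = Sigma.ι (fun _ : Fin n => Y) j ≫ e.inv :=
        congrArg Subtype.val hij
      have h2 : Sigma.ι (fun _ : Fin n => Y) i = Sigma.ι (fun _ : Fin n => Y) j := by
        have := congrArg (· ≫ e.hom) h1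
        simpa only [Category.assoc, Iso.inv_hom_id, Category.comp_id] using this
      have h3 : Sigma.ι (fun _ : Fin n => Y) i y₀ = Sigma.ι (fun _ : Fin n => Y) j y₀ := by
        rw [h2]
      have h4 := (sigmaι_eq_iff (fun _ : Fin n => Y) i j y₀ y₀).mp h3
      exact congrArg Sigma.fst h4
    have := Nat.card_le_card_of_injective s hs
    rwa [Nat.card_fin] at this

end Groth.Agent.Lib.helper14.SplitCov
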