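import Mathlib
import Groth.Agent.Lib.Helper14.Frob2

/-!
# helper14: the Frobenius twisting morphism `Y ⟶ Y_L` for a purely inseparable extension `L/K`
of finite exponent
-/

set_option autoImplicit false
set_option linter.style.haveILetI false

namespace Groth.Agent.Lib.helper14.FrobGrp

open AlgebraicGeometry CategoryTheory CategoryTheory.Limits
open Groth.Agent.Lib.helper14.Frob

universe u

/-- twisting data for `L/K`: an exponent `q` and `r : Spec K ⟶ Spec L` with `r ≫ a` and `a ≫ r`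
the `q`-Frobenius -/
structure TwistData (K L : Type u) [Field K] [Field L] [Algebra K L] where
  /-- the exponent -/
  q : ℕ
  hasFrob : ∀ {Y : Scheme.{u}} (_ : Y ⟶ Spec (CommRingCat.of K)), HasFrob Y q
  /-- the twisting morphism of the base -/
  r : Spec (CommRingCat.of K) ⟶ Spec (CommRingCat.of L)
  hFK : ∀ [HasFrob (Spec (CommRingCat.of K)) q], absFrob (Spec (CommRingCat.of K)) q =
    r ≫ Spec.map (CommRingCat.ofHom (algebraMap K L))
  hFL : ∀ [HasFrob (Spec (CommRingCat.of L)) q], absFrob (Spec (CommRingCat.of L)) q =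
    Spec.map (CommRingCat.ofHom (algebraMap K L)) ≫ r

theorem exists_twistData (K L : Type u) [Field K] [Field L] [Algebra K L]
    [IsPurelyInseparable.HasExponent K L] : Nonempty (TwistData K L) := by
  obtain ⟨p, hp⟩ := ExpChar.exists K
  haveI := hp
  obtain ⟨n, hndef⟩ : ∃ n, n = IsPurelyInseparable.exponent K L := ⟨_, rfl⟩
  have hn : IsPurelyInseparable.exponent K L ≤ n := hndef.ge
  let ρ : L →+* K := IsPurelyInseparable.iterateFrobenius K L p hn
  have hρ1 : ∀ x : K, ρ (algebraMap K L x) = x ^ (p ^ n) := fun x =>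
    IsPurelyInseparable.iterateFrobenius_algebraMap L p hn x
  have hρ2 : ∀ x : L, algebraMap K L (ρ x) = x ^ (p ^ n) := fun x =>
    IsPurelyInseparable.algebraMap_iterateFrobenius K p hn x
  refine ⟨⟨p ^ n, fun h => hasFrob_of_over_field K p n h, Spec.map (CommRingCat.ofHom ρ), ?_, ?_⟩⟩
  · intro _
    rw [absFrob_Spec, ← Spec.map_comp]
    unfold specFrob
    congr 1
    ext x
    exact (hρ1 x).symm
  · intro _
    rw [absFrob_Spec, ← Spec.map_comp]
    unfold specFrob
    congr 1
    ext x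
    exact (hρ2 x).symm

variable {K L : Type u} [Field K] [Field L] [Algebra K L] (T : TwistData K L)

/-- the structure morphism `Spec L ⟶ Spec K` -/
noncomputable abbrev aa (K L : Type u) [Field K] [Field L] [Algebra K L] :
    Spec (CommRingCat.of L) ⟶ Spec (CommRingCat.of K) :=
  Spec.map (CommRingCat.ofHom (algebraMap K L))

namespace TwistData

lemma hasFrob' {Y : Scheme.{u}} (h : Y ⟶ Spec (CommRingCat.of L)) : HasFrob Y T.q :=
  T.hasFrob (h ≫ aa K L)

variable {Y : Scheme.{u}} (h : Y ⟶ Spec (CommRingCat.of K))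

lemma absFrob_comp [HasFrob Y T.q] : absFrob Y T.q ≫ h = (h ≫ T.r) ≫ aa K L := by
  haveI := T.hasFrob (𝟙 (Spec (CommRingCat.of K)))
  rw [absFrob_natural T.q h, T.hFK, Category.assoc]

lemma absFrob_comp' {Y : Scheme.{u}} (h : Y ⟶ Spec (CommRingCat.of L)) [HasFrob Y T.q] :
    absFrob Y T.q ≫ h = (h ≫ aa K L) ≫ T.r := by
  haveI := T.hasFrob' (𝟙 (Spec (CommRingCat.of L)))
  rw [absFrob_natural T.q h, T.hFL, Category.assoc]

/-- the twisting morphism `Y ⟶ Y_L` -/
noncomputable def ψ [HasFrob Y T.q] : Y ⟶ pullback h (aa K L) :=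
  pullback.lift (absFrob Y T.q) (h ≫ T.r) (T.absFrob_comp h)

lemma ψ_fst [HasFrob Y T.q] : T.ψ h ≫ pullback.fst h (aa K L) = absFrob Y T.q :=
  pullback.lift_fst _ _ _

lemma ψ_snd [HasFrob Y T.q] : T.ψ h ≫ pullback.snd h (aa K L) = h ≫ T.r :=
  pullback.lift_snd _ _ _

lemma fst_ψ [HasFrob Y T.q] [HasFrob (pullback h (aa K L)) T.q] :
    pullback.fst h (aa K L) ≫ T.ψ h = absFrob (pullback h (aa K L)) T.q := by
  apply pullback.hom_ext
  · rw [Category.assoc, T.ψ_fst, absFrob_natural T.q (pullback.fst h (aa K L))]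
  · rw [Category.assoc, T.ψ_snd, ← Category.assoc, pullback.condition, Category.assoc,
      T.absFrob_comp' (pullback.snd h (aa K L)), Category.assoc]

/-- `ψ` is natural -/
lemma ψ_natural {Y' : Scheme.{u}} (g : Y' ⟶ Y) [HasFrob Y T.q] [HasFrob Y' T.q] :
    T.ψ (g ≫ h) ≫ pullback.map (g ≫ h) (aa K L) h (aa K L) g (𝟙 _) (𝟙 _) (by simp) (by simp) =
      g ≫ T.ψ h := by
  apply pullback.hom_ext
  · rw [Category.assoc, pullback.map, pullback.lift_fst, ← Category.assoc, T.ψ_fst,
      Category.assoc, T.ψ_fst, absFrob_natural T.q g]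
  · rw [Category.assoc, pullback.map, pullback.lift_snd, Category.comp_id, T.ψ_snd]
    simp only [Category.assoc, T.ψ_snd]

end TwistData

end Groth.Agent.Lib.helper14.FrobGrp
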