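import Mathlib
import Groth.Prelude.Def_AlgGrp
import Groth.Prelude.Def_Red
import Groth.Agent.Lib.Helper14.BCAct

/-!
# helper14: the adjunction `Hom_{S'}(T', G_{S'}) ≃ Hom_S(T', G)` is multiplicative
-/

set_option autoImplicit false
set_option linter.style.haveILetI false

universe u

open CategoryTheory MonoidalCategory CartesianMonoidalCategory MonObj GrpObj AlgebraicGeometry
  CategoryTheory.Limits
open Groth.Agent.Lib.Helper14.BCAct

namespace Groth.Agent.Lib.helper14.FrobGrp

variable {S S' : Scheme.{u}} (g : S' ⟶ S) (G : Over S)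

/-- the transpose of a morphism `T' ⟶ G_{S'}` over `S'` -/
noncomputable def tr {T' : Over S'} (u : T' ⟶ Red.bc g G) : (Over.map g).obj T' ⟶ G :=
  Over.homMk (u.left ≫ prL g G) (by
    have h1 : u.left ≫ pullback.snd G.hom g = T'.hom := Over.w u
    show (u.left ≫ pullback.fst G.hom g) ≫ G.hom = T'.hom ≫ g
    rw [Category.assoc, pullback.condition, ← Category.assoc, h1])

@[simp] lemma tr_left {T' : Over S'} (u : T' ⟶ Red.bc g G) : (tr g G u).left = u.left ≫ prL g G :=
  rfl

lemma tr_injective {T' : Over S'} (u v : T' ⟶ Red.bc g G) (h : tr g G u = tr g G v) : u = v := by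
  apply Over.OverMorphism.ext
  apply pullback.hom_ext
  · exact congrArg (fun t => t.left) h
  · have h1 : u.left ≫ pullback.snd G.hom g = T'.hom := Over.w u
    have h2 : v.left ≫ pullback.snd G.hom g = T'.hom := Over.w v
    rw [h1, h2]

lemma tr_comp {T' T'' : Over S'} (w : T'' ⟶ T') (u : T' ⟶ Red.bc g G) :
    tr g G (w ≫ u) = (Over.map g).map w ≫ tr g G u := by
  apply Over.OverMorphism.ext
  simp [tr]

variable [GrpObj G]

lemma tr_mul {T' : Over S'} (u v : T' ⟶ Red.bc g G) :
    tr g G (u * v) = tr g G u * tr g G v := by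
  apply Over.OverMorphism.ext
  have h1 : (μ[Red.bc g G] : Red.bc g G ⊗ Red.bc g G ⟶ Red.bc g G) =
      Functor.LaxMonoidal.μ (Over.pullback g) G G ≫ (Over.pullback g).map μ[G] := rfl
  rw [Hom.mul_def, Hom.mul_def, tr_left, h1]
  simp only [Over.comp_left, Category.assoc]
  rw [map_left_prL g μ[G]]
  have key : (lift u v).left ≫ (Functor.LaxMonoidal.μ (Over.pullback g) G G).left ≫
      prL g (G ⊗ G) = (lift (tr g G u) (tr g G v)).left := by
    apply pullback.hom_ext
    · have e1 := Over.μ_pullback_left_fst_fst (f := g) G G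
      have e2 : (lift u v).left ≫ pullback.fst (Red.bc g G).hom (Red.bc g G).hom = u.left :=
        congrArg (fun t => t.left) (lift_fst u v)
      have e3 : (lift (tr g G u) (tr g G v)).left ≫ pullback.fst G.hom G.hom =
          (tr g G u).left := congrArg (fun t => t.left) (lift_fst (tr g G u) (tr g G v))
      rw [e3, tr_left]
      simp only [Category.assoc]
      erw [e1]
      rw [← Category.assoc, e2]
    · have e1 := Over.μ_pullback_left_fst_snd (f := g) G G
      have e2 : (lift u v).left ≫ pullback.snd (Red.bc g G).hom (Red.bc g G).hom = v.left :=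
        congrArg (fun t => t.left) (lift_snd u v)
      have e3 : (lift (tr g G u) (tr g G v)).left ≫ pullback.snd G.hom G.hom =
          (tr g G v).left := congrArg (fun t => t.left) (lift_snd (tr g G u) (tr g G v))
      rw [e3, tr_left]
      simp only [Category.assoc]
      erw [e1]
      rw [← Category.assoc, e2]
  rw [← key]
  simp only [Category.assoc]

lemma tr_one {T' : Over S'} : tr g G (1 : T' ⟶ Red.bc g G) = 1 := by
  have h : tr g G (1 : T' ⟶ Red.bc g G) * tr g G (1 : T' ⟶ Red.bc g G) =
      tr g G (1 : T' ⟶ Red.bc g G) := by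
    rw [← tr_mul, _root_.one_mul]
  exact mul_eq_left.mp h

end Groth.Agent.Lib.helper14.FrobGrp
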