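import Groth.Agent.Lib.Helper14.GrpQuot2

/-!
# The action of `G` on `G/H` and the group structure on `G/H` for `H` normal (helper14)
-/

set_option autoImplicit false

universe v u

open CategoryTheory CategoryTheory.Limits MonoidalCategory CartesianMonoidalCategory MonObj

namespace Groth.Agent.Lib.Helper14.GrpQuot

variable {𝒮 : Type u} [Category.{v} 𝒮] [CartesianMonoidalCategory 𝒮]

theorem comp_mul_eq {G : 𝒮} [MonObj G] {Y : 𝒮} (a : Y ⟶ G ⊗ G) :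
    a ≫ μ = (a ≫ fst G G) * (a ≫ snd G G) := by
  rw [MonObj.mul_eq_mul, MonObj.comp_mul]

variable [EpiUnivEff 𝒮] [HasPullbacks 𝒮] [EqRelEff 𝒮]

section Act

variable {H G : 𝒮} [GrpObj H] [GrpObj G] (u : H ⟶ G) [Mono u] [IsMonHom u]
  [HasCoequalizer (fst G H) ((G ◁ u) ≫ μ[G])]

local notation "Q" => coequalizer (fst G H) ((G ◁ u) ≫ μ[G])
local notation "π" => coequalizer.π (fst G H) ((G ◁ u) ≫ μ[G])

omit [EpiUnivEff 𝒮] in
theorem act_desc_condition {Y : 𝒮} (a b : Y ⟶ G ⊗ G) (h : a ≫ (G ◁ π) = b ≫ (G ◁ π)) :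
    a ≫ μ ≫ π = b ≫ μ ≫ π := by
  have h1 : a ≫ fst G G = b ≫ fst G G := by
    have := congrArg (fun f => f ≫ fst G Q) h
    simpa using this
  have h2 : (a ≫ snd G G) ≫ π = (b ≫ snd G G) ≫ π := by
    have := congrArg (fun f => f ≫ snd G Q) h
    simpa using this
  obtain ⟨k, hk⟩ := (quotπ_eq_iff u _ _).1 h2
  rw [← Category.assoc, ← Category.assoc, quotπ_eq_iff u]
  refine ⟨k, ?_⟩
  rw [comp_mul_eq, comp_mul_eq, ← h1, ← hk, _root_.mul_assoc]

/-- S6051, abstract form. -/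
theorem existsUnique_act :
    ∃! act : G ⊗ Q ⟶ Q,
      (η[G] ▷ Q) ≫ act = (λ_ Q).hom ∧
      (μ[G] ▷ Q) ≫ act = (α_ G G Q).hom ≫ (G ◁ act) ≫ act ∧
      μ[G] ≫ π = (G ◁ π) ≫ act := by
  obtain ⟨act, hact⟩ := exists_desc (G ◁ π) (μ[G] ≫ π) (fun a b h => act_desc_condition u a b h)
  refine ⟨act, ⟨?_, ?_, hact.symm⟩, ?_⟩
  · rw [← cancel_epi ((𝟙_ 𝒮) ◁ π)]
    rw [whisker_exchange_assoc, hact, MonObj.one_mul_assoc, leftUnitor_naturality]
  · rw [← cancel_epi ((G ⊗ G) ◁ π)]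
    rw [whisker_exchange_assoc, hact, MonObj.mul_assoc_assoc]
    rw [associator_naturality_right_assoc, ← whiskerLeft_comp_assoc, hact,
      whiskerLeft_comp_assoc, hact]
  · rintro act' ⟨-, -, h3⟩
    rw [← cancel_epi (G ◁ π), hact, ← h3]

end Act

end Groth.Agent.Lib.Helper14.GrpQuot
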