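import Groth.Agent.Lib.Helper14.SubQuot2
import Groth.Agent.Lib.Helper14.GrpQuot3
import Mathlib.CategoryTheory.Monoidal.Cartesian.Grp
import Mathlib.Tactic.Group

/-!
# Subgroup subobjects of a group object (helper14)
-/

set_option autoImplicit false

universe v u

open CategoryTheory CategoryTheory.Limits MonoidalCategory CartesianMonoidalCategory MonObj

namespace Groth.Agent.Lib.Helper14.GrpQuot

variable {𝒮 : Type u} [Category.{v} 𝒮] [CartesianMonoidalCategory 𝒮]

section OfMono

variable {G P : 𝒮} [GrpObj G] (i : P ⟶ G) [Mono i] (o : 𝟙_ 𝒮 ⟶ P) (ho : o ≫ i = η[G])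
  (m : P ⊗ P ⟶ P) (hm : m ≫ i = (i ⊗ₘ i) ≫ μ[G]) (v : P ⟶ P) (hv : v ≫ i = i ≫ ι[G])

/-- A group structure restricts along a monomorphism closed under the operations. -/
@[reducible] def grpObjOfMono : GrpObj P where
  one := o
  mul := m
  one_mul := by
    rw [← cancel_mono i, Category.assoc, hm, ← tensorHom_id, tensorHom_comp_tensorHom_assoc, ho,
      Category.id_comp, ← leftUnitor_naturality, ← MonObj.one_mul G, ← tensorHom_def'_assoc]
  mul_one := by
    rw [← cancel_mono i, Category.assoc, hm, ← id_tensorHom, tensorHom_comp_tensorHom_assoc, ho,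
      Category.id_comp, ← rightUnitor_naturality, ← MonObj.mul_one G, ← tensorHom_def_assoc]
  mul_assoc := by
    rw [← cancel_mono i]
    have e1 : m ▷ P ≫ (i ⊗ₘ i) = ((i ⊗ₘ i) ⊗ₘ i) ≫ (μ[G] ▷ G) := by
      rw [← tensorHom_id, tensorHom_comp_tensorHom, hm, Category.id_comp, ← tensorHom_id,
        tensorHom_comp_tensorHom, Category.comp_id]
    have e2 : P ◁ m ≫ (i ⊗ₘ i) = (i ⊗ₘ (i ⊗ₘ i)) ≫ (G ◁ μ[G]) := by
      rw [← id_tensorHom, tensorHom_comp_tensorHom, hm, Category.id_comp, ← id_tensorHom,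
        tensorHom_comp_tensorHom, Category.comp_id]
    calc (m ▷ P ≫ m) ≫ i = m ▷ P ≫ (i ⊗ₘ i) ≫ μ[G] := by rw [Category.assoc, hm]
      _ = ((i ⊗ₘ i) ⊗ₘ i) ≫ (μ[G] ▷ G) ≫ μ[G] := by rw [← Category.assoc, e1, Category.assoc]
      _ = ((i ⊗ₘ i) ⊗ₘ i) ≫ (α_ G G G).hom ≫ (G ◁ μ[G]) ≫ μ[G] := by rw [MonObj.mul_assoc]
      _ = (α_ P P P).hom ≫ (i ⊗ₘ (i ⊗ₘ i)) ≫ (G ◁ μ[G]) ≫ μ[G] := by
          rw [associator_naturality_assoc]
      _ = (α_ P P P).hom ≫ P ◁ m ≫ (i ⊗ₘ i) ≫ μ[G] := by
          rw [← Category.assoc (i ⊗ₘ (i ⊗ₘ i)), ← e2, Category.assoc]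
      _ = ((α_ P P P).hom ≫ P ◁ m ≫ m) ≫ i := by rw [← hm]; simp only [Category.assoc]
  inv := v
  left_inv := by
    rw [← cancel_mono i, Category.assoc, hm]
    have : lift v (𝟙 P) ≫ (i ⊗ₘ i) = i ≫ lift ι[G] (𝟙 G) := by
      apply CartesianMonoidalCategory.hom_ext <;> simp [hv]
    rw [← Category.assoc, this, Category.assoc, GrpObj.left_inv, Category.assoc, ho]
    simp
  right_inv := by
    rw [← cancel_mono i, Category.assoc, hm]
    have : lift (𝟙 P) v ≫ (i ⊗ₘ i) = i ≫ lift (𝟙 G) ι[G] := by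
      apply CartesianMonoidalCategory.hom_ext <;> simp [hv]
    rw [← Category.assoc, this, Category.assoc, GrpObj.right_inv, Category.assoc, ho]
    simp

end OfMono

section Sub

variable {G : 𝒮} [GrpObj G]

/-- A subobject of a group object whose generalized elements form subgroups. -/
structure IsSubgroupSub (K : Subobject G) : Prop where
  one : ∀ Y : 𝒮, K.Factors (1 : Y ⟶ G)
  mul : ∀ {Y : 𝒮} (x y : Y ⟶ G), K.Factors x → K.Factors y → K.Factors (x * y)
  inv : ∀ {Y : 𝒮} (x : Y ⟶ G), K.Factors x → K.Factors x⁻¹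

/-- A subobject stable under conjugation. -/
def IsNormalSub (K : Subobject G) : Prop :=
  ∀ {Y : 𝒮} (g x : Y ⟶ G), K.Factors x → K.Factors (g * x * g⁻¹)

theorem exists_grpObj_iff_isSubgroupSub (K : Subobject G) :
    (∃ str : GrpObj (K : 𝒮), @IsMonHom 𝒮 _ _ _ _ str.toMonObj _ K.arrow) ↔ IsSubgroupSub K := by
  constructor
  · rintro ⟨str, hstr⟩
    refine ⟨fun Y => ?_, fun {Y} x y hx hy => ?_, fun {Y} x hx => ?_⟩
    · rw [← MonObj.one_comp (X := Y) K.arrow]
      exact Subobject.factors_comp_arrow _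
    · rw [← Subobject.factorThru_arrow K x hx, ← Subobject.factorThru_arrow K y hy,
        ← MonObj.mul_comp]
      exact Subobject.factors_comp_arrow _
    · rw [← Subobject.factorThru_arrow K x hx, ← GrpObj.inv_comp]
      exact Subobject.factors_comp_arrow _
  · intro h
    have h1 : K.Factors η[G] := by
      rw [MonObj.one_eq_one]
      exact h.one _
    have h2 : K.Factors ((K.arrow ⊗ₘ K.arrow) ≫ μ[G]) := by
      rw [comp_mul_eq]
      refine h.mul _ _ ?_ ?_
      · rw [tensorHom_fst]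
        exact Subobject.factors_of_factors_right _ (Subobject.factors_self K)
      · rw [tensorHom_snd]
        exact Subobject.factors_of_factors_right _ (Subobject.factors_self K)
    have h3 : K.Factors (K.arrow ≫ ι[G]) := by
      rw [← Hom.inv_def]
      exact h.inv _ (Subobject.factors_self K)
    refine ⟨grpObjOfMono K.arrow (K.factorThru _ h1) (K.factorThru_arrow _ h1)
      (K.factorThru _ h2) (K.factorThru_arrow _ h2) (K.factorThru _ h3) (K.factorThru_arrow _ h3),
      ?_⟩
    exact @IsMonHom.mk 𝒮 _ _ _ _ (grpObjOfMono K.arrow (K.factorThru _ h1) (K.factorThru_arrow _ h1)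
      (K.factorThru _ h2) (K.factorThru_arrow _ h2) (K.factorThru _ h3)
      (K.factorThru_arrow _ h3)).toMonObj _ K.arrow (K.factorThru_arrow _ h1)
      (K.factorThru_arrow _ h2)

theorem isNormalSub_iff (K : Subobject G) :
    (∀ (Y : 𝒮) (g : Y ⟶ G) (k : Y ⟶ (K : 𝒮)),
      ∃ k' : Y ⟶ (K : 𝒮), g * (k ≫ K.arrow) * g⁻¹ = k' ≫ K.arrow) ↔ IsNormalSub K := by
  constructor
  · intro h Y g x hx
    obtain ⟨k', hk'⟩ := h Y g (K.factorThru x hx)
    rw [Subobject.factorThru_arrow] at hk'
    rw [hk']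
    exact Subobject.factors_comp_arrow _
  · intro h Y g k
    have := h g (k ≫ K.arrow) (Subobject.factors_comp_arrow _)
    exact ⟨K.factorThru _ this, (K.factorThru_arrow _ this).symm⟩

variable [HasPullbacks 𝒮] {Q : 𝒮} [GrpObj Q] (π : G ⟶ Q) [IsMonHom π]

theorem IsSubgroupSub.pullback {K' : Subobject Q} (h : IsSubgroupSub K') :
    IsSubgroupSub ((Subobject.pullback π).obj K') where
  one Y := by
    rw [pullback_factors_iff, MonObj.one_comp]
    exact h.one Y
  mul x y hx hy := by
    rw [pullback_factors_iff] at hx hy ⊢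
    rw [MonObj.mul_comp]
    exact h.mul _ _ hx hy
  inv x hx := by
    rw [pullback_factors_iff] at hx ⊢
    rw [GrpObj.inv_comp]
    exact h.inv _ hx

theorem IsNormalSub.pullback {K' : Subobject Q} (h : IsNormalSub K') :
    IsNormalSub ((Subobject.pullback π).obj K') := by
  intro Y g x hx
  rw [pullback_factors_iff] at hx ⊢
  rw [MonObj.mul_comp, MonObj.mul_comp, GrpObj.inv_comp]
  exact h _ _ hx

variable [EpiUnivEff 𝒮] [Epi π]

theorem IsSubgroupSub.of_pullback {K' : Subobject Q}
    (h : IsSubgroupSub ((Subobject.pullback π).obj K')) : IsSubgroupSub K' where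
  one Y := by
    have := h.one Y
    rwa [pullback_factors_iff, MonObj.one_comp] at this
  mul {Y} x y hx hy := by
    obtain ⟨Y', p, hp, g₁, g₂, hg₁, hg₂⟩ := exists_local_lift₂ π x y
    apply factors_of_epi_comp p
    have h1 : ((Subobject.pullback π).obj K').Factors g₁ := by
      rw [pullback_factors_iff, hg₁]
      exact Subobject.factors_of_factors_right _ hx
    have h2 : ((Subobject.pullback π).obj K').Factors g₂ := by
      rw [pullback_factors_iff, hg₂]
      exact Subobject.factors_of_factors_right _ hy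
    have := h.mul _ _ h1 h2
    rwa [pullback_factors_iff, MonObj.mul_comp, hg₁, hg₂, ← MonObj.comp_mul] at this
  inv {Y} x hx := by
    obtain ⟨Y', p, hp, g, hg⟩ := exists_local_lift π x
    apply factors_of_epi_comp p
    have h1 : ((Subobject.pullback π).obj K').Factors g := by
      rw [pullback_factors_iff, hg]
      exact Subobject.factors_of_factors_right _ hx
    have := h.inv _ h1
    rwa [pullback_factors_iff, GrpObj.inv_comp, hg, ← GrpObj.comp_inv] at this

theorem IsNormalSub.of_pullback {K' : Subobject Q}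
    (h : IsNormalSub ((Subobject.pullback π).obj K')) : IsNormalSub K' := by
  intro Y g x hx
  obtain ⟨Y', p, hp, g₁, g₂, hg₁, hg₂⟩ := exists_local_lift₂ π g x
  apply factors_of_epi_comp p
  have h2 : ((Subobject.pullback π).obj K').Factors g₂ := by
    rw [pullback_factors_iff, hg₂]
    exact Subobject.factors_of_factors_right _ hx
  have := h g₁ g₂ h2
  rwa [pullback_factors_iff, MonObj.mul_comp, MonObj.mul_comp, GrpObj.inv_comp, hg₁, hg₂,
    ← GrpObj.comp_inv, ← MonObj.comp_mul, ← MonObj.comp_mul] at this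

end Sub

end Groth.Agent.Lib.Helper14.GrpQuot
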