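import Mathlib
import Groth.Prelude.Def_AlgGrp
import Groth.Prelude.Def_Red
import Groth.Agent.Lib.Helper14.FrobGrp1
import Groth.Agent.Lib.Helper14.FrobGrp2
import Groth.Agent.Lib.Helper14.SubGrp1

/-!
# helper14: the Frobenius-twisted map on points `G(P) → G_L(P^r)` is a group homomorphism; the
Frobenius pull-back of a subgroup of `G_L` is a subgroup of `G`
-/

set_option autoImplicit false
set_option linter.style.haveILetI false

universe u

open CategoryTheory MonoidalCategory CartesianMonoidalCategory MonObj GrpObj AlgebraicGeometry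
  CategoryTheory.Limits
open Groth.Agent.Lib.Helper14.BCAct Groth.Agent.Lib.helper14.Frob
open Groth.Agent.Lib.Helper14.GrpQuot

namespace Groth.Agent.Lib.helper14.FrobGrp

variable {K L : Type u} [Field K] [Field L] [Algebra K L] (T : TwistData K L)
  (G : Over (Spec (CommRingCat.of K)))

namespace TwistData

/-- the twisted map on points -/
noncomputable def Ψ {P : Over (Spec (CommRingCat.of K))} (x : P ⟶ G) :
    (Over.map T.r).obj P ⟶ Red.bc (aa K L) G :=
  haveI := T.hasFrob G.hom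
  Over.homMk (x.left ≫ T.ψ G.hom) (by
    show (x.left ≫ T.ψ G.hom) ≫ pullback.snd G.hom (aa K L) = P.hom ≫ T.r
    rw [Category.assoc, T.ψ_snd, ← Category.assoc, Over.w x])

lemma Ψ_left {P : Over (Spec (CommRingCat.of K))} (x : P ⟶ G) [HasFrob G.left T.q] :
    (T.Ψ G x).left = x.left ≫ T.ψ G.hom := rfl

/-- the Frobenius of `P`, as a morphism over `Spec K` -/
noncomputable def Fr (P : Over (Spec (CommRingCat.of K))) :
    (Over.map (aa K L)).obj ((Over.map T.r).obj P) ⟶ P :=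
  haveI := T.hasFrob P.hom
  Over.homMk (absFrob P.left T.q) (by
    show absFrob P.left T.q ≫ P.hom = (P.hom ≫ T.r) ≫ aa K L
    exact T.absFrob_comp P.hom)

lemma tr_Ψ {P : Over (Spec (CommRingCat.of K))} (x : P ⟶ G) :
    tr (aa K L) G (T.Ψ G x) = T.Fr P ≫ x := by
  haveI := T.hasFrob G.hom
  haveI := T.hasFrob P.hom
  apply Over.OverMorphism.ext
  show (x.left ≫ T.ψ G.hom) ≫ pullback.fst G.hom (aa K L) = absFrob P.left T.q ≫ x.left
  rw [Category.assoc, T.ψ_fst, absFrob_natural T.q x.left]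

lemma Ψ_comp {P P' : Over (Spec (CommRingCat.of K))} (w : P' ⟶ P) (x : P ⟶ G) :
    T.Ψ G (w ≫ x) = (Over.map T.r).map w ≫ T.Ψ G x := by
  apply Over.OverMorphism.ext
  simp [Ψ]

variable [GrpObj G]

lemma Ψ_mul {P : Over (Spec (CommRingCat.of K))} (x y : P ⟶ G) :
    T.Ψ G (x * y) = T.Ψ G x * T.Ψ G y := by
  apply tr_injective
  rw [tr_mul, T.tr_Ψ, T.tr_Ψ, T.tr_Ψ, MonObj.comp_mul]

lemma Ψ_one {P : Over (Spec (CommRingCat.of K))} : T.Ψ G (1 : P ⟶ G) = 1 := by
  have h : T.Ψ G (1 : P ⟶ G) * T.Ψ G (1 : P ⟶ G) = T.Ψ G (1 : P ⟶ G) := by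
    rw [← T.Ψ_mul, _root_.one_mul]
  exact mul_eq_left.mp h

lemma Ψ_inv {P : Over (Spec (CommRingCat.of K))} (x : P ⟶ G) : T.Ψ G x⁻¹ = (T.Ψ G x)⁻¹ := by
  have h : T.Ψ G x⁻¹ * T.Ψ G x = 1 := by
    rw [← T.Ψ_mul, inv_mul_cancel, T.Ψ_one]
  exact eq_inv_of_mul_eq_one_left h

end TwistData

end Groth.Agent.Lib.helper14.FrobGrp
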