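import Mathlib
import Groth.Prelude.Def_AlgGrp
import Groth.Prelude.Def_Red
import Groth.Agent.Lib.Helper14.FrobGrp3

/-!
# helper14: the Frobenius pull-back of a subgroup of `G_L` is a subgroup of `G`
-/

set_option autoImplicit false
set_option linter.style.haveILetI false

universe u

open CategoryTheory MonoidalCategory CartesianMonoidalCategory MonObj GrpObj AlgebraicGeometry
  CategoryTheory.Limits
open Groth.Agent.Lib.Helper14.BCAct Groth.Agent.Lib.helper14.Frob
open Groth.Agent.Lib.Helper14.GrpQuot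

namespace Groth.Agent.Lib.helper14.FrobGrp

variable {K L : Type u} [Field K] [Field L] [Algebra K L] (T : TwistData K L)
  (G : Over (Spec (CommRingCat.of K))) [HasFrob G.left T.q]
  {H' : Over (Spec (CommRingCat.of L))} (h' : H' ⟶ Red.bc (aa K L) G)

namespace TwistData

/-- the points of the Frobenius pull-back -/
def Fac {P : Over (Spec (CommRingCat.of K))} (x : P ⟶ G) : Prop :=
  ∃ y : (Over.map T.r).obj P ⟶ H', y ≫ h' = T.Ψ G x

/-- the Frobenius pull-back, as a scheme over `Spec K` -/
noncomputable def Hov : Over (Spec (CommRingCat.of K)) :=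
  Over.mk (pullback.snd h'.left (T.ψ G.hom) ≫ G.hom)

/-- the inclusion of the Frobenius pull-back -/
noncomputable def hmor : T.Hov G h' ⟶ G :=
  Over.homMk (pullback.snd h'.left (T.ψ G.hom)) rfl

lemma hmor_left : (T.hmor G h').left = pullback.snd h'.left (T.ψ G.hom) := rfl

instance isClosedImmersion_hmor [IsClosedImmersion h'.left] :
    IsClosedImmersion (T.hmor G h').left :=
  inferInstanceAs (IsClosedImmersion (pullback.snd h'.left (T.ψ G.hom)))

instance mono_hmor [Mono h'.left] : Mono (T.hmor G h') := by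
  haveI : Mono (T.hmor G h').left :=
    inferInstanceAs (Mono (pullback.snd h'.left (T.ψ G.hom)))
  exact Over.mono_of_mono_left _

lemma factors_iff [Mono h'.left] {P : Over (Spec (CommRingCat.of K))} (x : P ⟶ G) :
    (Subobject.mk (T.hmor G h')).Factors x ↔ T.Fac G h' x := by
  constructor
  · rintro ⟨t, ht⟩
    have ht' : t ≫ T.hmor G h' = x := ht
    have htl : t.left ≫ pullback.snd h'.left (T.ψ G.hom) = x.left :=
      congrArg (fun s => s.left) ht'
    have htw : t.left ≫ pullback.snd h'.left (T.ψ G.hom) ≫ G.hom = P.hom := Over.w t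
    have hh' : h'.left ≫ pullback.snd G.hom (aa K L) = H'.hom := Over.w h'
    refine ⟨Over.homMk (t.left ≫ pullback.fst h'.left (T.ψ G.hom)) ?_, ?_⟩
    · show (t.left ≫ pullback.fst h'.left (T.ψ G.hom)) ≫ H'.hom = P.hom ≫ T.r
      have hc : pullback.fst h'.left (T.ψ G.hom) ≫ h'.left =
          pullback.snd h'.left (T.ψ G.hom) ≫ T.ψ G.hom := pullback.condition
      calc (t.left ≫ pullback.fst h'.left (T.ψ G.hom)) ≫ H'.hom
          = t.left ≫ (pullback.fst h'.left (T.ψ G.hom) ≫ h'.left) ≫
              pullback.snd G.hom (aa K L) := by rw [← hh']; simp only [Category.assoc]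
        _ = t.left ≫ (pullback.snd h'.left (T.ψ G.hom) ≫ T.ψ G.hom) ≫
              pullback.snd G.hom (aa K L) :=
            congrArg (fun z => t.left ≫ z ≫ pullback.snd G.hom (aa K L)) hc
        _ = (t.left ≫ pullback.snd h'.left (T.ψ G.hom) ≫ G.hom) ≫ T.r := by
              simp only [Category.assoc, T.ψ_snd]
        _ = P.hom ≫ T.r := by rw [htw]
    · apply Over.OverMorphism.ext
      show (t.left ≫ pullback.fst h'.left (T.ψ G.hom)) ≫ h'.left = x.left ≫ T.ψ G.hom
      have hc : pullback.fst h'.left (T.ψ G.hom) ≫ h'.left =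
          pullback.snd h'.left (T.ψ G.hom) ≫ T.ψ G.hom := pullback.condition
      exact (Category.assoc _ _ _).trans ((congrArg (fun z => t.left ≫ z) hc).trans
        ((Category.assoc _ _ _).symm.trans (congrArg (fun z => z ≫ T.ψ G.hom) htl)))
  · rintro ⟨y, hy⟩
    have hyl : y.left ≫ h'.left = x.left ≫ T.ψ G.hom := congrArg (fun s => s.left) hy
    refine ⟨Over.homMk (pullback.lift y.left x.left hyl) ?_, ?_⟩
    · show pullback.lift y.left x.left hyl ≫ pullback.snd h'.left (T.ψ G.hom) ≫ G.hom = P.hom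
      rw [← Category.assoc, pullback.lift_snd, Over.w x]
    · apply Over.OverMorphism.ext
      show pullback.lift y.left x.left hyl ≫ pullback.snd h'.left (T.ψ G.hom) = x.left
      exact pullback.lift_snd _ _ _

variable [GrpObj G] [GrpObj H'] [IsMonHom h']

theorem isSubgroupSub [Mono h'.left] : IsSubgroupSub (Subobject.mk (T.hmor G h')) where
  one Y := by
    rw [T.factors_iff]
    exact ⟨1, by rw [MonObj.one_comp, T.Ψ_one]⟩
  mul x y hx hy := by
    rw [T.factors_iff] at hx hy ⊢
    obtain ⟨x', hx'⟩ := hx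
    obtain ⟨y', hy'⟩ := hy
    exact ⟨x' * y', by rw [MonObj.mul_comp, hx', hy', T.Ψ_mul]⟩
  inv x hx := by
    rw [T.factors_iff] at hx ⊢
    obtain ⟨x', hx'⟩ := hx
    exact ⟨x'⁻¹, by rw [GrpObj.inv_comp, hx', T.Ψ_inv]⟩

end TwistData

end Groth.Agent.Lib.helper14.FrobGrp
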