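import Mathlib
import Groth.Prelude.Def_AlgGrp
import Groth.Prelude.Def_Red
import Groth.Agent.Lib.Helper14.FrobGrp4

/-!
# helper14: a closed subgroup of `G_L` (for `L/K` purely inseparable of finite exponent) is
contained, with the same underlying space, in the base change of a closed subgroup of `G`
-/

set_option autoImplicit false
set_option linter.style.haveILetI false

universe u

open CategoryTheory MonoidalCategory CartesianMonoidalCategory MonObj GrpObj AlgebraicGeometry
  CategoryTheory.Limits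
open Groth.Agent.Lib.Helper14.BCAct Groth.Agent.Lib.helper14.Frob
open Groth.Agent.Lib.Helper14.GrpQuot

namespace Groth.Agent.Lib.helper14.FrobGrp

section Untr

variable {S S' : Scheme.{u}} (g : S' ⟶ S) (G : Over S)

/-- the inverse of `tr` -/
noncomputable def untr {T' : Over S'} (v : (Over.map g).obj T' ⟶ G) : T' ⟶ Red.bc g G :=
  Over.homMk (pullback.lift v.left T'.hom (Over.w v)) (by
    show pullback.lift v.left T'.hom (Over.w v) ≫ pullback.snd G.hom g = T'.hom
    exact pullback.lift_snd _ _ _)

lemma tr_untr {T' : Over S'} (v : (Over.map g).obj T' ⟶ G) : tr g G (untr g G v) = v := by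
  apply Over.OverMorphism.ext
  show pullback.lift v.left T'.hom (Over.w v) ≫ pullback.fst G.hom g = v.left
  exact pullback.lift_fst _ _ _

lemma tr_map {G₁ : Over S} (h : G₁ ⟶ G) {T' : Over S'} (u : T' ⟶ Red.bc g G₁) :
    tr g G (u ≫ (Over.pullback g).map h) = tr g G₁ u ≫ h := by
  apply Over.OverMorphism.ext
  show (u.left ≫ ((Over.pullback g).map h).left) ≫ prL g G = (u.left ≫ prL g G₁) ≫ h.left
  rw [Category.assoc, map_left_prL, Category.assoc]

end Untr

variable {K L : Type u} [Field K] [Field L] [Algebra K L] (T : TwistData K L)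
  (G : Over (Spec (CommRingCat.of K))) [HasFrob G.left T.q]
  {H' : Over (Spec (CommRingCat.of L))} (h' : H' ⟶ Red.bc (aa K L) G)

namespace TwistData

/-- `H'` lands in the Frobenius pull-back -/
lemma fac_tr : T.Fac G h' (tr (aa K L) G h') := by
  haveI : HasFrob H'.left T.q := T.hasFrob' H'.hom
  haveI : HasFrob (pullback G.hom (aa K L)) T.q := T.hasFrob' (pullback.snd G.hom (aa K L))
  refine ⟨Over.homMk (absFrob H'.left T.q) ?_, ?_⟩
  · show absFrob H'.left T.q ≫ H'.hom = (H'.hom ≫ aa K L) ≫ T.r
    exact T.absFrob_comp' H'.hom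
  · apply Over.OverMorphism.ext
    show absFrob H'.left T.q ≫ h'.left = (h'.left ≫ pullback.fst G.hom (aa K L)) ≫ T.ψ G.hom
    have h1 : absFrob H'.left T.q ≫ h'.left = h'.left ≫ absFrob (pullback G.hom (aa K L)) T.q :=
      @absFrob_natural (pullback G.hom (aa K L)) T.q _ H'.left h'.left _
    rw [Category.assoc, T.fst_ψ G.hom]
    exact h1

variable [GrpObj G] [GrpObj H'] [IsMonHom h'] [IsClosedImmersion h'.left]

include T in
theorem exists_subgroup :
    ∃ (H : Over (Spec (CommRingCat.of K))) (_ : GrpObj H) (h : H ⟶ G), IsMonHom h ∧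
      IsClosedImmersion h.left ∧
      ∃ g : H' ⟶ Red.bc (aa K L) H, g ≫ (Over.pullback (aa K L)).map h = h' ∧
        Surjective g.left := by
  haveI : Mono h'.left := inferInstance
  obtain ⟨Ks, hKs⟩ : ∃ Ks : Subobject G, Ks = Subobject.mk (T.hmor G h') := ⟨_, rfl⟩
  have hfi : ∀ {P : Over (Spec (CommRingCat.of K))} (x : P ⟶ G), Ks.Factors x ↔ T.Fac G h' x := by
    intro P x
    rw [hKs]
    exact T.factors_iff G h' x
  have hsub : IsSubgroupSub Ks := by
    rw [hKs]
    exact T.isSubgroupSub G h'
  obtain ⟨str, hstr⟩ := (exists_grpObj_iff_isSubgroupSub Ks).mpr hsub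
  have hcl : IsClosedImmersion Ks.arrow.left := by
    have e : (Subobject.underlyingIso (T.hmor G h')).hom ≫ T.hmor G h' =
        (Subobject.mk (T.hmor G h')).arrow := Subobject.underlyingIso_hom_comp_eq_mk _
    rw [hKs, ← e, Over.comp_left]
    haveI : IsIso (Subobject.underlyingIso (T.hmor G h')).hom.left :=
      inferInstanceAs (IsIso ((Over.forget _).map (Subobject.underlyingIso (T.hmor G h')).hom))
    infer_instance
  refine ⟨(Ks : Over _), str, Ks.arrow, hstr, hcl, ?_⟩
  have hfac : Ks.Factors (tr (aa K L) G h') := (hfi _).mpr (T.fac_tr G h')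
  have hg : untr (aa K L) (Ks : Over _) (Ks.factorThru _ hfac) ≫
      (Over.pullback (aa K L)).map Ks.arrow = h' := by
    apply tr_injective
    rw [tr_map, tr_untr, Subobject.factorThru_arrow]
  refine ⟨untr (aa K L) (Ks : Over _) (Ks.factorThru _ hfac), hg, ?_⟩
  -- surjectivity
  obtain ⟨y, hy⟩ := (hfi _).mp (Subobject.factors_self Ks)
  have hyl : y.left ≫ h'.left = Ks.arrow.left ≫ T.ψ G.hom := congrArg (fun s => s.left) hy
  haveI : HasFrob (pullback G.hom (aa K L)) T.q := T.hasFrob' (pullback.snd G.hom (aa K L))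
  obtain ⟨M, hM⟩ : ∃ M : (Red.bc (aa K L) (Ks : Over _)).left ⟶ pullback G.hom (aa K L),
    M = ((Over.pullback (aa K L)).map Ks.arrow).left := ⟨_, rfl⟩
  have hMcl : IsClosedImmersion M := by
    rw [hM]
    exact MorphismProperty.of_isPullback (P := @IsClosedImmersion)
      (isPullback_map_left (aa K L) Ks.arrow) hcl
  have hgl : (untr (aa K L) (Ks : Over _) (Ks.factorThru _ hfac)).left ≫ M = h'.left := by
    rw [hM]
    exact congrArg (fun s => s.left) hg
  have hMpr : M ≫ pullback.fst G.hom (aa K L) =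
      prL (aa K L) (Ks : Over _) ≫ Ks.arrow.left := by
    rw [hM]
    exact map_left_prL (aa K L) Ks.arrow
  have key : (prL (aa K L) (Ks : Over _) ≫ y.left) ≫ h'.left =
      M ≫ absFrob (pullback G.hom (aa K L)) T.q := by
    rw [Category.assoc, hyl, ← Category.assoc, ← hMpr, Category.assoc, T.fst_ψ G.hom]
  refine ⟨fun z => ⟨y.left (prL (aa K L) (Ks : Over _) z), ?_⟩⟩
  apply M.isClosedEmbedding.injective
  have e1 := congrArg (fun t : _ ⟶ pullback G.hom (aa K L) => t z) key
  have e2 := congrArg (fun t : _ ⟶ pullback G.hom (aa K L) =>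
    t (y.left (prL (aa K L) (Ks : Over _) z))) hgl
  simp only [Scheme.Hom.comp_apply] at e1 e2
  rw [absFrob_apply] at e1
  exact e2.trans e1

end TwistData

end Groth.Agent.Lib.helper14.FrobGrp
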