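import Mathlib
import Groth.Prelude.Def_NonAbH2
import Groth.Agent.Lib.Helper14.FinConnTorsor2

/-!
# helper14: torsors under a finite connected group scheme over a field of characteristic `p` become
trivial after a uniform power of Frobenius
-/

set_option autoImplicit false
universe u
open CategoryTheory CategoryTheory.Limits AlgebraicGeometry TensorProduct

namespace Groth.Agent.Lib.Helper14.FrobTorsor

section Algebra

/-- descent for elements along a field extension: `c ⊗ 1 = 1 ⊗ c` forces `c` to come from `K` -/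
theorem mem_range_of_tmul_eq {K κ : Type*} [Field K] [CommRing κ] [Nontrivial κ] [Algebra K κ]
    (c : κ) (h : c ⊗ₜ[K] (1 : κ) = (1 : κ) ⊗ₜ[K] c) : c ∈ (algebraMap K κ).range := by
  have hinj : LinearMap.ker (Algebra.linearMap K κ) = ⊥ := by
    rw [LinearMap.ker_eq_bot]
    exact (algebraMap K κ).injective
  obtain ⟨l, hl⟩ := (Algebra.linearMap K κ).exists_leftInverse_of_injective hinj
  have hl1 : l 1 = 1 := by
    have := congrArg (fun g => g 1) hl
    simpa using this
  have := congrArg (fun z => (TensorProduct.lid K κ) ((TensorProduct.map l LinearMap.id) z)) h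
  simp only [TensorProduct.map_tmul, LinearMap.id_coe, id_eq, TensorProduct.lid_tmul, hl1,
    one_smul] at this
  refine ⟨l c, ?_⟩
  rw [Algebra.algebraMap_eq_smul_one]
  exact this

/-- in a Noetherian ring of characteristic `p` with a single prime ideal, a ring endomorphism that is
the identity modulo that prime agrees with the identity after a uniform power of Frobenius -/
theorem exists_pow_eq {A : Type*} [CommRing A] [IsNoetherianRing A] (p : ℕ) (hp : 2 ≤ p)
    [ExpChar A p] (hsub : ∀ P Q : Ideal A, P.IsPrime → Q.IsPrime → P = Q) (P : Ideal A)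
    [hP : P.IsPrime] (ε : A →+* A) (hε : ∀ a, a - ε a ∈ P) :
    ∃ n : ℕ, ∀ a : A, a ^ p ^ n = (ε a) ^ p ^ n := by
  have hnil : nilradical A = P := by
    rw [nilradical_eq_sInf]
    apply le_antisymm
    · exact sInf_le hP
    · apply le_sInf
      intro Q hQ
      rw [hsub Q P hQ hP]
  obtain ⟨N, hN⟩ := IsNoetherianRing.isNilpotent_nilradical A
  obtain ⟨n, hn⟩ : ∃ n : ℕ, N ≤ p ^ n := ⟨N, (Nat.lt_pow_self hp).le⟩
  refine ⟨n, fun a => ?_⟩
  have h1 : (a - ε a) ^ p ^ n = 0 := by
    have h2 : (a - ε a) ^ N ∈ (nilradical A) ^ N := Ideal.pow_mem_pow (hnil ▸ hε a) N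
    rw [hN] at h2
    have h3 : (a - ε a) ^ N = 0 := h2
    obtain ⟨m, hm⟩ := Nat.exists_eq_add_of_le hn
    rw [hm, pow_add, h3, zero_mul]
  rw [sub_pow_expChar_pow] at h1
  exact sub_eq_zero.mp h1

end Algebra


section Group

open MonObj

variable {K : Type u} [Field K] (G : Over (Spec (CommRingCat.of K))) [GrpObj G] [IsFinite G.hom]
  [ConnectedSpace G.left]

/-- the unit section of `G`, as a morphism of schemes -/
noncomputable def unitSec : Spec (CommRingCat.of K) ⟶ G.left := η[G].left

theorem unitSec_hom : unitSec G ≫ G.hom = 𝟙 _ := Over.w η[G]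

/-- the idempotent endomorphism `a ↦ a(e)` of the coordinate ring of `G` -/
noncomputable def counitEnd : Γ(G.left, ⊤) →+* Γ(G.left, ⊤) :=
  G.hom.appTop.hom.comp (unitSec G).appTop.hom

theorem exists_frobenius_kills (p : ℕ) (hp : p.Prime) [CharP K p] :
    ∃ n : ℕ, ∀ a : Γ(G.left, ⊤), a ^ p ^ n = (counitEnd G a) ^ p ^ n := by
  haveI : IsAffine G.left := isAffine_of_isAffineHom G.hom
  have hfin : G.hom.appTop.hom.Finite := G.hom.finite_appTop
  let φ : K →+* Γ(G.left, ⊤) :=
    G.hom.appTop.hom.comp (Scheme.ΓSpecIso (CommRingCat.of K)).inv.hom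
  have hφ : φ.Finite := by
    refine RingHom.Finite.comp hfin ?_
    exact RingHom.Finite.of_surjective _
      (ConcreteCategory.bijective_of_isIso (Scheme.ΓSpecIso (CommRingCat.of K)).inv).2
  letI : Algebra K Γ(G.left, ⊤) := φ.toAlgebra
  haveI : Module.Finite K Γ(G.left, ⊤) := hφ
  haveI : IsArtinianRing Γ(G.left, ⊤) := IsArtinianRing.of_finite K Γ(G.left, ⊤)
  let ψ : Γ(G.left, ⊤) →+* K :=
    (Scheme.ΓSpecIso (CommRingCat.of K)).hom.hom.comp (unitSec G).appTop.hom
  haveI : Nontrivial Γ(G.left, ⊤) := ψ.domain_nontrivial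
  haveI : ExpChar K p := ExpChar.prime hp
  haveI : ExpChar Γ(G.left, ⊤) p := expChar_of_injective_ringHom φ.injective p
  haveI : Subsingleton G.left :=
    Groth.Agent.Lib.Helper14.FinConnTorsor.subsingleton_of_isFinite_of_preconnected G.hom
  haveI : Subsingleton (PrimeSpectrum Γ(G.left, ⊤)) :=
    (G.left.isoSpec.hom.homeomorph).symm.injective.subsingleton
  have hsub : ∀ P Q : Ideal Γ(G.left, ⊤), P.IsPrime → Q.IsPrime → P = Q := by
    intro P Q hP hQ
    have : (⟨P, hP⟩ : PrimeSpectrum Γ(G.left, ⊤)) = ⟨Q, hQ⟩ := Subsingleton.elim _ _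
    exact congrArg PrimeSpectrum.asIdeal this
  haveI hPprime : (RingHom.ker ψ).IsPrime := RingHom.ker_isPrime ψ
  have hε : ∀ a, a - counitEnd G a ∈ RingHom.ker ψ := by
    intro a
    rw [RingHom.mem_ker, map_sub, sub_eq_zero]
    have h1 : G.hom.appTop ≫ (unitSec G).appTop = 𝟙 _ := by
      rw [← Scheme.Hom.comp_appTop, unitSec_hom]
      rfl
    have h2 : (unitSec G).appTop.hom (G.hom.appTop.hom ((unitSec G).appTop.hom a)) =
        (unitSec G).appTop.hom a := by
      have := congrArg (fun g => g.hom ((unitSec G).appTop.hom a)) h1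
      simpa using this
    change _ = (Scheme.ΓSpecIso (CommRingCat.of K)).hom.hom
      ((unitSec G).appTop.hom (G.hom.appTop.hom ((unitSec G).appTop.hom a)))
    rw [h2]
    rfl
  exact exists_pow_eq p hp.two_le hsub (RingHom.ker ψ) (counitEnd G) hε

end Group


section Main

open MonObj CartesianMonoidalCategory MonoidalCategory

theorem frob_appTop (R : Type u) [CommRing R] (p : ℕ) [ExpChar R p] (n : ℕ)
    (r : Γ(Spec (CommRingCat.of R), ⊤)) :
    (Spec.map (CommRingCat.ofHom (iterateFrobenius R p n))).appTop.hom r = r ^ p ^ n := by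
  have h := Scheme.ΓSpecIso_naturality (CommRingCat.ofHom (iterateFrobenius R p n))
  have h2 := congrArg (fun φ => φ.hom r) h
  simp only [CommRingCat.hom_comp, RingHom.comp_apply, CommRingCat.hom_ofHom,
    iterateFrobenius_def] at h2
  rw [← map_pow] at h2
  exact (ConcreteCategory.bijective_of_isIso (Scheme.ΓSpecIso (CommRingCat.of R)).hom).1 h2

variable {K : Type u} [Field K] (G X : Over (Spec (CommRingCat.of K))) [GrpObj G]

theorem one_act_pt (a : AlgGrp.Action G X) {T : Over (Spec (CommRingCat.of K))} (u : T ⟶ X) :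
    lift (toUnit T ≫ η[G]) u ≫ a.act = u := by
  rw [← lift_whiskerRight, Category.assoc, a.one_act, lift_leftUnitor_hom]


/-- If `a ^ p^n = (a(e)) ^ p^n` for all functions `a` on `G`, then a pseudo-torsor `X` under `G`
with a point has a `K`-point through the `n`-th power of Frobenius. -/
theorem exists_section_frobenius [IsAffine G.left] (p : ℕ) [ExpChar K p] (n : ℕ)
    (hn : ∀ a : Γ(G.left, ⊤), a ^ p ^ n = (counitEnd G a) ^ p ^ n)
    (a : AlgGrp.Action G X) (hiso : IsIso (lift a.act (snd G X))) (x : X.left) :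
    ∃ s : Spec (CommRingCat.of K) ⟶ X.left,
      s ≫ X.hom = Spec.map (CommRingCat.ofHom (iterateFrobenius K p n)) := by
  classical
  let ix : Spec (X.left.residueField x) ⟶ X.left := X.left.fromSpecResidueField x
  obtain ⟨j, hj⟩ := Spec.map_surjective (ix ≫ X.hom)
  letI alg : Algebra K (X.left.residueField x) := j.hom.toAlgebra
  let ι₁ : (X.left.residueField x) →+* (X.left.residueField x) ⊗[K] (X.left.residueField x) :=
    Algebra.TensorProduct.includeLeftRingHom
  let ι₂ : (X.left.residueField x) →+* (X.left.residueField x) ⊗[K] (X.left.residueField x) :=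
    (Algebra.TensorProduct.includeRight :
      (X.left.residueField x) →ₐ[K] (X.left.residueField x) ⊗[K] (X.left.residueField x)).toRingHom
  haveI : Nontrivial ((X.left.residueField x) ⊗[K] (X.left.residueField x)) :=
    (Algebra.TensorProduct.lmul' K : (X.left.residueField x) ⊗[K] (X.left.residueField x) →ₐ[K]
      (X.left.residueField x)).toRingHom.domain_nontrivial
  haveI : ExpChar (X.left.residueField x) p :=
    expChar_of_injective_ringHom (algebraMap K (X.left.residueField x)).injective p
  haveI : ExpChar ((X.left.residueField x) ⊗[K] (X.left.residueField x)) p :=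
    expChar_of_injective_ringHom
      (algebraMap K ((X.left.residueField x) ⊗[K] (X.left.residueField x))).injective p
  -- objects over `Spec K`
  let cR : Spec (CommRingCat.of ((X.left.residueField x) ⊗[K] (X.left.residueField x))) ⟶
      Spec (CommRingCat.of K) :=
    Spec.map (CommRingCat.ofHom
      (algebraMap K ((X.left.residueField x) ⊗[K] (X.left.residueField x))))
  let T : Over (Spec (CommRingCat.of K)) := Over.mk cR
  let Sκ : Over (Spec (CommRingCat.of K)) := Over.mk (Spec.map j)
  let px : Sκ ⟶ X := Over.homMk ix hj.symm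
  have hι₁ : Spec.map (CommRingCat.ofHom ι₁) ≫ Spec.map j = cR := by
    rw [← Spec.map_comp]
    congr 1
  have hι₂ : Spec.map (CommRingCat.ofHom ι₂) ≫ Spec.map j = cR := by
    rw [← Spec.map_comp]
    congr 1
    ext r
    change ι₂ (algebraMap K _ r) = algebraMap K _ r
    exact (Algebra.TensorProduct.includeRight :
      (X.left.residueField x) →ₐ[K] (X.left.residueField x) ⊗[K] (X.left.residueField x)).commutes r
  let q₁ : T ⟶ Sκ := Over.homMk (Spec.map (CommRingCat.ofHom ι₁)) hι₁
  let q₂ : T ⟶ Sκ := Over.homMk (Spec.map (CommRingCat.ofHom ι₂)) hι₂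
  let u₁ : T ⟶ X := q₁ ≫ px
  let u₂ : T ⟶ X := q₂ ≫ px
  haveI := hiso
  let v : T ⟶ G ⊗ X := lift u₁ u₂ ≫ inv (lift a.act (snd G X))
  let g : T ⟶ G := v ≫ fst G X
  have hσ2 : inv (lift a.act (snd G X)) ≫ snd G X = snd X X := by
    rw [IsIso.inv_comp_eq, lift_snd]
  have hσ1 : inv (lift a.act (snd G X)) ≫ a.act = fst X X := by
    rw [IsIso.inv_comp_eq, lift_fst]
  have hv2 : v ≫ snd G X = u₂ := by
    change (lift u₁ u₂ ≫ inv (lift a.act (snd G X))) ≫ snd G X = u₂
    rw [Category.assoc, hσ2, lift_snd]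
  have hv1 : v ≫ a.act = u₁ := by
    change (lift u₁ u₂ ≫ inv (lift a.act (snd G X))) ≫ a.act = u₁
    rw [Category.assoc, hσ1, lift_fst]
  have hvl : v = lift g u₂ := by
    apply CartesianMonoidalCategory.hom_ext
    · rw [lift_fst]
    · rw [lift_snd, hv2]
  have hstar : lift g u₂ ≫ a.act = u₁ := by rw [← hvl, hv1]
  -- Frobenius
  let Φ : Spec (CommRingCat.of ((X.left.residueField x) ⊗[K] (X.left.residueField x))) ⟶
      Spec (CommRingCat.of ((X.left.residueField x) ⊗[K] (X.left.residueField x))) :=
    Spec.map (CommRingCat.ofHom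
      (iterateFrobenius ((X.left.residueField x) ⊗[K] (X.left.residueField x)) p n))
  let T' : Over (Spec (CommRingCat.of K)) := Over.mk (Φ ≫ cR)
  let F : T' ⟶ T := Over.homMk Φ rfl
  have hgw : g.left ≫ G.hom = cR := Over.w g
  have hFg : F ≫ g = toUnit T' ≫ η[G] := by
    apply Over.OverMorphism.ext
    change Φ ≫ g.left = (Φ ≫ cR) ≫ unitSec G
    apply ext_of_isAffine
    rw [← hgw]
    simp only [Scheme.Hom.comp_appTop, Category.assoc]
    apply CommRingCat.hom_ext
    apply RingHom.ext
    intro b
    simp only [CommRingCat.hom_comp, RingHom.comp_apply]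
    change Φ.appTop.hom (g.left.appTop.hom b) =
      Φ.appTop.hom (g.left.appTop.hom (counitEnd G b))
    rw [frob_appTop, frob_appTop, ← map_pow, ← map_pow, hn b]
  have hFu : F ≫ u₁ = F ≫ u₂ := by
    rw [← hstar, ← Category.assoc, comp_lift, hFg, one_act_pt]
  have h3 : Φ ≫ Spec.map (CommRingCat.ofHom ι₁) ≫ ix = Φ ≫ Spec.map (CommRingCat.ofHom ι₂) ≫ ix :=
    congrArg (fun φ => φ.left) hFu
  have h4 : Φ ≫ Spec.map (CommRingCat.ofHom ι₁) = Φ ≫ Spec.map (CommRingCat.ofHom ι₂) := by
    rw [← cancel_mono ix]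
    simpa only [Category.assoc] using h3
  have h5 : ∀ m : X.left.residueField x,
      (m ^ p ^ n) ⊗ₜ[K] (1 : X.left.residueField x) = (1 : X.left.residueField x) ⊗ₜ[K] (m ^ p ^ n) := by
    intro m
    have h4' : CommRingCat.ofHom ι₁ ≫ CommRingCat.ofHom
        (iterateFrobenius ((X.left.residueField x) ⊗[K] (X.left.residueField x)) p n) =
        CommRingCat.ofHom ι₂ ≫ CommRingCat.ofHom
        (iterateFrobenius ((X.left.residueField x) ⊗[K] (X.left.residueField x)) p n) := by
      apply Spec.map_injective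
      rw [Spec.map_comp, Spec.map_comp]
      exact h4
    have := congrArg (fun φ => φ.hom m) h4'
    simp only [CommRingCat.hom_comp, RingHom.comp_apply, CommRingCat.hom_ofHom,
      iterateFrobenius_def] at this
    change (m ⊗ₜ[K] (1 : X.left.residueField x)) ^ p ^ n =
      ((1 : X.left.residueField x) ⊗ₜ[K] m) ^ p ^ n at this
    rw [Algebra.TensorProduct.tmul_pow, Algebra.TensorProduct.tmul_pow, one_pow] at this
    exact this
  have h6 : ∀ m : X.left.residueField x,
      m ^ p ^ n ∈ (algebraMap K (X.left.residueField x)).range :=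
    fun m => mem_range_of_tmul_eq _ (h5 m)
  have hjinj : Function.Injective (algebraMap K (X.left.residueField x)) :=
    (algebraMap K (X.left.residueField x)).injective
  choose c hc using h6
  let ψ : (X.left.residueField x) →+* K :=
    { toFun := c
      map_one' := hjinj (by rw [hc, one_pow, map_one])
      map_mul' := fun m m' => hjinj (by rw [hc, map_mul, hc, hc, mul_pow])
      map_zero' := hjinj (by
        rw [hc, map_zero, zero_pow]
        exact (pow_pos (expChar_pos K p) n).ne')
      map_add' := fun m m' => hjinj (by rw [hc, map_add, hc, hc, add_pow_expChar_pow]) }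
  have hψj : ψ.comp (algebraMap K (X.left.residueField x)) = iterateFrobenius K p n := by
    apply RingHom.ext
    intro r
    apply hjinj
    change algebraMap K _ (c (algebraMap K _ r)) = _
    rw [hc, iterateFrobenius_def, map_pow]
  refine ⟨Spec.map (CommRingCat.ofHom ψ) ≫ ix, ?_⟩
  rw [Category.assoc, ← hj, ← Spec.map_comp]
  congr 1
  rw [← hψj]
  rfl

end Main

end Groth.Agent.Lib.Helper14.FrobTorsor
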