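import Mathlib
import Groth.Prelude.Def_CAlg2

/-!
# Geometric unibranchness along integral "birational" ring maps (helper14)

`Hyp φ` for `φ : A →+* B`: `φ` is integral, `B_red` is a domain, `nil B ∩ A = nil A` and `B_red` has
the same fraction field as `A_red`.  Then `normRed A ≃+* normRed B` compatibly with `φ`
(`Hyp.exists_equiv`), and geometric unibranchness can be transferred between `A` and `B`.
-/

set_option autoImplicit false
set_option linter.style.haveILetI false

namespace Groth.Agent.Lib.Helper14.GUBirat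

universe u

open CAlg2

/-- The canonical map `A → normRed A`. -/
noncomputable def toNorm (A : Type u) [CommRing A] : A →+* normRed A :=
  (algebraMap (red A) (normRed A)).comp (Ideal.Quotient.mk (nilradical A))

theorem toNorm_val (A : Type u) [CommRing A] (a : A) :
    ((toNorm A a : normRed A) : FractionRing (red A)) =
      algebraMap (red A) (FractionRing (red A)) (Ideal.Quotient.mk (nilradical A) a) := rfl

/-- Hypotheses on an integral ring map inducing an isomorphism on "function fields". -/
structure Hyp {A B : Type u} [CommRing A] [CommRing B] (φ : A →+* B) : Prop where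
  integral : φ.IsIntegral
  prime : (nilradical B).IsPrime
  comap : (nilradical B).comap φ = nilradical A
  frac : ∀ b : B, ∃ a s : A, s ∉ nilradical A ∧ φ s * b - φ a ∈ nilradical B

section

variable {A B : Type u} [CommRing A] [CommRing B] {φ : A →+* B}

theorem Hyp.primeA (h : Hyp φ) : (nilradical A).IsPrime := by
  haveI := h.prime
  rw [← h.comap]
  exact Ideal.comap_isPrime φ _

/-- The key equivalence `normRed A ≃+* normRed B`. -/
theorem Hyp.exists_equiv (h : Hyp φ) :
    ∃ Θ : normRed A ≃+* normRed B, ∀ a : A, Θ (toNorm A a) = toNorm B (φ a) := by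
  haveI := h.prime
  haveI := h.primeA
  haveI : IsDomain (red A) := Ideal.Quotient.isDomain _
  haveI : IsDomain (red B) := Ideal.Quotient.isDomain _
  let ρ : red A →+* red B := Ideal.quotientMap (nilradical B) φ h.comap.ge
  have hρinj : Function.Injective ρ := Ideal.quotientMap_injective' h.comap.le
  have hρmk : ∀ a : A, ρ (Ideal.Quotient.mk _ a) = Ideal.Quotient.mk _ (φ a) := fun a => rfl
  letI : Algebra (red A) (red B) := ρ.toAlgebra
  have hcomp : ∀ a : red A, algebraMap (red A) (FractionRing (red B)) a =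
      algebraMap (red B) (FractionRing (red B)) (ρ a) := fun a =>
    IsScalarTower.algebraMap_apply (red A) (red B) (FractionRing (red B)) a
  have hinj : Function.Injective (algebraMap (red A) (FractionRing (red B))) := by
    intro a a' haa'
    rw [hcomp, hcomp] at haa'
    exact hρinj (IsFractionRing.injective (red B) (FractionRing (red B)) haa')
  haveI : FaithfulSMul (red A) (FractionRing (red B)) :=
    (faithfulSMul_iff_algebraMap_injective _ _).mpr hinj
  -- every element of `red B` is a fraction of elements of `red A`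
  have hfr : ∀ b : red B, ∃ a s : red A, s ≠ 0 ∧ ρ s * b = ρ a := by
    intro b
    obtain ⟨b, rfl⟩ := Ideal.Quotient.mk_surjective b
    obtain ⟨a, s, hs, hab⟩ := h.frac b
    refine ⟨Ideal.Quotient.mk _ a, Ideal.Quotient.mk _ s, ?_, ?_⟩
    · rwa [Ne, Ideal.Quotient.eq_zero_iff_mem]
    · rw [hρmk, hρmk, ← map_mul, ← sub_eq_zero, ← map_sub, Ideal.Quotient.eq_zero_iff_mem]
      exact hab
  haveI : IsFractionRing (red A) (FractionRing (red B)) := by
    apply IsFractionRing.of_field
    intro z
    obtain ⟨b₁, b₂, hb₂, rfl⟩ := IsFractionRing.div_surjective (A := red B) z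
    obtain ⟨a₁, s₁, hs₁, h₁⟩ := hfr b₁
    obtain ⟨a₂, s₂, hs₂, h₂⟩ := hfr b₂
    have hb₂' : algebraMap (red B) (FractionRing (red B)) b₂ ≠ 0 :=
      IsFractionRing.to_map_ne_zero_of_mem_nonZeroDivisors hb₂
    have e₁ : algebraMap (red A) (FractionRing (red B)) s₁ *
        algebraMap (red B) (FractionRing (red B)) b₁ =
        algebraMap (red A) (FractionRing (red B)) a₁ := by
      have := congrArg (algebraMap (red B) (FractionRing (red B))) h₁
      rwa [map_mul] at this
    have e₂ : algebraMap (red A) (FractionRing (red B)) s₂ *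
        algebraMap (red B) (FractionRing (red B)) b₂ =
        algebraMap (red A) (FractionRing (red B)) a₂ := by
      have := congrArg (algebraMap (red B) (FractionRing (red B))) h₂
      rwa [map_mul] at this
    have hs₁' : algebraMap (red A) (FractionRing (red B)) s₁ ≠ 0 :=
      (map_ne_zero_iff _ hinj).mpr hs₁
    have hs₂' : algebraMap (red A) (FractionRing (red B)) s₂ ≠ 0 :=
      (map_ne_zero_iff _ hinj).mpr hs₂
    have ha₂' : algebraMap (red A) (FractionRing (red B)) a₂ ≠ 0 := by
      rw [← e₂]; exact mul_ne_zero hs₂' hb₂'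
    refine ⟨a₁ * s₂, s₁ * a₂, ?_⟩
    rw [map_mul, map_mul, ← e₁, ← e₂]
    field_simp
  haveI hint : Algebra.IsIntegral (red A) (red B) := by
    refine ⟨fun b => ?_⟩
    obtain ⟨b, rfl⟩ := Ideal.Quotient.mk_surjective b
    obtain ⟨p, hp, hpb⟩ := h.integral b
    refine ⟨p.map (Ideal.Quotient.mk (nilradical A)), hp.map _, ?_⟩
    have : Polynomial.eval₂ ρ (Ideal.Quotient.mk (nilradical B) b)
        (p.map (Ideal.Quotient.mk (nilradical A))) =
        Ideal.Quotient.mk (nilradical B) (Polynomial.eval₂ φ b p) := by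
      rw [Polynomial.eval₂_map, Polynomial.hom_eval₂]
      rfl
    rw [hpb, map_zero] at this
    exact this
  let E : FractionRing (red A) ≃ₐ[red A] FractionRing (red B) :=
    FractionRing.algEquiv (red A) (FractionRing (red B))
  let Θ1 : normRed A ≃ₐ[red A] integralClosure (red A) (FractionRing (red B)) :=
    E.mapIntegralClosure
  have hmem : ∀ x : FractionRing (red B),
      x ∈ integralClosure (red A) (FractionRing (red B)) ↔
        x ∈ integralClosure (red B) (FractionRing (red B)) := by
    intro x
    constructor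
    · intro hx
      exact IsIntegral.tower_top (A := red B) hx
    · intro hx
      exact isIntegral_trans (R := red A) (A := red B) x hx
  let Θ2 : integralClosure (red A) (FractionRing (red B)) ≃+* normRed B :=
    { toFun := fun x => ⟨x.1, (hmem _).1 x.2⟩
      invFun := fun x => ⟨x.1, (hmem _).2 x.2⟩
      left_inv := fun _ => rfl
      right_inv := fun _ => rfl
      map_mul' := fun _ _ => rfl
      map_add' := fun _ _ => rfl }
  refine ⟨Θ1.toRingEquiv.trans Θ2, fun a => ?_⟩
  apply Subtype.ext
  change ((Θ1 (algebraMap (red A) (normRed A) (Ideal.Quotient.mk _ a)) :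
      integralClosure (red A) (FractionRing (red B))) : FractionRing (red B)) = _
  rw [AlgEquiv.commutes]
  rfl

end

section Basic

variable (A : Type u) [CommRing A]

theorem toNorm_isIntegral : (toNorm A).IsIntegral := by
  refine RingHom.IsIntegral.trans _ _
    (RingHom.isIntegral_of_surjective _ Ideal.Quotient.mk_surjective) ?_
  exact algebraMap_isIntegral_iff.mpr inferInstance

theorem ker_toNorm : RingHom.ker (toNorm A) = nilradical A := by
  ext a
  rw [RingHom.mem_ker]
  constructor
  · intro h
    have h1 := congrArg (fun z : normRed A => (z : FractionRing (red A))) h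
    simp only [toNorm_val, ZeroMemClass.coe_zero] at h1
    by_cases hn : Nontrivial (red A)
    · have h2 : (Ideal.Quotient.mk (nilradical A) a) = 0 := by
        have hinj : Function.Injective (algebraMap (red A) (FractionRing (red A))) := by
          apply IsLocalization.injective (M := nonZeroDivisors (red A))
          exact le_rfl
        exact hinj (by rw [h1, map_zero])
      exact Ideal.Quotient.eq_zero_iff_mem.mp h2
    · rw [not_nontrivial_iff_subsingleton] at hn
      exact Ideal.Quotient.eq_zero_iff_mem.mp (Subsingleton.elim _ _)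
  · intro h
    change algebraMap (red A) (normRed A) (Ideal.Quotient.mk (nilradical A) a) = 0
    rw [Ideal.Quotient.eq_zero_iff_mem.mpr h, map_zero]

variable [IsLocalRing A]

/-- The characteristic exponent of the residue field. -/
noncomputable def qOf : ℕ := ringExpChar (IsLocalRing.ResidueField A)

instance : ExpChar (IsLocalRing.ResidueField A) (qOf A) :=
  ringExpChar.expChar (IsLocalRing.ResidueField A)

theorem comap_toNorm_eq (m' : Ideal (normRed A)) [m'.IsMaximal] :
    m'.comap (toNorm A) = IsLocalRing.maximalIdeal A :=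
  IsLocalRing.eq_maximalIdeal
    (Ideal.isMaximal_comap_of_isIntegral_of_isMaximal' _ (toNorm_isIntegral A) m')

theorem ringExpChar_quot (m' : Ideal (normRed A)) [m'.IsMaximal] :
    ringExpChar (normRed A ⧸ m') = qOf A := by
  letI : Field (normRed A ⧸ m') := Ideal.Quotient.field m'
  let g : IsLocalRing.ResidueField A →+* normRed A ⧸ m' :=
    Ideal.Quotient.lift (IsLocalRing.maximalIdeal A) ((Ideal.Quotient.mk m').comp (toNorm A)) (by
      intro a ha
      rw [← comap_toNorm_eq A m'] at ha
      exact Ideal.Quotient.eq_zero_iff_mem.mpr ha)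
  haveI : ExpChar (normRed A ⧸ m') (qOf A) :=
    expChar_of_injective_ringHom g.injective (qOf A)
  exact ringExpChar.eq _ _

theorem isGeomUnibranch_iff :
    IsGeomUnibranch A ↔ IsDomain (red A) ∧ IsLocalRing (normRed A) ∧
      ∀ (m' : Ideal (normRed A)) [m'.IsMaximal] (z : normRed A), ∃ (n : ℕ) (a : A),
        z ^ (qOf A) ^ n - toNorm A a ∈ m' := by
  unfold IsGeomUnibranch IsUnibranch
  rw [and_assoc]
  refine and_congr_right fun _ => and_congr_right fun _ => ?_
  constructor
  · intro h m' _ z
    obtain ⟨n, a, ha⟩ := h m' (Ideal.Quotient.mk m' z)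
    rw [ringExpChar_quot] at ha
    refine ⟨n, a, ?_⟩
    rw [← Ideal.Quotient.eq, map_pow]
    exact ha.symm
  · intro h m' _ x
    obtain ⟨z, rfl⟩ := Ideal.Quotient.mk_surjective x
    obtain ⟨n, a, ha⟩ := h m' z
    refine ⟨n, a, ?_⟩
    rw [ringExpChar_quot]
    rw [← Ideal.Quotient.eq, map_pow] at ha
    exact ha.symm

end Basic

section Transfer

variable {A B : Type u} [CommRing A] [CommRing B] {φ : A →+* B}

theorem Hyp.nontrivial (h : Hyp φ) : Nontrivial B := by
  haveI := h.prime
  by_contra hn
  rw [not_nontrivial_iff_subsingleton] at hn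
  exact h.prime.ne_top (Ideal.eq_top_iff_one _ |>.mpr (Subsingleton.elim (1 : B) 0 ▸ Ideal.zero_mem _))

/-- If the normalisation of `A_red` is local, then `B` is local. -/
theorem Hyp.isLocalRing (h : Hyp φ) (hA : IsLocalRing (normRed A)) : IsLocalRing B := by
  obtain ⟨Θ, -⟩ := h.exists_equiv
  haveI : IsLocalRing (normRed B) := Θ.isLocalRing
  haveI := h.nontrivial
  have key : ∀ n : Ideal B, n.IsMaximal →
      n = (IsLocalRing.maximalIdeal (normRed B)).comap (toNorm B) := by
    intro n hn
    letI : Algebra B (normRed B) := (toNorm B).toAlgebra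
    haveI : Algebra.IsIntegral B (normRed B) := ⟨toNorm_isIntegral B⟩
    have hk : RingHom.ker (algebraMap B (normRed B)) ≤ n := by
      change RingHom.ker (toNorm B) ≤ n
      rw [ker_toNorm]
      exact nilradical_le_prime n
    obtain ⟨Q, hQ, hQn⟩ := Ideal.exists_ideal_over_maximal_of_isIntegral (S := normRed B) n hk
    rw [IsLocalRing.eq_maximalIdeal hQ] at hQn
    exact hQn.symm
  obtain ⟨n, hn⟩ := Ideal.exists_maximal B
  exact IsLocalRing.of_unique_max_ideal ⟨n, hn, fun n' hn' => (key n' hn').trans (key n hn).symm⟩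

variable [IsLocalRing A] [IsLocalRing B]

theorem Hyp.comap_maximalIdeal (h : Hyp φ) :
    (IsLocalRing.maximalIdeal B).comap φ = IsLocalRing.maximalIdeal A :=
  IsLocalRing.eq_maximalIdeal
    (Ideal.isMaximal_comap_of_isIntegral_of_isMaximal' _ h.integral _)

theorem Hyp.qOf_eq (h : Hyp φ) : qOf B = qOf A := by
  let g : IsLocalRing.ResidueField A →+* IsLocalRing.ResidueField B :=
    Ideal.Quotient.lift (IsLocalRing.maximalIdeal A)
      ((Ideal.Quotient.mk (IsLocalRing.maximalIdeal B)).comp φ) (by
      intro a ha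
      rw [← h.comap_maximalIdeal] at ha
      exact Ideal.Quotient.eq_zero_iff_mem.mpr ha)
  haveI : ExpChar (IsLocalRing.ResidueField B) (qOf A) :=
    expChar_of_injective_ringHom g.injective (qOf A)
  exact ringExpChar.eq _ _

/-- Core transfer: elements of `normRed B` are `p`-power-congruent to elements of `A`. -/
theorem Hyp.core (h : Hyp φ) (hA : IsGeomUnibranch A) (m' : Ideal (normRed B)) [m'.IsMaximal]
    (z : normRed B) : ∃ (n : ℕ) (a : A), z ^ (qOf A) ^ n - toNorm B (φ a) ∈ m' := by
  obtain ⟨Θ, hΘ⟩ := h.exists_equiv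
  obtain ⟨-, -, hA3⟩ := (isGeomUnibranch_iff A).mp hA
  obtain ⟨n, a, hna⟩ := hA3 (m'.comap Θ) (Θ.symm z)
  refine ⟨n, a, ?_⟩
  rw [Ideal.mem_comap, map_sub, map_pow, RingEquiv.apply_symm_apply, hΘ] at hna
  exact hna

/-- `A` geometrically unibranch implies `B` geometrically unibranch. -/
theorem Hyp.isGeomUnibranch (h : Hyp φ) (hA : IsGeomUnibranch A) : IsGeomUnibranch B := by
  obtain ⟨Θ, hΘ⟩ := h.exists_equiv
  obtain ⟨-, hA2, -⟩ := (isGeomUnibranch_iff A).mp hA
  rw [isGeomUnibranch_iff, h.qOf_eq]
  haveI := h.prime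
  refine ⟨Ideal.Quotient.isDomain _, Θ.isLocalRing, fun m' _ z => ?_⟩
  obtain ⟨n, a, hna⟩ := h.core hA m' z
  exact ⟨n, φ a, hna⟩

/-- `A` geometrically unibranch implies the residue field extension is purely inseparable. -/
theorem Hyp.exists_pow_sub_mem (h : Hyp φ) (hA : IsGeomUnibranch A) (b : B) :
    ∃ (n : ℕ) (a : A), b ^ (qOf A) ^ n - φ a ∈ IsLocalRing.maximalIdeal B := by
  obtain ⟨Θ, hΘ⟩ := h.exists_equiv
  obtain ⟨-, hA2, -⟩ := (isGeomUnibranch_iff A).mp hA
  haveI : IsLocalRing (normRed B) := Θ.isLocalRing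
  obtain ⟨n, a, hna⟩ := h.core hA (IsLocalRing.maximalIdeal (normRed B)) (toNorm B b)
  refine ⟨n, a, ?_⟩
  rw [← comap_toNorm_eq B (IsLocalRing.maximalIdeal (normRed B)), Ideal.mem_comap, map_sub, map_pow]
  exact hna

/-- Converse: `B` geometrically unibranch and residually purely inseparable over `A` implies
`A` geometrically unibranch. -/
theorem Hyp.isGeomUnibranch_of (h : Hyp φ) (hB : IsGeomUnibranch B)
    (hpi : ∀ b : B, ∃ (n : ℕ) (a : A), b ^ (qOf A) ^ n - φ a ∈ IsLocalRing.maximalIdeal B) :
    IsGeomUnibranch A := by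
  obtain ⟨Θ, hΘ⟩ := h.exists_equiv
  obtain ⟨-, hB2, hB3⟩ := (isGeomUnibranch_iff B).mp hB
  rw [h.qOf_eq] at hB3
  rw [isGeomUnibranch_iff]
  haveI := h.primeA
  refine ⟨Ideal.Quotient.isDomain _, Θ.symm.isLocalRing, fun m _ z => ?_⟩
  obtain ⟨n, b, hnb⟩ := hB3 (m.comap Θ.symm) (Θ z)
  obtain ⟨k, a, hka⟩ := hpi b
  rw [← comap_toNorm_eq B (m.comap Θ.symm), Ideal.mem_comap, map_sub, map_pow] at hka
  refine ⟨n + k, a, ?_⟩
  have h1 : (Θ z) ^ (qOf A) ^ (n + k) - toNorm B (φ a) ∈ m.comap Θ.symm := by
    rw [← Ideal.Quotient.eq] at hnb hka ⊢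
    rw [pow_add, pow_mul, map_pow, hnb, ← hka, map_pow]
  rw [Ideal.mem_comap, map_sub, map_pow, RingEquiv.symm_apply_apply, ← hΘ,
    RingEquiv.symm_apply_apply] at h1
  exact h1

omit [IsLocalRing A] [IsLocalRing B] in
theorem hyp_of_ringEquiv (e : A ≃+* B) (hA : (nilradical A).IsPrime) :
    Hyp (e : A →+* B) := by
  have hc : (nilradical B).comap (e : A →+* B) = nilradical A := by
    ext a
    rw [Ideal.mem_comap, mem_nilradical, mem_nilradical]
    exact IsNilpotent.map_iff e.injective
  have hc' : nilradical B = (nilradical A).comap (e.symm : B →+* A) := by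
    ext b
    rw [Ideal.mem_comap, mem_nilradical, mem_nilradical]
    exact (IsNilpotent.map_iff e.symm.injective).symm
  refine ⟨RingHom.isIntegral_of_surjective _ e.surjective, ?_, hc, fun b => ?_⟩
  · rw [hc']
    exact Ideal.comap_isPrime _ _
  · refine ⟨e.symm b, 1, ?_, ?_⟩
    · intro h1
      exact hA.ne_top ((Ideal.eq_top_iff_one _).mpr h1)
    · simp

theorem isGeomUnibranch_of_ringEquiv (e : A ≃+* B) (hA : IsGeomUnibranch A) :
    IsGeomUnibranch B := by
  have hp : (nilradical A).IsPrime := by
    haveI := hA.1.1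
    exact (Ideal.Quotient.isDomain_iff_prime _).mp inferInstance
  exact (hyp_of_ringEquiv e hp).isGeomUnibranch hA

end Transfer

end Groth.Agent.Lib.Helper14.GUBirat
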