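import Mathlib
import Groth.Prelude.Def_EGA4Misc
import Groth.Prelude.Def_CAlg2
import Groth.Agent.Lib.Helper14.GUBirat1
import Groth.Agent.Lib.Helper14.BiratBC

/-!
# Geometric unibranchness along integral birational maps: the affine local case (helper14)

Dictionary between `RadPt.IsBirational (Spec.map φ)` / `RadPt.IsRadicialAt (Spec.map φ) (closedPoint A)`
and the ring-level hypotheses of `GUBirat1`.
-/

set_option autoImplicit false
set_option linter.style.haveILetI false

namespace Groth.Agent.Lib.Helper14.GUBirat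

universe u

open CAlg2 AlgebraicGeometry CategoryTheory

section Ev

variable (R : CommRingCat.{u}) (x : Spec R)

/-- Evaluation `R → κ(x)` for a point `x` of `Spec R`. -/
noncomputable def ev : R →+* (Spec R).residueField x :=
  ((Scheme.ΓSpecIso R).inv ≫ (Spec R).Γevaluation x).hom

theorem ev_eq (r : R) :
    ev R x r = (Scheme.Spec.residueFieldIso R x).inv.hom (algebraMap R x.asIdeal.ResidueField r) := by
  have := congr($(Scheme.Spec.algebraMap_residueFieldIso_inv R x).hom r)
  exact this.symm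

theorem ev_eq_zero_iff (r : R) : ev R x r = 0 ↔ r ∈ x.asIdeal := by
  rw [ev_eq]
  have hinj : Function.Injective (Scheme.Spec.residueFieldIso R x).inv.hom :=
    ((ConcreteCategory.isIso_iff_bijective (Scheme.Spec.residueFieldIso R x).inv).mp inferInstance).1
  rw [← Ideal.algebraMap_residueField_eq_zero (I := x.asIdeal)]
  constructor
  · intro h
    exact hinj (by rw [h, map_zero])
  · intro h
    rw [h, map_zero]

theorem exists_ev_frac (z : (Spec R).residueField x) :
    ∃ r s : R, s ∉ x.asIdeal ∧ z * ev R x s = ev R x r := by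
  have hsurj : Function.Surjective (Scheme.Spec.residueFieldIso R x).inv.hom :=
    ((ConcreteCategory.isIso_iff_bijective (Scheme.Spec.residueFieldIso R x).inv).mp inferInstance).2
  obtain ⟨w, rfl⟩ := hsurj z
  obtain ⟨a, b, hb, rfl⟩ := IsFractionRing.div_surjective (A := R ⧸ x.asIdeal) w
  obtain ⟨a, rfl⟩ := Ideal.Quotient.mk_surjective a
  obtain ⟨b, rfl⟩ := Ideal.Quotient.mk_surjective b
  have hb' : b ∉ x.asIdeal := by
    intro hb'
    have : Ideal.Quotient.mk x.asIdeal b = 0 := Ideal.Quotient.eq_zero_iff_mem.mpr hb'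
    rw [this] at hb
    exact zero_notMem_nonZeroDivisors hb
  refine ⟨a, b, hb', ?_⟩
  rw [ev_eq, ev_eq, ← map_mul]
  congr 1
  have hne : algebraMap (R ⧸ x.asIdeal) x.asIdeal.ResidueField (Ideal.Quotient.mk x.asIdeal b) ≠ 0 :=
    IsFractionRing.to_map_ne_zero_of_mem_nonZeroDivisors hb
  have e1 : algebraMap R x.asIdeal.ResidueField b =
      algebraMap (R ⧸ x.asIdeal) x.asIdeal.ResidueField (Ideal.Quotient.mk x.asIdeal b) := rfl
  have e2 : algebraMap R x.asIdeal.ResidueField a =
      algebraMap (R ⧸ x.asIdeal) x.asIdeal.ResidueField (Ideal.Quotient.mk x.asIdeal a) := rfl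
  rw [e1, e2]
  field_simp

theorem ev_surjective [hx : x.asIdeal.IsMaximal] : Function.Surjective (ev R x) := by
  have hsurj : Function.Surjective (Scheme.Spec.residueFieldIso R x).inv.hom :=
    ((ConcreteCategory.isIso_iff_bijective (Scheme.Spec.residueFieldIso R x).inv).mp inferInstance).2
  intro z
  obtain ⟨w, rfl⟩ := hsurj z
  obtain ⟨r, rfl⟩ := Ideal.algebraMap_residueField_surjective x.asIdeal w
  exact ⟨r, ev_eq R x r⟩

end Ev

theorem ev_naturality {R S : CommRingCat.{u}} (φ : R ⟶ S) (x' : Spec S) (r : R) :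
    ((Spec.map φ).residueFieldMap x').hom (ev R (Spec.map φ x') r) = ev S x' (φ.hom r) := by
  have h1 := Scheme.Γevaluation_naturality (Spec.map φ) x'
  have h2 := Scheme.ΓSpecIso_inv_naturality φ
  have h3 : ((Scheme.ΓSpecIso R).inv ≫ (Spec R).Γevaluation (Spec.map φ x')) ≫
      (Spec.map φ).residueFieldMap x' = φ ≫ (Scheme.ΓSpecIso S).inv ≫ (Spec S).Γevaluation x' := by
    rw [Category.assoc, h1, ← Category.assoc, ← h2, Category.assoc]
  exact congr($(h3).hom r)

section Generic

variable (R : CommRingCat.{u})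

theorem mem_genericPoints_of_mem_minimalPrimes (x : Spec R) (hx : x.asIdeal ∈ minimalPrimes R) :
    x ∈ genericPoints (Spec R) := by
  apply BiratBC.mem_genericPoints_of_forall
  intro x' hx'
  have h1 : x'.asIdeal ≤ x.asIdeal := (PrimeSpectrum.le_iff_specializes x' x).mpr hx'
  have h2 : x.asIdeal ≤ x'.asIdeal := hx.2 ⟨x'.isPrime, bot_le⟩ h1
  exact PrimeSpectrum.ext (le_antisymm h1 h2)

theorem genericPoints_eq_of_isPrime (h : (nilradical R).IsPrime) (x : Spec R) :
    x ∈ genericPoints (Spec R) ↔ x.asIdeal = nilradical R := by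
  let ξ : Spec R := ⟨nilradical R, h⟩
  have hξ : ξ ∈ genericPoints (Spec R) := by
    apply BiratBC.mem_genericPoints_of_forall
    intro x' hx'
    have h1 : x'.asIdeal ≤ nilradical R := (PrimeSpectrum.le_iff_specializes x' ξ).mpr hx'
    exact PrimeSpectrum.ext (le_antisymm h1 (nilradical_le_prime _))
  constructor
  · intro hx
    have h1 : ξ ⤳ x := (PrimeSpectrum.le_iff_specializes ξ x).mp (nilradical_le_prime _)
    have := BiratBC.eq_of_specializes_of_mem_genericPoints hx h1
    rw [← this]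
  · intro hx
    have : x = ξ := PrimeSpectrum.ext hx
    rw [this]
    exact hξ

theorem nilradical_eq_of_genericPoints (ξ : Spec R) (h : ∀ x ∈ genericPoints (Spec R), x = ξ) :
    nilradical R = ξ.asIdeal := by
  apply le_antisymm (nilradical_le_prime _)
  rw [nilradical_eq_sInf]
  apply le_sInf
  intro J hJ
  haveI : J.IsPrime := hJ
  obtain ⟨p, hp, hpJ⟩ := Ideal.exists_minimalPrimes_le (I := (⊥ : Ideal R)) (J := J) bot_le
  have hp' : p.IsPrime := hp.1.1
  have := h ⟨p, hp'⟩ (mem_genericPoints_of_mem_minimalPrimes R ⟨p, hp'⟩ hp)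
  rw [← this]
  exact hpJ

end Generic

section Birat

variable {A B : CommRingCat.{u}} (φ : A ⟶ B)

theorem nilradical_isPrime_of_isBirational (hb : RadPt.IsBirational (Spec.map φ))
    (hA : (nilradical A).IsPrime) : (nilradical B).IsPrime := by
  let ξA : Spec A := ⟨nilradical A, hA⟩
  have hξA : ξA ∈ genericPoints (Spec A) := (genericPoints_eq_of_isPrime A hA ξA).mpr rfl
  obtain ⟨ξ', hξ', hξ'A⟩ := hb.1.surjOn hξA
  have huniq : ∀ x ∈ genericPoints (Spec B), x = ξ' := by
    intro x hx
    apply hb.1.injOn hx hξ'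
    rw [hξ'A]
    have h1 := hb.1.mapsTo hx
    exact PrimeSpectrum.ext ((genericPoints_eq_of_isPrime A hA _).mp h1)
  rw [nilradical_eq_of_genericPoints B ξ' huniq]
  exact ξ'.isPrime

theorem nontrivial_of_isBirational (hb : RadPt.IsBirational (Spec.map φ)) [Nontrivial A] :
    Nontrivial B := by
  obtain ⟨m, hm⟩ := Ideal.exists_maximal A
  obtain ⟨p, hp, -⟩ := Ideal.exists_minimalPrimes_le (I := (⊥ : Ideal A)) (J := m) bot_le
  have hp' : p.IsPrime := hp.1.1
  obtain ⟨ξ', -, -⟩ := hb.1.surjOn (mem_genericPoints_of_mem_minimalPrimes A ⟨p, hp'⟩ hp)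
  by_contra hn
  rw [not_nontrivial_iff_subsingleton] at hn
  exact ξ'.isPrime.ne_top (Ideal.eq_top_iff_one _ |>.mpr
    (Subsingleton.elim (1 : B) 0 ▸ Ideal.zero_mem _))

theorem hyp_of_isBirational (hint : φ.hom.IsIntegral) (hb : RadPt.IsBirational (Spec.map φ))
    (hB : (nilradical B).IsPrime) : Hyp φ.hom := by
  let ξB : Spec B := ⟨nilradical B, hB⟩
  have hξB : ξB ∈ genericPoints (Spec B) := (genericPoints_eq_of_isPrime B hB ξB).mpr rfl
  have hξA : Spec.map φ ξB ∈ genericPoints (Spec A) := hb.1.mapsTo hξB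
  have huniq : ∀ x ∈ genericPoints (Spec A), x = Spec.map φ ξB := by
    intro x hx
    obtain ⟨x', hx', rfl⟩ := hb.1.surjOn hx
    have : x' = ξB := PrimeSpectrum.ext ((genericPoints_eq_of_isPrime B hB x').mp hx')
    rw [this]
  have hnil : nilradical A = (nilradical B).comap φ.hom :=
    nilradical_eq_of_genericPoints A _ huniq
  refine ⟨hint, hB, hnil.symm, fun b => ?_⟩
  obtain ⟨z, hz⟩ := ((hb.2 _ hξA).2 ξB rfl).2 (ev B ξB b)
  obtain ⟨r, s, hs, hrs⟩ := exists_ev_frac A (Spec.map φ ξB) z
  refine ⟨r, s, ?_, ?_⟩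
  · rw [hnil]
    exact hs
  · have h1 := congrArg ((Spec.map φ).residueFieldMap ξB).hom hrs
    rw [map_mul, hz, ev_naturality, ev_naturality, ← map_mul, ← sub_eq_zero, ← map_sub,
      ev_eq_zero_iff] at h1
    have : φ.hom s * b - φ.hom r = b * φ.hom s - φ.hom r := by ring
    rw [this]
    exact h1

end Birat

section Radicial

open IsLocalRing

variable {A B : CommRingCat.{u}} (φ : A ⟶ B) [IsLocalRing A]

theorem map_eq_closedPoint (hint : φ.hom.IsIntegral) (x : Spec B) (hx : x.asIdeal.IsMaximal) :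
    Spec.map φ x = closedPoint A := by
  apply PrimeSpectrum.ext
  exact IsLocalRing.eq_maximalIdeal
    (Ideal.isMaximal_comap_of_isIntegral_of_isMaximal' φ.hom hint x.asIdeal)

theorem isMaximal_of_map_eq_closedPoint (hint : φ.hom.IsIntegral) (x : Spec B)
    (hx : Spec.map φ x = closedPoint A) : x.asIdeal.IsMaximal := by
  apply Ideal.isMaximal_of_isIntegral_of_isMaximal_comap' φ.hom hint x.asIdeal
  have : x.asIdeal.comap φ.hom = maximalIdeal A := congrArg PrimeSpectrum.asIdeal hx
  rw [this]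
  infer_instance

theorem expChar_residueField (x₀ : Spec A) (hx₀ : x₀ = closedPoint A) :
    ExpChar ((Spec A).residueField x₀) (qOf A) := by
  subst hx₀
  let g : IsLocalRing.ResidueField A →+* (Spec A).residueField (closedPoint A) :=
    Ideal.Quotient.lift (maximalIdeal A) (ev A (closedPoint A))
      (fun a ha => (ev_eq_zero_iff A _ a).mpr ha)
  exact expChar_of_injective_ringHom g.injective (qOf A)

theorem isRadicialAt_of_pow [IsLocalRing B] (hint : φ.hom.IsIntegral)
    (hpi : ∀ b : B, ∃ (n : ℕ) (a : A), b ^ (qOf A) ^ n - φ.hom a ∈ maximalIdeal B) :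
    RadPt.IsRadicialAt (Spec.map φ) (closedPoint A) := by
  have hcl : ∀ x : Spec B, Spec.map φ x = closedPoint A → x = closedPoint B := fun x hx =>
    PrimeSpectrum.ext (IsLocalRing.eq_maximalIdeal (isMaximal_of_map_eq_closedPoint φ hint x hx))
  refine ⟨fun x x' hx hx' => (hcl x hx).trans (hcl x' hx').symm, fun x hx => ?_⟩
  haveI := expChar_residueField (Spec.map φ x) hx
  haveI hxmax : x.asIdeal.IsMaximal := isMaximal_of_map_eq_closedPoint φ hint x hx
  have hxm : x.asIdeal = maximalIdeal B := IsLocalRing.eq_maximalIdeal hxmax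
  letI := ((Spec.map φ).residueFieldMap x).hom.toAlgebra
  rw [RingHom.IsPurelyInseparable, isPurelyInseparable_iff_pow_mem _ (qOf A)]
  intro l
  obtain ⟨b, rfl⟩ := ev_surjective B x l
  obtain ⟨n, a, hna⟩ := hpi b
  refine ⟨n, ev A (Spec.map φ x) a, ?_⟩
  change ((Spec.map φ).residueFieldMap x).hom _ = _
  rw [ev_naturality, ← map_pow, ← sub_eq_zero, ← map_sub, ev_eq_zero_iff, hxm]
  have := neg_mem hna
  rwa [neg_sub] at this

theorem pow_of_isRadicialAt [IsLocalRing B] (hint : φ.hom.IsIntegral)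
    (hrad : RadPt.IsRadicialAt (Spec.map φ) (closedPoint A)) (b : B) :
    ∃ (n : ℕ) (a : A), b ^ (qOf A) ^ n - φ.hom a ∈ maximalIdeal B := by
  let x : Spec B := closedPoint B
  have hx : Spec.map φ x = closedPoint A :=
    map_eq_closedPoint φ hint x (inferInstance : (maximalIdeal B).IsMaximal)
  have hpi := hrad.2 x hx
  haveI := expChar_residueField (Spec.map φ x) hx
  letI := ((Spec.map φ).residueFieldMap x).hom.toAlgebra
  rw [RingHom.IsPurelyInseparable, isPurelyInseparable_iff_pow_mem _ (qOf A)] at hpi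
  obtain ⟨n, k, hk⟩ := hpi (ev B x b)
  haveI : (Spec.map φ x).asIdeal.IsMaximal := by
    rw [hx]
    exact (inferInstance : (maximalIdeal A).IsMaximal)
  obtain ⟨a, rfl⟩ := ev_surjective A (Spec.map φ x) k
  refine ⟨n, a, ?_⟩
  change ((Spec.map φ).residueFieldMap x).hom _ = _ at hk
  rw [ev_naturality, ← map_pow, eq_comm, ← sub_eq_zero, ← map_sub, ev_eq_zero_iff] at hk
  exact hk

theorem isLocalRing_of_isRadicialAt (hint : φ.hom.IsIntegral) [Nontrivial B]
    (hrad : RadPt.IsRadicialAt (Spec.map φ) (closedPoint A)) : IsLocalRing B := by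
  obtain ⟨n, hn⟩ := Ideal.exists_maximal B
  refine IsLocalRing.of_unique_max_ideal ⟨n, hn, fun n' hn' => ?_⟩
  have h1 := map_eq_closedPoint φ hint ⟨n, hn.isPrime⟩ hn
  have h2 := map_eq_closedPoint φ hint ⟨n', hn'.isPrime⟩ hn'
  have := hrad.1 _ _ h2 h1
  exact congrArg PrimeSpectrum.asIdeal this

/-- Affine local case, forward direction. -/
theorem affine_forward (hint : φ.hom.IsIntegral) (hb : RadPt.IsBirational (Spec.map φ))
    (hA : IsGeomUnibranch A) :
    ∃ _ : IsLocalRing B, IsGeomUnibranch B ∧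
      RadPt.IsRadicialAt (Spec.map φ) (closedPoint A) := by
  have hAp : (nilradical A).IsPrime := by
    haveI := hA.1.1
    exact (Ideal.Quotient.isDomain_iff_prime _).mp inferInstance
  have hBp := nilradical_isPrime_of_isBirational φ hb hAp
  have hyp := hyp_of_isBirational φ hint hb hBp
  haveI hBl : IsLocalRing B := hyp.isLocalRing hA.1.2
  exact ⟨hBl, hyp.isGeomUnibranch hA, isRadicialAt_of_pow φ hint (hyp.exists_pow_sub_mem hA)⟩

/-- Affine local case, backward direction. -/
theorem affine_backward [IsLocalRing B] (hint : φ.hom.IsIntegral)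
    (hb : RadPt.IsBirational (Spec.map φ))
    (hrad : RadPt.IsRadicialAt (Spec.map φ) (closedPoint A)) (hB : IsGeomUnibranch B) :
    IsGeomUnibranch A := by
  have hBp : (nilradical B).IsPrime := by
    haveI := hB.1.1
    exact (Ideal.Quotient.isDomain_iff_prime _).mp inferInstance
  have hyp := hyp_of_isBirational φ hint hb hBp
  exact hyp.isGeomUnibranch_of hB (pow_of_isRadicialAt φ hint hrad)

end Radicial

end Groth.Agent.Lib.Helper14.GUBirat
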