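import Mathlib
import Groth.Prelude.Def_EGA4Misc

/-!
# helper14: "radicial at a point" in terms of field-valued points, and base change
-/

set_option autoImplicit false
universe u
open CategoryTheory CategoryTheory.Limits AlgebraicGeometry IsLocalRing

namespace Groth.Agent.Lib.Helper14.RadPtBC

variable {X Y : Scheme.{u}}

/-- precomposition with `Spec` of a field extension can be cancelled -/
theorem cancel_specMap_field {F F' : Type u} [Field F] [Field F'] (θ : F →+* F')
    (g₁ g₂ : Spec (CommRingCat.of F) ⟶ X)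
    (h : Spec.map (CommRingCat.ofHom θ) ≫ g₁ = Spec.map (CommRingCat.ofHom θ) ≫ g₂) : g₁ = g₂ := by
  have key : ∀ g : Spec (CommRingCat.of F) ⟶ X, Spec.map (CommRingCat.ofHom θ) ≫ g =
      (X.SpecToEquivOfField F').symm ⟨g (closedPoint F),
        X.descResidueField (Scheme.stalkClosedPointTo g) ≫ CommRingCat.ofHom θ⟩ := by
    intro g
    rw [Scheme.SpecToEquivOfField_symm_apply, Spec.map_comp, Category.assoc,
      Scheme.descResidueField_stalkClosedPointTo_fromSpecResidueField]
  rw [key g₁, key g₂] at h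
  have h2 := (X.SpecToEquivOfField F').symm.injective h
  obtain ⟨e₀, h3⟩ := Scheme.SpecToEquivOfField_eq_iff.mp h2
  apply (X.SpecToEquivOfField F).injective
  rw [Scheme.SpecToEquivOfField_eq_iff]
  refine ⟨e₀, ?_⟩
  dsimp at h3 ⊢
  have hmono : Mono (CommRingCat.ofHom θ) :=
    ConcreteCategory.mono_of_injective _ θ.injective
  rw [← Category.assoc] at h3
  exact (cancel_mono (CommRingCat.ofHom θ)).mp h3


set_option backward.isDefEq.respectTransparency.types false in
set_option backward.defeqAttrib.useBackward true in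
theorem fieldPoints_of_isRadicialAt (f : X ⟶ Y) (y : Y) (hrad : RadPt.IsRadicialAt f y)
    (F : Type u) [Field F] (g₁ g₂ : Spec (CommRingCat.of F) ⟶ X) (hg : g₁ ≫ f = g₂ ≫ f)
    (hy : (g₁ ≫ f) (closedPoint F) = y) : g₁ = g₂ := by
  obtain ⟨h_inj, hf⟩ := hrad
  obtain ⟨e, h⟩ := Scheme.SpecToEquivOfField_eq_iff.mp congr((Y.SpecToEquivOfField F) $(hg))
  apply (X.SpecToEquivOfField F).injective
  dsimp at e h
  simp only [Scheme.descResidueField_stalkClosedPointTo_comp] at e h
  have hx₁ : f (g₁ (closedPoint F)) = y := hy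
  have hx₂ : f (g₂ (closedPoint F)) = y := by rw [← e]; exact hx₁
  have e' : g₁ (closedPoint F) = g₂ (closedPoint F) := h_inj _ _ hx₁ hx₂
  rw [← f.residueFieldMap_congr'_assoc e', CommRingCat.hom_ext_iff] at h
  rw [Scheme.SpecToEquivOfField_eq_iff]
  have hfx := hf (g₁ (closedPoint F)) hx₁
  algebraize [(f.residueFieldMap (g₁ (closedPoint F))).hom]
  refine ⟨e', CommRingCat.hom_ext ?_⟩
  exact IsPurelyInseparable.injective_comp_algebraMap
    (Y.residueField (f (g₁ (closedPoint F)))) (X.residueField (g₁ (closedPoint F))) _ h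


set_option backward.isDefEq.respectTransparency.types false in
set_option backward.defeqAttrib.useBackward true in
theorem isRadicialAt_of_fieldPoints (f : X ⟶ Y) (y : Y)
    (H : ∀ (F : Type u) [Field F] (g₁ g₂ : Spec (CommRingCat.of F) ⟶ X), g₁ ≫ f = g₂ ≫ f →
      (g₁ ≫ f) (closedPoint F) = y → g₁ = g₂) : RadPt.IsRadicialAt f y := by
  constructor
  · intro x x' hx hx'
    obtain ⟨z, hz1, hz2⟩ := Scheme.Pullback.exists_preimage_pullback (f := f) (g := f) x x'
      (hx.trans hx'.symm)
    let φ := (pullback f f).fromSpecResidueField z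
    have hφ : φ (closedPoint ((pullback f f).residueField z)) = z :=
      Scheme.fromSpecResidueField_apply _ _
    have h1 : (φ ≫ pullback.fst f f) ≫ f = (φ ≫ pullback.snd f f) ≫ f := by
      rw [Category.assoc, Category.assoc, pullback.condition]
    have h2 : ((φ ≫ pullback.fst f f) ≫ f) (closedPoint ((pullback f f).residueField z)) = y := by
      rw [Scheme.Hom.comp_apply, Scheme.Hom.comp_apply, hφ, hz1, hx]
    have h3 := H ((pullback f f).residueField z) (φ ≫ pullback.fst f f) (φ ≫ pullback.snd f f)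
      h1 h2
    have h4 := congrArg (fun g => g (closedPoint ((pullback f f).residueField z))) h3
    simp only [Scheme.Hom.comp_apply, hφ, hz1, hz2] at h4
    exact h4
  · intro x hx
    algebraize [(f.residueFieldMap x).hom]
    rw [RingHom.IsPurelyInseparable, isPurelyInseparable_iff_subsingleton_emb, subsingleton_iff]
    intro σ₁ σ₂
    apply AlgHom.coe_ringHom_injective
    let g₁ := (X.SpecToEquivOfField _).symm ⟨_, CommRingCat.ofHom σ₁.toRingHom⟩
    let g₂ := (X.SpecToEquivOfField _).symm ⟨_, CommRingCat.ofHom σ₂.toRingHom⟩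
    suffices X.SpecToEquivOfField _ g₁ = X.SpecToEquivOfField _ g₂ by
      rw [Equiv.apply_symm_apply, Equiv.apply_symm_apply] at this
      exact congr($(this).2.hom)
    have hgf : g₁ ≫ f = g₂ ≫ f := by
      simp only [g₁, g₂, Scheme.SpecToEquivOfField_symm_apply, AlgHom.toRingHom_eq_coe,
        Category.assoc, ← f.SpecMap_residueFieldMap_fromSpecResidueField x, ← Spec.map_comp_assoc]
      congr 2
      ext a
      simp only [CommRingCat.hom_comp, RingHom.comp_apply]
      exact (AlgHom.commutes σ₁ a).trans (AlgHom.commutes σ₂ a).symm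
    have hpt : (g₁ ≫ f) (closedPoint _) = y := by
      simp only [g₁, Scheme.SpecToEquivOfField_symm_apply, Scheme.Hom.comp_apply,
        Scheme.fromSpecResidueField_apply]
      exact hx
    rw [H _ g₁ g₂ hgf hpt]


theorem isRadicialAt_iff_of_isPullback {X Y X' Y' : Scheme.{u}} {f : X ⟶ Y} {h : Y' ⟶ Y}
    {f' : X' ⟶ Y'} {h' : X' ⟶ X} (sq : IsPullback h' f' f h) (y' : Y') :
    RadPt.IsRadicialAt f (h y') ↔ RadPt.IsRadicialAt f' y' := by
  constructor
  · intro hrad
    apply isRadicialAt_of_fieldPoints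
    intro F _ g₁ g₂ hg hy
    have h1 : (g₁ ≫ h') ≫ f = (g₂ ≫ h') ≫ f := by
      rw [Category.assoc, Category.assoc, sq.w, ← Category.assoc, ← Category.assoc, hg]
    have h2 : ((g₁ ≫ h') ≫ f) (closedPoint F) = h y' := by
      rw [Category.assoc, sq.w, ← Category.assoc, Scheme.Hom.comp_apply, hy]
    have h3 := fieldPoints_of_isRadicialAt f (h y') hrad F (g₁ ≫ h') (g₂ ≫ h') h1 h2
    exact sq.hom_ext h3 hg
  · intro hrad
    apply isRadicialAt_of_fieldPoints
    intro F _ g₁ g₂ hg hy
    obtain ⟨c, hc₁⟩ : ∃ c, g₁ ≫ f = c := ⟨_, rfl⟩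
    have hc₂ : g₂ ≫ f = c := by rw [← hg, hc₁]
    rw [hc₁] at hy
    obtain ⟨z, hz1, hz2⟩ := Scheme.Pullback.exists_preimage_pullback (f := c) (g := h)
      (closedPoint F) y' hy
    let φ := (pullback c h).fromSpecResidueField z
    have hφ : φ (closedPoint ((pullback c h).residueField z)) = z :=
      Scheme.fromSpecResidueField_apply _ _
    obtain ⟨θ, hθ⟩ := Spec.map_surjective (φ ≫ pullback.fst c h)
    have hc1 : (φ ≫ pullback.fst c h ≫ g₁) ≫ f = (φ ≫ pullback.snd c h) ≫ h := by
      simp only [Category.assoc]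
      rw [hc₁, pullback.condition]
    have hc2 : (φ ≫ pullback.fst c h ≫ g₂) ≫ f = (φ ≫ pullback.snd c h) ≫ h := by
      simp only [Category.assoc]
      rw [hc₂, pullback.condition]
    have h3 := fieldPoints_of_isRadicialAt f' y' hrad ((pullback c h).residueField z)
      (sq.lift _ _ hc1) (sq.lift _ _ hc2) (by rw [sq.lift_snd, sq.lift_snd])
      (by rw [sq.lift_snd, Scheme.Hom.comp_apply, hφ, hz2])
    have h4 : (φ ≫ pullback.fst c h) ≫ g₁ = (φ ≫ pullback.fst c h) ≫ g₂ := by
      have := congrArg (fun g => g ≫ h') h3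
      simp only [sq.lift_fst] at this
      simpa only [Category.assoc] using this
    rw [← hθ] at h4
    exact cancel_specMap_field θ.hom g₁ g₂ h4

end Groth.Agent.Lib.Helper14.RadPtBC
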