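import Mathlib
import Groth.Prelude.Def_EGA4Misc
import Groth.Prelude.Def_CAlg2
import Groth.Agent.Lib.Helper14.GUBirat2
import Groth.Agent.Lib.Helper14.RadPtBC
import Groth.Agent.Lib.Helper11.FlatStalk
import Groth.Agent.Lib.Helper9.FlatMonoStalk

/-!
# Geometric unibranchness along integral birational morphisms of schemes (helper14)
-/

set_option autoImplicit false
set_option linter.style.haveILetI false

namespace Groth.Agent.Lib.Helper14.GUBirat

universe u

open CAlg2 AlgebraicGeometry CategoryTheory Limits IsLocalRing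

theorem isGeomUnibranch_iff_of_integral_birational {X Y : Scheme.{u}} (f : X ⟶ Y)
    [IsIntegralHom f] (hf : RadPt.IsBirational f) (y : Y) :
    IsGeomUnibranch (Y.presheaf.stalk y) ↔
      (RadPt.IsRadicialAt f y ∧ ∀ x : X, f x = y → IsGeomUnibranch (X.presheaf.stalk x)) := by
  let A : CommRingCat.{u} := Y.presheaf.stalk y
  let g : Spec A ⟶ Y := Y.fromSpecStalk y
  haveI : Flat g := Groth.Agent.Lib.helper11.FlatStalk.flat_fromSpecStalk y
  haveI : IsAffine (pullback f g) := isAffine_of_isAffineHom (pullback.snd f g)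
  let B : CommRingCat.{u} := Γ(pullback f g, ⊤)
  let e : pullback f g ≅ Spec B := (pullback f g).isoSpec
  let φ : A ⟶ B := Spec.preimage (e.inv ≫ pullback.snd f g)
  have hφ : Spec.map φ = e.inv ≫ pullback.snd f g := Spec.map_preimage _
  let p : Spec B ⟶ X := e.inv ≫ pullback.fst f g
  have sq : IsPullback p (Spec.map φ) f g := by
    rw [hφ]
    exact IsPullback.of_iso_pullback ⟨by simp [p, pullback.condition]⟩ e.symm
      (by simp [p]) (by simp)
  have hint : φ.hom.IsIntegral := by
    rw [← IsIntegralHom.SpecMap_iff, hφ]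
    infer_instance
  have hb : RadPt.IsBirational (Spec.map φ) := BiratBC.isBirational_of_isPullback_flat sq hf
  have hrad : RadPt.IsRadicialAt f y ↔ RadPt.IsRadicialAt (Spec.map φ) (closedPoint A) := by
    have := RadPtBC.isRadicialAt_iff_of_isPullback sq (closedPoint A)
    rwa [show g (closedPoint A) = y from Scheme.fromSpecStalk_closedPoint] at this
  haveI : Flat p := inferInstance
  haveI : Mono p := inferInstance
  have key : ∀ [IsLocalRing B], f (p (closedPoint B)) = y ∧
      Nonempty (X.presheaf.stalk (p (closedPoint B)) ≃+* B) := by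
    intro _
    constructor
    · have h1 : f (p (closedPoint B)) = g (Spec.map φ (closedPoint B)) := by
        rw [← Scheme.Hom.comp_apply, ← Scheme.Hom.comp_apply, sq.w]
      rw [h1, map_eq_closedPoint φ hint _ (inferInstance : (maximalIdeal B).IsMaximal)]
      exact Scheme.fromSpecStalk_closedPoint
    · haveI := Groth.Agent.Lib.helper9.isIso_stalkMap_of_flat_of_mono p (closedPoint B)
      haveI : IsIso (Scheme.stalkClosedPointTo p) := by
        unfold Scheme.stalkClosedPointTo
        infer_instance
      exact ⟨(asIso (Scheme.stalkClosedPointTo p)).commRingCatIsoToRingEquiv⟩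
  constructor
  · intro hA
    obtain ⟨hBl, hBgu, hBrad⟩ := affine_forward φ hint hb hA
    have hr := hrad.mpr hBrad
    refine ⟨hr, fun x hx => ?_⟩
    obtain ⟨h1, ⟨E⟩⟩ := key
    have hxx : x = p (closedPoint B) := hr.1 _ _ hx h1
    subst hxx
    exact isGeomUnibranch_of_ringEquiv E.symm hBgu
  · rintro ⟨hr, hx⟩
    have hBrad := hrad.mp hr
    haveI : Nontrivial B := nontrivial_of_isBirational φ hb
    haveI hBl : IsLocalRing B := isLocalRing_of_isRadicialAt φ hint hBrad
    obtain ⟨h1, ⟨E⟩⟩ := key
    have hBgu : IsGeomUnibranch B := isGeomUnibranch_of_ringEquiv E (hx _ h1)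
    exact affine_backward φ hint hb hBrad hBgu

end Groth.Agent.Lib.Helper14.GUBirat
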