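import Mathlib
import Groth.Prelude.Def_AlgGrp
import Groth.Prelude.Def_Red
import Groth.Prelude.Def_Red2
import Groth.Prelude.Def_SGA3x
import Groth.Agent.Lib.Helper14.MaxSplit1
import Groth.Agent.Lib.Helper14.ModelQuot

/-!
# helper14: a group of multiplicative type of finite type has a maximal split subtorus
-/

set_option autoImplicit false
universe u
open CategoryTheory CategoryTheory.Limits AlgebraicGeometry MonoidalCategory
  CartesianMonoidalCategory MonObj

namespace Groth.Agent.Lib.Helper14.MaxSplit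

noncomputable section

open Groth.Agent.Lib.Helper14.BCGrp Groth.Agent.Lib.helper15.DSPts
  Groth.Agent.Lib.Helper14.TorusMonoIso

theorem isTorus_of_split {S : Scheme.{u}} {T : Over S} [GrpObj T] (r : ℕ)
    (h : Red.IsSplitTorusWith (Fin r → ℤ) T) : Red.IsTorus T := by
  obtain ⟨e⟩ := h
  refine ⟨S, 𝟙 S, inferInstance, inferInstance, ?_, ?_⟩
  · intro V hV
    refine ⟨V, hV.isCompact, ?_⟩
    ext x
    simp
  · intro s
    exact ⟨⊤, trivial, r, ⟨splitBC ((⊤ : S.Opens).ι ≫ 𝟙 S) _ e⟩⟩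

theorem isMonHom_of_comp {S : Scheme.{u}} {T T' G : Over S} [GrpObj T] [GrpObj T'] [GrpObj G]
    (g : T ⟶ T') (j' : T' ⟶ G) [IsMonHom j'] [Mono j'] (h : IsMonHom (g ≫ j')) : IsMonHom g := by
  constructor
  · rw [← cancel_mono j', Category.assoc, h.one_hom, IsMonHom.one_hom]
  · rw [← cancel_mono j', Category.assoc, h.mul_hom, Category.assoc, IsMonHom.mul_hom,
      ← Category.assoc, tensorHom_comp_tensorHom]

section DS0

variable {S : Scheme.{u}}

theorem all_eq_DS0 {X : Over S} (x y : X ⟶ Red.DS S (Fin 0 → ℤ)) : x = y := by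
  apply dsFn_injective
  intro m
  have hm : m = 0 := Subsingleton.elim _ _
  rw [hm, dsFn_zero, dsFn_zero]

theorem mono_of_DS0 {G : Over S} (j : Red.DS S (Fin 0 → ℤ) ⟶ G) : Mono j :=
  ⟨fun a b _ => all_eq_DS0 a b⟩

end DS0

theorem isMonHom_one {S : Scheme.{u}} (A B : Over S) [GrpObj A] [GrpObj B] :
    IsMonHom (1 : A ⟶ B) := by
  constructor
  · rw [Hom.one_def, ← Category.assoc, toUnit_unique (η[A] ≫ toUnit A) (𝟙 _), Category.id_comp]
  · have h1 : ((1 : A ⟶ B) ⊗ₘ (1 : A ⟶ B)) ≫ μ[B] =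
        (fst A A ≫ (1 : A ⟶ B)) * (snd A A ≫ (1 : A ⟶ B)) := by
      rw [Hom.mul_def]
      congr 1
    rw [h1, MonObj.comp_one, MonObj.comp_one, MonObj.comp_one, _root_.mul_one]

/-- **A group of multiplicative type of finite type has a maximal split subtorus.** -/
theorem exists_maximal {S : Scheme.{u}} {G : Over S} [GrpObj G] (hG : SGA3x.IsMultTypeFT G) :
    ∃ (T : Over S) (_ : GrpObj T) (j : T ⟶ G) (r : ℕ), IsMonHom j ∧ Mono j ∧
      Red.IsSplitTorusWith (Fin r → ℤ) T ∧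
      ∀ (T' : Over S) [GrpObj T'] (j' : T' ⟶ G) [IsMonHom j'] [Mono j'] (r' : ℕ) (g : T ⟶ T'),
        Red.IsSplitTorusWith (Fin r' → ℤ) T' → g ≫ j' = j → IsIso g := by
  by_cases hS : Nonempty S
  · obtain ⟨S', f, hfl, hsurj, hcov, hloc⟩ := hG
    obtain ⟨s⟩ := hS
    obtain ⟨s', -⟩ := hsurj.surj s
    obtain ⟨U, hU, N, _, hfg, ⟨eG⟩⟩ := hloc s'
    haveI : Module.Finite ℤ N := Module.Finite.iff_addGroup_fg.mpr hfg
    obtain ⟨n, gen', hgen'⟩ := Module.Finite.exists_fin' ℤ N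
    have hbound : ∀ (r : ℕ) (T : Over S) [GrpObj T] (j : T ⟶ G) [IsMonHom j] [Mono j],
        Red.IsSplitTorusWith (Fin r → ℤ) T → r ≤ n := by
      intro r T _ j _ _ hsp
      obtain ⟨eT⟩ := hsp
      haveI : Nonempty ↥(U : Scheme.{u}) := ⟨⟨s', hU⟩⟩
      haveI : IsMonHom ((Over.pullback (U.ι ≫ f)).map j) := Functor.map.instIsMonHom _ _ _
      haveI : Mono ((Over.pullback (U.ι ≫ f)).map j) := inferInstance
      exact rank_le_of_mono r n gen'.toAddMonoidHom hgen' (splitBC (U.ι ≫ f) _ eT) eG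
        ((Over.pullback (U.ι ≫ f)).map j)
    let Rk : ℕ → Prop := fun r => ∃ (T : Over S) (_ : GrpObj T) (j : T ⟶ G),
      IsMonHom j ∧ Mono j ∧ Red.IsSplitTorusWith (Fin r → ℤ) T
    have h0 : Rk 0 := ⟨Red.DS S (Fin 0 → ℤ), inferInstance, 1, isMonHom_one _ _, mono_of_DS0 _,
      ⟨Iso.refl _⟩⟩
    classical
    have hr : Rk (Nat.findGreatest Rk n) := Nat.findGreatest_spec (Nat.zero_le n) h0
    have hmax : ∀ r', Rk r' → r' ≤ Nat.findGreatest Rk n := by
      intro r' h'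
      obtain ⟨T', instT', j', hj'm, hj'mono, hsp'⟩ := h'
      exact Nat.le_findGreatest (hbound r' T' j' hsp') ⟨T', instT', j', hj'm, hj'mono, hsp'⟩
    obtain ⟨T, instT, j, hjm, hjmono, hsplit⟩ := hr
    refine ⟨T, instT, j, Nat.findGreatest Rk n, hjm, hjmono, hsplit, ?_⟩
    intro T' _ j' _ _ r' g hsplit' hg
    haveI : IsMonHom g := isMonHom_of_comp g j' (by rw [hg]; exact hjm)
    haveI : Mono g := by
      haveI : Mono (g ≫ j') := by rw [hg]; exact hjmono
      exact mono_of_mono g j'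
    have h1 : r' ≤ Nat.findGreatest Rk n := hmax r' ⟨T', inferInstance, j', inferInstance,
      inferInstance, hsplit'⟩
    obtain ⟨eT⟩ := hsplit
    obtain ⟨eT'⟩ := hsplit'
    haveI : Nonempty ↥S := ⟨s⟩
    have h2 : Nat.findGreatest Rk n ≤ r' :=
      rank_le_of_mono _ r' (AddMonoidHom.id _) Function.surjective_id eT eT' g
    have h3 : r' = Nat.findGreatest Rk n := le_antisymm h1 h2
    subst h3
    exact isIso_of_mono (isTorus_of_split _ ⟨eT⟩) (isTorus_of_split _ ⟨eT'⟩) g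
      (fun s₀ => ⟨_, ⟨splitBC _ _ eT⟩, ⟨splitBC _ _ eT'⟩⟩)
  · haveI : IsEmpty ↥S := not_nonempty_iff.mp hS
    refine ⟨Red.DS S (Fin 0 → ℤ), inferInstance, 1, 0, isMonHom_one _ _, mono_of_DS0 _,
      ⟨Iso.refl _⟩, ?_⟩
    intro T' _ j' _ _ r' g _ _
    haveI : IsEmpty ↥T'.left := Function.isEmpty T'.hom.base
    haveI : IsIso ((Over.forget S).map g) := isIso_of_isEmpty g.left
    exact isIso_of_reflects_iso g (Over.forget S)

end

end Groth.Agent.Lib.Helper14.MaxSplit
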