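import Mathlib
import Groth.Agent.Lib.Helper4.GrpQuotDesc
import Groth.Agent.Lib.Helper14.FibreH0

/-!
# helper14: factorisation through a separable (étale) isogeny over an algebraically closed field:
a homomorphism killing the rational points of the kernel factors uniquely
-/

set_option autoImplicit false
universe u
open CategoryTheory MonoidalCategory CartesianMonoidalCategory MonObj GrpObj AlgebraicGeometry Limits

namespace Groth.Agent.Lib.Helper14.SepIsog

variable {k : Type u} [Field k]

/-- the kernel of a homomorphism exists -/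
theorem exists_isKernel {S : Scheme.{u}} {G Q : Over S} [GrpObj Q] (q : G ⟶ Q) :
    ∃ (N : Over S) (i : N ⟶ G), AlgGrp.IsKernel i q := by
  refine ⟨pullback q η[Q], pullback.fst q η[Q], ?_⟩
  have h := IsPullback.of_hasPullback q η[Q]
  have e : pullback.snd q η[Q] = toUnit (pullback q η[Q]) := toUnit_unique _ _
  rw [e] at h
  exact h

/-- a morphism from a kernel of a smooth (e.g. étale) homomorphism, over an algebraically closed
field, is trivial as soon as it is trivial on rational points -/
theorem comp_eq_one_of_points [IsAlgClosed k] {G Q H : Over (Spec (CommRingCat.of k))}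
    [GrpObj G] [GrpObj Q] [GrpObj H] [IsSeparated H.hom] [LocallyOfFiniteType H.hom]
    (q : G ⟶ Q) [Smooth q.left] {N : Over (Spec (CommRingCat.of k))} (i : N ⟶ G)
    (hK : AlgGrp.IsKernel i q) (ψ : G ⟶ H)
    (hker : ∀ P : 𝟙_ (Over (Spec (CommRingCat.of k))) ⟶ G, P ≫ q = η[Q] → P ≫ ψ = η[H]) :
    i ≫ ψ = toUnit N ≫ η[H] := by
  have sq : IsPullback i.left (toUnit N).left q.left (η[Q]).left :=
    IsPullback.map (Over.forget _) hK
  have hN : (toUnit N).left = N.hom := by
    have := Over.w (toUnit N)
    simpa using this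
  haveI : Smooth N.hom := by
    rw [← hN]
    exact MorphismProperty.of_isPullback (P := @Smooth) sq inferInstance
  haveI : IsReduced N.left := Groth.Agent.Lib.Helper14.FibreH0.isReduced_of_smooth_field k N.hom
  apply Over.OverMorphism.ext
  haveI : LocallyOfFiniteType ((i ≫ ψ).left ≫ H.hom) := by
    rw [Over.w]; infer_instance
  refine ext_of_apply_eq H.hom Set.univ isOpen_univ.isLocallyClosed dense_univ ?_ ?_
  · intro x _ hx
    let a₀ := pointOfClosedPoint N.hom x hx
    let P' : 𝟙_ (Over (Spec (CommRingCat.of k))) ⟶ N :=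
      Over.homMk a₀ (pointOfClosedPoint_comp N.hom x hx)
    have h1 : (P' ≫ i) ≫ q = η[Q] := by
      rw [Category.assoc, hK.w, ← Category.assoc, toUnit_unique (P' ≫ toUnit N) (𝟙 _),
        Category.id_comp]
    have h2 := hker (P' ≫ i) h1
    have h3 : P' ≫ (i ≫ ψ) = P' ≫ (toUnit N ≫ η[H]) := by
      rw [← Category.assoc, h2, ← Category.assoc, toUnit_unique (P' ≫ toUnit N) (𝟙 _),
        Category.id_comp]
    have h4 := congrArg (fun g => g.left (IsLocalRing.closedPoint k)) h3
    simp only [Over.comp_left, Scheme.Hom.comp_apply] at h4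
    have h5 : P'.left (IsLocalRing.closedPoint k) = x := pointOfClosedPoint_apply N.hom x hx _
    rw [h5] at h4
    simpa using h4
  · rw [Over.w, Over.w]

/-- a homomorphism killing the rational points of the kernel of a smooth, flat, surjective,
quasi-compact homomorphism factors uniquely through it (over an algebraically closed field) -/
theorem existsUnique_factor [IsAlgClosed k] {G Q H : Over (Spec (CommRingCat.of k))}
    [GrpObj G] [GrpObj Q] [GrpObj H] [IsSeparated H.hom] [LocallyOfFiniteType H.hom]
    (q : G ⟶ Q) [IsMonHom q] [Smooth q.left] [Surjective q.left] [QuasiCompact q.left]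
    (ψ : G ⟶ H) [IsMonHom ψ]
    (hker : ∀ P : 𝟙_ (Over (Spec (CommRingCat.of k))) ⟶ G, P ≫ q = η[Q] → P ≫ ψ = η[H]) :
    ∃! ρ : Q ⟶ H, IsMonHom ρ ∧ q ≫ ρ = ψ := by
  obtain ⟨N, i, hK⟩ := exists_isKernel q
  have h1 := comp_eq_one_of_points q i hK ψ hker
  haveI : Flat q.left := inferInstance
  obtain ⟨ρ, hρ1, hρ2, hρ3⟩ := Groth.Agent.Lib.Helper4.GrpQuotDesc.desc_of_kernel q i hK ψ h1
  exact ⟨ρ, ⟨hρ1, hρ2⟩, fun ρ' h => hρ3 ρ' h.2⟩

end Groth.Agent.Lib.Helper14.SepIsog
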