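import Mathlib
import Groth.Prelude.Def_AlgGrp
import Groth.Prelude.Def_Red
import Groth.Prelude.Def_Red2
import Groth.Prelude.Def_RedSub
import Groth.Agent.Lib.Helper14.KerPullback
import Groth.Agent.Lib.Helper14.SepIsog1
import Groth.Agent.Lib.Helper14.WeilField2
import Groth.Agent.Lib.Helper14.ModelQuot
import Groth.Agent.Lib.Helper14.MaxSplit2
import Groth.Agent.Lib.Helper15.BTExact

/-!
# helper14: kernels of homomorphisms of group schemes: existence as a group scheme, base change,
uniqueness, and the model `D(M / ψ N) = Ker (D(ψ) : D(M) ⟶ D(N))`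
-/

set_option autoImplicit false
universe u
open CategoryTheory CategoryTheory.Limits AlgebraicGeometry MonoidalCategory
  CartesianMonoidalCategory MonObj

namespace Groth.Agent.Lib.Helper14.KerMT

noncomputable section

open Groth.Agent.Lib.Helper14.KerPullback Groth.Agent.Lib.Helper14.ModelQuot
  Groth.Agent.Lib.helper15.DSPts

variable {S : Scheme.{u}}

/-- the kernel of a homomorphism of group schemes exists as a group scheme -/
theorem exists_kernel_grp {G H : Over S} [GrpObj G] [GrpObj H] (u : G ⟶ H) [IsMonHom u] :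
    ∃ (K : Over S) (_ : GrpObj K) (k : K ⟶ G) (_ : IsMonHom k), Mono k ∧ AlgGrp.IsKernel k u := by
  obtain ⟨K, k, hk⟩ := Groth.Agent.Lib.Helper14.SepIsog.exists_isKernel u
  haveI : Mono k := mono_of_isKernel k u hk
  have hgrp : ∃ str : GrpObj K, @IsMonHom _ _ _ _ _ str.toMonObj _ k := by
    refine Groth.Agent.Lib.Helper14.WeilField.exists_grpObj_of_pred k
      (fun T g => g ≫ u = 1) (fun T g => ⟨?_, fun h => exists_lift_of_comp_eq_one k u hk g h⟩) ?_ ?_
    · rintro ⟨z, rfl⟩
      exact comp_eq_one_of_isKernel k u hk z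
    · show η[G] ≫ u = 1
      rw [IsMonHom.one_hom, Hom.one_def, toUnit_unique (toUnit (𝟙_ (Over S))) (𝟙 _),
        Category.id_comp]
    · intro T x y hx hy
      show (x⁻¹ * y) ≫ u = 1
      rw [MonObj.mul_comp, GrpObj.inv_comp, hx, hy, inv_one, _root_.mul_one]
  obtain ⟨str, hstr⟩ := hgrp
  exact ⟨K, str, k, hstr, inferInstance, hk⟩

/-- kernels are compatible with base change -/
theorem isKernel_bc {S' : Scheme.{u}} (g : S' ⟶ S) {K G H : Over S} [GrpObj H]
    (k : K ⟶ G) (u : G ⟶ H) (hk : AlgGrp.IsKernel k u) :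
    AlgGrp.IsKernel ((Over.pullback g).map k) ((Over.pullback g).map u) := by
  have hF : IsPullback ((Over.pullback g).map k) ((Over.pullback g).map (toUnit K))
      ((Over.pullback g).map u) ((Over.pullback g).map η[H]) := hk.map (Over.pullback g)
  have hη : (η[Red.bc g H] : 𝟙_ (Over S') ⟶ Red.bc g H) =
      Functor.LaxMonoidal.ε (Over.pullback g) ≫ (Over.pullback g).map η[H] := rfl
  unfold AlgGrp.IsKernel
  refine IsPullback.of_iso hF (Iso.refl _) (Iso.refl _)
    (Functor.Monoidal.εIso (Over.pullback g)).symm (Iso.refl _) ?_ ?_ ?_ ?_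
  · simp
  · exact toUnit_unique _ _
  · simp
  · rw [Iso.refl_hom, Category.comp_id, Iso.symm_hom, hη, ← Functor.Monoidal.εIso_hom,
      Iso.inv_hom_id_assoc]

/-- two kernels of the same homomorphism are isomorphic as group schemes -/
theorem exists_grpIso_of_isKernel {K K' G H : Over S} [GrpObj K] [GrpObj K'] [GrpObj G] [GrpObj H]
    (u : G ⟶ H) (k : K ⟶ G) [IsMonHom k] (k' : K' ⟶ G) [IsMonHom k']
    (hk : AlgGrp.IsKernel k u) (hk' : AlgGrp.IsKernel k' u) :
    Nonempty (Grp.mk K ≅ Grp.mk K') := by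
  haveI : Mono k' := mono_of_isKernel k' u hk'
  let e : K ≅ K' := hk.isoIsPullback _ _ hk'
  have he : e.hom ≫ k' = k := hk.isoIsPullback_hom_fst _ _ hk'
  haveI : IsMonHom e.hom :=
    Groth.Agent.Lib.Helper14.MaxSplit.isMonHom_of_comp e.hom k' (by rw [he]; infer_instance)
  exact ⟨Grp.mkIso' e⟩

section Model

variable {B : Scheme.{u}} {M N : Type} [AddCommGroup M] [AddCommGroup N] (ψ : N →+ M)

/-- `D(M / ψ N) ⟶ D(M)` is the kernel of `D(ψ) : D(M) ⟶ D(N)` -/
theorem model_isKernel :
    AlgGrp.IsKernel (Red.DSmap B (QuotientAddGroup.mk' ψ.range)) (Red.DSmap B ψ) := by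
  have hπ : Function.Surjective (QuotientAddGroup.mk' ψ.range) :=
    QuotientAddGroup.mk'_surjective _
  have hex : ∀ m, QuotientAddGroup.mk' ψ.range m = 0 ↔ m ∈ Set.range ψ := by
    intro m
    rw [QuotientAddGroup.mk'_apply, QuotientAddGroup.eq_zero_iff]
    rfl
  haveI : Mono (Red.DSmap B (QuotientAddGroup.mk' ψ.range)) :=
    ⟨fun z z' h => model_unique _ hπ z z' h⟩
  exact Groth.Agent.Lib.helper15.BTExact.isKernel_of_points _ _ (model_comp ψ _ hex)
    (fun T x hx => model_exists ψ _ hπ hex x hx)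

end Model

/-- transport of a kernel along isomorphisms of the source and the target -/
theorem isKernel_of_conj {K G H G' H' : Over S} [GrpObj G] [GrpObj H] [GrpObj G'] [GrpObj H']
    (k : K ⟶ G) (u : G ⟶ H) (hk : AlgGrp.IsKernel k u) (a : G' ⟶ G) (a' : G ⟶ G')
    (haa' : a ≫ a' = 𝟙 _) (ha'a : a' ≫ a = 𝟙 _) (b : H ⟶ H') (b' : H' ⟶ H) [IsMonHom b]
    [IsMonHom b'] (hbb' : b ≫ b' = 𝟙 _) (u' : G' ⟶ H') (hu' : u' = a ≫ u ≫ b) :
    AlgGrp.IsKernel (k ≫ a') u' := by
  haveI : Mono k := mono_of_isKernel k u hk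
  haveI : Mono a' := ⟨fun x y h => by
    have := congrArg (fun t => t ≫ a) h
    simpa only [Category.assoc, ha'a, Category.comp_id] using this⟩
  haveI : Mono (k ≫ a') := mono_comp _ _
  apply Groth.Agent.Lib.helper15.BTExact.isKernel_of_points
  · have h1 : (k ≫ a') ≫ u' = (k ≫ u) ≫ b := by
      rw [hu']
      simp only [Category.assoc]
      rw [← Category.assoc a' a, ha'a, Category.id_comp]
    have h2 : k ≫ u = 1 := by
      have := comp_eq_one_of_isKernel k u hk (𝟙 K)
      rwa [Category.id_comp] at this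
    have h3 : (1 : K ⟶ H) ≫ b = 1 := MonObj.one_comp _
    rw [h1, h2, h3]
  · intro T x hx
    have h1 : (x ≫ a) ≫ u = 1 := by
      have h2 : (x ≫ u') ≫ b' = (x ≫ a) ≫ u := by
        rw [hu']
        simp only [Category.assoc, hbb', Category.comp_id]
      have h3 : (1 : T ⟶ H') ≫ b' = 1 := MonObj.one_comp _
      rw [← h2, hx, h3]
    obtain ⟨y, hy⟩ := exists_lift_of_comp_eq_one k u hk (x ≫ a) h1
    refine ⟨y, ?_⟩
    rw [← Category.assoc, hy, Category.assoc, haa', Category.comp_id]

end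

end Groth.Agent.Lib.Helper14.KerMT
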