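import Mathlib
import Groth.Prelude.Def_AlgGrp
import Groth.Prelude.Def_Red
import Groth.Prelude.Def_Red2
import Groth.Prelude.Def_RedSub
import Groth.Prelude.Def_SGA3x
import Groth.Agent.Lib.Helper14.TorusQuot1
import Groth.Agent.Lib.Helper14.DiagHomG3
import Groth.Agent.Lib.Helper14.MultNilGlobal
import Groth.Agent.Lib.Helper14.TorusMonoIso

/-!
# helper14: the quotient of a torus by a subgroup of multiplicative type is a torus
-/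

set_option autoImplicit false
universe u
open CategoryTheory CategoryTheory.Limits AlgebraicGeometry MonoidalCategory
  CartesianMonoidalCategory MonObj

namespace Groth.Agent.Lib.Helper14.TorusQuot

noncomputable section

open Groth.Agent.Lib.Helper14.MultNilAff Groth.Agent.Lib.Helper14.DiagHom1
  Groth.Agent.Lib.Helper14.DiagHom2 Groth.Agent.Lib.Helper14.DiagHom3
  Groth.Agent.Lib.Helper14.DiagHom4 Groth.Agent.Lib.Helper14.ModelQuot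
  Groth.Agent.Lib.Helper14.QuotUnique Groth.Agent.Lib.Helper14.QuotBC
  Groth.Agent.Lib.Helper14.BCGrp Groth.Agent.Lib.Helper14.MultNilGlobal

theorem local_quot {S S' : Scheme.{u}} (f : S' ⟶ S) {T H Q : Over S} [GrpObj T] [GrpObj H]
    [GrpObj Q] (i : H ⟶ T) [IsMonHom i] [Mono i] (q : T ⟶ Q) [IsMonHom q]
    (hq : RedSub.IsQuotient i q)
    (s' : S') (U₀ : S'.Opens) (hs' : s' ∈ U₀) (r : ℕ) (N : Type) [AddCommGroup N]
    (eT₀ : Grp.mk (Red.bc (U₀.ι ≫ f) T) ≅ Grp.mk (Red.DS U₀ (Fin r → ℤ)))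
    (eH₀ : Grp.mk (Red.bc (U₀.ι ≫ f) H) ≅ Grp.mk (Red.DS U₀ N)) :
    ∃ O : S'.Opens, s' ∈ O ∧ ∃ r' : ℕ, r' ≤ r ∧
      Red.IsSplitTorusWith (Fin r' → ℤ) (Red.bc (O.ι ≫ f) Q) := by
  obtain ⟨U₁, hU₁, hs'U₁, hU₁le⟩ := exists_affine_nbhd S' U₀ s' hs'
  let v : Spec Γ(S', U₁) ⟶ S := hU₁.fromSpec ≫ f
  have hrU : Set.range hU₁.fromSpec.base ⊆ Set.range U₀.ι.base := by
    rw [hU₁.range_fromSpec, Scheme.Opens.range_ι]
    exact fun z hz => hU₁le hz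
  let w : Spec Γ(S', U₁) ⟶ (U₀ : Scheme.{u}) := IsOpenImmersion.lift U₀.ι hU₁.fromSpec hrU
  have hw : w ≫ U₀.ι = hU₁.fromSpec := IsOpenImmersion.lift_fac _ _ _
  have hvw : v = w ≫ U₀.ι ≫ f := by rw [← Category.assoc, hw]
  let eT : Grp.mk (Red.bc v T) ≅ Grp.mk (Red.DS (Spec Γ(S', U₁)) (Fin r → ℤ)) :=
    bcGrpIsoOfEq hvw T ≪≫ diagBC w (U₀.ι ≫ f) T (Fin r → ℤ) eT₀
  let eH : Grp.mk (Red.bc v H) ≅ Grp.mk (Red.DS (Spec Γ(S', U₁)) N) :=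
    bcGrpIsoOfEq hvw H ≪≫ diagBC w (U₀.ι ≫ f) H N eH₀
  let iR : Red.bc v H ⟶ Red.bc v T := (Over.pullback v).map i
  haveI : IsMonHom iR := Functor.map.instIsMonHom _ _ _
  haveI : AddGroup.FG (Fin r → ℤ) := Module.Finite.iff_addGroup_fg.mp inferInstance
  let 𝔭 : PrimeSpectrum Γ(S', U₁) := hU₁.primeIdealOf ⟨s', hs'U₁⟩
  have h𝔭 : hU₁.fromSpec 𝔭 = s' := hU₁.fromSpec_primeIdealOf ⟨s', hs'U₁⟩
  obtain ⟨h, φ, hh, hloc⟩ := local_DSmap (R := Γ(S', U₁)) eH eT iR 𝔭.asIdeal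
  let Rh := Localization.Away h
  let kh : Spec (CommRingCat.of Rh) ⟶ Spec Γ(S', U₁) := kk Γ(S', U₁) Rh
  haveI : IsOpenImmersion kh :=
    inferInstanceAs (IsOpenImmersion (Spec.map (CommRingCat.ofHom
      (algebraMap Γ(S', U₁) (Localization.Away h)))))
  let j : Spec (CommRingCat.of Rh) ⟶ S' := kh ≫ hU₁.fromSpec
  have hunit : IsUnit (algebraMap Γ(S', U₁) Rh h) := IsLocalization.Away.algebraMap_isUnit h
  have hkrange : Set.range kh.base = (PrimeSpectrum.basicOpen h : Set (PrimeSpectrum Γ(S', U₁))) :=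
    PrimeSpectrum.localization_away_comap_range (Localization.Away h) h
  have h1 : 𝔭 ∈ Set.range kh.base := by
    rw [hkrange]
    exact hh
  obtain ⟨t₀, ht₀⟩ := h1
  have hnt : Nontrivial Rh := by
    have hp : (t₀ : PrimeSpectrum Rh).asIdeal.IsPrime := (t₀ : PrimeSpectrum Rh).isPrime
    refine nontrivial_of_ne (0 : Rh) 1 (fun h01 => hp.ne_top ?_)
    rw [Ideal.eq_top_iff_one, ← h01]
    exact Ideal.zero_mem _
  obtain ⟨heq, hsurj'⟩ := hloc Rh hunit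
  haveI : Mono iR := inferInstance
  haveI : Mono ((Over.pullback kh).map iR) := inferInstance
  have hmono : Mono ((Over.pullback kh).map iR).left := inferInstance
  have hsurj : Function.Surjective φ := hsurj' hnt hmono
  have hqB : RedSub.IsQuotient ((Over.pullback kh).map iR)
      ((Over.pullback kh).map ((Over.pullback v).map q)) :=
    isQuotient_bc kh _ _ (isQuotient_bc v i q hq)
  let eT' : Red.bc kh (Red.bc v T) ≅ Red.DS (Spec (CommRingCat.of Rh)) (Fin r → ℤ) :=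
    ⟨eh (bcDiag (R₁ := Rh) eT), ei (bcDiag (R₁ := Rh) eT), eh_ei _, ei_eh _⟩
  let eH' : Red.bc kh (Red.bc v H) ≅ Red.DS (Spec (CommRingCat.of Rh)) N :=
    ⟨eh (bcDiag (R₁ := Rh) eH), ei (bcDiag (R₁ := Rh) eH), eh_ei _, ei_eh _⟩
  haveI : IsMonHom eT'.hom := inferInstanceAs (IsMonHom (eh (bcDiag (R₁ := Rh) eT)))
  have hi : (Over.pullback kh).map iR ≫ eT'.hom = eH'.hom ≫ Red.DSmap _ (phiAdd φ) := by
    show (Over.pullback kh).map iR ≫ eh (bcDiag (R₁ := Rh) eT) =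
      eh (bcDiag (R₁ := Rh) eH) ≫ Red.DSmap _ (phiAdd φ)
    rw [heq]
    simp only [Category.assoc, ei_eh, Category.comp_id]
  haveI : IsMonHom ((Over.pullback kh).map ((Over.pullback v).map q)) :=
    Functor.map.instIsMonHom _ _ _
  obtain ⟨r', hle, ⟨eQ⟩⟩ := quot_of_DSmap r eT' eH' ((Over.pullback kh).map iR)
    ((Over.pullback kh).map ((Over.pullback v).map q)) hqB (phiAdd φ)
    (phiAdd_surjective φ hsurj) hi
  refine ⟨j.opensRange, ?_, r', hle, ⟨?_⟩⟩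
  · refine ⟨t₀, ?_⟩
    rw [Scheme.Hom.comp_base, TopCat.comp_app]
    rw [show kh.base t₀ = 𝔭 from ht₀]
    exact h𝔭
  · let w' : (j.opensRange : Scheme.{u}) ⟶ Spec (CommRingCat.of Rh) := j.isoOpensRange.inv
    have hw' : w' ≫ j = j.opensRange.ι := Scheme.Hom.isoOpensRange_inv_comp j
    have heq' : j.opensRange.ι ≫ f = w' ≫ (kh ≫ v) := by
      rw [← hw']
      simp only [Category.assoc, j, v]
    let e' : Grp.mk (Red.bc (kh ≫ v) Q) ≅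
        Grp.mk (Red.DS (Spec (CommRingCat.of Rh)) (Fin r' → ℤ)) :=
      bcCompGrpIso kh v Q ≪≫ eQ
    exact bcGrpIsoOfEq heq' Q ≪≫ diagBC w' (kh ≫ v) Q (Fin r' → ℤ) e'

open Groth.Agent.Lib.Helper14.DiagHomG3 in
theorem exists_common_cover_torus {S : Scheme.{u}} {T H : Over S} [GrpObj T] [GrpObj H]
    (hT : Red.IsTorus T) (hH : SGA3x.IsMultTypeFT H) :
    ∃ (S' : Scheme.{u}) (f : S' ⟶ S), Flat f ∧ Surjective f ∧
      (∀ V : S.Opens, IsAffineOpen V → ∃ W : S'.Opens, IsCompact (W : Set S') ∧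
        f.base '' (W : Set S') = (V : Set S)) ∧
      ∀ s' : S', ∃ U : S'.Opens, s' ∈ U ∧ ∃ (r : ℕ) (N : Type) (_ : AddCommGroup N),
          Nonempty (Grp.mk (Red.bc (U.ι ≫ f) T) ≅ Grp.mk (Red.DS U (Fin r → ℤ))) ∧
          Nonempty (Grp.mk (Red.bc (U.ι ≫ f) H) ≅ Grp.mk (Red.DS U N)) := by
  obtain ⟨S₁, f₁, hflat₁, hsurj₁, hc₁, hloc₁⟩ := hT
  obtain ⟨S₂, f₂, hflat₂, hsurj₂, hc₂, hloc₂⟩ := hH
  haveI := hflat₁
  haveI := hflat₂
  haveI := hsurj₁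
  haveI := hsurj₂
  let pr₁ := pullback.fst f₁ f₂
  let pr₂ := pullback.snd f₁ f₂
  refine ⟨pullback f₁ f₂, pr₁ ≫ f₁, inferInstance, inferInstance,
    cover_pullback f₁ f₂ hc₁ hc₂, ?_⟩
  intro s'
  obtain ⟨U₁, hU₁, r, ⟨e₁⟩⟩ := hloc₁ (pr₁.base s')
  obtain ⟨U₂, hU₂, M₂, inst₂, -, ⟨e₂⟩⟩ := hloc₂ (pr₂.base s')
  let U : (pullback f₁ f₂).Opens := pr₁ ⁻¹ᵁ U₁ ⊓ pr₂ ⁻¹ᵁ U₂
  refine ⟨U, ⟨hU₁, hU₂⟩, r, M₂, inst₂, ⟨?_⟩, ⟨?_⟩⟩
  · have hr : Set.range (U.ι ≫ pr₁).base ⊆ Set.range U₁.ι.base := by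
      rintro _ ⟨c, rfl⟩
      rw [Scheme.Opens.range_ι]
      exact c.2.1
    let w : (U : Scheme.{u}) ⟶ (U₁ : Scheme.{u}) := IsOpenImmersion.lift U₁.ι (U.ι ≫ pr₁) hr
    have hw : w ≫ U₁.ι = U.ι ≫ pr₁ := IsOpenImmersion.lift_fac _ _ _
    have heq : U.ι ≫ pr₁ ≫ f₁ = w ≫ U₁.ι ≫ f₁ := by
      rw [← Category.assoc, ← hw, Category.assoc]
    exact bcGrpIsoOfEq heq T ≪≫ diagBC w (U₁.ι ≫ f₁) T (Fin r → ℤ) e₁
  · have hr : Set.range (U.ι ≫ pr₂).base ⊆ Set.range U₂.ι.base := by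
      rintro _ ⟨c, rfl⟩
      rw [Scheme.Opens.range_ι]
      exact c.2.2
    let w : (U : Scheme.{u}) ⟶ (U₂ : Scheme.{u}) := IsOpenImmersion.lift U₂.ι (U.ι ≫ pr₂) hr
    have hw : w ≫ U₂.ι = U.ι ≫ pr₂ := IsOpenImmersion.lift_fac _ _ _
    have heq : U.ι ≫ pr₁ ≫ f₁ = w ≫ U₂.ι ≫ f₂ := by
      rw [← Category.assoc w, hw, Category.assoc, pullback.condition]
    exact bcGrpIsoOfEq heq H ≪≫ diagBC w (U₂.ι ≫ f₂) H M₂ e₂

/-- **The quotient of a torus by a subgroup of multiplicative type is a torus.** -/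
theorem isTorus_quot {S : Scheme.{u}} {T H Q : Over S} [GrpObj T] [GrpObj H] [GrpObj Q]
    (hT : Red.IsTorus T) (i : H ⟶ T) [IsMonHom i] [Mono i] (hH : SGA3x.IsMultTypeFT H)
    (q : T ⟶ Q) [IsMonHom q] (hq : RedSub.IsQuotient i q) : Red.IsTorus Q := by
  obtain ⟨S', f, hfl, hsurj, hcov, hloc⟩ := exists_common_cover_torus hT hH
  refine ⟨S', f, hfl, hsurj, hcov, fun s' => ?_⟩
  obtain ⟨U₀, hs', r, N, _, ⟨eT₀⟩, ⟨eH₀⟩⟩ := hloc s'
  obtain ⟨O, hO, r', -, hsplit⟩ := local_quot f i q hq s' U₀ hs' r N eT₀ eH₀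
  exact ⟨O, hO, r', hsplit⟩

end

end Groth.Agent.Lib.Helper14.TorusQuot
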