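import Mathlib
import Groth.Prelude.Def_AlgGrp
import Groth.Prelude.Def_Red
import Groth.Prelude.Def_Red2
import Groth.Prelude.Def_RedSub
import Groth.Prelude.Def_SGA3x
import Groth.Agent.Lib.Helper14.KerMT1
import Groth.Agent.Lib.Helper14.TorusQuot2

/-!
# helper14: the kernel of a homomorphism of groups of multiplicative type of finite type is of
multiplicative type of finite type
-/

set_option autoImplicit false
universe u
open CategoryTheory CategoryTheory.Limits AlgebraicGeometry MonoidalCategory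
  CartesianMonoidalCategory MonObj

namespace Groth.Agent.Lib.Helper14.KerMT

noncomputable section

open Groth.Agent.Lib.Helper14.MultNilAff Groth.Agent.Lib.Helper14.DiagHom1
  Groth.Agent.Lib.Helper14.DiagHom2 Groth.Agent.Lib.Helper14.DiagHom3
  Groth.Agent.Lib.Helper14.DiagHom4 Groth.Agent.Lib.Helper14.ModelQuot
  Groth.Agent.Lib.Helper14.BCGrp Groth.Agent.Lib.Helper14.MultNilGlobal
  Groth.Agent.Lib.Helper14.TorusQuot Groth.Agent.Lib.Helper14.DiagHomG3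

theorem local_kernel {S S' : Scheme.{u}} (f : S' ⟶ S) {G H K : Over S} [GrpObj G] [GrpObj H]
    [GrpObj K] (u : G ⟶ H) [IsMonHom u] (k : K ⟶ G) [IsMonHom k] (hk : AlgGrp.IsKernel k u)
    (s' : S') (U₀ : S'.Opens) (hs' : s' ∈ U₀) (M N : Type) [AddCommGroup M] [AddCommGroup N]
    [AddGroup.FG M] [AddGroup.FG N]
    (eG₀ : Grp.mk (Red.bc (U₀.ι ≫ f) G) ≅ Grp.mk (Red.DS U₀ M))
    (eH₀ : Grp.mk (Red.bc (U₀.ι ≫ f) H) ≅ Grp.mk (Red.DS U₀ N)) :
    ∃ O : S'.Opens, s' ∈ O ∧ ∃ (C : Type) (_ : AddCommGroup C), AddGroup.FG C ∧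
      Nonempty (Grp.mk (Red.bc (O.ι ≫ f) K) ≅ Grp.mk (Red.DS O C)) := by
  obtain ⟨U₁, hU₁, hs'U₁, hU₁le⟩ := exists_affine_nbhd S' U₀ s' hs'
  let v : Spec Γ(S', U₁) ⟶ S := hU₁.fromSpec ≫ f
  have hrU : Set.range hU₁.fromSpec.base ⊆ Set.range U₀.ι.base := by
    rw [hU₁.range_fromSpec, Scheme.Opens.range_ι]
    exact fun z hz => hU₁le hz
  let w : Spec Γ(S', U₁) ⟶ (U₀ : Scheme.{u}) := IsOpenImmersion.lift U₀.ι hU₁.fromSpec hrU
  have hw : w ≫ U₀.ι = hU₁.fromSpec := IsOpenImmersion.lift_fac _ _ _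
  have hvw : v = w ≫ U₀.ι ≫ f := by rw [← Category.assoc, hw]
  let eG : Grp.mk (Red.bc v G) ≅ Grp.mk (Red.DS (Spec Γ(S', U₁)) M) :=
    bcGrpIsoOfEq hvw G ≪≫ diagBC w (U₀.ι ≫ f) G M eG₀
  let eH : Grp.mk (Red.bc v H) ≅ Grp.mk (Red.DS (Spec Γ(S', U₁)) N) :=
    bcGrpIsoOfEq hvw H ≪≫ diagBC w (U₀.ι ≫ f) H N eH₀
  let uR : Red.bc v G ⟶ Red.bc v H := (Over.pullback v).map u
  haveI : IsMonHom uR := Functor.map.instIsMonHom _ _ _
  let kR : Red.bc v K ⟶ Red.bc v G := (Over.pullback v).map k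
  haveI : IsMonHom kR := Functor.map.instIsMonHom _ _ _
  let 𝔭 : PrimeSpectrum Γ(S', U₁) := hU₁.primeIdealOf ⟨s', hs'U₁⟩
  have h𝔭 : hU₁.fromSpec 𝔭 = s' := hU₁.fromSpec_primeIdealOf ⟨s', hs'U₁⟩
  obtain ⟨h, φ, hh, hloc⟩ := local_DSmap (R := Γ(S', U₁)) eG eH uR 𝔭.asIdeal
  let Rh := Localization.Away h
  let kh : Spec (CommRingCat.of Rh) ⟶ Spec Γ(S', U₁) := kk Γ(S', U₁) Rh
  haveI : IsOpenImmersion kh :=
    inferInstanceAs (IsOpenImmersion (Spec.map (CommRingCat.ofHom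
      (algebraMap Γ(S', U₁) (Localization.Away h)))))
  let j : Spec (CommRingCat.of Rh) ⟶ S' := kh ≫ hU₁.fromSpec
  have hunit : IsUnit (algebraMap Γ(S', U₁) Rh h) := IsLocalization.Away.algebraMap_isUnit h
  have hkrange : Set.range kh.base = (PrimeSpectrum.basicOpen h : Set (PrimeSpectrum Γ(S', U₁))) :=
    PrimeSpectrum.localization_away_comap_range (Localization.Away h) h
  have h1 : 𝔭 ∈ Set.range kh.base := by
    rw [hkrange]
    exact hh
  obtain ⟨t₀, ht₀⟩ := h1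
  obtain ⟨heq, -⟩ := hloc Rh hunit
  have hkB : AlgGrp.IsKernel ((Over.pullback kh).map kR) ((Over.pullback kh).map uR) :=
    isKernel_bc kh kR uR (isKernel_bc v k u hk)
  haveI : IsMonHom ((Over.pullback kh).map kR) := Functor.map.instIsMonHom _ _ _
  haveI : IsMonHom ((Over.pullback kh).map uR) := Functor.map.instIsMonHom _ _ _
  let ψ : N →+ M := phiAdd φ
  let C := M ⧸ ψ.range
  have hfgC : AddGroup.FG C :=
    AddGroup.fg_of_surjective (f := QuotientAddGroup.mk' ψ.range)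
      (QuotientAddGroup.mk'_surjective _)
  haveI : IsMonHom (ei (bcDiag (R₁ := Rh) eG)) :=
    inferInstanceAs (IsMonHom (bcDiag (R₁ := Rh) eG).inv.hom.hom)
  haveI : IsMonHom (ei (bcDiag (R₁ := Rh) eH)) :=
    inferInstanceAs (IsMonHom (bcDiag (R₁ := Rh) eH).inv.hom.hom)
  haveI : IsMonHom (Red.DSmap (Spec (CommRingCat.of Rh)) (QuotientAddGroup.mk' ψ.range)) :=
    Groth.Agent.Lib.helper15.DSMap.isMonHom_DSmap _ _
  have hmodel : AlgGrp.IsKernel
      (Red.DSmap (Spec (CommRingCat.of Rh)) (QuotientAddGroup.mk' ψ.range) ≫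
        ei (bcDiag (R₁ := Rh) eG)) ((Over.pullback kh).map uR) := by
    refine isKernel_of_conj (Red.DSmap (Spec (CommRingCat.of Rh)) (QuotientAddGroup.mk' ψ.range))
      (Red.DSmap (Spec (CommRingCat.of Rh)) ψ) (model_isKernel ψ)
      (eh (bcDiag (R₁ := Rh) eG)) (ei (bcDiag (R₁ := Rh) eG)) (eh_ei _) (ei_eh _)
      (ei (bcDiag (R₁ := Rh) eH)) (eh (bcDiag (R₁ := Rh) eH)) (ei_eh _) _ heq
  obtain ⟨eK⟩ := exists_grpIso_of_isKernel ((Over.pullback kh).map uR)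
    ((Over.pullback kh).map kR) (Red.DSmap (Spec (CommRingCat.of Rh))
      (QuotientAddGroup.mk' ψ.range) ≫ ei (bcDiag (R₁ := Rh) eG)) hkB hmodel
  refine ⟨j.opensRange, ?_, C, inferInstance, hfgC, ⟨?_⟩⟩
  · refine ⟨t₀, ?_⟩
    rw [Scheme.Hom.comp_base, TopCat.comp_app]
    rw [show kh.base t₀ = 𝔭 from ht₀]
    exact h𝔭
  · let w' : (j.opensRange : Scheme.{u}) ⟶ Spec (CommRingCat.of Rh) := j.isoOpensRange.inv
    have hw' : w' ≫ j = j.opensRange.ι := Scheme.Hom.isoOpensRange_inv_comp j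
    have heq' : j.opensRange.ι ≫ f = w' ≫ (kh ≫ v) := by
      rw [← hw']
      simp only [Category.assoc, j, v]
    let e' : Grp.mk (Red.bc (kh ≫ v) K) ≅ Grp.mk (Red.DS (Spec (CommRingCat.of Rh)) C) :=
      bcCompGrpIso kh v K ≪≫ eK
    exact bcGrpIsoOfEq heq' K ≪≫ diagBC w' (kh ≫ v) K C e'

/-- **The kernel of a homomorphism of groups of multiplicative type of finite type is of
multiplicative type of finite type.** -/
theorem isMultTypeFT_kernel {S : Scheme.{u}} {G H K : Over S} [GrpObj G] [GrpObj H] [GrpObj K]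
    (hG : SGA3x.IsMultTypeFT G) (hH : SGA3x.IsMultTypeFT H) (u : G ⟶ H) [IsMonHom u]
    (k : K ⟶ G) [IsMonHom k] (hk : AlgGrp.IsKernel k u) : SGA3x.IsMultTypeFT K := by
  obtain ⟨S', f, hfl, hsurj, hcov, hloc⟩ := exists_common_cover' hG hH
  refine ⟨S', f, hfl, hsurj, hcov, fun s' => ?_⟩
  obtain ⟨U₀, hs', M, N, _, _, hfgM, hfgN, ⟨eG₀⟩, ⟨eH₀⟩⟩ := hloc s'
  haveI := hfgM
  haveI := hfgN
  obtain ⟨O, hO, C, instC, hfgC, hiso⟩ := local_kernel f u k hk s' U₀ hs' M N eG₀ eH₀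
  exact ⟨O, hO, C, instC, hfgC, hiso⟩

end

end Groth.Agent.Lib.Helper14.KerMT
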