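import Mathlib
import Groth.Prelude.Def_AlgGrp
import Groth.Prelude.Def_Red
import Groth.Prelude.Def_Red2
import Groth.Prelude.Def_RedSub
import Groth.Prelude.Def_SGA3x
import Groth.Agent.Lib.Helper14.TrivLoc2
import Groth.Agent.Lib.Helper14.BCNat
import Groth.Agent.Lib.Helper14.TorusQuot2
import Groth.Agent.Lib.Helper14.SplitQuot1
import Groth.Agent.Lib.Helper14.KerMT1

/-!
# helper14: quotient of a split torus by a subgroup of multiplicative type: analysis at a point of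
the fpqc covering, second form (the kernel of the model projection dies in the quotient)
-/

set_option autoImplicit false
universe u
open CategoryTheory CategoryTheory.Limits AlgebraicGeometry MonoidalCategory
  CartesianMonoidalCategory MonObj

namespace Groth.Agent.Lib.Helper14.LocSplit

noncomputable section

open Groth.Agent.Lib.Helper14.MultNilAff Groth.Agent.Lib.Helper14.DiagHom1
  Groth.Agent.Lib.Helper14.DiagHom2 Groth.Agent.Lib.Helper14.DiagHom3
  Groth.Agent.Lib.Helper14.DiagHom4 Groth.Agent.Lib.Helper14.ModelQuot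
  Groth.Agent.Lib.Helper14.QuotUnique Groth.Agent.Lib.Helper14.QuotBC
  Groth.Agent.Lib.Helper14.BCGrp Groth.Agent.Lib.Helper14.MultNilGlobal
  Groth.Agent.Lib.Helper14.TorusQuot Groth.Agent.Lib.Helper14.TrivLoc
  Groth.Agent.Lib.Helper14.BCNat Groth.Agent.Lib.Helper14.MaxSplit
  Groth.Agent.Lib.Helper14.DiagHomG1 Groth.Agent.Lib.Helper14.DiagHomG2
  Groth.Agent.Lib.Helper14.GrpQuot Groth.Agent.Lib.Helper14.KerMT
  Groth.Agent.Lib.Helper14.KerPullback

theorem point_analysis2 {S S' : Scheme.{u}} (f : S' ⟶ S) {T H Q : Over S} [GrpObj T] [GrpObj H]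
    [GrpObj Q] (r : ℕ) (eT : Grp.mk T ≅ Grp.mk (Red.DS S (Fin r → ℤ)))
    (i : H ⟶ T) [IsMonHom i] [Mono i] (q : T ⟶ Q) [IsMonHom q] (hq : RedSub.IsQuotient i q)
    (s' : S') (U₀ : S'.Opens) (hs' : s' ∈ U₀) (N : Type) [AddCommGroup N]
    (eH₀ : Grp.mk (Red.bc (U₀.ι ≫ f) H) ≅ Grp.mk (Red.DS U₀ N)) :
    ∃ (r' : ℕ) (jK : (Fin r' → ℤ) →+ (Fin r → ℤ)), r' ≤ r ∧ Function.Injective jK ∧
      PT (i ≫ eT.hom.hom.hom ≫ Red.DSmap S jK) (S'.fromSpecResidueField s' ≫ f) ∧
      ∀ (K' : Over S) (k' : K' ⟶ T), AlgGrp.IsKernel k' (eT.hom.hom.hom ≫ Red.DSmap S jK) →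
        PT (k' ≫ q) (S'.fromSpecResidueField s' ≫ f) := by
  obtain ⟨U₁, hU₁, hs'U₁, hU₁le⟩ := exists_affine_nbhd S' U₀ s' hs'
  let v : Spec Γ(S', U₁) ⟶ S := hU₁.fromSpec ≫ f
  have hrU : Set.range hU₁.fromSpec.base ⊆ Set.range U₀.ι.base := by
    rw [hU₁.range_fromSpec, Scheme.Opens.range_ι]
    exact fun z hz => hU₁le hz
  let w : Spec Γ(S', U₁) ⟶ (U₀ : Scheme.{u}) := IsOpenImmersion.lift U₀.ι hU₁.fromSpec hrU
  have hw : w ≫ U₀.ι = hU₁.fromSpec := IsOpenImmersion.lift_fac _ _ _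
  have hvw : v = w ≫ U₀.ι ≫ f := by rw [← Category.assoc, hw]
  let eTR : Grp.mk (Red.bc v T) ≅ Grp.mk (Red.DS (Spec Γ(S', U₁)) (Fin r → ℤ)) :=
    splitBC v (Fin r → ℤ) eT
  let eHR : Grp.mk (Red.bc v H) ≅ Grp.mk (Red.DS (Spec Γ(S', U₁)) N) :=
    bcGrpIsoOfEq hvw H ≪≫ diagBC w (U₀.ι ≫ f) H N eH₀
  let iR : Red.bc v H ⟶ Red.bc v T := (Over.pullback v).map i
  haveI : IsMonHom iR := Functor.map.instIsMonHom _ _ _
  haveI : AddGroup.FG (Fin r → ℤ) := Module.Finite.iff_addGroup_fg.mp inferInstance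
  let 𝔭 : PrimeSpectrum Γ(S', U₁) := hU₁.primeIdealOf ⟨s', hs'U₁⟩
  have h𝔭 : hU₁.fromSpec 𝔭 = s' := hU₁.fromSpec_primeIdealOf ⟨s', hs'U₁⟩
  obtain ⟨h, φ, hh, hloc⟩ := local_DSmap (R := Γ(S', U₁)) eHR eTR iR 𝔭.asIdeal
  let Rh := Localization.Away h
  let kh : Spec (CommRingCat.of Rh) ⟶ Spec Γ(S', U₁) := kk Γ(S', U₁) Rh
  haveI : IsOpenImmersion kh :=
    inferInstanceAs (IsOpenImmersion (Spec.map (CommRingCat.ofHom
      (algebraMap Γ(S', U₁) (Localization.Away h)))))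
  let j : Spec (CommRingCat.of Rh) ⟶ S' := kh ≫ hU₁.fromSpec
  have hunit : IsUnit (algebraMap Γ(S', U₁) Rh h) := IsLocalization.Away.algebraMap_isUnit h
  have hkrange : Set.range kh.base = (PrimeSpectrum.basicOpen h : Set (PrimeSpectrum Γ(S', U₁))) :=
    PrimeSpectrum.localization_away_comap_range (Localization.Away h) h
  have hs'O : s' ∈ Set.range j.base := by
    have h1 : 𝔭 ∈ Set.range kh.base := by
      rw [hkrange]
      exact hh
    obtain ⟨t₀, ht₀⟩ := h1
    refine ⟨t₀, ?_⟩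
    rw [Scheme.Hom.comp_base, TopCat.comp_app]
    rw [show kh.base t₀ = 𝔭 from ht₀]
    exact h𝔭
  -- the residue field of `s'` as an algebra over `Γ(S', U₁)` in which `h` is invertible
  let κ := S'.residueField s'
  have hr : Set.range (S'.fromSpecResidueField s').base ⊆ Set.range j.base := by
    rw [Scheme.range_fromSpecResidueField]
    rintro _ rfl
    exact hs'O
  let l' : Spec κ ⟶ Spec (CommRingCat.of Rh) :=
    IsOpenImmersion.lift j (S'.fromSpecResidueField s') hr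
  have hl' : l' ≫ j = S'.fromSpecResidueField s' := IsOpenImmersion.lift_fac _ _ _
  let ρ' : Rh →+* κ := (Spec.preimage l').hom
  have hρ' : Spec.map (CommRingCat.ofHom ρ') = l' := by
    rw [CommRingCat.ofHom_hom]
    exact Spec.map_preimage l'
  letI : Algebra Γ(S', U₁) κ := (ρ'.comp (algebraMap Γ(S', U₁) Rh)).toAlgebra
  have hk : kk Γ(S', U₁) κ = l' ≫ kh := by
    rw [← hρ']
    show Spec.map (CommRingCat.ofHom (ρ'.comp (algebraMap Γ(S', U₁) Rh))) =
      Spec.map (CommRingCat.ofHom ρ') ≫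
        Spec.map (CommRingCat.ofHom (algebraMap Γ(S', U₁) Rh))
    rw [← Spec.map_comp]
    rfl
  have hunit' : IsUnit (algebraMap Γ(S', U₁) κ h) := hunit.map ρ'
  have hkv : kk Γ(S', U₁) κ ≫ v = S'.fromSpecResidueField s' ≫ f := by
    rw [hk, ← hl']
    simp only [Category.assoc, j, v]
  obtain ⟨heq, hsurj'⟩ := hloc κ hunit'
  haveI : Mono iR := inferInstance
  haveI : Mono ((Over.pullback (kk Γ(S', U₁) κ)).map iR) := inferInstance
  have hmono : Mono ((Over.pullback (kk Γ(S', U₁) κ)).map iR).left := inferInstance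
  have hsurj : Function.Surjective φ := hsurj' inferInstance hmono
  have hψ : Function.Surjective (phiAdd φ) := phiAdd_surjective φ hsurj
  obtain ⟨r', jK, hle, hinj, hex⟩ := exists_kernel_basis r (phiAdd φ)
  refine ⟨r', jK, hle, hinj, ?_, ?_⟩
  all_goals
    let eD : Grp.mk (Red.DS S (Fin r' → ℤ)) ≅ Grp.mk (Red.DS S (Fin r' → ℤ)) := Iso.refl _
    have hπ : (eT.hom.hom.hom ≫ Red.DSmap S jK) ≫ eD.hom.hom.hom =
        eT.hom.hom.hom ≫ Red.DSmap S jK := Category.comp_id _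
    have h1 := splitBC_natural v eT eD (eT.hom.hom.hom ≫ Red.DSmap S jK) jK hπ
    have h2 := splitBC_natural (kk Γ(S', U₁) κ) (splitBC v (Fin r → ℤ) eT)
      (splitBC v (Fin r' → ℤ) eD) ((Over.pullback v).map (eT.hom.hom.hom ≫ Red.DSmap S jK)) jK h1
    let eDB : Grp.mk (Red.bc (kk Γ(S', U₁) κ) (Red.bc v (Red.DS S (Fin r' → ℤ)))) ≅
        Grp.mk (Red.DS (Spec (CommRingCat.of κ)) (Fin r' → ℤ)) :=
      splitBC (kk Γ(S', U₁) κ) (Fin r' → ℤ) (splitBC v (Fin r' → ℤ) eD)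
    have h2' : (Over.pullback (kk Γ(S', U₁) κ)).map
          ((Over.pullback v).map (eT.hom.hom.hom ≫ Red.DSmap S jK)) ≫ eh eDB =
        eh (bcDiag (R₁ := κ) eTR) ≫ Red.DSmap _ jK := h2
    have heq' : (Over.pullback (kk Γ(S', U₁) κ)).map ((Over.pullback v).map i) =
        eh (bcDiag (R₁ := κ) eHR) ≫ Red.DSmap _ (phiAdd φ) ≫ ei (bcDiag (R₁ := κ) eTR) := heq
  · rw [← hkv, PT_comp_iff, PT_iff_map_eq_one]
    haveI : IsMonHom (eh eDB) := inferInstance
    haveI : IsIso (eh eDB) := isIso_eh eDB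
    rw [← cancel_mono (eh eDB)]
    have e0 : (1 : Red.bc (kk Γ(S', U₁) κ) (Red.bc v H) ⟶
        Red.bc (kk Γ(S', U₁) κ) (Red.bc v (Red.DS S (Fin r' → ℤ)))) ≫ eh eDB = 1 :=
      MonObj.one_comp _
    have e1 : Red.DSmap (Spec (CommRingCat.of κ)) (phiAdd φ) ≫
        Red.DSmap (Spec (CommRingCat.of κ)) jK = 1 := by
      rw [← DSmap_comp]
      have h0 : (phiAdd φ).comp jK = 0 := by
        apply AddMonoidHom.ext
        intro x
        exact (hex _).mpr ⟨x, rfl⟩
      rw [h0, DSmap_zero]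
    rw [e0, Functor.map_comp, Functor.map_comp, Category.assoc, h2', heq']
    simp only [Category.assoc]
    rw [← Category.assoc (ei (bcDiag (R₁ := κ) eTR)) (eh (bcDiag (R₁ := κ) eTR)), ei_eh,
      Category.id_comp, e1, MonObj.comp_one]
  · intro K' k' hk'
    rw [← hkv, PT_comp_iff, PT_iff_map_eq_one]
    -- the base change of `k'` is killed by the base change of the projection
    have hkB : AlgGrp.IsKernel ((Over.pullback (kk Γ(S', U₁) κ)).map ((Over.pullback v).map k'))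
        ((Over.pullback (kk Γ(S', U₁) κ)).map
          ((Over.pullback v).map (eT.hom.hom.hom ≫ Red.DSmap S jK))) :=
      isKernel_bc _ _ _ (isKernel_bc v k' _ hk')
    have h3 : ((Over.pullback (kk Γ(S', U₁) κ)).map ((Over.pullback v).map k') ≫
        eh (bcDiag (R₁ := κ) eTR)) ≫ Red.DSmap _ jK = 1 := by
      rw [Category.assoc, ← h2', ← Category.assoc]
      have h4 := comp_eq_one_of_isKernel _ _ hkB (𝟙 _)
      rw [Category.id_comp] at h4
      rw [h4]
      exact MonObj.one_comp _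
    obtain ⟨z, hz⟩ := model_exists jK (phiAdd φ) hψ hex _ h3
    have h5 : (Over.pullback (kk Γ(S', U₁) κ)).map ((Over.pullback v).map k') =
        (z ≫ ei (bcDiag (R₁ := κ) eHR)) ≫
          (Over.pullback (kk Γ(S', U₁) κ)).map ((Over.pullback v).map i) := by
      rw [heq']
      simp only [Category.assoc]
      rw [← Category.assoc (ei (bcDiag (R₁ := κ) eHR)) (eh (bcDiag (R₁ := κ) eHR)), ei_eh,
        Category.id_comp, ← Category.assoc z, hz]
      simp only [Category.assoc, eh_ei, Category.comp_id]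
    have h6 : i ≫ q = 1 := comp_eq_one i q hq.2.2.2
    rw [Functor.map_comp, Functor.map_comp, h5, Category.assoc, ← Functor.map_comp,
      ← Functor.map_comp, h6, pullback_map_one, pullback_map_one, MonObj.comp_one]

end

end Groth.Agent.Lib.Helper14.LocSplit
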