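import Mathlib
import Groth.Prelude.Def_AlgGrp
import Groth.Prelude.Def_Red
import Groth.Prelude.Def_Red2
import Groth.Prelude.Def_RedSub
import Groth.Prelude.Def_SGA3x
import Groth.Agent.Lib.Helper14.SplitQuot1
import Groth.Agent.Lib.Helper14.MaxSplit2

/-!
# helper14: over a connected base, the quotient of a split torus by a subgroup of multiplicative
type is a split torus
-/

set_option autoImplicit false
universe u
open CategoryTheory CategoryTheory.Limits AlgebraicGeometry MonoidalCategory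
  CartesianMonoidalCategory MonObj

namespace Groth.Agent.Lib.Helper14.SplitQuot

noncomputable section

open Groth.Agent.Lib.Helper14.TrivLoc Groth.Agent.Lib.Helper14.MaxSplit
  Groth.Agent.Lib.Helper14.DiagHomG1 Groth.Agent.Lib.Helper14.DiagHomG2
  Groth.Agent.Lib.Helper14.DiagHomG4 Groth.Agent.Lib.Helper14.DiagHomG5
  Groth.Agent.Lib.Helper14.GrpQuot Groth.Agent.Lib.Helper14.TorusMonoIso
  Groth.Agent.Lib.Helper14.TorusQuot

theorem opens_eq_top_of_clopen {S : Scheme.{u}} [ConnectedSpace ↥S] (Z : S.Opens)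
    (hZ : IsClosed (Z : Set S)) (s : S) (hs : s ∈ Z) : Z = ⊤ := by
  have h1 : IsClopen (Z : Set S) := ⟨hZ, Z.2⟩
  have h2 : (Z : Set S) = Set.univ := h1.eq_univ ⟨s, hs⟩
  exact TopologicalSpace.Opens.ext h2

theorem split_of_connected {S : Scheme.{u}} [ConnectedSpace ↥S]
    {T H Q : Over S} [GrpObj T] [GrpObj H] [GrpObj Q] (r : ℕ)
    (hT : Red.IsSplitTorusWith (Fin r → ℤ) T)
    (i : H ⟶ T) [IsMonHom i] [Mono i] (hH : SGA3x.IsMultTypeFT H) (q : T ⟶ Q) [IsMonHom q]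
    (hq : RedSub.IsQuotient i q) : ∃ r' : ℕ, r' ≤ r ∧ Red.IsSplitTorusWith (Fin r' → ℤ) Q := by
  obtain ⟨eT⟩ := hT
  have hH' := hH
  obtain ⟨S', f, hfl, hsurj, hcov, hloc⟩ := hH'
  haveI := hfl
  haveI := hsurj
  obtain ⟨s₀⟩ : Nonempty ↥S := inferInstance
  obtain ⟨s', hs'⟩ := hsurj.surj s₀
  obtain ⟨U₀, hU₀, N, _, hfg, ⟨eH₀⟩⟩ := hloc s'
  obtain ⟨r', jK, hle, hPT, hiso⟩ := point_analysis f r eT i q hq s' U₀ hU₀ N eH₀
  haveI : IsMonHom eT.hom.hom.hom := inferInstance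
  haveI : IsMonHom (eT.hom.hom.hom ≫ Red.DSmap S jK) := inferInstance
  haveI : IsMonHom (i ≫ eT.hom.hom.hom ≫ Red.DSmap S jK) := inferInstance
  have hD : SGA3x.IsMultTypeFT (Red.DS S (Fin r' → ℤ)) :=
    isMultTypeFT_of_isTorus (isTorus_of_split r' ⟨Iso.refl _⟩)
  -- the composite `H ⟶ T ⟶ D(ℤ^r')` is trivial
  obtain ⟨Z, hZc, hZiff, hZ1⟩ := trivial_locus H (Red.DS S (Fin r' → ℤ)) hH hD
    (i ≫ eT.hom.hom.hom ≫ Red.DSmap S jK)
  have hs₀ : s₀ ∈ Z := by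
    rw [hZiff, ← PT_iff_map_eq_one]
    have h1 := (Groth.Agent.Lib.Helper14.AbsMain.fibre_iff
      (fun {X} g => PT (i ≫ eT.hom.hom.hom ≫ Red.DSmap S jK) g)
      (fun g k h => PT.comp g k h) (fun g k hk h => PT.desc g k hk h) f s').mp hPT
    rw [hs'] at h1
    exact h1
  have hZtop : Z = ⊤ := opens_eq_top_of_clopen Z hZc s₀ hs₀
  have hu : i ≫ eT.hom.hom.hom ≫ Red.DSmap S jK = 1 := by
    subst hZtop
    have h1 : PT (i ≫ eT.hom.hom.hom ≫ Red.DSmap S jK) ((⊤ : S.Opens).ι) :=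
      (PT_iff_map_eq_one _).mpr hZ1
    haveI : IsIso (⊤ : S.Opens).ι := inferInstanceAs (IsIso S.topIso.hom)
    have h2 : PT (i ≫ eT.hom.hom.hom ≫ Red.DSmap S jK) (𝟙 S) := by
      apply PT.desc (𝟙 S) (⊤ : S.Opens).ι (qfpqc_of_isIso _)
      rw [Category.comp_id]
      exact h1
    have h3 := h2 H H.hom (Category.comp_id _) (𝟙 H)
    rwa [Category.id_comp] at h3
  -- the induced homomorphism `Q ⟶ D(ℤ^r')`
  have hq' := hq
  obtain ⟨a1, a2, a3, hk⟩ := hq'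
  have hfp : IsFppf q := ⟨a1, a2, a3⟩
  haveI : EffectiveEpi q := hfp.effectiveEpi
  haveI : EffectiveEpi (q ⊗ₘ q) := (hfp.tensorHom hfp).effectiveEpi
  obtain ⟨g, ⟨hg, hgm⟩, -⟩ := existsUnique_hom_desc i q hk
    (eT.hom.hom.hom ≫ Red.DSmap S jK) hu
  haveI := hgm
  have hQ : SGA3x.IsMultTypeFT Q :=
    isMultTypeFT_of_isTorus (isTorus_quot (isTorus_of_split r ⟨eT⟩) i hH q hq)
  obtain ⟨Z', hZ'c, hZ'iff, hZ'1⟩ := main (MorphismProperty.isomorphisms Scheme.{u}) hLoc_iso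
    Q (Red.DS S (Fin r' → ℤ)) hQ hD g
  have hs₀' : s₀ ∈ Z' := by
    rw [hZ'iff]
    have h1 := (PAt_fibre_iff (MorphismProperty.isomorphisms Scheme.{u}) f g s').mp
      (hiso g hgm hg)
    rw [hs'] at h1
    exact h1
  have hZ'top : Z' = ⊤ := opens_eq_top_of_clopen Z' hZ'c s₀ hs₀'
  subst hZ'top
  haveI : IsIso (⊤ : S.Opens).ι := inferInstanceAs (IsIso S.topIso.hom)
  have h2 : PAt (MorphismProperty.isomorphisms Scheme.{u}) g ((⊤ : S.Opens).ι ≫ 𝟙 S) := by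
    rw [Category.comp_id]; exact hZ'1
  haveI : IsIso g := isIso_of_PAt_id g (PAt.of_comp _ (qfpqc_of_isIso _) h2)
  exact ⟨r', hle, ⟨Grp.mkIso' (asIso g)⟩⟩

end

end Groth.Agent.Lib.Helper14.SplitQuot
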