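import Mathlib
import Groth.Prelude.Def_AlgGrp
import Groth.Prelude.Def_Red
import Groth.Prelude.Def_Red2
import Groth.Prelude.Def_RedSub
import Groth.Prelude.Def_SGA3x
import Groth.Agent.Lib.Helper14.LocSplit1
import Groth.Agent.Lib.Helper14.SplitQuot2
import Groth.Agent.Lib.Helper14.KerMT2

/-!
# helper14: the quotient of a split torus by a subgroup of multiplicative type is split in a
neighbourhood of every point of the base (no connectedness assumption)
-/

set_option autoImplicit false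
universe u
open CategoryTheory CategoryTheory.Limits AlgebraicGeometry MonoidalCategory
  CartesianMonoidalCategory MonObj

namespace Groth.Agent.Lib.Helper14.LocSplit

noncomputable section

open Groth.Agent.Lib.Helper14.TrivLoc Groth.Agent.Lib.Helper14.MaxSplit
  Groth.Agent.Lib.Helper14.DiagHomG1 Groth.Agent.Lib.Helper14.DiagHomG2
  Groth.Agent.Lib.Helper14.GrpQuot Groth.Agent.Lib.Helper14.TorusMonoIso
  Groth.Agent.Lib.Helper14.TorusQuot Groth.Agent.Lib.Helper14.KerMT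
  Groth.Agent.Lib.Helper14.KerPullback Groth.Agent.Lib.Helper14.ModelQuot
  Groth.Agent.Lib.Helper14.QuotBC Groth.Agent.Lib.Helper14.BCGrp

theorem local_split {S : Scheme.{u}} {T H Q : Over S} [GrpObj T] [GrpObj H] [GrpObj Q] (r : ℕ)
    (hT : Red.IsSplitTorusWith (Fin r → ℤ) T)
    (i : H ⟶ T) [IsMonHom i] [Mono i] (hH : SGA3x.IsMultTypeFT H) (q : T ⟶ Q) [IsMonHom q]
    (hq : RedSub.IsQuotient i q) (s₀ : S) :
    ∃ V : S.Opens, s₀ ∈ V ∧ ∃ r' : ℕ, r' ≤ r ∧
      Red.IsSplitTorusWith (Fin r' → ℤ) (Red.bc V.ι Q) := by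
  obtain ⟨eT⟩ := hT
  have hH' := hH
  obtain ⟨S', f, hfl, hsurj, hcov, hloc⟩ := hH'
  haveI := hfl
  haveI := hsurj
  obtain ⟨s', hs'⟩ := hsurj.surj s₀
  obtain ⟨U₀, hU₀, N, _, hfg, ⟨eH₀⟩⟩ := hloc s'
  obtain ⟨r', jK, hle, hinj, hPTu, hPTw⟩ := point_analysis2 f r eT i q hq s' U₀ hU₀ N eH₀
  haveI : IsMonHom eT.hom.hom.hom := inferInstance
  haveI : IsMonHom (Red.DSmap S jK) := Groth.Agent.Lib.helper15.DSMap.isMonHom_DSmap _ _
  let π : T ⟶ Red.DS S (Fin r' → ℤ) := eT.hom.hom.hom ≫ Red.DSmap S jK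
  haveI : IsMonHom π := inferInstanceAs (IsMonHom (eT.hom.hom.hom ≫ Red.DSmap S jK))
  have hTt : Red.IsTorus T := isTorus_of_split r ⟨eT⟩
  have hTm : SGA3x.IsMultTypeFT T := isMultTypeFT_of_isTorus hTt
  have hD : SGA3x.IsMultTypeFT (Red.DS S (Fin r' → ℤ)) :=
    isMultTypeFT_of_isTorus (isTorus_of_split r' ⟨Iso.refl _⟩)
  have hQ : SGA3x.IsMultTypeFT Q := isMultTypeFT_of_isTorus (isTorus_quot hTt i hH q hq)
  obtain ⟨K', instK', k', hk'm, hk'mono, hk'⟩ := exists_kernel_grp π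
  haveI := hk'm
  haveI := hk'mono
  have hK' : SGA3x.IsMultTypeFT K' := isMultTypeFT_kernel hTm hD π k' hk'
  haveI : IsMonHom (i ≫ π) := inferInstance
  haveI : IsMonHom (k' ≫ q) := inferInstance
  -- the two trivial loci
  obtain ⟨Zu, -, hZuiff, hZu1⟩ := trivial_locus H (Red.DS S (Fin r' → ℤ)) hH hD (i ≫ π)
  obtain ⟨Zw, -, hZwiff, hZw1⟩ := trivial_locus K' Q hK' hQ (k' ≫ q)
  have hs₀u : s₀ ∈ Zu := by
    rw [hZuiff, ← PT_iff_map_eq_one]
    have h1 := (Groth.Agent.Lib.Helper14.AbsMain.fibre_iff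
      (fun {X} g => PT (i ≫ π) g)
      (fun g k h => PT.comp g k h) (fun g k hk h => PT.desc g k hk h) f s').mp hPTu
    rw [hs'] at h1
    exact h1
  have hs₀w : s₀ ∈ Zw := by
    rw [hZwiff, ← PT_iff_map_eq_one]
    have h1 := (Groth.Agent.Lib.Helper14.AbsMain.fibre_iff
      (fun {X} g => PT (k' ≫ q) g)
      (fun g k h => PT.comp g k h) (fun g k hk h => PT.desc g k hk h) f s').mp (hPTw K' k' hk')
    rw [hs'] at h1
    exact h1
  let V : S.Opens := Zu ⊓ Zw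
  refine ⟨V, ⟨hs₀u, hs₀w⟩, r', hle, ?_⟩
  -- triviality over `V`
  have hVu : V.ι = S.homOfLE (inf_le_left : V ≤ Zu) ≫ Zu.ι := (Scheme.homOfLE_ι S _).symm
  have hVw : V.ι = S.homOfLE (inf_le_right : V ≤ Zw) ≫ Zw.ι := (Scheme.homOfLE_ι S _).symm
  have hu1 : (Over.pullback V.ι).map (i ≫ π) = 1 := by
    rw [← PT_iff_map_eq_one, hVu]
    exact PT.comp _ _ ((PT_iff_map_eq_one _).mpr hZu1)
  have hw1 : (Over.pullback V.ι).map (k' ≫ q) = 1 := by
    rw [← PT_iff_map_eq_one, hVw]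
    exact PT.comp _ _ ((PT_iff_map_eq_one _).mpr hZw1)
  -- `π` is the quotient of `T` by `K'`
  haveI : AddGroup.FG (Fin r → ℤ) := Module.Finite.iff_addGroup_fg.mp inferInstance
  haveI : AddGroup.FG (Fin r' → ℤ) := Module.Finite.iff_addGroup_fg.mp inferInstance
  obtain ⟨c1, c2, c3⟩ := model_cover (S := S) jK hinj
  haveI : IsIso eT.hom.hom.hom :=
    ⟨eT.inv.hom.hom, congrArg (fun t => t.hom.hom) eT.hom_inv_id,
      congrArg (fun t => t.hom.hom) eT.inv_hom_id⟩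
  haveI : IsIso eT.hom.hom.hom.left := (Over.forget _).map_isIso eT.hom.hom.hom
  have hπq : RedSub.IsQuotient k' π := by
    refine ⟨?_, ?_, ?_, isPullback_of_isKernel k' π hk'⟩
    · show Surjective (eT.hom.hom.hom.left ≫ (Red.DSmap S jK).left)
      haveI := c2
      infer_instance
    · show Flat (eT.hom.hom.hom.left ≫ (Red.DSmap S jK).left)
      haveI := c1
      infer_instance
    · show LocallyOfFinitePresentation (eT.hom.hom.hom.left ≫ (Red.DSmap S jK).left)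
      haveI := c3
      infer_instance
  -- base change to `V`
  let F := Over.pullback V.ι
  haveI : IsMonHom (F.map i) := Functor.map.instIsMonHom _ _ _
  haveI : IsMonHom (F.map q) := Functor.map.instIsMonHom _ _ _
  haveI : IsMonHom (F.map π) := Functor.map.instIsMonHom _ _ _
  haveI : IsMonHom (F.map k') := Functor.map.instIsMonHom _ _ _
  have hqV : RedSub.IsQuotient (F.map i) (F.map q) := isQuotient_bc V.ι i q hq
  have hπV : RedSub.IsQuotient (F.map k') (F.map π) := isQuotient_bc V.ι k' π hπq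
  have hu1' : F.map i ≫ F.map π = 1 := by rw [← Functor.map_comp]; exact hu1
  have hw1' : F.map k' ≫ F.map q = 1 := by rw [← Functor.map_comp]; exact hw1
  obtain ⟨a1, a2, a3, hkq⟩ := hqV
  obtain ⟨b1, b2, b3, hkπ⟩ := hπV
  have hfpq : IsFppf (F.map q) := ⟨a1, a2, a3⟩
  have hfpπ : IsFppf (F.map π) := ⟨b1, b2, b3⟩
  haveI : EffectiveEpi (F.map q) := hfpq.effectiveEpi
  haveI : EffectiveEpi (F.map q ⊗ₘ F.map q) := (hfpq.tensorHom hfpq).effectiveEpi
  haveI : EffectiveEpi (F.map π) := hfpπ.effectiveEpi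
  haveI : EffectiveEpi (F.map π ⊗ₘ F.map π) := (hfpπ.tensorHom hfpπ).effectiveEpi
  obtain ⟨g, ⟨hg, hgm⟩, -⟩ := existsUnique_hom_desc (F.map i) (F.map q) hkq (F.map π) hu1'
  obtain ⟨g', ⟨hg', hg'm⟩, -⟩ := existsUnique_hom_desc (F.map k') (F.map π) hkπ (F.map q) hw1'
  haveI := hgm
  have h1 : g ≫ g' = 𝟙 _ := by
    rw [← cancel_epi (F.map q), ← Category.assoc, hg, hg', Category.comp_id]
  have h2 : g' ≫ g = 𝟙 _ := by
    rw [← cancel_epi (F.map π), ← Category.assoc, hg', hg, Category.comp_id]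
  let e : Red.bc V.ι Q ≅ Red.bc V.ι (Red.DS S (Fin r' → ℤ)) := ⟨g, g', h1, h2⟩
  haveI : IsMonHom e.hom := hgm
  exact ⟨Grp.mkIso' e ≪≫ DSbcIso V.ι (Fin r' → ℤ)⟩

end

end Groth.Agent.Lib.Helper14.LocSplit
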