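import Mathlib
import Groth.Prelude.Def_AlgGrp
import Groth.Prelude.Def_Red
import Groth.Prelude.Def_SGA3x
import Groth.Agent.Lib.Helper14.BCGrp

/-!
# helper14: the restriction of a group of multiplicative type of finite type to an open subscheme of
the base is of multiplicative type of finite type
-/

set_option autoImplicit false
universe u
open CategoryTheory CategoryTheory.Limits AlgebraicGeometry MonoidalCategory
  CartesianMonoidalCategory MonObj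

namespace Groth.Agent.Lib.Helper14.MTRestrict

noncomputable section

open Groth.Agent.Lib.Helper14.BCGrp

theorem isMultTypeFT_restrict {S : Scheme.{u}} {H : Over S} [GrpObj H]
    (hH : SGA3x.IsMultTypeFT H) (V : S.Opens) : SGA3x.IsMultTypeFT (Red.bc V.ι H) := by
  obtain ⟨S', f, hfl, hsurj, hcov, hloc⟩ := hH
  haveI := hfl
  haveI := hsurj
  have hsq := isPullback_morphismRestrict f V
  have hflV : Flat (f ∣_ V) := MorphismProperty.of_isPullback (P := @Flat) hsq.flip hfl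
  have hsurjV : Surjective (f ∣_ V) :=
    MorphismProperty.of_isPullback (P := @Surjective) hsq.flip hsurj
  have hcomm : (f ⁻¹ᵁ V).ι ≫ f = (f ∣_ V) ≫ V.ι := hsq.w.symm
  have hpt : ∀ z : ↥(f ⁻¹ᵁ V : Scheme.{u}), V.ι ((f ∣_ V) z) = f ((f ⁻¹ᵁ V).ι z) := by
    intro z
    rw [← Scheme.Hom.comp_apply, ← hcomm, Scheme.Hom.comp_apply]
  refine ⟨(f ⁻¹ᵁ V : Scheme.{u}), f ∣_ V, hflV, hsurjV, ?_, ?_⟩
  · intro W₀ hW₀
    have hW₀' : IsAffineOpen (V.ι ''ᵁ W₀) := hW₀.image_of_isOpenImmersion V.ι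
    obtain ⟨W', hW'c, hW'V⟩ := hcov (V.ι ''ᵁ W₀) hW₀'
    have hW'sub : (W' : Set S') ⊆ Set.range (f ⁻¹ᵁ V).ι.base := by
      intro w hw
      rw [Scheme.Opens.range_ι]
      show f w ∈ V
      have h1 : f w ∈ f.base '' (W' : Set S') := ⟨w, hw, rfl⟩
      rw [hW'V] at h1
      obtain ⟨v, -, hv⟩ := h1
      rw [← hv]
      exact v.2
    refine ⟨(f ⁻¹ᵁ V).ι ⁻¹ᵁ W', ?_, ?_⟩
    · exact ((f ⁻¹ᵁ V).ι.isOpenEmbedding.isInducing.isCompact_preimage_iff hW'sub).mpr hW'c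
    · ext v
      constructor
      · rintro ⟨z, hz, rfl⟩
        have h1 : f ((f ⁻¹ᵁ V).ι z) ∈ f.base '' (W' : Set S') := ⟨_, hz, rfl⟩
        rw [hW'V] at h1
        obtain ⟨v', hv', hv'eq⟩ := h1
        have h2 : v' = (f ∣_ V) z := by
          apply V.ι.injective
          rw [hpt]
          exact hv'eq
        rw [← h2]
        exact hv'
      · intro hv
        have h1 : V.ι v ∈ f.base '' (W' : Set S') := by
          rw [hW'V]
          exact ⟨v, hv, rfl⟩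
        obtain ⟨w, hw, hwv⟩ := h1
        obtain ⟨z, hz⟩ := hW'sub hw
        refine ⟨z, ?_, ?_⟩
        · show (f ⁻¹ᵁ V).ι z ∈ W'
          rw [show (f ⁻¹ᵁ V).ι z = w from hz]
          exact hw
        · apply V.ι.injective
          rw [hpt, show (f ⁻¹ᵁ V).ι z = w from hz]
          exact hwv
  · intro z
    obtain ⟨U, hU, M, instM, hfg, ⟨e⟩⟩ := hloc ((f ⁻¹ᵁ V).ι z)
    let U' : (f ⁻¹ᵁ V : Scheme.{u}).Opens := (f ⁻¹ᵁ V).ι ⁻¹ᵁ U
    have hr : Set.range (U'.ι ≫ (f ⁻¹ᵁ V).ι).base ⊆ Set.range U.ι.base := by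
      rintro _ ⟨c, rfl⟩
      rw [Scheme.Opens.range_ι]
      exact c.2
    let w : (U' : Scheme.{u}) ⟶ (U : Scheme.{u}) :=
      IsOpenImmersion.lift U.ι (U'.ι ≫ (f ⁻¹ᵁ V).ι) hr
    have hw : w ≫ U.ι = U'.ι ≫ (f ⁻¹ᵁ V).ι := IsOpenImmersion.lift_fac _ _ _
    have heq : (U'.ι ≫ (f ∣_ V)) ≫ V.ι = w ≫ U.ι ≫ f := by
      rw [Category.assoc, ← hcomm, ← Category.assoc, ← hw, Category.assoc]
    refine ⟨U', hU, M, instM, hfg, ⟨?_⟩⟩
    exact (bcCompGrpIso (U'.ι ≫ (f ∣_ V)) V.ι H).symm ≪≫ bcGrpIsoOfEq heq H ≪≫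
      diagBC w (U.ι ≫ f) H M e

end

end Groth.Agent.Lib.Helper14.MTRestrict
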