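import Mathlib
import Groth.Prelude.Def_AlgGrp
import Groth.Prelude.Def_Red
import Groth.Prelude.Def_Red2
import Groth.Prelude.Def_RedSub
import Groth.Prelude.Def_SGA3x
import Groth.Agent.Lib.Helper14.LocSplit2
import Groth.Agent.Lib.Helper14.MTRestrict
import Groth.Agent.Lib.Helper14.DSProd

/-!
# helper14: locally split tori: quotients by subgroups of multiplicative type and products are
locally split; Zariski-local properties of structure morphisms
-/

set_option autoImplicit false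
universe u
open CategoryTheory CategoryTheory.Limits AlgebraicGeometry MonoidalCategory
  CartesianMonoidalCategory MonObj

namespace Groth.Agent.Lib.Helper14.LocSplit

noncomputable section

open Groth.Agent.Lib.Helper14.DiagHomG1 Groth.Agent.Lib.Helper14.DiagHomG5
  Groth.Agent.Lib.Helper14.QuotBC Groth.Agent.Lib.Helper14.BCGrp
  Groth.Agent.Lib.Helper14.MTRestrict

/-- `T` is split Zariski-locally on the base -/
def LocallySplit {S : Scheme.{u}} (T : Over S) [GrpObj T] : Prop :=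
  ∀ s : ↥S, ∃ U : S.Opens, s ∈ U ∧ ∃ r : ℕ, Red.IsSplitTorusWith (Fin r → ℤ) (Red.bc U.ι T)

/-- a property of the structure morphism which is Zariski-local on the base -/
theorem hom_prop_of_zariski (P : MorphismProperty Scheme.{u}) [IsZariskiLocalAtTarget P]
    [P.DescendsAlong Qfpqc.{u}] {S : Scheme.{u}} (K : Over S)
    (h : ∀ s : S, ∃ U : S.Opens, s ∈ U ∧ P (Red.bc U.ι K).hom) : P K.hom := by
  apply descend_local' P K.hom
  intro b
  obtain ⟨U, hbU, hP⟩ := h b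
  refine ⟨U, hbU, pullback K.hom U.ι, (U : Scheme.{u}), pullback.fst _ _, pullback.snd _ _, 𝟙 _,
    ?_, qfpqc_id _, hP⟩
  rw [Category.id_comp]
  exact IsPullback.of_hasPullback _ _

/-- transport of a splitting over an open of an open to an open of the base -/
theorem split_of_nested {S : Scheme.{u}} {Q : Over S} [GrpObj Q] (U : S.Opens)
    (V : (U : Scheme.{u}).Opens) (M : Type) [AddCommGroup M]
    (e : Grp.mk (Red.bc V.ι (Red.bc U.ι Q)) ≅ Grp.mk (Red.DS V M)) (s : S) (hsU : s ∈ U)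
    (hsV : (⟨s, hsU⟩ : (U : Scheme.{u})) ∈ V) :
    ∃ O : S.Opens, s ∈ O ∧ O ≤ U ∧ Nonempty (Grp.mk (Red.bc O.ι Q) ≅ Grp.mk (Red.DS O M)) := by
  let jj : (V : Scheme.{u}) ⟶ S := V.ι ≫ U.ι
  refine ⟨jj.opensRange, ⟨⟨⟨s, hsU⟩, hsV⟩, rfl⟩, ?_, ⟨?_⟩⟩
  · rintro _ ⟨x, rfl⟩
    exact (V.ι x).2
  · let w' : (jj.opensRange : Scheme.{u}) ⟶ (V : Scheme.{u}) := jj.isoOpensRange.inv
    have hw' : w' ≫ jj = jj.opensRange.ι := Scheme.Hom.isoOpensRange_inv_comp jj
    have heq' : jj.opensRange.ι = w' ≫ (V.ι ≫ U.ι) := hw'.symm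
    let e' : Grp.mk (Red.bc (V.ι ≫ U.ι) Q) ≅ Grp.mk (Red.DS V M) := bcCompGrpIso V.ι U.ι Q ≪≫ e
    exact bcGrpIsoOfEq heq' Q ≪≫ diagBC w' (V.ι ≫ U.ι) Q M e'

/-- restriction of a splitting to a smaller open -/
theorem split_of_le {S : Scheme.{u}} {Q : Over S} [GrpObj Q] {U O : S.Opens} (h : O ≤ U)
    (M : Type) [AddCommGroup M] (e : Grp.mk (Red.bc U.ι Q) ≅ Grp.mk (Red.DS U M)) :
    Nonempty (Grp.mk (Red.bc O.ι Q) ≅ Grp.mk (Red.DS O M)) := by
  have heq : O.ι = S.homOfLE h ≫ U.ι := (Scheme.homOfLE_ι S h).symm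
  exact ⟨bcGrpIsoOfEq heq Q ≪≫ diagBC (S.homOfLE h) U.ι Q M e⟩

/-- **The quotient of a locally split torus by a subgroup which is locally of multiplicative
type is locally split** (local hypotheses form) -/
theorem locallySplit_quot' {S : Scheme.{u}} {T H Q : Over S} [GrpObj T] [GrpObj H] [GrpObj Q]
    (hT : ∀ s : ↥S, ∃ U : S.Opens, s ∈ U ∧
      (∃ r : ℕ, Red.IsSplitTorusWith (Fin r → ℤ) (Red.bc U.ι T)) ∧
        SGA3x.IsMultTypeFT (Red.bc U.ι H))
    (i : H ⟶ T) [IsMonHom i] [Mono i] (q : T ⟶ Q) [IsMonHom q]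
    (hq : RedSub.IsQuotient i q) : LocallySplit Q := by
  intro s
  obtain ⟨U, hsU, ⟨r, hTU⟩, hHU⟩ := hT s
  haveI : IsMonHom ((Over.pullback U.ι).map i) := Functor.map.instIsMonHom _ _ _
  haveI : IsMonHom ((Over.pullback U.ι).map q) := Functor.map.instIsMonHom _ _ _
  haveI : Mono ((Over.pullback U.ι).map i) := inferInstance
  have hqU := isQuotient_bc U.ι i q hq
  obtain ⟨V, hsV, r', -, ⟨eQ⟩⟩ := local_split r hTU ((Over.pullback U.ι).map i) hHU
    ((Over.pullback U.ι).map q) hqU ⟨s, hsU⟩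
  obtain ⟨O, hsO, -, hO⟩ := split_of_nested U V (Fin r' → ℤ) eQ s hsU hsV
  exact ⟨O, hsO, r', hO⟩

/-- **The quotient of a locally split torus by a subgroup of multiplicative type is locally
split** -/
theorem locallySplit_quot {S : Scheme.{u}} {T H Q : Over S} [GrpObj T] [GrpObj H] [GrpObj Q]
    (hT : LocallySplit T) (i : H ⟶ T) [IsMonHom i] [Mono i] (hH : SGA3x.IsMultTypeFT H)
    (q : T ⟶ Q) [IsMonHom q] (hq : RedSub.IsQuotient i q) : LocallySplit Q := by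
  apply locallySplit_quot' (T := T) (H := H) _ i q hq
  intro s
  obtain ⟨U, hsU, hr⟩ := hT s
  exact ⟨U, hsU, hr, isMultTypeFT_restrict hH U⟩

/-- base change commutes with products, as an isomorphism of group schemes -/
def bcTensorIso {S X : Scheme.{u}} (g : X ⟶ S) (E₁ E₂ : Over S) [GrpObj E₁] [GrpObj E₂] :
    Grp.mk (Red.bc g (E₁ ⊗ E₂)) ≅ Grp.mk (Red.bc g E₁ ⊗ Red.bc g E₂) := by
  haveI : IsMonHom (CartesianMonoidalCategory.prodComparison (Over.pullback g) E₁ E₂) := by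
    haveI : IsMonHom ((Over.pullback g).map (fst E₁ E₂)) := Functor.map.instIsMonHom _ _ _
    haveI : IsMonHom ((Over.pullback g).map (snd E₁ E₂)) := Functor.map.instIsMonHom _ _ _
    unfold CartesianMonoidalCategory.prodComparison
    infer_instance
  exact Grp.mkIso' (asIso (CartesianMonoidalCategory.prodComparison (Over.pullback g) E₁ E₂))

/-- the product of two locally split tori is locally split -/
theorem locallySplit_tensor {S : Scheme.{u}} {E₁ E₂ : Over S} [GrpObj E₁] [GrpObj E₂]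
    (h₁ : LocallySplit E₁) (h₂ : LocallySplit E₂) : LocallySplit (E₁ ⊗ E₂) := by
  intro s
  obtain ⟨U₁, hs₁, r₁, ⟨e₁⟩⟩ := h₁ s
  obtain ⟨U₂, hs₂, r₂, ⟨e₂⟩⟩ := h₂ s
  refine ⟨U₁ ⊓ U₂, ⟨hs₁, hs₂⟩, r₁ + r₂, ?_⟩
  have a₁ := split_of_le (inf_le_left : U₁ ⊓ U₂ ≤ U₁) (Fin r₁ → ℤ) e₁
  have a₂ := split_of_le (inf_le_right : U₁ ⊓ U₂ ≤ U₂) (Fin r₂ → ℤ) e₂
  obtain ⟨e⟩ := Groth.Agent.Lib.Helper14.DSProd.split_tensor r₁ r₂ a₁ a₂
  exact ⟨bcTensorIso (U₁ ⊓ U₂).ι E₁ E₂ ≪≫ e⟩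

end

end Groth.Agent.Lib.Helper14.LocSplit
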