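import Mathlib
import Groth.Prelude.Def_AlgGrp
import Groth.Prelude.Def_Red
import Groth.Prelude.Def_ChGrp
import Groth.Agent.Lib.Helper14.MultNilAff
import Groth.Agent.S7977

/-!
# helper14: rigidity of diagonalisable groups over an affine base, affine test objects

`G ≅ Spec A` over `Spec R` with `A` having only trivial idempotents, `H ≅ D(M)`, and `G` acts on
`H` by group automorphisms: then the action is trivial on all affine test objects.
-/

set_option autoImplicit false
universe u
open CategoryTheory CategoryTheory.Limits AlgebraicGeometry MonoidalCategory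
  CartesianMonoidalCategory MonObj

namespace Groth.Agent.Lib.Helper14.MTRigidAff

noncomputable section

open Groth.Agent.Lib.Helper14.MultNilAff Groth.Agent.Lib.Helper14.ActPts

section TestObjects

variable {R : Type u} [CommRing R]
variable {C C' : Type u} [CommRing C] [Algebra R C] [CommRing C'] [Algebra R C']

lemma Ypre_Ymap (f : C →ₐ[R] C') : Ypre (Ymap f) = f :=
  Ymap_injective (Ymap_Ypre (Ymap f))

lemma Ymap_id : Ymap (AlgHom.id R C) = 𝟙 (Yo R C) := by
  apply Over.OverMorphism.ext
  rw [Ymap_left]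
  exact Spec.map_id _

end TestObjects

variable {R : Type u} [CommRing R] {M : Type} [AddCommGroup M]
  {G H : Over (Spec (CommRingCat.of R))} [GrpObj G] [GrpObj H] (a : AlgGrp.Action G H)
  (e : Grp.mk H ≅ Grp.mk (Red.DS (Spec (CommRingCat.of R)) M))
  {A : Type u} [CommRing A] [Algebra R A] (j : Yo R A ⟶ G) [IsIso j]

/-- the universal point of `G` on `Spec A[M]` -/
def gU : Yo R (MonoidAlgebra A (Multiplicative M)) ⟶ G :=
  Ymap (IsScalarTower.toAlgHom R A (MonoidAlgebra A (Multiplicative M))) ≫ j

/-- the universal point of `H` on `Spec A[M]` -/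
def hU : Yo R (MonoidAlgebra A (Multiplicative M)) ⟶ H :=
  ofChi e (MonoidAlgebra.of A (Multiplicative M))

/-- the characters of the universal translate -/
def F : Multiplicative M →* MonoidAlgebra A (Multiplicative M) :=
  chi e (lift (gU (M := M) j) (hU (A := A) e) ≫ a.act)

variable {C : Type u} [CommRing C] [Algebra R C]

/-- the classifying algebra homomorphism of a pair of points -/
def psi (g : Yo R C ⟶ G) (h : Yo R C ⟶ H) : MonoidAlgebra A (Multiplicative M) →ₐ[R] C :=
  MonoidAlgebra.liftNCAlgHom (Ypre (g ≫ inv j)) (chi e h) (fun _ _ => Commute.all _ _)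

lemma psi_single (g : Yo R C ⟶ G) (h : Yo R C ⟶ H) (m : Multiplicative M) (x : A) :
    psi e j g h (MonoidAlgebra.single m x) = Ypre (g ≫ inv j) x * chi e h m := by
  rw [psi, MonoidAlgebra.coe_liftNCAlgHom, MonoidAlgebra.liftNC_single]
  rfl

lemma Ymap_psi_gU (g : Yo R C ⟶ G) (h : Yo R C ⟶ H) : Ymap (psi e j g h) ≫ gU (M := M) j = g := by
  rw [gU, ← Category.assoc, ← Ymap_comp]
  have h1 : (psi e j g h).comp (IsScalarTower.toAlgHom R A (MonoidAlgebra A (Multiplicative M))) =
      Ypre (g ≫ inv j) := by
    apply AlgHom.ext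
    intro x
    rw [AlgHom.comp_apply, IsScalarTower.toAlgHom_apply, MonoidAlgebra.coe_algebraMap]
    change psi e j g h (MonoidAlgebra.single 1 (algebraMap A A x)) = _
    rw [psi_single, map_one, _root_.mul_one]
    rfl
  rw [h1, Ymap_Ypre, Category.assoc, IsIso.inv_hom_id, Category.comp_id]

lemma Ymap_psi_hU (g : Yo R C ⟶ G) (h : Yo R C ⟶ H) : Ymap (psi e j g h) ≫ hU (A := A) e = h := by
  rw [hU, ← ofChi_nat]
  have h1 : ((psi e j g h : MonoidAlgebra A (Multiplicative M) →* C)).comp
      (MonoidAlgebra.of A (Multiplicative M)) = chi e h := by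
    apply MonoidHom.ext
    intro m
    rw [MonoidHom.comp_apply, MonoidAlgebra.of_apply]
    change psi e j g h (MonoidAlgebra.single m 1) = _
    rw [psi_single, map_one, _root_.one_mul]
  rw [h1, ofChi_chi]

/-- every translate is a specialisation of the universal one -/
theorem chi_act (g : Yo R C ⟶ G) (h : Yo R C ⟶ H) (m : Multiplicative M) :
    chi e (lift g h ≫ a.act) m = psi e j g h (F a e j m) := by
  have h1 : lift g h ≫ a.act =
      Ymap (psi e j g h) ≫ (lift (gU (M := M) j) (hU (A := A) e) ≫ a.act) := by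
    rw [act_comp_pt, Ymap_psi_gU, Ymap_psi_hU]
  rw [h1, chi_nat]
  rfl


lemma chi_one : chi e (1 : Yo R C ⟶ H) = 1 := by
  rw [← ofChi_one e, chi_ofChi]

section Hom

variable (hhom : ∀ (T : Over (Spec (CommRingCat.of R))) (g : T ⟶ G) (h h' : T ⟶ H),
      lift g (h * h') ≫ a.act = (lift g h ≫ a.act) * (lift g h' ≫ a.act))

include hhom in
lemma act_one {T : Over (Spec (CommRingCat.of R))} (g : T ⟶ G) :
    lift g (1 : T ⟶ H) ≫ a.act = 1 := by
  have h := hhom T g 1 1
  rw [_root_.mul_one] at h
  exact (_root_.mul_eq_left (a := lift g (1 : T ⟶ H) ≫ a.act)).mp h.symm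

lemma Ypre_self (x : A) : Ypre (j ≫ inv j) x = x := by
  rw [IsIso.hom_inv_id, ← Ymap_id, Ypre_Ymap]
  rfl

lemma psi_counit (x : MonoidAlgebra A (Multiplicative M)) :
    psi e j j (1 : Yo R A ⟶ H) x = Coalgebra.counit (R := A) x := by
  induction x using MonoidAlgebra.induction_linear with
  | zero => rw [map_zero, map_zero]
  | add x y hx hy => rw [map_add, map_add, hx, hy]
  | single m c =>
    rw [psi_single, chi_one, MonoidHom.one_apply, _root_.mul_one, MonoidAlgebra.counit_single,
      Ypre_self]
    rfl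

include hhom in
lemma counit_F (m : Multiplicative M) : Coalgebra.counit (R := A) (F a e j m) = 1 := by
  rw [← psi_counit e j, ← chi_act a e j, act_one a hhom, chi_one, MonoidHom.one_apply]

section AAlg

variable {D : Type u} [CommRing D] [Algebra A D] [Algebra R D] [IsScalarTower R A D]

/-- the structural point of `G` on an `A`-algebra -/
def gD (D : Type u) [CommRing D] [Algebra A D] [Algebra R D] [IsScalarTower R A D] : Yo R D ⟶ G :=
  Ymap (IsScalarTower.toAlgHom R A D) ≫ j

/-- the point of `H` of an `A`-algebra homomorphism out of `A[M]` -/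
def hD (θ : MonoidAlgebra A (Multiplicative M) →ₐ[A] D) : Yo R D ⟶ H :=
  ofChi e ((θ : MonoidAlgebra A (Multiplicative M) →* D).comp (MonoidAlgebra.of A (Multiplicative M)))

lemma psi_gD_hD (θ : MonoidAlgebra A (Multiplicative M) →ₐ[A] D)
    (x : MonoidAlgebra A (Multiplicative M)) : psi e j (gD j D) (hD e θ) x = θ x := by
  induction x using MonoidAlgebra.induction_linear with
  | zero => rw [map_zero, map_zero]
  | add x y hx hy => rw [map_add, map_add, hx, hy]
  | single m c =>
    rw [psi_single, hD, chi_ofChi, gD, Category.assoc, IsIso.hom_inv_id, Category.comp_id,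
      Ypre_Ymap, IsScalarTower.toAlgHom_apply, MonoidHom.comp_apply, MonoidAlgebra.of_apply]
    change algebraMap A D c * θ (MonoidAlgebra.single m 1) = _
    rw [← Algebra.smul_def, ← map_smul, MonoidAlgebra.smul_single, smul_eq_mul, _root_.mul_one]

lemma chi_act_D (θ : MonoidAlgebra A (Multiplicative M) →ₐ[A] D) (m : Multiplicative M) :
    chi e (lift (gD j D) (hD e θ) ≫ a.act) m = θ (F a e j m) := by
  rw [chi_act a e j, psi_gD_hD]

end AAlg

open TensorProduct in
include hhom in
lemma comul_F (m : Multiplicative M) :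
    Coalgebra.comul (R := A) (F a e j m) = F a e j m ⊗ₜ[A] F a e j m := by
  let AM := MonoidAlgebra A (Multiplicative M)
  let θ1 : AM →ₐ[A] AM ⊗[A] AM := Algebra.TensorProduct.includeLeft
  let θ2 : AM →ₐ[A] AM ⊗[A] AM := Algebra.TensorProduct.includeRight
  let θ3 : AM →ₐ[A] AM ⊗[A] AM := Bialgebra.comulAlgHom A AM
  have h3 : hD e θ3 = hD e θ1 * hD e θ2 := by
    rw [hD, hD, hD, ← ofChi_mul]
    congr 1
    apply MonoidHom.ext
    intro n
    rw [MonoidHom.mul_apply, MonoidHom.comp_apply, MonoidHom.comp_apply, MonoidHom.comp_apply,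
      MonoidAlgebra.of_apply]
    change Coalgebra.comul (R := A) (MonoidAlgebra.single n (1 : A)) =
      (MonoidAlgebra.single n (1 : A) ⊗ₜ[A] (1 : AM)) * ((1 : AM) ⊗ₜ[A] MonoidAlgebra.single n (1 : A))
    rw [(MonoidAlgebra.isGroupLikeElem_single_one (R := A) (A := A) n).comul_eq_tmul_self,
      Algebra.TensorProduct.tmul_mul_tmul, _root_.mul_one, _root_.one_mul]
  have h := hhom (Yo R (AM ⊗[A] AM)) (gD j (AM ⊗[A] AM)) (hD e θ1) (hD e θ2)
  rw [← h3] at h
  have h' := congrArg (fun t => chi e t m) h
  simp only [chi_mul, MonoidHom.mul_apply, chi_act_D] at h'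
  change Coalgebra.comul (R := A) (F a e j m) =
    (F a e j m ⊗ₜ[A] (1 : AM)) * ((1 : AM) ⊗ₜ[A] F a e j m) at h'
  rw [h', Algebra.TensorProduct.tmul_mul_tmul, _root_.mul_one, _root_.one_mul]

include hhom in
theorem isGroupLikeElem_F (m : Multiplicative M) : IsGroupLikeElem A (F a e j m) :=
  ⟨counit_F a e j hhom m, comul_F a e j hhom m⟩


include hhom e j in
/-- **Rigidity on affine test objects**: if `A` has only trivial idempotents the action is trivial. -/
theorem act_eq_affine [Nontrivial R] (hconn : ∀ c : A, IsIdempotentElem c → c = 0 ∨ c = 1)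
    (g : Yo R C ⟶ G) (h : Yo R C ⟶ H) : lift g h ≫ a.act = h := by
  classical
  -- `A` is nontrivial: it has a rational point
  let s : A →ₐ[R] R := Ypre ((1 : Yo R R ⟶ G) ≫ inv j)
  haveI : Nontrivial A := by
    refine ⟨⟨0, 1, fun h01 => ?_⟩⟩
    have := congrArg s h01
    rw [map_zero, map_one] at this
    exact zero_ne_one this
  have key : ∀ m : Multiplicative M, ∃ n : Multiplicative M,
      F a e j m = MonoidAlgebra.single n (1 : A) := fun m =>
    Groth.Agent.S7977.groupLike_eq_single hconn (isGroupLikeElem_F a e j hhom m)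
  choose φ hφ using key
  -- the unit section
  have hφid : ∀ m, φ m = m := by
    intro m
    let hK : Yo R (MonoidAlgebra R (Multiplicative M)) ⟶ H :=
      ofChi e (MonoidAlgebra.of R (Multiplicative M))
    have h1 := chi_act a e j (1 : Yo R (MonoidAlgebra R (Multiplicative M)) ⟶ G) hK m
    rw [AlgGrp.Action.lift_one_act, hφ, psi_single, map_one, _root_.one_mul] at h1
    have h2 : chi e hK = MonoidAlgebra.of R (Multiplicative M) := chi_ofChi e _
    rw [h2, MonoidAlgebra.of_apply, MonoidAlgebra.of_apply] at h1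
    have hinj := MonoidAlgebra.single_left_injective (R := R) (M := Multiplicative M)
      (one_ne_zero (α := R))
    exact (hinj h1).symm
  apply chi_injective e
  apply MonoidHom.ext
  intro m
  rw [chi_act a e j, hφ, hφid, psi_single, map_one, _root_.one_mul]

end Hom

end

end Groth.Agent.Lib.Helper14.MTRigidAff
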