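import Mathlib
import Groth.Prelude.Def_AlgGrp
import Groth.Prelude.Def_Red
import Groth.Prelude.Def_ChGrp
import Groth.Agent.Lib.Helper14.MultNilAff
import Groth.Agent.Lib.Helper14.MTRigidAff
import Groth.Agent.Lib.Helper14.ConnFibIdem
import Groth.Agent.S7977

/-!
# helper14: rigidity of pairings into diagonalisable groups, affine base, affine test objects

`K` a scheme over `Spec R` with connected fibres and a section `σ`, `H₁ ≅ D(M₁)`, `H₂ ≅ D(M₂)` and
`β : K × H₁ ⟶ H₂` multiplicative in the second variable.  Then `β (g, h) = β (σ, h)` on all affine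
test objects.
-/

set_option autoImplicit false
universe u
open CategoryTheory CategoryTheory.Limits AlgebraicGeometry MonoidalCategory
  CartesianMonoidalCategory MonObj

namespace Groth.Agent.Lib.Helper14.MTPairAff

noncomputable section

open Groth.Agent.Lib.Helper14.MultNilAff Groth.Agent.Lib.Helper14.ActPts
  Groth.Agent.Lib.Helper14.MTRigidAff

variable {R : Type u} [CommRing R] {M₁ M₂ : Type} [AddCommGroup M₁] [AddCommGroup M₂]
  {K H₁ H₂ : Over (Spec (CommRingCat.of R))} [GrpObj H₁] [GrpObj H₂] (β : K ⊗ H₁ ⟶ H₂)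
  (e₁ : Grp.mk H₁ ≅ Grp.mk (Red.DS (Spec (CommRingCat.of R)) M₁))
  (e₂ : Grp.mk H₂ ≅ Grp.mk (Red.DS (Spec (CommRingCat.of R)) M₂))

section Points

variable {A : Type u} [CommRing A] [Algebra R A] (j : Yo R A ⟶ K)

/-- the point `j` on `Spec A[M₁]` -/
def gU : Yo R (MonoidAlgebra A (Multiplicative M₁)) ⟶ K :=
  Ymap (IsScalarTower.toAlgHom R A (MonoidAlgebra A (Multiplicative M₁))) ≫ j

/-- the universal point of `H₁` on `Spec A[M₁]` -/
def hU (A : Type u) [CommRing A] [Algebra R A] : Yo R (MonoidAlgebra A (Multiplicative M₁)) ⟶ H₁ :=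
  ofChi e₁ (MonoidAlgebra.of A (Multiplicative M₁))

/-- the characters of the universal value of the pairing -/
def F : Multiplicative M₂ →* MonoidAlgebra A (Multiplicative M₁) :=
  chi e₂ (lift (gU (M₁ := M₁) j) (hU e₁ A) ≫ β)

section AAlg

variable {D : Type u} [CommRing D] [Algebra A D] [Algebra R D] [IsScalarTower R A D]

/-- the structural point of `K` on an `A`-algebra -/
def gD (D : Type u) [CommRing D] [Algebra A D] [Algebra R D] [IsScalarTower R A D] : Yo R D ⟶ K :=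
  Ymap (IsScalarTower.toAlgHom R A D) ≫ j

/-- the point of `H₁` of an `A`-algebra homomorphism out of `A[M₁]` -/
def hD (θ : MonoidAlgebra A (Multiplicative M₁) →ₐ[A] D) : Yo R D ⟶ H₁ :=
  ofChi e₁ ((θ : MonoidAlgebra A (Multiplicative M₁) →* D).comp
    (MonoidAlgebra.of A (Multiplicative M₁)))

lemma Ymap_gU (θ : MonoidAlgebra A (Multiplicative M₁) →ₐ[A] D) :
    Ymap (θ.restrictScalars R) ≫ gU (M₁ := M₁) j = gD j D := by
  rw [gU, gD, ← Category.assoc, ← Ymap_comp]
  congr 2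
  apply AlgHom.ext
  intro x
  rw [AlgHom.comp_apply, IsScalarTower.toAlgHom_apply, IsScalarTower.toAlgHom_apply,
    AlgHom.restrictScalars_apply, AlgHom.commutes]

lemma Ymap_hU (θ : MonoidAlgebra A (Multiplicative M₁) →ₐ[A] D) :
    Ymap (θ.restrictScalars R) ≫ hU e₁ A = hD e₁ θ := by
  rw [hU, hD, ← ofChi_nat]
  rfl

theorem chi_pair_D (θ : MonoidAlgebra A (Multiplicative M₁) →ₐ[A] D) (m : Multiplicative M₂) :
    chi e₂ (lift (gD j D) (hD e₁ θ) ≫ β) m = θ (F β e₁ e₂ j m) := by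
  have h1 : lift (gD j D) (hD e₁ θ) ≫ β =
      Ymap (θ.restrictScalars R) ≫ (lift (gU (M₁ := M₁) j) (hU e₁ A) ≫ β) := by
    rw [← Category.assoc, comp_lift, Ymap_gU, Ymap_hU]
  rw [h1, chi_nat]
  rfl

end AAlg

lemma gD_self : gD j A = j := by
  rw [gD]
  have h : IsScalarTower.toAlgHom R A A = AlgHom.id R A := by
    apply AlgHom.ext
    intro x
    rfl
  rw [h, Ymap_id, Category.id_comp]

/-- the value of the pairing at any point of `H₁` over `A` -/
theorem chi_pair (h : Yo R A ⟶ H₁) (m : Multiplicative M₂) :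
    chi e₂ (lift j h ≫ β) m =
      MonoidAlgebra.lift A A (Multiplicative M₁) (chi e₁ h) (F β e₁ e₂ j m) := by
  have h1 := chi_pair_D β e₁ e₂ j (MonoidAlgebra.lift A A (Multiplicative M₁) (chi e₁ h)) m
  have h2 : hD e₁ (MonoidAlgebra.lift A A (Multiplicative M₁) (chi e₁ h)) = h := by
    rw [hD]
    have h3 : ((MonoidAlgebra.lift A A (Multiplicative M₁) (chi e₁ h) :
        MonoidAlgebra A (Multiplicative M₁) →* A)).comp
          (MonoidAlgebra.of A (Multiplicative M₁)) = chi e₁ h := by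
      apply MonoidHom.ext
      intro n
      rw [MonoidHom.comp_apply]
      exact MonoidAlgebra.lift_of _ _
    rw [h3, ofChi_chi]
  rw [h2, gD_self] at h1
  exact h1

/-- naturality of the universal characters -/
theorem F_nat {A' : Type u} [CommRing A'] [Algebra R A'] (ρ : A →ₐ[R] A')
    (m : Multiplicative M₂) :
    F β e₁ e₂ (Ymap ρ ≫ j) m = MonoidAlgebra.mapAlgHom (Multiplicative M₁) ρ (F β e₁ e₂ j m) := by
  have h1 : Ymap (MonoidAlgebra.mapAlgHom (Multiplicative M₁) ρ) ≫ gU (M₁ := M₁) j =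
      gU (M₁ := M₁) (Ymap ρ ≫ j) := by
    rw [gU, gU, ← Category.assoc, ← Category.assoc, ← Ymap_comp, ← Ymap_comp]
    congr 2
    apply AlgHom.ext
    intro x
    rw [AlgHom.comp_apply, AlgHom.comp_apply, IsScalarTower.toAlgHom_apply,
      IsScalarTower.toAlgHom_apply, MonoidAlgebra.coe_algebraMap, MonoidAlgebra.coe_algebraMap]
    change MonoidAlgebra.mapAlgHom (Multiplicative M₁) ρ (MonoidAlgebra.single 1 (algebraMap A A x)) =
      MonoidAlgebra.single 1 (algebraMap A' A' (ρ x))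
    rw [MonoidAlgebra.mapAlgHom_single]
    rfl
  have h2 : Ymap (MonoidAlgebra.mapAlgHom (Multiplicative M₁) ρ) ≫ hU e₁ A = hU e₁ A' := by
    rw [hU, hU, ← ofChi_nat]
    congr 1
    apply MonoidHom.ext
    intro n
    rw [MonoidHom.comp_apply, MonoidAlgebra.of_apply, MonoidAlgebra.of_apply]
    change MonoidAlgebra.mapAlgHom (Multiplicative M₁) ρ (MonoidAlgebra.single n 1) = _
    rw [MonoidAlgebra.mapAlgHom_single, map_one]
  have h3 : lift (gU (M₁ := M₁) (Ymap ρ ≫ j)) (hU e₁ A') ≫ β =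
      Ymap (MonoidAlgebra.mapAlgHom (Multiplicative M₁) ρ) ≫
        (lift (gU (M₁ := M₁) j) (hU e₁ A) ≫ β) := by
    rw [← Category.assoc, comp_lift, h1, h2]
  rw [F, h3, chi_nat]
  rfl


section Mul

variable (hmul : ∀ (T : Over (Spec (CommRingCat.of R))) (g : T ⟶ K) (h h' : T ⟶ H₁),
      lift g (h * h') ≫ β = (lift g h ≫ β) * (lift g h' ≫ β))

include hmul in
lemma pair_one {T : Over (Spec (CommRingCat.of R))} (g : T ⟶ K) :
    lift g (1 : T ⟶ H₁) ≫ β = 1 := by
  have h := hmul T g 1 1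
  rw [_root_.mul_one] at h
  exact (_root_.mul_eq_left (a := lift g (1 : T ⟶ H₁) ≫ β)).mp h.symm

include hmul in
lemma counit_F (m : Multiplicative M₂) : Coalgebra.counit (R := A) (F β e₁ e₂ j m) = 1 := by
  let θ : MonoidAlgebra A (Multiplicative M₁) →ₐ[A] A :=
    Bialgebra.counitAlgHom A (MonoidAlgebra A (Multiplicative M₁))
  have h1 := chi_pair_D β e₁ e₂ j θ m
  have h2 : hD e₁ θ = 1 := by
    rw [hD, ← ofChi_one e₁]
    congr 1
    apply MonoidHom.ext
    intro n
    rw [MonoidHom.comp_apply, MonoidAlgebra.of_apply, MonoidHom.one_apply]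
    change Coalgebra.counit (R := A) (MonoidAlgebra.single n (1 : A)) = 1
    rw [MonoidAlgebra.counit_single]
    rfl
  rw [h2, pair_one β hmul, chi_one, MonoidHom.one_apply] at h1
  exact h1.symm

open TensorProduct in
include hmul in
lemma comul_F (m : Multiplicative M₂) :
    Coalgebra.comul (R := A) (F β e₁ e₂ j m) = F β e₁ e₂ j m ⊗ₜ[A] F β e₁ e₂ j m := by
  let AM := MonoidAlgebra A (Multiplicative M₁)
  let θ1 : AM →ₐ[A] AM ⊗[A] AM := Algebra.TensorProduct.includeLeft
  let θ2 : AM →ₐ[A] AM ⊗[A] AM := Algebra.TensorProduct.includeRight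
  let θ3 : AM →ₐ[A] AM ⊗[A] AM := Bialgebra.comulAlgHom A AM
  have h3 : hD e₁ θ3 = hD e₁ θ1 * hD e₁ θ2 := by
    rw [hD, hD, hD, ← ofChi_mul]
    congr 1
    apply MonoidHom.ext
    intro n
    rw [MonoidHom.mul_apply, MonoidHom.comp_apply, MonoidHom.comp_apply, MonoidHom.comp_apply,
      MonoidAlgebra.of_apply]
    change Coalgebra.comul (R := A) (MonoidAlgebra.single n (1 : A)) =
      (MonoidAlgebra.single n (1 : A) ⊗ₜ[A] (1 : AM)) * ((1 : AM) ⊗ₜ[A] MonoidAlgebra.single n (1 : A))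
    rw [(MonoidAlgebra.isGroupLikeElem_single_one (R := A) (A := A) n).comul_eq_tmul_self,
      Algebra.TensorProduct.tmul_mul_tmul, _root_.mul_one, _root_.one_mul]
  have h := hmul (Yo R (AM ⊗[A] AM)) (gD j (AM ⊗[A] AM)) (hD e₁ θ1) (hD e₁ θ2)
  rw [← h3] at h
  have h' := congrArg (fun t => chi e₂ t m) h
  simp only [chi_mul, MonoidHom.mul_apply, chi_pair_D] at h'
  change Coalgebra.comul (R := A) (F β e₁ e₂ j m) =
    (F β e₁ e₂ j m ⊗ₜ[A] (1 : AM)) * ((1 : AM) ⊗ₜ[A] F β e₁ e₂ j m) at h'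
  rw [h', Algebra.TensorProduct.tmul_mul_tmul, _root_.mul_one, _root_.one_mul]

include hmul in
theorem isGroupLikeElem_F (m : Multiplicative M₂) : IsGroupLikeElem A (F β e₁ e₂ j m) :=
  ⟨counit_F β e₁ e₂ j hmul m, comul_F β e₁ e₂ j hmul m⟩

/-- the coefficients of the universal characters -/
def cf (m : Multiplicative M₂) (n : Multiplicative M₁) : A := (F β e₁ e₂ j m).coeff n

include hmul in
lemma cf_mul_self (m : Multiplicative M₂) (n : Multiplicative M₁) :
    cf β e₁ e₂ j m n * cf β e₁ e₂ j m n = cf β e₁ e₂ j m n := by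
  classical
  have := Groth.Agent.S7977.cf2_comul (F β e₁ e₂ j m) n n
  rw [(isGroupLikeElem_F β e₁ e₂ j hmul m).comul_eq_tmul_self] at this
  simpa [Groth.Agent.S7977.cf2, Groth.Agent.S7977.cf_apply, cf] using this

include hmul in
lemma cf_mul_ne (m : Multiplicative M₂) (n n' : Multiplicative M₁) (hn : n ≠ n') :
    cf β e₁ e₂ j m n * cf β e₁ e₂ j m n' = 0 := by
  classical
  have := Groth.Agent.S7977.cf2_comul (F β e₁ e₂ j m) n n'
  rw [(isGroupLikeElem_F β e₁ e₂ j hmul m).comul_eq_tmul_self, if_neg hn] at this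
  simpa [Groth.Agent.S7977.cf2, Groth.Agent.S7977.cf_apply, cf] using this

include hmul in
lemma cf_idem (m : Multiplicative M₂) (n : Multiplicative M₁) :
    IsIdempotentElem (cf β e₁ e₂ j m n) :=
  cf_mul_self β e₁ e₂ j hmul m n

end Mul

end Points

section Conn

variable (hmul : ∀ (T : Over (Spec (CommRingCat.of R))) (g : T ⟶ K) (h h' : T ⟶ H₁),
      lift g (h * h') ≫ β = (lift g h ≫ β) * (lift g h' ≫ β))
  (σ : Yo R R ⟶ K)

lemma cf_nat {A A' : Type u} [CommRing A] [Algebra R A] [CommRing A'] [Algebra R A']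
    (ρ : A →ₐ[R] A') (j : Yo R A ⟶ K) (m : Multiplicative M₂) (n : Multiplicative M₁) :
    cf β e₁ e₂ (Ymap ρ ≫ j) m n = ρ (cf β e₁ e₂ j m n) := by
  rw [cf, cf, F_nat, MonoidAlgebra.coeff_mapAlgHom]

/-- the agreement idempotent of the coefficients at `j` and at the section -/
def eps (m : Multiplicative M₂) (n : Multiplicative M₁) (A : Type u) [CommRing A] [Algebra R A]
    (j : Yo R A ⟶ K) : A :=
  cf β e₁ e₂ j m n * algebraMap R A (cf β e₁ e₂ σ m n) +
    (1 - cf β e₁ e₂ j m n) * (1 - algebraMap R A (cf β e₁ e₂ σ m n))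

lemma eps_nat (m : Multiplicative M₂) (n : Multiplicative M₁)
    (A A' : Type u) [CommRing A] [Algebra R A] [CommRing A'] [Algebra R A']
    (ρ : A →ₐ[R] A') (j : Yo R A ⟶ K) :
    eps β e₁ e₂ σ m n A' (Ymap ρ ≫ j) = ρ (eps β e₁ e₂ σ m n A j) := by
  rw [eps, eps, cf_nat, map_add, map_mul, map_mul, map_sub, map_sub, map_one, AlgHom.commutes]

lemma idem_aux {B : Type*} [CommRing B] {c a : B} (hc : IsIdempotentElem c)
    (ha : IsIdempotentElem a) : IsIdempotentElem (c * a + (1 - c) * (1 - a)) := by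
  have hx : IsIdempotentElem (c * a) := hc.mul ha
  have hy : IsIdempotentElem ((1 - c) * (1 - a)) := hc.one_sub.mul ha.one_sub
  have hcc : c * (1 - c) = 0 := by rw [mul_sub, _root_.mul_one, hc.eq, sub_self]
  have hxy : (c * a) * ((1 - c) * (1 - a)) = 0 := by
    calc (c * a) * ((1 - c) * (1 - a)) = (c * (1 - c)) * (a * (1 - a)) := by ring
      _ = 0 := by rw [hcc, zero_mul]
  change (c * a + (1 - c) * (1 - a)) * (c * a + (1 - c) * (1 - a)) = _
  calc (c * a + (1 - c) * (1 - a)) * (c * a + (1 - c) * (1 - a))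
      = (c * a) * (c * a) + 2 * ((c * a) * ((1 - c) * (1 - a))) +
          ((1 - c) * (1 - a)) * ((1 - c) * (1 - a)) := by ring
    _ = c * a + (1 - c) * (1 - a) := by rw [hx.eq, hy.eq, hxy]; ring

lemma eq_aux {B : Type*} [CommRing B] {c a : B} (hc : IsIdempotentElem c)
    (ha : IsIdempotentElem a) (h : c * a + (1 - c) * (1 - a) = 1) : c = a := by
  have hcc : c * (1 - c) = 0 := by rw [mul_sub, _root_.mul_one, hc.eq, sub_self]
  have haa : a * (1 - a) = 0 := by rw [mul_sub, _root_.mul_one, ha.eq, sub_self]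
  have h2 : c * a = c := by
    calc c * a = c * c * a + (c * (1 - c)) * (1 - a) := by rw [hc.eq, hcc, zero_mul, add_zero]
      _ = c * (c * a + (1 - c) * (1 - a)) := by ring
      _ = c := by rw [h, _root_.mul_one]
  have h3 : c * a = a := by
    calc c * a = c * (a * a) + (1 - c) * (a * (1 - a)) := by rw [ha.eq, haa, mul_zero, add_zero]
      _ = a * (c * a + (1 - c) * (1 - a)) := by ring
      _ = a := by rw [h, _root_.mul_one]
  rw [← h2, h3]

include hmul in
lemma eps_idem (m : Multiplicative M₂) (n : Multiplicative M₁)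
    (A : Type u) [CommRing A] [Algebra R A] (j : Yo R A ⟶ K) :
    IsIdempotentElem (eps β e₁ e₂ σ m n A j) :=
  idem_aux (cf_idem β e₁ e₂ j hmul m n) ((cf_idem β e₁ e₂ σ hmul m n).map (algebraMap R A))

include hmul in
lemma eps_sigma (m : Multiplicative M₂) (n : Multiplicative M₁) :
    eps β e₁ e₂ σ m n R σ = 1 := by
  have hc := cf_idem β e₁ e₂ σ hmul m n
  rw [eps, Algebra.algebraMap_self, RingHom.id_apply, hc.eq, hc.one_sub.eq]
  ring

variable (hconn : ∀ s : Spec (CommRingCat.of R), _root_.IsPreconnected (K.hom.base ⁻¹' {s}))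

include hmul hconn in
/-- the coefficients are constant along `K` -/
theorem cf_eq {A : Type u} [CommRing A] [Algebra R A] (j : Yo R A ⟶ K)
    (m : Multiplicative M₂) (n : Multiplicative M₁) :
    cf β e₁ e₂ j m n = algebraMap R A (cf β e₁ e₂ σ m n) := by
  have h := Groth.Agent.Lib.Helper14.ConnFibIdem.eps_eq_one K (eps β e₁ e₂ σ m n)
    (eps_nat β e₁ e₂ σ m n) (eps_idem β e₁ e₂ hmul σ m n) σ (eps_sigma β e₁ e₂ hmul σ m n) hconn j
  exact eq_aux (cf_idem β e₁ e₂ j hmul m n)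
    ((cf_idem β e₁ e₂ σ hmul m n).map (algebraMap R A)) h

include hmul hconn in
theorem F_eq {A : Type u} [CommRing A] [Algebra R A] (j : Yo R A ⟶ K) (m : Multiplicative M₂) :
    F β e₁ e₂ j m = F β e₁ e₂ (Ymap (Algebra.ofId R A) ≫ σ) m := by
  rw [F_nat]
  apply MonoidAlgebra.ext
  apply Finsupp.ext
  intro n
  rw [MonoidAlgebra.coeff_mapAlgHom]
  exact cf_eq β e₁ e₂ hmul σ hconn j m n

include hmul hconn e₁ e₂ in
/-- **Rigidity of pairings on affine test objects.** -/
theorem pair_eq_affine {A : Type u} [CommRing A] [Algebra R A] (g : Yo R A ⟶ K)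
    (h : Yo R A ⟶ H₁) : lift g h ≫ β = lift (Ymap (Algebra.ofId R A) ≫ σ) h ≫ β := by
  apply chi_injective e₂
  apply MonoidHom.ext
  intro m
  rw [chi_pair β e₁ e₂ g h m, chi_pair β e₁ e₂ (Ymap (Algebra.ofId R A) ≫ σ) h m,
    F_eq β e₁ e₂ hmul σ hconn g m]

end Conn


end

end Groth.Agent.Lib.Helper14.MTPairAff
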