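import Mathlib
import Groth.Prelude.Def_AlgGrp
import Groth.Prelude.Def_Red
import Groth.Prelude.Def_ChGrp
import Groth.Agent.Lib.Helper14.MTPairAff

/-!
# helper14: rigidity of pairings into diagonalisable groups over an affine base

`K` a scheme over `Spec R` with connected fibres and a section, `H₁ ≅ D(M₁)`, `H₂ ≅ D(M₂)` and
`β : K × H₁ ⟶ H₂` multiplicative in the second variable.  Then `β (g, h)` does not depend on `g`.
-/

set_option autoImplicit false
universe u
open CategoryTheory CategoryTheory.Limits AlgebraicGeometry MonoidalCategory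
  CartesianMonoidalCategory MonObj

namespace Groth.Agent.Lib.Helper14.MTPairBase

noncomputable section

open Groth.Agent.Lib.Helper14.MultNilAff Groth.Agent.Lib.Helper14.MTPairAff

variable {R : Type u} [CommRing R] {M₁ M₂ : Type} [AddCommGroup M₁] [AddCommGroup M₂]
  {K H₁ H₂ : Over (Spec (CommRingCat.of R))} [GrpObj H₁] [GrpObj H₂] (β : K ⊗ H₁ ⟶ H₂)
  (e₁ : Grp.mk H₁ ≅ Grp.mk (Red.DS (Spec (CommRingCat.of R)) M₁))
  (e₂ : Grp.mk H₂ ≅ Grp.mk (Red.DS (Spec (CommRingCat.of R)) M₂))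
  (hmul : ∀ (T : Over (Spec (CommRingCat.of R))) (g : T ⟶ K) (h h' : T ⟶ H₁),
      lift g (h * h') ≫ β = (lift g h ≫ β) * (lift g h' ≫ β))
  (σ : Yo R R ⟶ K)
  (hconn : ∀ s : Spec (CommRingCat.of R), _root_.IsPreconnected (K.hom.base ⁻¹' {s}))

include e₁ e₂ hmul σ hconn in
/-- **Rigidity of pairings over an affine base.** -/
theorem pair_const (T : Over (Spec (CommRingCat.of R))) (g g' : T ⟶ K) (h : T ⟶ H₁) :
    lift g h ≫ β = lift g' h ≫ β := by
  apply Over.OverMorphism.ext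
  apply hom_ext_of_locally_eq
  intro z
  have hbT : ∀ (U : T.left.Opens) (p : T.left), p ∈ U → ∃ U' ∈ T.left.affineOpens, p ∈ U' ∧ U' ≤ U :=
    fun U p hp => TopologicalSpace.Opens.isBasis_iff_nbhd.mp T.left.isBasis_affineOpens hp
  obtain ⟨O, hO, hzO, -⟩ := hbT ⊤ z trivial
  refine ⟨O, hzO, ?_⟩
  obtain ⟨C, _, _, t, ht, htr⟩ := exists_chart T O hO
  have key : t ≫ (lift g h ≫ β) = t ≫ (lift g' h ≫ β) := by
    rw [← Category.assoc, ← Category.assoc, comp_lift, comp_lift,
      pair_eq_affine β e₁ e₂ hmul σ hconn (t ≫ g) (t ≫ h),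
      pair_eq_affine β e₁ e₂ hmul σ hconn (t ≫ g') (t ≫ h)]
  have key' : t.left ≫ (lift g h ≫ β).left = t.left ≫ (lift g' h ≫ β).left :=
    congrArg (fun k => k.left) key
  have hιt : Set.range O.ι.base ⊆ Set.range t.left.base := by
    rw [htr]
    rintro _ ⟨c, rfl⟩
    exact c.2
  have hfac : IsOpenImmersion.lift t.left O.ι hιt ≫ t.left = O.ι := IsOpenImmersion.lift_fac _ _ _
  rw [← hfac, Category.assoc, Category.assoc, key']

end

end Groth.Agent.Lib.Helper14.MTPairBase
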