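import Mathlib
import Groth.Prelude.Def_AlgGrp
import Groth.Prelude.Def_Red
import Groth.Prelude.Def_ChGrp
import Groth.Prelude.Def_SGA3x
import Groth.Agent.Lib.Helper14.MTPairBase
import Groth.Agent.Lib.Helper14.BCPair
import Groth.Agent.Lib.Helper14.FibConnBC
import Groth.Agent.Lib.Helper14.BCGrp
import Groth.Agent.Lib.Helper14.MultNilGlobal
import Groth.Agent.Lib.Helper15.MultGa

/-!
# helper14: rigidity of pairings into groups of multiplicative type over an arbitrary base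

`K` an `S`-scheme with a section and connected fibres, `H₁`, `H₂` `S`-groups which are, locally for
a common flat surjective covering, diagonalisable, and `β : K × H₁ ⟶ H₂` multiplicative in the
second variable.  Then `β (g, h)` does not depend on `g` (SGA3 IX 5.x).
-/

set_option autoImplicit false
universe u
open CategoryTheory CategoryTheory.Limits AlgebraicGeometry MonoidalCategory
  CartesianMonoidalCategory MonObj

namespace Groth.Agent.Lib.Helper14.MTPairGlobal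

noncomputable section

open Groth.Agent.Lib.Helper14.MultNilAff Groth.Agent.Lib.Helper14.BCPair
  Groth.Agent.Lib.Helper14.BCGrp Groth.Agent.Lib.Helper14.MultNilGlobal

section Local

variable {S : Scheme.{u}} {K H₁ H₂ : Over S} [GrpObj H₁] [GrpObj H₂] (β : K ⊗ H₁ ⟶ H₂)
  (hmul : ∀ (T : Over S) (g : T ⟶ K) (h h' : T ⟶ H₁),
      lift g (h * h') ≫ β = (lift g h ≫ β) * (lift g h' ≫ β))
  (s : 𝟙_ (Over S) ⟶ K)
  (hconn : ∀ x : S, ConnectedSpace ↥(pullback K.hom (S.fromSpecResidueField x)))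

include hmul s hconn in
/-- **Local form**: over `v : Spec R ⟶ S` over which both groups are diagonalisable. -/
theorem pair_const_local (R : Type u) [CommRing R] (v : Spec (CommRingCat.of R) ⟶ S)
    (M₁ M₂ : Type) [AddCommGroup M₁] [AddCommGroup M₂]
    (e₁ : Grp.mk (Red.bc v H₁) ≅ Grp.mk (Red.DS (Spec (CommRingCat.of R)) M₁))
    (e₂ : Grp.mk (Red.bc v H₂) ≅ Grp.mk (Red.DS (Spec (CommRingCat.of R)) M₂))
    (T : Over (Spec (CommRingCat.of R))) (g' g'' : (Over.map v).obj T ⟶ K)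
    (x' : (Over.map v).obj T ⟶ H₁) : lift g' x' ≫ β = lift g'' x' ≫ β := by
  apply pair_eq_of_bc v β
  let σ : Yo R R ⟶ Red.bc v K :=
    (Over.mapPullbackAdj v).homEquiv (Yo R R) K (toUnit _ ≫ s)
  exact Groth.Agent.Lib.Helper14.MTPairBase.pair_const (bcPair v β) e₁ e₂ (bc_hmul v β hmul) σ
    (fun p => Groth.Agent.Lib.Helper14.FibConnBC.isPreconnected_fibre_bc K s hconn v p) T _ _ _

end Local

section Global

variable {S S' : Scheme.{u}} (f : S' ⟶ S) [Flat f] [Surjective f] {H₁ H₂ : Over S}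
  [GrpObj H₁] [GrpObj H₂]
  (hloc : ∀ s' : S', ∃ U : S'.Opens, s' ∈ U ∧ ∃ (M₁ M₂ : Type) (_ : AddCommGroup M₁)
    (_ : AddCommGroup M₂), Nonempty (Grp.mk (Red.bc (U.ι ≫ f) H₁) ≅ Grp.mk (Red.DS U M₁)) ∧
      Nonempty (Grp.mk (Red.bc (U.ι ≫ f) H₂) ≅ Grp.mk (Red.DS U M₂)))

include hloc in
/-- two morphisms over `S` are equal if they agree on all test objects over affine schemes over
which both groups are diagonalisable -/
theorem hom_ext_of_local {X Y : Over S} (φ ψ : Y ⟶ X)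
    (h : ∀ (R : Type u) [CommRing R] (v : Spec (CommRingCat.of R) ⟶ S) (M₁ M₂ : Type)
      [AddCommGroup M₁] [AddCommGroup M₂]
      (_ : Grp.mk (Red.bc v H₁) ≅ Grp.mk (Red.DS (Spec (CommRingCat.of R)) M₁))
      (_ : Grp.mk (Red.bc v H₂) ≅ Grp.mk (Red.DS (Spec (CommRingCat.of R)) M₂))
      (T : Over (Spec (CommRingCat.of R))) (t : (Over.map v).obj T ⟶ Y), t ≫ φ = t ≫ ψ) :
    φ = ψ := by
  apply Over.OverMorphism.ext
  have key : ∀ y : Y.left, ∃ (W : Scheme.{u}) (p : W ⟶ Y.left), Flat p ∧ y ∈ Set.range p.base ∧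
      p ≫ φ.left = p ≫ ψ.left := by
    intro y
    let pr₁ := pullback.fst Y.hom f
    let pr₂ := pullback.snd Y.hom f
    have hsurj₁ : Surjective pr₁ := inferInstanceAs (Surjective (pullback.fst Y.hom f))
    obtain ⟨y', hy'⟩ := hsurj₁.surj y
    obtain ⟨U, hs'U, M₁, M₂, instM₁, instM₂, ⟨eU₁⟩, ⟨eU₂⟩⟩ := hloc (pr₂.base y')
    obtain ⟨U', hU', hs'U', hU'le⟩ := exists_affine_nbhd S' U (pr₂.base y') hs'U
    obtain ⟨O, hO, hy'O, hOle⟩ := exists_affine_nbhd (pullback Y.hom f) (pr₂ ⁻¹ᵁ U') y' hs'U'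
    let v : Spec Γ(S', U') ⟶ S := hU'.fromSpec ≫ f
    have hrU : Set.range hU'.fromSpec.base ⊆ Set.range U.ι.base := by
      rw [hU'.range_fromSpec, Scheme.Opens.range_ι]
      exact fun z hz => hU'le hz
    let w : Spec Γ(S', U') ⟶ (U : Scheme.{u}) := IsOpenImmersion.lift U.ι hU'.fromSpec hrU
    have hw : w ≫ U.ι = hU'.fromSpec := IsOpenImmersion.lift_fac _ _ _
    have hvw : v = w ≫ U.ι ≫ f := by rw [← Category.assoc, hw]
    let e₁ : Grp.mk (Red.bc v H₁) ≅ Grp.mk (Red.DS (Spec Γ(S', U')) M₁) :=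
      bcGrpIsoOfEq hvw H₁ ≪≫ diagBC w (U.ι ≫ f) H₁ M₁ eU₁
    let e₂ : Grp.mk (Red.bc v H₂) ≅ Grp.mk (Red.DS (Spec Γ(S', U')) M₂) :=
      bcGrpIsoOfEq hvw H₂ ≪≫ diagBC w (U.ι ≫ f) H₂ M₂ eU₂
    have hrO : Set.range (hO.fromSpec ≫ pr₂).base ⊆ Set.range hU'.fromSpec.base := by
      rintro _ ⟨c, rfl⟩
      rw [hU'.range_fromSpec]
      have h1 : hO.fromSpec.base c ∈ (O : Set _) := by
        rw [← hO.range_fromSpec]; exact ⟨c, rfl⟩
      exact hOle h1
    let τ : Spec Γ(pullback Y.hom f, O) ⟶ Spec Γ(S', U') :=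
      IsOpenImmersion.lift hU'.fromSpec (hO.fromSpec ≫ pr₂) hrO
    have hτ : τ ≫ hU'.fromSpec = hO.fromSpec ≫ pr₂ := IsOpenImmersion.lift_fac _ _ _
    let T : Over (Spec Γ(S', U')) := Over.mk τ
    let t : (Over.map v).obj T ⟶ Y := Over.homMk (hO.fromSpec ≫ pr₁) (by
      change (hO.fromSpec ≫ pr₁) ≫ Y.hom = τ ≫ hU'.fromSpec ≫ f
      rw [← Category.assoc τ, hτ, Category.assoc, Category.assoc, pullback.condition])
    have loc := h Γ(S', U') v M₁ M₂ e₁ e₂ T t
    refine ⟨Spec Γ(pullback Y.hom f, O), hO.fromSpec ≫ pr₁, inferInstance, ?_, ?_⟩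
    · have h1 : y' ∈ Set.range hO.fromSpec.base := by
        rw [hO.range_fromSpec]; exact hy'O
      obtain ⟨c, hc⟩ := h1
      refine ⟨c, ?_⟩
      rw [Scheme.Hom.comp_base]
      change pr₁.base (hO.fromSpec.base c) = y
      rw [hc, hy']
    · exact congrArg (fun k => k.left) loc
  choose W p hflat hy hp using key
  haveI := hflat
  refine Groth.Agent.Lib.helper15.MultGa.hom_ext_of_flat_family p ?_ _ _ hp
  ext y
  simp only [Set.mem_iUnion, Set.mem_univ, iff_true]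
  exact ⟨y, hy y⟩

variable {K : Over S} (β : K ⊗ H₁ ⟶ H₂)
  (hmul : ∀ (T : Over S) (g : T ⟶ K) (h h' : T ⟶ H₁),
      lift g (h * h') ≫ β = (lift g h ≫ β) * (lift g h' ≫ β))
  (s : 𝟙_ (Over S) ⟶ K)
  (hconn : ∀ x : S, ConnectedSpace ↥(pullback K.hom (S.fromSpecResidueField x)))

include hloc hmul s hconn in
/-- **Rigidity of pairings over an arbitrary base.** -/
theorem pair_const (Y : Over S) (g g' : Y ⟶ K) (h : Y ⟶ H₁) :
    lift g h ≫ β = lift g' h ≫ β := by
  apply hom_ext_of_local f hloc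
  intro R _ v M₁ M₂ _ _ e₁ e₂ T t
  rw [← Category.assoc, ← Category.assoc, comp_lift, comp_lift]
  exact pair_const_local β hmul s hconn R v M₁ M₂ e₁ e₂ T _ _ _

end Global

end

end Groth.Agent.Lib.Helper14.MTPairGlobal
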