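import Mathlib
import Groth.Prelude.Def_AlgGrp
import Groth.Prelude.Def_Red
import Groth.Prelude.Def_Red2
import Groth.Prelude.Def_RedSub
import Groth.Prelude.Def_SGA3x
import Groth.Agent.Lib.Helper14.DSProd
import Groth.Agent.Lib.Helper14.KerMT2
import Groth.Agent.Lib.Helper14.MTProps
import Groth.Agent.Lib.Helper14.MTComm
import Groth.Agent.Lib.Helper14.SplitQuot2
import Groth.Agent.Lib.Helper5.FppfImage5
import Groth.Agent.Lib.Helper15.GrpPtsLemmas

/-!
# helper14: over a connected base, two split subtori of a group of multiplicative type of finite type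
are contained in a common split subtorus (their sum)
-/

set_option autoImplicit false
universe u
open CategoryTheory CategoryTheory.Limits AlgebraicGeometry MonoidalCategory
  CartesianMonoidalCategory MonObj

namespace Groth.Agent.Lib.Helper14.SplitSum

noncomputable section

open Groth.Agent.Lib.Helper14.DiagHomG1

/-- groups of multiplicative type of finite type are locally of finite presentation -/
theorem locallyOfFinitePresentation_of_isMultTypeFT {S : Scheme.{u}} (K : Over S) [GrpObj K]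
    (hK : SGA3x.IsMultTypeFT K) : LocallyOfFinitePresentation K.hom :=
  Groth.Agent.Lib.Helper14.MTProps.hom_prop_of_isMultTypeFT @LocallyOfFinitePresentation
    (fun B M _ hfg => by
      haveI := hfg
      exact Groth.Agent.Lib.Helper14.MTProps.locallyOfFinitePresentation_DS B M) K hK

/-- the product of two homomorphisms into a commutative group is a homomorphism -/
theorem isMonHom_mul_of_comm {S : Scheme.{u}} {A G : Over S} [GrpObj A] [GrpObj G]
    (hcomm : ∀ (X : Over S) (a b : X ⟶ G), a * b = b * a) (f g : A ⟶ G) [IsMonHom f]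
    [IsMonHom g] : IsMonHom (f * g) := by
  apply Groth.Agent.Lib.helper15.GrpPtsLemmas.isMonHom_of_mul_points
  intro X x y
  rw [MonObj.comp_mul, MonObj.comp_mul, MonObj.comp_mul, MonObj.mul_comp, MonObj.mul_comp]
  rw [_root_.mul_assoc, _root_.mul_assoc]
  congr 1
  rw [← _root_.mul_assoc, ← _root_.mul_assoc, hcomm X (y ≫ f) (x ≫ g)]

/-- the sum of two split subtori -/
theorem exists_sum {S : Scheme.{u}} [ConnectedSpace ↥S] {G T T' : Over S} [GrpObj G] [GrpObj T]
    [GrpObj T'] (hG : SGA3x.IsMultTypeFT G) (j : T ⟶ G) [IsMonHom j] (j' : T' ⟶ G) [IsMonHom j']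
    (r r' : ℕ) (hT : Red.IsSplitTorusWith (Fin r → ℤ) T)
    (hT' : Red.IsSplitTorusWith (Fin r' → ℤ) T') :
    ∃ (Q : Over S) (_ : GrpObj Q) (m : Q ⟶ G) (r'' : ℕ) (g₁ : T ⟶ Q) (g₂ : T' ⟶ Q),
      IsMonHom m ∧ Mono m ∧ Red.IsSplitTorusWith (Fin r'' → ℤ) Q ∧ g₁ ≫ m = j ∧ g₂ ≫ m = j' := by
  have hP : Red.IsSplitTorusWith (Fin (r + r') → ℤ) (T ⊗ T') :=
    Groth.Agent.Lib.Helper14.DSProd.split_tensor r r' hT hT'
  have hPm : SGA3x.IsMultTypeFT (T ⊗ T') :=
    Groth.Agent.Lib.Helper14.TorusMonoIso.isMultTypeFT_of_isTorus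
      (Groth.Agent.Lib.Helper14.MaxSplit.isTorus_of_split _ hP)
  have hcomm := Groth.Agent.Lib.Helper14.MTComm.comm_of_isMultTypeFT hG
  let σ : T ⊗ T' ⟶ G := (fst T T' ≫ j) * (snd T T' ≫ j')
  haveI : IsMonHom σ := isMonHom_mul_of_comm hcomm _ _
  obtain ⟨K, instK, k, hkm, hkmono, hk⟩ := Groth.Agent.Lib.Helper14.KerMT.exists_kernel_grp σ
  haveI := hkm
  haveI := hkmono
  have hKm : SGA3x.IsMultTypeFT K :=
    Groth.Agent.Lib.Helper14.KerMT.isMultTypeFT_kernel hPm hG σ k hk
  haveI : Flat K.hom := Groth.Agent.Lib.Helper14.MTProps.flat_of_isMultTypeFT K hKm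
  haveI : LocallyOfFinitePresentation (T ⊗ T').hom :=
    locallyOfFinitePresentation_of_isMultTypeFT _ hPm
  haveI : LocallyOfFinitePresentation G.hom := locallyOfFinitePresentation_of_isMultTypeFT _ hG
  haveI : LocallyOfFiniteType G.hom := inferInstance
  obtain ⟨Q, instQ, q, hqm, hq, -, m, hmm, hmmono, hqm'⟩ :=
    Groth.Agent.Lib.helper5.FppfImage.exists_quotient_by_flat_kernel' (T ⊗ T') G
      (Or.inl inferInstance) σ K k hk
  haveI := hqm
  haveI := hmm
  haveI := hmmono
  obtain ⟨r'', -, hQ⟩ :=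
    Groth.Agent.Lib.Helper14.SplitQuot.split_of_connected (r + r') hP k hKm q hq
  refine ⟨Q, instQ, m, r'', lift (𝟙 T) 1 ≫ q, lift 1 (𝟙 T') ≫ q, hmm, hmmono, hQ, ?_, ?_⟩
  · rw [Category.assoc, hqm']
    show lift (𝟙 T) 1 ≫ ((fst T T' ≫ j) * (snd T T' ≫ j')) = j
    rw [MonObj.comp_mul, lift_fst_assoc, lift_snd_assoc, Category.id_comp]
    have h1 : (1 : T ⟶ T') ≫ j' = 1 := MonObj.one_comp _
    rw [h1, _root_.mul_one]
  · rw [Category.assoc, hqm']
    show lift 1 (𝟙 T') ≫ ((fst T T' ≫ j) * (snd T T' ≫ j')) = j'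
    rw [MonObj.comp_mul, lift_fst_assoc, lift_snd_assoc, Category.id_comp]
    have h1 : (1 : T' ⟶ T) ≫ j = 1 := MonObj.one_comp _
    rw [h1, _root_.one_mul]

end

end Groth.Agent.Lib.Helper14.SplitSum
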