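import Mathlib
import Groth.Prelude.Def_AlgGrp
import Groth.Prelude.Def_Red
import Groth.Prelude.Def_Red2
import Groth.Prelude.Def_RedSub
import Groth.Prelude.Def_SGA3x
import Groth.Agent.Lib.Helper14.LocSplit3
import Groth.Agent.Lib.Helper14.SplitSum

/-!
# helper14: over an arbitrary base, two locally split subtori of a group of multiplicative type of
finite type are contained in a common locally split subtorus (their sum)
-/

set_option autoImplicit false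
universe u
open CategoryTheory CategoryTheory.Limits AlgebraicGeometry MonoidalCategory
  CartesianMonoidalCategory MonObj

namespace Groth.Agent.Lib.Helper14.LocSplit

noncomputable section

open Groth.Agent.Lib.Helper14.DiagHomG1 Groth.Agent.Lib.Helper14.DiagHomG2
  Groth.Agent.Lib.Helper14.MTRestrict Groth.Agent.Lib.Helper14.KerMT
  Groth.Agent.Lib.Helper14.SplitSum Groth.Agent.Lib.Helper14.TorusMonoIso
  Groth.Agent.Lib.Helper14.MaxSplit

/-- the sum of two locally split subtori -/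
theorem exists_sum_loc {S : Scheme.{u}} {G E₁ E₂ : Over S} [GrpObj G] [GrpObj E₁] [GrpObj E₂]
    (hG : SGA3x.IsMultTypeFT G) (j₁ : E₁ ⟶ G) [IsMonHom j₁] (j₂ : E₂ ⟶ G) [IsMonHom j₂]
    (h₁ : LocallySplit E₁) (h₂ : LocallySplit E₂) :
    ∃ (E₃ : Over S) (_ : GrpObj E₃) (j₃ : E₃ ⟶ G) (g₁ : E₁ ⟶ E₃) (g₂ : E₂ ⟶ E₃),
      IsMonHom j₃ ∧ Mono j₃ ∧ LocallySplit E₃ ∧ g₁ ≫ j₃ = j₁ ∧ g₂ ≫ j₃ = j₂ := by
  have hP : LocallySplit (E₁ ⊗ E₂) := locallySplit_tensor h₁ h₂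
  have hcomm := Groth.Agent.Lib.Helper14.MTComm.comm_of_isMultTypeFT hG
  let σ : E₁ ⊗ E₂ ⟶ G := (fst E₁ E₂ ≫ j₁) * (snd E₁ E₂ ≫ j₂)
  haveI : IsMonHom σ := isMonHom_mul_of_comm hcomm _ _
  obtain ⟨K, instK, k, hkm, hkmono, hk⟩ := exists_kernel_grp σ
  haveI := hkm
  haveI := hkmono
  have hloc : ∀ s : ↥S, ∃ U : S.Opens, s ∈ U ∧
      (∃ r : ℕ, Red.IsSplitTorusWith (Fin r → ℤ) (Red.bc U.ι (E₁ ⊗ E₂))) ∧
        SGA3x.IsMultTypeFT (Red.bc U.ι K) := by
    intro s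
    obtain ⟨U, hsU, r, hr⟩ := hP s
    refine ⟨U, hsU, ⟨r, hr⟩, ?_⟩
    haveI : IsMonHom ((Over.pullback U.ι).map σ) := Functor.map.instIsMonHom _ _ _
    haveI : IsMonHom ((Over.pullback U.ι).map k) := Functor.map.instIsMonHom _ _ _
    exact isMultTypeFT_kernel (isMultTypeFT_of_isTorus (isTorus_of_split r hr))
      (isMultTypeFT_restrict hG U) ((Over.pullback U.ι).map σ) ((Over.pullback U.ι).map k)
      (isKernel_bc U.ι k σ hk)
  haveI : Flat K.hom := hom_prop_of_zariski @Flat K (fun s => by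
    obtain ⟨U, hsU, -, hKU⟩ := hloc s
    exact ⟨U, hsU, Groth.Agent.Lib.Helper14.MTProps.flat_of_isMultTypeFT _ hKU⟩)
  haveI : LocallyOfFinitePresentation (E₁ ⊗ E₂).hom :=
    hom_prop_of_zariski @LocallyOfFinitePresentation _ (fun s => by
      obtain ⟨U, hsU, r, hr⟩ := hP s
      exact ⟨U, hsU, locallyOfFinitePresentation_of_isMultTypeFT _
        (isMultTypeFT_of_isTorus (isTorus_of_split r hr))⟩)
  haveI : LocallyOfFinitePresentation G.hom := locallyOfFinitePresentation_of_isMultTypeFT _ hG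
  haveI : LocallyOfFiniteType G.hom := inferInstance
  obtain ⟨Q, instQ, q, hqm, hq, -, m, hmm, hmmono, hqm'⟩ :=
    Groth.Agent.Lib.helper5.FppfImage.exists_quotient_by_flat_kernel' (E₁ ⊗ E₂) G
      (Or.inl inferInstance) σ K k hk
  haveI := hqm
  haveI := hmm
  haveI := hmmono
  have hQ : LocallySplit Q := locallySplit_quot' hloc k q hq
  refine ⟨Q, instQ, m, lift (𝟙 E₁) 1 ≫ q, lift 1 (𝟙 E₂) ≫ q, hmm, hmmono, hQ, ?_, ?_⟩
  · rw [Category.assoc, hqm']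
    show lift (𝟙 E₁) 1 ≫ ((fst E₁ E₂ ≫ j₁) * (snd E₁ E₂ ≫ j₂)) = j₁
    rw [MonObj.comp_mul, lift_fst_assoc, lift_snd_assoc, Category.id_comp]
    have h1 : (1 : E₁ ⟶ E₂) ≫ j₂ = 1 := MonObj.one_comp _
    rw [h1, _root_.mul_one]
  · rw [Category.assoc, hqm']
    show lift 1 (𝟙 E₂) ≫ ((fst E₁ E₂ ≫ j₁) * (snd E₁ E₂ ≫ j₂)) = j₂
    rw [MonObj.comp_mul, lift_fst_assoc, lift_snd_assoc, Category.id_comp]
    have h1 : (1 : E₂ ⟶ E₁) ≫ j₁ = 1 := MonObj.one_comp _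
    rw [h1, _root_.one_mul]

end

end Groth.Agent.Lib.Helper14.LocSplit
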