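import Mathlib
import Groth.Prelude.Def_AlgGrp
import Groth.Prelude.Def_Red
import Groth.Prelude.Def_SGA3x
import Groth.Agent.Lib.Helper14.BCGrp
import Groth.Agent.Lib.Helper14.MultNilGlobal

/-!
# helper14: being of multiplicative type of finite type is Zariski-local on the base
-/

set_option autoImplicit false
universe u
open CategoryTheory CategoryTheory.Limits AlgebraicGeometry MonoidalCategory
  CartesianMonoidalCategory MonObj

namespace Groth.Agent.Lib.Helper14.MTZariski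

noncomputable section

open Groth.Agent.Lib.Helper14.BCGrp Groth.Agent.Lib.Helper14.MultNilGlobal

theorem isMultTypeFT_of_zariski {S : Scheme.{u}} (H : Over S) [GrpObj H]
    (h : ∀ s : S, ∃ U : S.Opens, s ∈ U ∧ SGA3x.IsMultTypeFT (Red.bc U.ι H)) :
    SGA3x.IsMultTypeFT H := by
  choose U hsU hMT using h
  have hMT' : ∀ s : S, ∃ (S' : Scheme.{u}) (f : S' ⟶ (U s : Scheme.{u})), Flat f ∧ Surjective f ∧
      (∀ V : (U s : Scheme.{u}).Opens, IsAffineOpen V → ∃ W : S'.Opens,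
        IsCompact (W : Set S') ∧ f.base '' (W : Set S') = (V : Set (U s : Scheme.{u}))) ∧
      ∀ s' : S', ∃ O : S'.Opens, s' ∈ O ∧ ∃ (M : Type) (_ : AddCommGroup M), AddGroup.FG M ∧
        Nonempty (Grp.mk (Red.bc (O.ι ≫ f) (Red.bc (U s).ι H)) ≅ Grp.mk (Red.DS (O : Scheme.{u}) M)) :=
    fun s => hMT s
  choose X f hfl hsurj hcov hloc using hMT'
  let g : ∀ s : S, X s ⟶ S := fun s => f s ≫ (U s).ι
  haveI : ∀ s, Flat (f s) := hfl
  haveI : ∀ s, Flat (g s) := fun s => inferInstanceAs (Flat (f s ≫ (U s).ι))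
  let F : (∐ X) ⟶ S := Sigma.desc g
  have hιF : ∀ s, Sigma.ι X s ≫ F = g s := fun s => Sigma.ι_desc g s
  have hFpt : ∀ (s : S) (y : X s), F (Sigma.ι X s y) = (U s).ι (f s y) := by
    intro s y
    rw [← Scheme.Hom.comp_apply, hιF, Scheme.Hom.comp_apply]
  refine ⟨∐ X, F, inferInstance, ?_, ?_, ?_⟩
  · apply Surjective.sigmaDesc_of_union_range_eq_univ
    ext z
    simp only [Set.mem_iUnion, Set.mem_univ, iff_true]
    obtain ⟨y, hy⟩ := (hsurj z).surj ⟨z, hsU z⟩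
    refine ⟨z, y, ?_⟩
    show (f z ≫ (U z).ι) y = z
    rw [Scheme.Hom.comp_apply, hy]
    rfl
  · intro V hV
    -- affine opens `B v ⊆ U v ⊓ V` around the points of `V`
    have hB : ∀ v : (V : Set S), ∃ B : S.Opens, IsAffineOpen B ∧ v.1 ∈ B ∧ B ≤ U v.1 ⊓ V :=
      fun v => exists_affine_nbhd S (U v.1 ⊓ V) v.1 ⟨hsU v.1, v.2⟩
    choose B hBaff hvB hBle using hB
    obtain ⟨t, ht⟩ := hV.isCompact.elim_finite_subcover (fun v : (V : Set S) => (B v : Set S))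
      (fun v => (B v).isOpen) (fun z hz => Set.mem_iUnion.mpr ⟨⟨z, hz⟩, hvB ⟨z, hz⟩⟩)
    have hB' : ∀ v : (V : Set S), IsAffineOpen ((U v.1).ι ⁻¹ᵁ B v) := fun v =>
      (hBaff v).preimage_of_isOpenImmersion (U v.1).ι (by
        rw [Scheme.Opens.opensRange_ι]
        exact le_trans (hBle v) inf_le_left)
    have hW : ∀ v : (V : Set S), ∃ W : (X v.1).Opens, IsCompact (W : Set (X v.1)) ∧
        (f v.1).base '' (W : Set (X v.1)) = (((U v.1).ι ⁻¹ᵁ B v : (U v.1 : Scheme.{u}).Opens) :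
          Set (U v.1 : Scheme.{u})) := fun v => hcov v.1 _ (hB' v)
    choose W hWc hWB using hW
    refine ⟨⟨⋃ v ∈ t, (Sigma.ι X v.1).base '' (W v : Set (X v.1)), ?_⟩, ?_, ?_⟩
    · exact isOpen_biUnion (fun v _ => (Sigma.ι X v.1).isOpenEmbedding.isOpenMap _ (W v).2)
    · exact t.isCompact_biUnion (fun v _ => (hWc v).image (Sigma.ι X v.1).continuous)
    · ext z
      simp only [TopologicalSpace.Opens.coe_mk, Set.mem_image, Set.mem_iUnion, exists_prop,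
        SetLike.mem_coe]
      constructor
      · rintro ⟨x, ⟨v, hvt, y, hy, rfl⟩, rfl⟩
        have h1 : f v.1 y ∈ (f v.1).base '' (W v : Set (X v.1)) := ⟨y, hy, rfl⟩
        rw [hWB v] at h1
        have h2 : (U v.1).ι (f v.1 y) ∈ B v := h1
        rw [hFpt]
        exact ((hBle v) h2).2
      · intro hz
        obtain ⟨v, hv⟩ := Set.mem_iUnion.mp (ht hz)
        obtain ⟨hvt, hzB⟩ := Set.mem_iUnion.mp hv
        have hzU : z ∈ U v.1 := ((hBle v) hzB).1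
        have h1 : (⟨z, hzU⟩ : (U v.1 : Scheme.{u})) ∈
            (((U v.1).ι ⁻¹ᵁ B v : (U v.1 : Scheme.{u}).Opens) : Set (U v.1 : Scheme.{u})) := hzB
        rw [← hWB v] at h1
        obtain ⟨y, hy, hyz⟩ := h1
        refine ⟨Sigma.ι X v.1 y, ⟨v, hvt, y, hy, rfl⟩, ?_⟩
        rw [hFpt, show f v.1 y = ⟨z, hzU⟩ from hyz]
        rfl
  · intro x
    obtain ⟨⟨s, y⟩, hxy⟩ := (sigmaMk X).surjective x
    rw [sigmaMk_mk] at hxy
    obtain ⟨O, hyO, M, instM, hfg, ⟨e⟩⟩ := hloc s y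
    let jj : (O : Scheme.{u}) ⟶ ∐ X := O.ι ≫ Sigma.ι X s
    refine ⟨jj.opensRange, ⟨⟨y, hyO⟩, ?_⟩, M, instM, hfg, ⟨?_⟩⟩
    · rw [← hxy]
      rfl
    · let w' : (jj.opensRange : Scheme.{u}) ⟶ (O : Scheme.{u}) := jj.isoOpensRange.inv
      have hw' : w' ≫ jj = jj.opensRange.ι := Scheme.Hom.isoOpensRange_inv_comp jj
      have heq' : jj.opensRange.ι ≫ F = w' ≫ ((O.ι ≫ f s) ≫ (U s).ι) := by
        rw [← hw']
        simp only [Category.assoc, jj]
        rw [hιF]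
      let e' : Grp.mk (Red.bc ((O.ι ≫ f s) ≫ (U s).ι) H) ≅ Grp.mk (Red.DS (O : Scheme.{u}) M) :=
        bcCompGrpIso (O.ι ≫ f s) (U s).ι H ≪≫ e
      exact bcGrpIsoOfEq heq' H ≪≫ diagBC w' ((O.ι ≫ f s) ≫ (U s).ι) H M e'

end

end Groth.Agent.Lib.Helper14.MTZariski
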