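import Mathlib
import Groth.Prelude.Def_AlgGrp
import Groth.Prelude.Def_Red
import Groth.Prelude.Def_Red2
import Groth.Prelude.Def_RedSub
import Groth.Prelude.Def_SGA3x
import Groth.Agent.Lib.Helper14.LocSplit4
import Groth.Agent.Lib.Helper14.MTZariski

/-!
# helper14: over a connected base, a group of multiplicative type of finite type has a greatest
locally split subtorus
-/

set_option autoImplicit false
universe u
open CategoryTheory CategoryTheory.Limits AlgebraicGeometry MonoidalCategory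
  CartesianMonoidalCategory MonObj

namespace Groth.Agent.Lib.Helper14.LocSplit

noncomputable section

open Groth.Agent.Lib.Helper14.DiagHomG1 Groth.Agent.Lib.Helper14.DiagHomG2
  Groth.Agent.Lib.Helper14.DiagHomG4 Groth.Agent.Lib.Helper14.DiagHomG5
  Groth.Agent.Lib.Helper14.MTRestrict Groth.Agent.Lib.Helper14.TorusMonoIso
  Groth.Agent.Lib.Helper14.MaxSplit Groth.Agent.Lib.Helper14.BCGrp
  Groth.Agent.Lib.Helper14.MTZariski Groth.Agent.Lib.Helper14.SplitQuot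

/-- a locally split torus is of multiplicative type of finite type -/
theorem isMultTypeFT_of_locallySplit {S : Scheme.{u}} {T : Over S} [GrpObj T]
    (hT : LocallySplit T) : SGA3x.IsMultTypeFT T := by
  apply isMultTypeFT_of_zariski
  intro s
  obtain ⟨U, hsU, r, hr⟩ := hT s
  exact ⟨U, hsU, isMultTypeFT_of_isTorus (isTorus_of_split r hr)⟩

/-- a split torus is locally split -/
theorem locallySplit_of_split {S : Scheme.{u}} {T : Over S} [GrpObj T] (r : ℕ)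
    (hT : Red.IsSplitTorusWith (Fin r → ℤ) T) : LocallySplit T := by
  obtain ⟨e⟩ := hT
  intro s
  exact ⟨⊤, trivial, r, ⟨splitBC _ _ e⟩⟩

/-- the splitting of the fibre at a point of an open over which the torus is split -/
theorem split_fibre {S : Scheme.{u}} {T : Over S} [GrpObj T] (U : S.Opens) (s : S) (hs : s ∈ U)
    (r : ℕ) (e : Grp.mk (Red.bc U.ι T) ≅ Grp.mk (Red.DS U (Fin r → ℤ))) :
    Nonempty (Grp.mk (Red.bc (S.fromSpecResidueField s) T) ≅
      Grp.mk (Red.DS (Spec (S.residueField s)) (Fin r → ℤ))) := by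
  have hr : Set.range (S.fromSpecResidueField s).base ⊆ Set.range U.ι.base := by
    rw [Scheme.range_fromSpecResidueField, Scheme.Opens.range_ι]
    rintro _ rfl
    exact hs
  let w : Spec (S.residueField s) ⟶ (U : Scheme.{u}) :=
    IsOpenImmersion.lift U.ι (S.fromSpecResidueField s) hr
  have hw : S.fromSpecResidueField s = w ≫ U.ι := (IsOpenImmersion.lift_fac _ _ _).symm
  exact ⟨bcGrpIsoOfEq hw T ≪≫ diagBC w U.ι T _ e⟩

/-- a monomorphism of locally split tori over a connected base, of the same rank at one point,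
is an isomorphism -/
theorem isIso_of_mono_loc {S : Scheme.{u}} [ConnectedSpace ↥S] {T T' : Over S} [GrpObj T]
    [GrpObj T'] (hT : LocallySplit T) (hT' : LocallySplit T') (g : T ⟶ T') [IsMonHom g] [Mono g]
    (s₀ : S) (r : ℕ) (U U' : S.Opens) (hs : s₀ ∈ U) (hs' : s₀ ∈ U')
    (e : Grp.mk (Red.bc U.ι T) ≅ Grp.mk (Red.DS U (Fin r → ℤ)))
    (e' : Grp.mk (Red.bc U'.ι T') ≅ Grp.mk (Red.DS U' (Fin r → ℤ))) : IsIso g := by
  obtain ⟨Z, hZc, hZiff, hZ1⟩ := main (MorphismProperty.isomorphisms Scheme.{u}) hLoc_iso T T'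
    (isMultTypeFT_of_locallySplit hT) (isMultTypeFT_of_locallySplit hT') g
  obtain ⟨a⟩ := split_fibre U s₀ hs r e
  obtain ⟨a'⟩ := split_fibre U' s₀ hs' r e'
  have hs₀ : s₀ ∈ Z := by
    rw [hZiff]
    have h1 : PAt (MorphismProperty.isomorphisms Scheme.{u}) g
        (Groth.Agent.Lib.Helper14.DiagHom2.kk (S.residueField s₀) (S.residueField s₀) ≫
          S.fromSpecResidueField s₀) :=
      fibre_iso g (S.residueField s₀) (S.fromSpecResidueField s₀) r a a'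
    exact PAt.of_comp _ (qfpqc_field (S.residueField s₀) (S.residueField s₀)) h1
  have hZtop : Z = ⊤ := opens_eq_top_of_clopen Z hZc s₀ hs₀
  subst hZtop
  haveI : IsIso (⊤ : S.Opens).ι := inferInstanceAs (IsIso S.topIso.hom)
  have h2 : PAt (MorphismProperty.isomorphisms Scheme.{u}) g ((⊤ : S.Opens).ι ≫ 𝟙 S) := by
    rw [Category.comp_id]; exact hZ1
  exact isIso_of_PAt_id g (PAt.of_comp _ (qfpqc_of_isIso _) h2)

/-- the rank of a split subtorus near a point is bounded -/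
theorem rank_le_loc {S S' : Scheme.{u}} (f : S' ⟶ S) {G T : Over S} [GrpObj G] [GrpObj T]
    (j : T ⟶ G) [IsMonHom j] [Mono j] (s' : S') (UG : S'.Opens) (hs' : s' ∈ UG) (N : Type)
    [AddCommGroup N] (eG : Grp.mk (Red.bc (UG.ι ≫ f) G) ≅ Grp.mk (Red.DS UG N))
    (n : ℕ) (gen : (Fin n → ℤ) →+ N) (hgen : Function.Surjective gen)
    (U : S.Opens) (hU : f s' ∈ U) (r : ℕ)
    (eT : Grp.mk (Red.bc U.ι T) ≅ Grp.mk (Red.DS U (Fin r → ℤ))) : r ≤ n := by
  let B : S'.Opens := UG ⊓ f ⁻¹ᵁ U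
  haveI : Nonempty ↥(B : Scheme.{u}) := ⟨⟨s', ⟨hs', hU⟩⟩⟩
  have hr : Set.range (B.ι ≫ f).base ⊆ Set.range U.ι.base := by
    rintro _ ⟨c, rfl⟩
    rw [Scheme.Opens.range_ι]
    exact c.2.2
  let w : (B : Scheme.{u}) ⟶ (U : Scheme.{u}) := IsOpenImmersion.lift U.ι (B.ι ≫ f) hr
  have hw : B.ι ≫ f = w ≫ U.ι := (IsOpenImmersion.lift_fac _ _ _).symm
  have hB : B.ι ≫ f = S'.homOfLE (inf_le_left : B ≤ UG) ≫ UG.ι ≫ f := by
    rw [← Category.assoc, Scheme.homOfLE_ι]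
  let eT' : Grp.mk (Red.bc (B.ι ≫ f) T) ≅ Grp.mk (Red.DS B (Fin r → ℤ)) :=
    bcGrpIsoOfEq hw T ≪≫ diagBC w U.ι T _ eT
  let eG' : Grp.mk (Red.bc (B.ι ≫ f) G) ≅ Grp.mk (Red.DS B N) :=
    bcGrpIsoOfEq hB G ≪≫ diagBC (S'.homOfLE (inf_le_left : B ≤ UG)) (UG.ι ≫ f) G N eG
  haveI : IsMonHom ((Over.pullback (B.ι ≫ f)).map j) := Functor.map.instIsMonHom _ _ _
  haveI : Mono ((Over.pullback (B.ι ≫ f)).map j) := inferInstance
  exact rank_le_of_mono r n gen hgen eT' eG' ((Over.pullback (B.ι ≫ f)).map j)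

/-- **Over a connected base, a group of multiplicative type of finite type has a greatest locally
split subtorus.** -/
theorem exists_greatest_loc {S : Scheme.{u}} [ConnectedSpace ↥S] {G : Over S} [GrpObj G]
    (hG : SGA3x.IsMultTypeFT G) :
    ∃ (T : Over S) (_ : GrpObj T) (j : T ⟶ G), IsMonHom j ∧ Mono j ∧ LocallySplit T ∧
      ∀ (T' : Over S) [GrpObj T'] (j' : T' ⟶ G) [IsMonHom j'] [Mono j'],
        LocallySplit T' → ∃ g : T' ⟶ T, g ≫ j = j' := by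
  obtain ⟨s₀⟩ : Nonempty ↥S := inferInstance
  have hG' := hG
  obtain ⟨S', f, hfl, hsurj, hcov, hloc⟩ := hG'
  obtain ⟨s', hs'⟩ := hsurj.surj s₀
  obtain ⟨UG, hUG, N, _, hfg, ⟨eG⟩⟩ := hloc s'
  haveI : Module.Finite ℤ N := Module.Finite.iff_addGroup_fg.mpr hfg
  obtain ⟨n, gen', hgen'⟩ := Module.Finite.exists_fin' ℤ N
  -- the rank at `s₀` of a locally split subtorus
  let Rk : ℕ → Prop := fun r => ∃ (T : Over S) (_ : GrpObj T) (j : T ⟶ G),
    IsMonHom j ∧ Mono j ∧ LocallySplit T ∧ ∃ U : S.Opens, s₀ ∈ U ∧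
      Red.IsSplitTorusWith (Fin r → ℤ) (Red.bc U.ι T)
  have hbound : ∀ r, Rk r → r ≤ n := by
    rintro r ⟨T, instT, j, hjm, hjmono, -, U, hsU, ⟨eT⟩⟩
    haveI := hjm
    haveI := hjmono
    exact rank_le_loc f j s' UG hUG N eG n gen'.toAddMonoidHom hgen' U (by rw [hs']; exact hsU) r eT
  have h0 : Rk 0 := ⟨Red.DS S (Fin 0 → ℤ), inferInstance, 1, isMonHom_one _ _, mono_of_DS0 _,
    locallySplit_of_split 0 ⟨Iso.refl _⟩, ⊤, trivial, ⟨splitBC _ _ (Iso.refl _)⟩⟩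
  classical
  have hr : Rk (Nat.findGreatest Rk n) := Nat.findGreatest_spec (Nat.zero_le n) h0
  have hmax : ∀ r', Rk r' → r' ≤ Nat.findGreatest Rk n := fun r' h' =>
    Nat.le_findGreatest (hbound r' h') h'
  obtain ⟨T, instT, j, hjm, hjmono, hTloc, U, hsU, ⟨eT⟩⟩ := hr
  haveI := hjm
  haveI := hjmono
  refine ⟨T, instT, j, hjm, hjmono, hTloc, ?_⟩
  intro T' _ j' _ _ hT'loc
  obtain ⟨E₃, instE₃, j₃, g₁, g₂, hj₃m, hj₃mono, hE₃, hg₁, hg₂⟩ :=
    exists_sum_loc hG j j' hTloc hT'loc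
  haveI := hj₃m
  haveI := hj₃mono
  haveI : IsMonHom g₁ := isMonHom_of_comp g₁ j₃ (by rw [hg₁]; infer_instance)
  haveI : Mono g₁ := mono_of_mono_fac hg₁
  obtain ⟨U₃, hsU₃, r₃, ⟨e₃⟩⟩ := hE₃ s₀
  have hle₁ : r₃ ≤ Nat.findGreatest Rk n :=
    hmax r₃ ⟨E₃, instE₃, j₃, hj₃m, hj₃mono, hE₃, U₃, hsU₃, ⟨e₃⟩⟩
  -- the rank of `T` is at most the rank of `E₃`
  have hle₂ : Nat.findGreatest Rk n ≤ r₃ := by
    let B : S.Opens := U ⊓ U₃
    haveI : Nonempty ↥(B : Scheme.{u}) := ⟨⟨s₀, ⟨hsU, hsU₃⟩⟩⟩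
    obtain ⟨a⟩ := split_of_le (inf_le_left : B ≤ U) _ eT
    obtain ⟨a₃⟩ := split_of_le (inf_le_right : B ≤ U₃) _ e₃
    haveI : IsMonHom ((Over.pullback B.ι).map g₁) := Functor.map.instIsMonHom _ _ _
    haveI : Mono ((Over.pullback B.ι).map g₁) := inferInstance
    exact rank_le_of_mono _ r₃ (AddMonoidHom.id _) Function.surjective_id a a₃
      ((Over.pullback B.ι).map g₁)
  have heq : r₃ = Nat.findGreatest Rk n := le_antisymm hle₁ hle₂
  subst heq
  haveI : IsIso g₁ := isIso_of_mono_loc hTloc hE₃ g₁ s₀ _ U U₃ hsU hsU₃ eT e₃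
  refine ⟨g₂ ≫ inv g₁, ?_⟩
  rw [Category.assoc, ← hg₁, IsIso.inv_hom_id_assoc, hg₂]

end

end Groth.Agent.Lib.Helper14.LocSplit
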