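import Mathlib
import Groth.Prelude.Def_AlgGrp
import Groth.Prelude.Def_Red
import Groth.Prelude.Def_Red2
import Groth.Prelude.Def_SGA3x
import Groth.Agent.S13371
import Groth.Agent.Lib.Helper14.TrivLoc2
import Groth.Agent.Lib.Helper14.TorusMonoIso
import Groth.Agent.Lib.Helper14.LocSplit5
import Groth.Agent.Lib.Helper14.QuotHom

/-!
# helper14: homomorphisms from the additive group to a torus over a field are trivial
-/

set_option autoImplicit false
universe u
open CategoryTheory CategoryTheory.Limits AlgebraicGeometry MonoidalCategory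
  CartesianMonoidalCategory MonObj

namespace Groth.Agent.Lib.Helper14.GaTorus

noncomputable section

open Groth.Agent.Lib.Helper14.DiagHom2 Groth.Agent.Lib.Helper14.DiagHom3
  Groth.Agent.Lib.Helper14.BCGrp Groth.Agent.Lib.Helper14.DiagHomG1
  Groth.Agent.Lib.Helper14.TorusMonoIso Groth.Agent.Lib.Helper14.MaxSplit
  Groth.Agent.Lib.Helper14.TrivLoc Groth.Agent.Lib.helper15.DSPts
  Groth.Agent.Lib.Helper14.ModelQuot

/-- the base change of `𝔾ₐ` is `𝔾ₐ` -/
def GaBcIso {S' S'' : Scheme.{u}} (w : S'' ⟶ S') :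
    Grp.mk (Red.bc w (Red.Ga S')) ≅ Grp.mk (Red.Ga S'') :=
  (bcCompGrpIso w (Limits.IsTerminal.from specULiftZIsTerminal S') Red.GaZ).symm ≪≫
    bcGrpIsoOfEq (specULiftZIsTerminal.hom_ext _ _) Red.GaZ

/-- over a reduced base every homomorphism from `𝔾ₐ` to a split torus is trivial -/
theorem hom_Ga_DS_eq_one {B : Scheme.{u}} [IsReduced B] (r : ℕ)
    (φ : Red.Ga B ⟶ Red.DS B (Fin r → ℤ)) [IsMonHom φ] : φ = 1 := by
  apply dsFn_injective
  intro m
  rw [dsFn_one]
  let K : AddSubgroup (Fin r → ℤ) :=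
    { carrier := {m | dsFn φ m = 1}
      zero_mem' := dsFn_zero φ
      add_mem' := by
        intro a b ha hb
        show dsFn φ (a + b) = 1
        rw [dsFn_add, ha, hb, _root_.mul_one]
      neg_mem' := by
        intro a ha
        show dsFn φ (-a) = 1
        have h1 : dsFn φ a * dsFn φ (-a) = 1 := by rw [← dsFn_add, add_neg_cancel, dsFn_zero]
        rw [ha, _root_.one_mul] at h1
        exact h1 }
  have hj : ∀ j : Fin r, Pi.single j (1 : ℤ) ∈ K := by
    intro j
    let ψ : ℤ →+ (Fin r → ℤ) := AddMonoidHom.single (fun _ => ℤ) j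
    haveI : IsMonHom (Red.DSmap B ψ) := Groth.Agent.Lib.helper15.DSMap.isMonHom_DSmap _ _
    haveI : IsMonHom (φ ≫ Red.DSmap B ψ) := inferInstance
    have h1 : φ ≫ Red.DSmap B ψ = 1 := Groth.Agent.S13371.result B (φ ≫ Red.DSmap B ψ)
    have h2 := dsFn_DSmap ψ φ (1 : ℤ)
    rw [h1, dsFn_one] at h2
    exact h2.symm
  have hm : m ∈ K := by
    rw [← Finset.univ_sum_single m]
    apply AddSubgroup.sum_mem
    intro j _
    have e : (Pi.single j (m j) : Fin r → ℤ) = (m j) • Pi.single j (1 : ℤ) := by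
      ext k
      by_cases hk : k = j
      · subst hk
        simp
      · simp [Pi.single_apply, hk]
    rw [e]
    exact AddSubgroup.zsmul_mem K (hj j) (m j)
  exact hm

/-- a morphism between spectra of fields is an fpqc covering -/
theorem qfpqc_of_fields (k κ : Type u) [Field k] [Field κ]
    (g : Spec (CommRingCat.of κ) ⟶ Spec (CommRingCat.of k)) : Qfpqc.{u} g := by
  let φ : k →+* κ := (Spec.preimage g).hom
  have hφ : Spec.map (CommRingCat.ofHom φ) = g := by
    rw [CommRingCat.ofHom_hom]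
    exact Spec.map_preimage g
  letI : Algebra k κ := φ.toAlgebra
  rw [← hφ]
  exact qfpqc_field k κ

/-- **Every homomorphism from `𝔾ₐ` to a torus over a field is trivial.** -/
theorem hom_Ga_torus_eq_one (k : Type u) [Field k] (T : Over (Spec (CommRingCat.of k)))
    [GrpObj T] (hT : Red.IsTorus T) (f : Red.Ga (Spec (CommRingCat.of k)) ⟶ T) [IsMonHom f] :
    f = 1 := by
  obtain ⟨S', c, hfl, hsurj, hcov, hloc⟩ := hT
  haveI := hsurj
  obtain ⟨x₀⟩ : Nonempty ↥(Spec (CommRingCat.of k)) :=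
    inferInstanceAs (Nonempty (PrimeSpectrum k))
  obtain ⟨s', -⟩ := hsurj.surj x₀
  obtain ⟨U, hs'U, r, ⟨eU⟩⟩ := hloc s'
  -- the point `s'` of `U`
  have hr : Set.range (S'.fromSpecResidueField s').base ⊆ Set.range U.ι.base := by
    rw [Scheme.range_fromSpecResidueField, Scheme.Opens.range_ι]
    rintro _ rfl
    exact hs'U
  let w : Spec (S'.residueField s') ⟶ (U : Scheme.{u}) :=
    IsOpenImmersion.lift U.ι (S'.fromSpecResidueField s') hr
  let g : Spec (S'.residueField s') ⟶ Spec (CommRingCat.of k) := w ≫ U.ι ≫ c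
  let eT : Grp.mk (Red.bc g T) ≅ Grp.mk (Red.DS (Spec (S'.residueField s')) (Fin r → ℤ)) :=
    diagBC w (U.ι ≫ c) T _ eU
  let eG : Grp.mk (Red.bc g (Red.Ga (Spec (CommRingCat.of k)))) ≅
      Grp.mk (Red.Ga (Spec (S'.residueField s'))) := GaBcIso g
  let fκ : Red.bc g (Red.Ga (Spec (CommRingCat.of k))) ⟶ Red.bc g T := (Over.pullback g).map f
  haveI : IsMonHom fκ := Functor.map.instIsMonHom _ _ _
  haveI : IsMonHom eG.inv.hom.hom := inferInstance
  haveI : IsMonHom eT.hom.hom.hom := inferInstance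
  let φ : Red.Ga (Spec (S'.residueField s')) ⟶ Red.DS (Spec (S'.residueField s')) (Fin r → ℤ) :=
    eG.inv.hom.hom ≫ fκ ≫ eT.hom.hom.hom
  haveI : IsMonHom φ := inferInstanceAs (IsMonHom (eG.inv.hom.hom ≫ fκ ≫ eT.hom.hom.hom))
  have hφ : φ = 1 := hom_Ga_DS_eq_one r φ
  have h1 : eG.hom.hom.hom ≫ eG.inv.hom.hom = 𝟙 _ := congrArg (fun t => t.hom.hom) eG.hom_inv_id
  have h2 : eT.hom.hom.hom ≫ eT.inv.hom.hom = 𝟙 _ := congrArg (fun t => t.hom.hom) eT.hom_inv_id
  have hfκ : fκ = 1 := by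
    have e1 : fκ = eG.hom.hom.hom ≫ φ ≫ eT.inv.hom.hom := by
      show fκ = eG.hom.hom.hom ≫ (eG.inv.hom.hom ≫ fκ ≫ eT.hom.hom.hom) ≫ eT.inv.hom.hom
      simp only [Category.assoc]
      rw [h2, Category.comp_id, ← Category.assoc, h1, Category.id_comp]
    haveI : IsMonHom eT.inv.hom.hom := inferInstance
    have e2 : (1 : Red.Ga (Spec (S'.residueField s')) ⟶
        Red.DS (Spec (S'.residueField s')) (Fin r → ℤ)) ≫ eT.inv.hom.hom = 1 := MonObj.one_comp _
    rw [e1, hφ, e2, MonObj.comp_one]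
  have hpt : PT f (g ≫ 𝟙 _) := by
    rw [Category.comp_id]
    exact (PT_iff_map_eq_one g).mpr hfκ
  have hpt1 : PT f (𝟙 (Spec (CommRingCat.of k))) :=
    PT.desc _ g (qfpqc_of_fields k (S'.residueField s') g) hpt
  have := hpt1 _ (Red.Ga (Spec (CommRingCat.of k))).hom (Category.comp_id _) (𝟙 _)
  rwa [Category.id_comp] at this

end

end Groth.Agent.Lib.Helper14.GaTorus
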