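import Mathlib

/-!
# helper14: general lemmas on Galois categories (Mathlib's `PreGaloisCategory`)
-/

set_option autoImplicit false
universe u v w
open CategoryTheory CategoryTheory.Limits CategoryTheory.PreGaloisCategory

namespace Groth.Agent.Lib.Helper14.Gal

variable {C : Type u} [Category.{v} C] [GaloisCategory C] (F : C ⥤ FintypeCat.{w}) [FiberFunctor F]

/-- every equivariant map of fibres comes from a morphism -/
theorem exists_hom_of_equivariant {X Y : C} (φ : F.obj X → F.obj Y)
    (hφ : ∀ (σ : Aut F) (x : F.obj X), φ (σ • x) = σ • φ x) :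
    ∃ f : X ⟶ Y, ∀ x, F.map f x = φ x := by
  let g : (functorToAction F).obj X ⟶ (functorToAction F).obj Y :=
    { hom := FintypeCat.homMk φ
      comm := fun σ => by
        ext x
        exact hφ σ x }
  obtain ⟨f, hf⟩ := (functorToAction F).map_surjective g
  refine ⟨f, fun x => ?_⟩
  have := congrArg (fun k => k.hom x) hf
  exact this

/-- an object on whose nonempty fibre the fundamental group acts transitively is connected -/
theorem isConnected_of_isPretransitive (X : C) [hne : Nonempty (F.obj X)]
    [MulAction.IsPretransitive (Aut F) (F.obj X)] : IsConnected X where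
  notInitial := not_initial_of_inhabited F hne.some
  noTrivialComponent Y i hm hni := by
    obtain ⟨y⟩ := (not_initial_iff_fiber_nonempty F Y).mp hni
    have : IsIso (F.map i) := by
      refine (ConcreteCategory.isIso_iff_bijective (F.map i)).mpr ⟨?_, fun x' => ?_⟩
      · exact ConcreteCategory.injective_of_mono_of_preservesPullback (F.map i)
      · obtain ⟨σ, hσ⟩ := MulAction.exists_smul_eq (Aut F) (F.map i y) x'
        exact ⟨σ • y, by rw [← mulAction_naturality, hσ]⟩
    exact isIso_of_reflects_iso i F


/-- the fibre of the terminal object is a singleton -/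
theorem fiber_terminal_unique : Nonempty (Unique (F.obj (⊤_ C))) := by
  have hT : IsTerminal (F.obj (⊤_ C)) := IsTerminal.isTerminalObj F (⊤_ C) terminalIsTerminal
  let P : FintypeCat.{w} := FintypeCat.of PUnit.{w + 1}
  have x0 : F.obj (⊤_ C) := (hT.from P) PUnit.unit
  refine ⟨⟨⟨x0⟩, fun x => ?_⟩⟩
  have h := hT.hom_ext (FintypeCat.homMk (fun _ : P => x)) (FintypeCat.homMk (fun _ : P => x0))
  exact congrArg (fun k => k PUnit.unit) h

theorem fiber_terminal_eq (x y : F.obj (⊤_ C)) : x = y := by
  obtain ⟨hu⟩ := fiber_terminal_unique F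
  exact (hu.uniq x).trans (hu.uniq y).symm

theorem smul_fiber_terminal (σ : Aut F) (t : F.obj (⊤_ C)) : σ • t = t :=
  fiber_terminal_eq F _ _

/-- a connected object with a point fixed by the fundamental group is terminal-like: its fibre
is a singleton -/
theorem isIso_of_bijective_fiber {X Y : C} (f : X ⟶ Y) (h : Function.Bijective (F.map f)) :
    IsIso f := by
  have : IsIso (F.map f) := (ConcreteCategory.isIso_iff_bijective (F.map f)).mpr h
  exact isIso_of_reflects_iso f F


/-- every point of the fibre of a coproduct comes from a summand -/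
theorem exists_rep_sigma {ι : Type} [Finite ι] (f : ι → C) (x : F.obj (∐ f)) :
    ∃ (i : ι) (y : F.obj (f i)), F.map (Sigma.ι f i) y = x := by
  have hl : IsColimit (Cofan.mk (∐ f) (Sigma.ι f)) := coproductIsCoproduct f
  let s : Cocone (Discrete.functor f ⋙ F) := F.mapCocone (Cofan.mk (∐ f) (Sigma.ι f))
  have s' : IsColimit s := isColimitOfPreserves F hl
  obtain ⟨⟨j⟩, z, h⟩ := Concrete.isColimit_exists_rep _ s' x
  exact ⟨j, z, h⟩

/-- an object is a finite coproduct of copies of the terminal object iff the fundamental group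
acts trivially on its fibre -/
theorem trivial_action_iff_split (X : C) :
    (∀ (σ : Aut F) (x : F.obj X), σ • x = x) ↔
      ∃ n : ℕ, Nonempty (X ≅ ∐ fun _ : Fin n => ⊤_ C) := by
  constructor
  · intro h
    obtain ⟨ι, hfin, f, e, hc⟩ := has_decomp_connected_components' X
    have hiso : ∀ i, Nonempty (f i ≅ ⊤_ C) := by
      intro i
      have := hc i
      have hmono : Mono (Sigma.ι f i ≫ e.hom) := mono_comp _ _
      have hinj : Function.Injective (F.map (Sigma.ι f i ≫ e.hom)) :=
        ConcreteCategory.injective_of_mono_of_preservesPullback _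
      have htriv : ∀ (σ : Aut F) (y : F.obj (f i)), σ • y = y := by
        intro σ y
        apply hinj
        rw [← mulAction_naturality, h]
      have hsub : ∀ y y' : F.obj (f i), y = y' := by
        intro y y'
        obtain ⟨σ, hσ⟩ := MulAction.exists_smul_eq (Aut F) y y'
        rw [← hσ, htriv]
      obtain ⟨y0⟩ := nonempty_fiber_of_isConnected F (f i)
      have : IsIso (terminal.from (f i)) := by
        apply isIso_of_bijective_fiber F
        refine ⟨fun y y' _ => hsub y y', fun t => ⟨y0, fiber_terminal_eq F _ _⟩⟩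
      exact ⟨asIso (terminal.from (f i))⟩
    cases nonempty_fintype ι
    let eq : ι ≃ Fin (Fintype.card ι) := Fintype.equivFin ι
    refine ⟨Fintype.card ι, ⟨e.symm ≪≫ ?_⟩⟩
    exact Sigma.whiskerEquiv eq (fun i => (hiso i).some.symm)
  · rintro ⟨n, ⟨e⟩⟩ σ x
    have hinj : Function.Injective (F.map e.hom) :=
      ConcreteCategory.injective_of_mono_of_preservesPullback _
    apply hinj
    rw [← mulAction_naturality]
    obtain ⟨j, t, ht⟩ := exists_rep_sigma F (fun _ : Fin n => ⊤_ C) (F.map e.hom x)
    rw [← ht, mulAction_naturality, smul_fiber_terminal]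


/-- every point of the fibre of a binary coproduct comes from one of the summands -/
theorem exists_rep_coprod (X Y : C) (z : F.obj (X ⨿ Y)) :
    (∃ x : F.obj X, F.map coprod.inl x = z) ∨ (∃ y : F.obj Y, F.map coprod.inr y = z) := by
  have hl : IsColimit (BinaryCofan.mk (coprod.inl : X ⟶ X ⨿ Y) coprod.inr) := coprodIsCoprod X Y
  have s' := isColimitOfPreserves F hl
  obtain ⟨⟨j⟩, w, h⟩ := Concrete.isColimit_exists_rep _ s' z
  cases j with
  | left => exact Or.inl ⟨w, h⟩
  | right => exact Or.inr ⟨w, h⟩

/-- the two points of the fibre of `⊤ ⨿ ⊤` are distinct -/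
theorem inl_ne_inr_terminal (t t' : F.obj (⊤_ C)) :
    F.map (coprod.inl : ⊤_ C ⟶ (⊤_ C) ⨿ (⊤_ C)) t ≠ F.map coprod.inr t' := by
  intro h
  have hsub : ∀ z z' : F.obj ((⊤_ C) ⨿ (⊤_ C)), z = z' := by
    have key : ∀ z : F.obj ((⊤_ C) ⨿ (⊤_ C)), z = F.map coprod.inl t := by
      intro z
      rcases exists_rep_coprod F _ _ z with ⟨x, rfl⟩ | ⟨y, rfl⟩
      · rw [fiber_terminal_eq F x t]
      · rw [fiber_terminal_eq F y t', h]
    intro z z'
    rw [key z, key z']
  have hcard := card_fiber_coprod_eq_sum F (⊤_ C) (⊤_ C)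
  obtain ⟨hu⟩ := fiber_terminal_unique F
  have h1 : Nat.card (F.obj (⊤_ C)) = 1 := Nat.card_unique
  have h2 : Nat.card (F.obj ((⊤_ C) ⨿ (⊤_ C))) ≤ 1 :=
    Finite.card_le_one_iff_subsingleton.mpr ⟨hsub⟩
  omega

end Groth.Agent.Lib.Helper14.Gal
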