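import Mathlib
import Groth.Prelude.Def_Pi1X
import Groth.Agent.Lib.Helper14.Gal1

/-!
# helper14: exact functors between Galois categories and the induced map of fundamental groups
-/

set_option autoImplicit false
set_option linter.style.haveILetI false
set_option linter.unusedSectionVars false
universe u v w
open CategoryTheory CategoryTheory.Limits CategoryTheory.PreGaloisCategory

namespace Groth.Agent.Lib.Helper14.Gal

variable {C C' : Type u} [Category.{v} C] [Category.{v} C'] [GaloisCategory C] [GaloisCategory C']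
  (H : C ⥤ C') (F' : C' ⥤ FintypeCat.{w}) [FiberFunctor F'] [FiberFunctor (H ⋙ F')]

omit [GaloisCategory C] [GaloisCategory C'] [FiberFunctor F'] [FiberFunctor (H ⋙ F')] in
/-- the action through the induced map is the action on the fibre of the image -/
theorem autWhisker_smul (σ : Aut F') (X : C) (x : F'.obj (H.obj X)) :
    (Pi1X.autWhisker H F' σ) • (show (H ⋙ F').obj X from x) = σ • x := rfl

omit [GaloisCategory C'] [FiberFunctor F'] in
include F' in
theorem faithful_of_comp : H.Faithful := Functor.Faithful.of_comp H F'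

/-- if the induced map is surjective the functor is full -/
theorem full_of_surjective (hu : Function.Surjective (Pi1X.autWhisker H F')) : H.Full where
  map_surjective {X Y} g := by
    obtain ⟨f, hf⟩ := exists_hom_of_equivariant (H ⋙ F') (X := X) (Y := Y)
      (fun x => F'.map g x) (fun τ x => by
        obtain ⟨σ, rfl⟩ := hu τ
        exact (mulAction_naturality F' σ g x).symm)
    refine ⟨f, ?_⟩
    apply F'.map_injective
    ext x
    exact hf x

/-- a full functor sends connected objects to objects with transitive fibre -/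
theorem isPretransitive_of_full [H.Full] (X : C) [IsConnected X] :
    MulAction.IsPretransitive (Aut F') (F'.obj (H.obj X)) := by
  obtain ⟨⟨t⟩, -⟩ := fiber_terminal_unique (H ⋙ F')
  refine ⟨fun x₀ x₁ => ?_⟩
  classical
  -- the two fixed points of the fibre of `H (⊤ ⨿ ⊤)`
  let pl : F'.obj (H.obj ((⊤_ C) ⨿ (⊤_ C))) :=
    (H ⋙ F').map (coprod.inl : ⊤_ C ⟶ (⊤_ C) ⨿ (⊤_ C)) t
  let pr : F'.obj (H.obj ((⊤_ C) ⨿ (⊤_ C))) :=
    (H ⋙ F').map (coprod.inr : ⊤_ C ⟶ (⊤_ C) ⨿ (⊤_ C)) t
  have hne : pl ≠ pr := inl_ne_inr_terminal (H ⋙ F') t t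
  have hfixl : ∀ τ : Aut (H ⋙ F'), τ • (show (H ⋙ F').obj ((⊤_ C) ⨿ (⊤_ C)) from pl) = pl := by
    intro τ
    change τ • (H ⋙ F').map coprod.inl t = (H ⋙ F').map coprod.inl t
    rw [mulAction_naturality, smul_fiber_terminal]
  have hfixr : ∀ τ : Aut (H ⋙ F'), τ • (show (H ⋙ F').obj ((⊤_ C) ⨿ (⊤_ C)) from pr) = pr := by
    intro τ
    change τ • (H ⋙ F').map coprod.inr t = (H ⋙ F').map coprod.inr t
    rw [mulAction_naturality, smul_fiber_terminal]
  let φ : F'.obj (H.obj X) → F'.obj (H.obj ((⊤_ C) ⨿ (⊤_ C))) := fun x =>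
    if x ∈ MulAction.orbit (Aut F') x₀ then pl else pr
  have hφ : ∀ (σ : Aut F') (x : F'.obj (H.obj X)), φ (σ • x) = σ • φ x := by
    intro σ x
    have hiff : σ • x ∈ MulAction.orbit (Aut F') x₀ ↔ x ∈ MulAction.orbit (Aut F') x₀ := by
      rw [← MulAction.orbit_eq_iff, MulAction.orbit_smul, MulAction.orbit_eq_iff]
    have h1 : φ (σ • x) = φ x := by
      simp only [φ, hiff]
    rw [h1]
    simp only [φ]
    split_ifs
    · exact (hfixl (Pi1X.autWhisker H F' σ)).symm
    · exact (hfixr (Pi1X.autWhisker H F' σ)).symm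
  obtain ⟨g, hg⟩ := exists_hom_of_equivariant F' φ hφ
  obtain ⟨f, rfl⟩ := H.map_surjective g
  -- `φ` is constant since it is equivariant for the transitive action of the group of `H ⋙ F'`
  have hconst : ∀ x : F'.obj (H.obj X), φ x = φ x₀ := by
    intro x
    obtain ⟨τ, hτ⟩ := MulAction.exists_smul_eq (Aut (H ⋙ F'))
      (show (H ⋙ F').obj X from x₀) (show (H ⋙ F').obj X from x)
    have h2 : (H ⋙ F').map f (τ • (show (H ⋙ F').obj X from x₀)) =
        τ • (H ⋙ F').map f (show (H ⋙ F').obj X from x₀) :=
      (mulAction_naturality (H ⋙ F') τ f _).symm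
    rw [hτ] at h2
    have h3 : φ x = τ • (show (H ⋙ F').obj ((⊤_ C) ⨿ (⊤_ C)) from φ x₀) := by
      rw [← hg x, ← hg x₀]
      exact h2
    rw [h3]
    simp only [φ]
    split_ifs
    · exact hfixl τ
    · exact hfixr τ
  have h0 : φ x₀ = pl := by
    simp only [φ]
    rw [if_pos (MulAction.mem_orbit_self x₀)]
  have h1 := hconst x₁
  rw [h0] at h1
  simp only [φ] at h1
  by_cases hx : x₁ ∈ MulAction.orbit (Aut F') x₀
  · obtain ⟨σ, hσ⟩ := hx
    exact ⟨σ, hσ⟩
  · rw [if_neg hx] at h1
    exact absurd h1.symm hne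


/-- if the fundamental group of the target acts transitively on the fibres of the images of Galois
objects, the induced map of fundamental groups is surjective -/
theorem surjective_of_isPretransitive
    (h : ∀ (X : C) [IsGalois X], MulAction.IsPretransitive (Aut F') (F'.obj (H.obj X))) :
    Function.Surjective (Pi1X.autWhisker H F') := by
  letI inst : ∀ X : C, MulAction (Aut F') ((H ⋙ F').obj X) := fun X =>
    inferInstanceAs (MulAction (Aut F') (F'.obj (H.obj X)))
  haveI : IsNaturalSMul (H ⋙ F') (Aut F') :=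
    ⟨fun g {X Y} f x => (mulAction_naturality F' g (H.map f) x).symm⟩
  haveI : ∀ X : C, ContinuousSMul (Aut F') ((H ⋙ F').obj X) := fun X =>
    continuousSMul_aut_fiber F' (H.obj X)
  have hs := toAut_surjective_of_isPretransitive (H ⋙ F') (Aut F') (fun X _ => h X)
  intro τ
  obtain ⟨σ, hσ⟩ := hs τ
  refine ⟨σ, ?_⟩
  rw [← hσ]
  ext X x
  rfl

/-- the induced map of fundamental groups is surjective iff the functor is fully faithful -/
theorem surjective_iff_full :
    Function.Surjective (Pi1X.autWhisker H F') ↔ H.Full := by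
  constructor
  · exact full_of_surjective H F'
  · intro hfull
    exact surjective_of_isPretransitive H F' (fun X _ => isPretransitive_of_full H F' X)


/-- the fundamental group of the target acts compatibly on fibres of images -/
theorem smul_map_comp (σ : Aut F') {X Y : C} (f : X ⟶ Y) (x : F'.obj (H.obj X)) :
    σ • (F'.map (H.map f) x) = F'.map (H.map f) (σ • x) :=
  mulAction_naturality F' σ (H.map f) x

/-- an element acting trivially on all fibres of images lies in the kernel -/
theorem mem_ker_of_forall_smul (σ : Aut F')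
    (h : ∀ (X : C) [IsGalois X] (x : F'.obj (H.obj X)), σ • x = x) :
    σ ∈ (Pi1X.autWhisker H F').ker := by
  rw [MonoidHom.mem_ker]
  apply Iso.ext
  apply natTrans_ext_of_isGalois (H ⋙ F')
  intro X _
  ext x
  exact h X x

theorem smul_eq_of_mem_ker (σ : Aut F') (hσ : σ ∈ (Pi1X.autWhisker H F').ker) (X : C)
    (x : F'.obj (H.obj X)) : σ • x = x := by
  rw [MonoidHom.mem_ker] at hσ
  exact congrArg (fun τ : Aut (H ⋙ F') => τ.hom.app X x) hσ

/-- an open subgroup containing the kernel of the induced map contains the stabiliser of a point of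
the fibre of the image of a Galois object -/
theorem exists_galois_stabilizer_le (U' : Subgroup (Aut F')) (hU' : IsOpen (U' : Set (Aut F')))
    (hker : (Pi1X.autWhisker H F').ker ≤ U') :
    ∃ (X : C) (x : F'.obj (H.obj X)), IsGalois X ∧ MulAction.stabilizer (Aut F') x ≤ U' := by
  let s : Set (Aut F') := (U' : Set (Aut F'))ᶜ
  have hs : IsCompact s := hU'.isClosed_compl.isCompact
  let W : PointedGaloisObject (H ⋙ F') → Set (Aut F') := fun A =>
    ((MulAction.stabilizer (Aut F') (show F'.obj (H.obj A.obj) from A.pt) : Subgroup (Aut F')) :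
      Set (Aut F'))ᶜ
  have hne : Nonempty (PointedGaloisObject (H ⋙ F')) := by
    obtain ⟨A, a, hA, -⟩ := exists_galois_representative (H ⋙ F') (⊤_ C)
    exact ⟨⟨A, a, hA⟩⟩
  have hWo : ∀ A, IsOpen (W A) := fun A =>
    (Subgroup.isClosed_of_isOpen _ (stabilizer_isOpen (Aut F') _)).isOpen_compl
  have hcover : s ⊆ ⋃ A, W A := by
    intro σ hσ
    by_contra hnot
    rw [Set.mem_iUnion] at hnot
    push Not at hnot
    apply hσ
    apply hker
    apply mem_ker_of_forall_smul
    intro X _ x
    have := hnot ⟨X, x, inferInstance⟩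
    simp only [W, Set.mem_compl_iff, not_not] at this
    exact this
  have hdir : Directed (· ⊆ ·) W := by
    intro A B
    obtain ⟨Z, f, z, hgal, hfz⟩ := exists_hom_from_galois_of_fiber (H ⋙ F') (A.obj ⨯ B.obj)
      ((fiberBinaryProductEquiv (H ⋙ F') A.obj B.obj).symm (A.pt, B.pt))
    have h1 : (H ⋙ F').map (f ≫ prod.fst) z = A.pt := by
      rw [Functor.map_comp, FintypeCat.comp_apply, hfz, fiberBinaryProductEquiv_symm_fst_apply]
    have h2 : (H ⋙ F').map (f ≫ prod.snd) z = B.pt := by
      rw [Functor.map_comp, FintypeCat.comp_apply, hfz, fiberBinaryProductEquiv_symm_snd_apply]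
    refine ⟨⟨Z, z, hgal⟩, ?_, ?_⟩
    · intro σ hσ hσz
      apply hσ
      change σ • (show F'.obj (H.obj A.obj) from A.pt) = A.pt
      have hz : σ • (show F'.obj (H.obj Z) from z) = z := hσz
      calc σ • (show F'.obj (H.obj A.obj) from A.pt)
          = σ • F'.map (H.map (f ≫ prod.fst)) z := by rw [← h1]; rfl
        _ = F'.map (H.map (f ≫ prod.fst)) (σ • (show F'.obj (H.obj Z) from z)) :=
            smul_map_comp H F' σ _ _
        _ = A.pt := by rw [hz]; exact h1
    · intro σ hσ hσz
      apply hσ
      change σ • (show F'.obj (H.obj B.obj) from B.pt) = B.pt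
      have hz : σ • (show F'.obj (H.obj Z) from z) = z := hσz
      calc σ • (show F'.obj (H.obj B.obj) from B.pt)
          = σ • F'.map (H.map (f ≫ prod.snd)) z := by rw [← h2]; rfl
        _ = F'.map (H.map (f ≫ prod.snd)) (σ • (show F'.obj (H.obj Z) from z)) :=
            smul_map_comp H F' σ _ _
        _ = B.pt := by rw [hz]; exact h2
  obtain ⟨A, hA⟩ := hs.elim_directed_cover W hWo hcover hdir
  refine ⟨A.obj, A.pt, A.isGalois, ?_⟩
  intro σ hσ
  by_contra hnot
  exact hA hnot hσ


/-- for connected pointed objects with comparable stabilisers there is a morphism -/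
theorem exists_hom_of_stabilizer_le {Y X : C} [IsConnected Y] (F : C ⥤ FintypeCat.{w})
    [FiberFunctor F] (y : F.obj Y) (x : F.obj X)
    (h : MulAction.stabilizer (Aut F) y ≤ MulAction.stabilizer (Aut F) x) :
    ∃ q : Y ⟶ X, F.map q y = x := by
  have hex : ∀ y₁ : F.obj Y, ∃ σ : Aut F, σ • y = y₁ := fun y₁ =>
    MulAction.exists_smul_eq (Aut F) y y₁
  choose c hc using hex
  have hwd : ∀ σ τ : Aut F, σ • y = τ • y → σ • x = τ • x := by
    intro σ τ hστ
    have : τ⁻¹ * σ ∈ MulAction.stabilizer (Aut F) x := by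
      apply h
      rw [MulAction.mem_stabilizer_iff, mul_smul, hστ, inv_smul_smul]
    rw [MulAction.mem_stabilizer_iff, mul_smul, inv_smul_eq_iff] at this
    exact this
  obtain ⟨q, hq⟩ := exists_hom_of_equivariant F (X := Y) (Y := X) (fun y₁ => c y₁ • x)
    (fun ρ y₁ => by
      rw [← mul_smul]
      apply hwd
      rw [hc, mul_smul, hc])
  refine ⟨q, ?_⟩
  rw [hq]
  change c y • x = x
  have := hwd (c y) 1 (by rw [hc, one_smul])
  rw [this, one_smul]

/-- the kernel of the induced map lies in the stabiliser of a point of a connected object iff a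
connected subobject of the image of some object maps to it -/
theorem ker_le_stabilizer_iff (X' : C') [IsConnected X'] (a' : F'.obj X') :
    (Pi1X.autWhisker H F').ker ≤ MulAction.stabilizer (Aut F') a' ↔
      ∃ (X : C) (Y' : C') (i : Y' ⟶ H.obj X) (_ : Y' ⟶ X'), Mono i ∧ IsConnected Y' := by
  constructor
  · intro hker
    obtain ⟨X, x, -, hx⟩ := exists_galois_stabilizer_le H F' _ (stabilizer_isOpen (Aut F') a') hker
    obtain ⟨Y', i, y, hy, hc, hm⟩ := fiber_in_connected_component F' (H.obj X) x
    have hinj : Function.Injective (F'.map i) :=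
      ConcreteCategory.injective_of_mono_of_preservesPullback _
    have hstab : MulAction.stabilizer (Aut F') y ≤ MulAction.stabilizer (Aut F') a' := by
      refine le_trans ?_ hx
      intro σ hσ
      rw [MulAction.mem_stabilizer_iff] at hσ ⊢
      rw [← hy, mulAction_naturality, hσ]
    obtain ⟨q, -⟩ := exists_hom_of_stabilizer_le F' y a' hstab
    exact ⟨X, Y', i, q, hm, hc⟩
  · rintro ⟨X, Y', i, q, hm, hc⟩ σ hσ
    have hinj : Function.Injective (F'.map i) :=
      ConcreteCategory.injective_of_mono_of_preservesPullback _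
    have htriv : ∀ y : F'.obj Y', σ • y = y := by
      intro y
      apply hinj
      rw [← mulAction_naturality]
      exact smul_eq_of_mem_ker H F' σ hσ X _
    obtain ⟨y, rfl⟩ := surjective_of_nonempty_fiber_of_isConnected F' q a'
    rw [MulAction.mem_stabilizer_iff, mulAction_naturality, htriv]

end Groth.Agent.Lib.Helper14.Gal
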