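import Mathlib
import Groth.Agent.Lib.Helper14.Gal1

/-!
# helper14: uniqueness of fibre functors on a Galois category
-/

set_option autoImplicit false
set_option linter.style.haveILetI false
set_option linter.unusedSectionVars false
universe u v w
open CategoryTheory CategoryTheory.Limits CategoryTheory.PreGaloisCategory

namespace Groth.Agent.Lib.Helper14.Gal

section Exact

variable {C : Type u} [Category.{v} C] [GaloisCategory C]
  (E : C ⥤ FintypeCat.{w}) [PreservesFiniteLimits E]

/-- the fibre of an equaliser under a left exact functor -/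
noncomputable def equalizerEquivE {X Y : C} (f g : X ⟶ Y) :
    E.obj (equalizer f g) ≃ { x : E.obj X // E.map f x = E.map g x } :=
  (PreservesEqualizer.iso (E ⋙ FintypeCat.incl) f g ≪≫
    Types.equalizerIso (E.map f).hom (E.map g).hom).toEquiv

lemma equalizerEquivE_symm_ι_apply {X Y : C} {f g : X ⟶ Y} (x : E.obj X)
    (h : E.map f x = E.map g x) :
    E.map (equalizer.ι f g) ((equalizerEquivE E f g).symm ⟨x, h⟩) = x := by
  simp only [equalizerEquivE, Functor.comp_map]
  change ((Types.equalizerIso _ _).inv ≫ _ ≫ (E ⋙ FintypeCat.incl).map (equalizer.ι f g)) _ = _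
  erw [PreservesEqualizer.iso_inv_ι, Types.equalizerIso_inv_comp_ι]
  rfl

/-- the fibre of a binary product under a left exact functor -/
noncomputable def binaryProductEquivE (X Y : C) :
    E.obj (X ⨯ Y) ≃ E.obj X × E.obj Y :=
  (PreservesLimitPair.iso (E ⋙ FintypeCat.incl) X Y ≪≫
  Types.binaryProductIso (E.obj X) (E.obj Y)).toEquiv

lemma binaryProductEquivE_symm_fst_apply {X Y : C} (x : E.obj X) (y : E.obj Y) :
    E.map prod.fst ((binaryProductEquivE E X Y).symm (x, y)) = x := by
  simp only [binaryProductEquivE]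
  change ((Types.binaryProductIso _ _).inv ≫ _ ≫ (E ⋙ FintypeCat.incl).map prod.fst) _ = _
  erw [PreservesLimitPair.iso_inv_fst, Types.binaryProductIso_inv_comp_fst]
  rfl

lemma binaryProductEquivE_symm_snd_apply {X Y : C} (x : E.obj X) (y : E.obj Y) :
    E.map prod.snd ((binaryProductEquivE E X Y).symm (x, y)) = y := by
  simp only [binaryProductEquivE]
  change ((Types.binaryProductIso _ _).inv ≫ _ ≫ (E ⋙ FintypeCat.incl).map prod.snd) _ = _
  erw [PreservesLimitPair.iso_inv_snd, Types.binaryProductIso_inv_comp_snd]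
  rfl


variable [PreservesColimitsOfShape (Discrete WalkingPair) E]

/-- the cardinality of the fibre of a coproduct is the sum of the cardinalities -/
lemma card_coprod_E (X Y : C) :
    Nat.card (E.obj (X ⨿ Y)) = Nat.card (E.obj X) + Nat.card (E.obj Y) := by
  let e : E.obj (X ⨿ Y) ≃ E.obj X ⊕ E.obj Y := Iso.toEquiv
    <| (PreservesColimitPair.iso (E ⋙ FintypeCat.incl) X Y).symm.trans
    <| Types.binaryCoproductIso (FintypeCat.incl.obj (E.obj X)) (FintypeCat.incl.obj (E.obj Y))
  rw [← Nat.card_sum]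
  exact Nat.card_eq_of_bijective e.toFun (Equiv.bijective e)

/-- the fibre of an initial object is empty -/
lemma isEmpty_of_isInitial_E {I : C} (hI : IsInitial I) : IsEmpty (E.obj I) := by
  have h1 := card_coprod_E E (⊤_ C) I
  let i : (⊤_ C) ⨿ I ≅ ⊤_ C :=
    { hom := coprod.desc (𝟙 _) (hI.to _)
      inv := coprod.inl
      hom_inv_id := by
        apply coprod.hom_ext
        · rw [← Category.assoc, coprod.inl_desc, Category.id_comp, Category.comp_id]
        · exact hI.hom_ext _ _
      inv_hom_id := coprod.inl_desc _ _ }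
  have e : E.obj ((⊤_ C) ⨿ I) ≃ E.obj (⊤_ C) := Iso.toEquiv (Functor.mapIso (E ⋙ FintypeCat.incl) i)
  have h2 : Nat.card (E.obj ((⊤_ C) ⨿ I)) = Nat.card (E.obj (⊤_ C)) :=
    Nat.card_eq_of_bijective e (Equiv.bijective e)
  have h3 : Nat.card (E.obj I) = 0 := by omega
  exact Finite.card_eq_zero_iff.mp h3

/-- every point of the fibre of the point of a colimit binary cofan comes from a summand -/
lemma exists_rep_binaryCofan_E {X Y Z : C} (i : X ⟶ Z) (j : Y ⟶ Z)
    (hc : IsColimit (BinaryCofan.mk i j)) (z : E.obj Z) :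
    (∃ x : E.obj X, E.map i x = z) ∨ (∃ y : E.obj Y, E.map j y = z) := by
  have s' := isColimitOfPreserves E hc
  obtain ⟨⟨k⟩, w, h⟩ := Concrete.isColimit_exists_rep _ s' z
  cases k with
  | left => exact Or.inl ⟨w, h⟩
  | right => exact Or.inr ⟨w, h⟩

end Exact

section Fib

variable {C : Type u} [Category.{v} C] [GaloisCategory C]
  (F : C ⥤ FintypeCat.{w}) [FiberFunctor F]

/-- the two summands of a coproduct have disjoint images in the fibre -/
lemma inl_ne_inr (X Y : C) (x : F.obj X) (y : F.obj Y) :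
    F.map (coprod.inl : X ⟶ X ⨿ Y) x ≠ F.map coprod.inr y := by
  let φ : F.obj X ⊕ F.obj Y → F.obj (X ⨿ Y) :=
    Sum.elim (fun x => F.map coprod.inl x) (fun y => F.map coprod.inr y)
  have hsurj : Function.Surjective φ := by
    intro z
    rcases exists_rep_coprod F X Y z with ⟨x, rfl⟩ | ⟨y, rfl⟩
    · exact ⟨Sum.inl x, rfl⟩
    · exact ⟨Sum.inr y, rfl⟩
  have hcard : Nat.card (F.obj X ⊕ F.obj Y) = Nat.card (F.obj (X ⨿ Y)) := by
    rw [Nat.card_sum, card_fiber_coprod_eq_sum]
  obtain ⟨e⟩ := Finite.card_eq.mp hcard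
  have hinj : Function.Injective φ := (Finite.injective_iff_surjective_of_equiv e).mpr hsurj
  intro h
  have : (Sum.inl x : F.obj X ⊕ F.obj Y) = Sum.inr y := hinj h
  exact Sum.inl_ne_inr this

/-- the two legs of a colimit binary cofan have disjoint images in the fibre -/
lemma binaryCofan_disjoint {X Y Z : C} (i : X ⟶ Z) (j : Y ⟶ Z)
    (hc : IsColimit (BinaryCofan.mk i j)) (x : F.obj X) (y : F.obj Y) :
    F.map i x ≠ F.map j y := by
  intro h
  let e : X ⨿ Y ≅ Z := colimit.isoColimitCocone ⟨BinaryCofan.mk i j, hc⟩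
  have h1 : coprod.inl ≫ e.hom = i :=
    colimit.isoColimitCocone_ι_hom ⟨BinaryCofan.mk i j, hc⟩ ⟨WalkingPair.left⟩
  have h2 : coprod.inr ≫ e.hom = j :=
    colimit.isoColimitCocone_ι_hom ⟨BinaryCofan.mk i j, hc⟩ ⟨WalkingPair.right⟩
  have hinj : Function.Injective (F.map e.hom) :=
    ConcreteCategory.injective_of_mono_of_preservesPullback _
  apply inl_ne_inr F X Y x y
  apply hinj
  rw [← FintypeCat.comp_apply, ← FintypeCat.comp_apply, ← Functor.map_comp, ← Functor.map_comp,
    h1, h2, h]

/-- two points of the fibre of a product with the same coordinates are equal -/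
lemma prod_fiber_ext {X Y : C} (w₁ w₂ : F.obj (X ⨯ Y))
    (h1 : F.map prod.fst w₁ = F.map prod.fst w₂) (h2 : F.map prod.snd w₁ = F.map prod.snd w₂) :
    w₁ = w₂ := by
  let e := fiberBinaryProductEquiv F X Y
  have key : ∀ w : F.obj (X ⨯ Y), e w = (F.map prod.fst w, F.map prod.snd w) := by
    intro w
    obtain ⟨⟨p, q⟩, rfl⟩ := e.symm.surjective w
    rw [Equiv.apply_symm_apply, fiberBinaryProductEquiv_symm_fst_apply,
      fiberBinaryProductEquiv_symm_snd_apply]
  apply e.injective
  rw [key, key, h1, h2]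

end Fib

section Cover

variable {C : Type u} [Category.{v} C] [GaloisCategory C]
  (F : C ⥤ FintypeCat.{w}) [FiberFunctor F]
  (E : C ⥤ FintypeCat.{w}) [PreservesFiniteLimits E]
  [PreservesColimitsOfShape (Discrete WalkingPair) E]

/-- a finite family of subobjects covering the fibre for the fibre functor covers the fibre for
every left exact functor preserving binary coproducts -/
theorem cover_E (n : ℕ) : ∀ (Z : C) (Y : Fin n → C) (i : ∀ k, Y k ⟶ Z), (∀ k, Mono (i k)) →
    (∀ w : F.obj Z, ∃ k, ∃ y : F.obj (Y k), F.map (i k) y = w) →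
    ∀ z : E.obj Z, ∃ k, ∃ y : E.obj (Y k), E.map (i k) y = z := by
  induction n with
  | zero =>
    intro Z Y i _ hcov z
    have hempty : IsEmpty (F.obj Z) := ⟨fun w => by
      obtain ⟨k, -⟩ := hcov w
      exact Fin.elim0 k⟩
    obtain ⟨hI⟩ := (initial_iff_fiber_empty F Z).mpr hempty
    exact ((isEmpty_of_isInitial_E E hI).false z).elim
  | succ n ih =>
    intro Z Y i hm hcov z
    haveI := hm (Fin.last n)
    obtain ⟨W, u, ⟨hc⟩⟩ := PreGaloisCategory.monoInducesIsoOnDirectSummand (i (Fin.last n))
    haveI : Mono u := MonoCoprod.binaryCofan_inr _ hc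
    rcases exists_rep_binaryCofan_E E (i (Fin.last n)) u hc z with ⟨y, hy⟩ | ⟨z', hz'⟩
    · exact ⟨Fin.last n, y, hy⟩
    · haveI : ∀ k : Fin n, Mono (i (Fin.castSucc k)) := fun k => hm _
      obtain ⟨k', y', hy'⟩ := ih W (fun k => pullback (i (Fin.castSucc k)) u)
        (fun k => pullback.snd _ _) (fun k => inferInstance)
        (fun w => by
          obtain ⟨k, y, hy⟩ := hcov (F.map u w)
          induction k using Fin.lastCases with
          | last => exact absurd hy (binaryCofan_disjoint F _ _ hc y w)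
          | cast k =>
            refine ⟨k, (fiberPullbackEquiv F (i (Fin.castSucc k)) u).symm ⟨(y, w), hy⟩, ?_⟩
            exact fiberPullbackEquiv_symm_snd_apply F y w hy) z'
      refine ⟨Fin.castSucc k', E.map (pullback.fst _ _) y', ?_⟩
      rw [← hz', ← hy', ← FintypeCat.comp_apply, ← FintypeCat.comp_apply, ← Functor.map_comp,
        ← Functor.map_comp, pullback.condition]

end Cover

section Unique

variable {C : Type u} [Category.{v} C] [GaloisCategory C]
  (F : C ⥤ FintypeCat.{w}) [FiberFunctor F]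
  (E : C ⥤ FintypeCat.{w}) [PreservesFiniteLimits E]
  [PreservesColimitsOfShape (Discrete WalkingPair) E]

/-- The category of pointed Galois objects is cofiltered (any universe for the fibres). -/
theorem isCofilteredOrEmpty_pointed : IsCofilteredOrEmpty (PointedGaloisObject F) where
  cone_objs := fun ⟨A, a, _⟩ ⟨B, b, _⟩ ↦ by
    obtain ⟨Z, f, z, hgal, hfz⟩ := exists_hom_from_galois_of_fiber F (A ⨯ B)
      <| (fiberBinaryProductEquiv F A B).symm (a, b)
    refine ⟨⟨Z, z, hgal⟩, ⟨f ≫ prod.fst, ?_⟩, ⟨f ≫ prod.snd, ?_⟩, trivial⟩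
    · simp only [F.map_comp, hfz, FintypeCat.comp_apply, fiberBinaryProductEquiv_symm_fst_apply]
    · simp only [F.map_comp, hfz, FintypeCat.comp_apply, fiberBinaryProductEquiv_symm_snd_apply]
  cone_maps := fun ⟨A, a, _⟩ ⟨B, b, _⟩ ⟨f, hf⟩ ⟨g, hg⟩ ↦ by
    obtain ⟨Z, h, z, hgal, hhz⟩ := exists_hom_from_galois_of_fiber F A a
    refine ⟨⟨Z, z, hgal⟩, ⟨h, hhz⟩, PointedGaloisObject.hom_ext ?_⟩
    apply evaluation_injective_of_isConnected F Z B z
    simp [hhz, hf, hg]

/-- a compatible system of points of `E` on the pointed Galois objects -/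
theorem exists_compatible_points
    (hE : ∀ X : C, IsEmpty (E.obj X) → Nonempty (IsInitial X)) :
    ∃ s : ∀ A : PointedGaloisObject F, E.obj A.obj,
      ∀ (A B : PointedGaloisObject F) (f : A ⟶ B), E.map f.val (s A) = s B := by
  haveI := isCofilteredOrEmpty_pointed F
  let Φ : PointedGaloisObject F ⥤ Type w := PointedGaloisObject.incl F ⋙ E ⋙ FintypeCat.incl
  haveI : ∀ A, Finite (Φ.obj A) := fun A => inferInstanceAs (Finite (E.obj A.obj))
  haveI : ∀ A, Nonempty (Φ.obj A) := fun A => by
    by_contra hne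
    rw [not_nonempty_iff] at hne
    obtain ⟨hI⟩ := hE A.obj hne
    exact IsConnected.notInitial hI
  obtain ⟨s, hs⟩ := nonempty_sections_of_finite_cofiltered_system Φ
  exact ⟨s, fun A B f => hs f⟩


/-- a left exact functor to finite sets preserving binary coproducts and with nonempty values on
non-initial objects is isomorphic to the fibre functor -/
theorem nonempty_iso_fiberFunctor
    (hE : ∀ X : C, IsEmpty (E.obj X) → Nonempty (IsInitial X)) : Nonempty (E ≅ F) := by
  obtain ⟨s, hs⟩ := exists_compatible_points F E hE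
  haveI := isCofilteredOrEmpty_pointed F
  -- well-definedness
  have hwd : ∀ {X : C} (A B : PointedGaloisObject F) (f : A.obj ⟶ X) (g : B.obj ⟶ X),
      F.map f A.pt = F.map g B.pt → E.map f (s A) = E.map g (s B) := by
    intro X A B f g h
    obtain ⟨D, p, q, -⟩ := IsCofilteredOrEmpty.cone_objs A B
    have hpq : p.val ≫ f = q.val ≫ g := by
      apply evaluation_injective_of_isConnected F D.obj X D.pt
      change F.map (p.val ≫ f) D.pt = F.map (q.val ≫ g) D.pt
      rw [F.map_comp, F.map_comp, FintypeCat.comp_apply, FintypeCat.comp_apply, p.comp, q.comp, h]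
    rw [← hs D A p, ← hs D B q, ← FintypeCat.comp_apply, ← FintypeCat.comp_apply, ← E.map_comp,
      ← E.map_comp, hpq]
  have hrep : ∀ (X : C) (x : F.obj X), ∃ (A : PointedGaloisObject F) (f : A.obj ⟶ X),
      F.map f A.pt = x := by
    intro X x
    obtain ⟨A, f, a, hA, hfa⟩ := exists_hom_from_galois_of_fiber F X x
    exact ⟨⟨A, a, hA⟩, f, hfa⟩
  choose rA rf hr using hrep
  let t : ∀ X, F.obj X → E.obj X := fun X x => E.map (rf X x) (s (rA X x))
  have ht : ∀ (X : C) (A : PointedGaloisObject F) (f : A.obj ⟶ X),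
      t X (F.map f A.pt) = E.map f (s A) := fun X A f => hwd _ _ _ _ (hr X _)
  have hnat : ∀ {X Y : C} (h : X ⟶ Y) (x : F.obj X), t Y (F.map h x) = E.map h (t X x) := by
    intro X Y h x
    have h1 : F.map h x = F.map (rf X x ≫ h) (rA X x).pt := by
      rw [F.map_comp, FintypeCat.comp_apply, hr]
    rw [h1, ht Y (rA X x) (rf X x ≫ h), E.map_comp, FintypeCat.comp_apply]
  have hinj : ∀ X, Function.Injective (t X) := by
    intro X x₁ x₂ h
    obtain ⟨A, a, hA, hbij⟩ := exists_galois_representative F X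
    let P : PointedGaloisObject F := ⟨A, a, hA⟩
    obtain ⟨f₁, rfl⟩ := hbij.surjective x₁
    obtain ⟨f₂, rfl⟩ := hbij.surjective x₂
    have h' : E.map f₁ (s P) = E.map f₂ (s P) := by
      rw [← ht X P f₁, ← ht X P f₂]
      exact h
    let e' := (equalizerEquivE E f₁ f₂).symm ⟨s P, h'⟩
    have hni : IsInitial (equalizer f₁ f₂) → False := fun hI =>
      (isEmpty_of_isInitial_E E hI).false e'
    haveI : IsIso (equalizer.ι f₁ f₂) := IsConnected.noTrivialComponent _ _ hni
    have : f₁ = f₂ := eq_of_epi_equalizer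
    rw [this]
  have hsurj : ∀ X, Function.Surjective (t X) := by
    intro X e
    obtain ⟨A, a, hA, hbij⟩ := exists_galois_representative F X
    let P : PointedGaloisObject F := ⟨A, a, hA⟩
    let n := Nat.card (A ⟶ X)
    let eqv : (A ⟶ X) ≃ Fin n := Finite.equivFin (A ⟶ X)
    let i : ∀ k : Fin n, A ⟶ A ⨯ X := fun k => prod.lift (𝟙 A) (eqv.symm k)
    have hm : ∀ k, Mono (i k) := fun k =>
      mono_of_mono_fac (show i k ≫ prod.fst = 𝟙 A from prod.lift_fst _ _)
    have hcov : ∀ w : F.obj (A ⨯ X), ∃ k, ∃ y : F.obj A, F.map (i k) y = w := by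
      intro w
      obtain ⟨σ, hσ⟩ := MulAction.exists_smul_eq (Aut A) a (F.map prod.fst w)
      have hσ' : F.map σ.hom a = F.map prod.fst w := hσ
      obtain ⟨g, hg⟩ := hbij.surjective (F.map prod.snd w)
      have hg' : F.map g a = F.map prod.snd w := hg
      refine ⟨eqv (σ.inv ≫ g), F.map prod.fst w, ?_⟩
      apply prod_fiber_ext F
      · rw [← FintypeCat.comp_apply, ← F.map_comp]
        simp only [i, prod.lift_fst, F.map_id, FintypeCat.id_apply]
      · rw [← FintypeCat.comp_apply, ← F.map_comp]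
        simp only [i, prod.lift_snd, Equiv.symm_apply_apply]
        have key : σ.hom ≫ σ.inv ≫ g = g := Iso.hom_inv_id_assoc σ g
        rw [← hσ', ← FintypeCat.comp_apply, ← F.map_comp, key, hg']
    obtain ⟨k, y, hy⟩ := cover_E F E n (A ⨯ X) (fun _ => A) i hm hcov
      ((binaryProductEquivE E A X).symm (s P, e))
    have h1 : y = s P := by
      have := congrArg (fun z => E.map prod.fst z) hy
      simp only [binaryProductEquivE_symm_fst_apply] at this
      rw [← this, ← FintypeCat.comp_apply, ← E.map_comp]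
      simp only [i, prod.lift_fst, E.map_id, FintypeCat.id_apply]
    have h2 : E.map (eqv.symm k) y = e := by
      have := congrArg (fun z => E.map prod.snd z) hy
      simp only [binaryProductEquivE_symm_snd_apply] at this
      rw [← this, ← FintypeCat.comp_apply, ← E.map_comp]
      simp only [i, prod.lift_snd]
    refine ⟨F.map (eqv.symm k) a, ?_⟩
    rw [ht X P (eqv.symm k), ← h1, h2]
  refine ⟨(NatIso.ofComponents (fun X => FintypeCat.equivEquivIso
    (Equiv.ofBijective (t X) ⟨hinj X, hsurj X⟩)) ?_).symm⟩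
  intro X Y h
  ext x
  exact hnat h x

end Unique


section ExactEmpty

variable {C : Type u} [Category.{v} C] [GaloisCategory C]

/-- an exact functor to finite sets takes nonempty values on non-initial objects -/
theorem isInitial_of_isEmpty_of_exact (F : C ⥤ FintypeCat.{w}) [FiberFunctor F]
    (E : C ⥤ FintypeCat.{w}) [PreservesFiniteLimits E] [PreservesFiniteColimits E]
    (X : C) (hX : IsEmpty (E.obj X)) :
    Nonempty (IsInitial X) := by
  by_contra hni
  have hne : Nonempty (F.obj X) :=
    (not_initial_iff_fiber_nonempty F X).mp (fun hI => hni ⟨hI⟩)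
  obtain ⟨x⟩ := hne
  -- `X ⟶ ⊤` is an epimorphism
  have hepiF : Epi (F.map (terminal.from X)) := by
    apply ConcreteCategory.epi_of_surjective
    intro t
    exact ⟨x, fiber_terminal_eq F _ _⟩
  have hepi : Epi (terminal.from X) := F.epi_of_epi_map hepiF
  haveI : E.PreservesEpimorphisms := preservesEpimorphisms_of_preservesColimitsOfShape E
  have hepiE : Epi (E.map (terminal.from X)) := inferInstance
  have hsurj : Function.Surjective (E.map (terminal.from X)) :=
    surjective_of_epi (FintypeCat.incl.map (E.map (terminal.from X)))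
  have hT : IsTerminal (E.obj (⊤_ C)) := IsTerminal.isTerminalObj E (⊤_ C) terminalIsTerminal
  let P : FintypeCat.{w} := FintypeCat.of PUnit.{w + 1}
  have t0 : E.obj (⊤_ C) := (hT.from P) PUnit.unit
  obtain ⟨e, -⟩ := hsurj t0
  exact hX.false e

end ExactEmpty

end Groth.Agent.Lib.Helper14.Gal
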