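import Mathlib
import Groth.Prelude.Def_Pi1X
import Groth.Agent.Lib.Helper14.Gal2
import Groth.Agent.Lib.Helper14.Gal3

/-!
# helper14: composites of exact functors with fibre functors are fibre functors
-/

set_option autoImplicit false
set_option linter.style.haveILetI false
set_option linter.unusedSectionVars false
universe u v w
open CategoryTheory CategoryTheory.Limits CategoryTheory.PreGaloisCategory

namespace Groth.Agent.Lib.Helper14.Gal

/-- a functor isomorphic to a fibre functor is a fibre functor -/
theorem fiberFunctor_of_iso {C : Type u} [Category.{v} C] [GaloisCategory C]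
    {E F : C ⥤ FintypeCat.{w}} (e : E ≅ F) [FiberFunctor F] : FiberFunctor E where
  preservesTerminalObjects := preservesLimitsOfShape_of_natIso e.symm
  preservesPullbacks := preservesLimitsOfShape_of_natIso e.symm
  preservesFiniteCoproducts := ⟨fun _ => preservesColimitsOfShape_of_natIso e.symm⟩
  preservesEpis := Functor.PreservesEpimorphisms.of_iso e.symm
  preservesQuotientsByFiniteGroups := fun _ _ _ => preservesColimitsOfShape_of_natIso e.symm
  reflectsIsos := CategoryTheory.reflectsIsomorphisms_of_iso e.symm

variable {C D : Type u} [Category.{v} C] [Category.{v} D] [GaloisCategory C] [GaloisCategory D]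
  (H : C ⥤ D) [PreservesFiniteLimits H] [PreservesFiniteColimits H]

/-- the composite of an exact functor with a fibre functor is a fibre functor -/
theorem fiberFunctor_comp (F' : D ⥤ FintypeCat.{w}) [FiberFunctor F'] (F : C ⥤ FintypeCat.{w})
    [FiberFunctor F] : FiberFunctor (H ⋙ F') := by
  haveI : PreservesFiniteLimits (H ⋙ F') := comp_preservesFiniteLimits H F'
  haveI : PreservesColimitsOfShape (Discrete WalkingPair) (H ⋙ F') :=
    comp_preservesColimitsOfShape H F'
  have hE : ∀ X : C, IsEmpty ((H ⋙ F').obj X) → Nonempty (IsInitial X) := by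
    intro X hX
    by_contra hni
    have hne : Nonempty (F.obj X) :=
      (not_initial_iff_fiber_nonempty F X).mp (fun hI => hni ⟨hI⟩)
    obtain ⟨x⟩ := hne
    have hepiF : Epi (F.map (terminal.from X)) := by
      apply ConcreteCategory.epi_of_surjective
      intro t
      exact ⟨x, fiber_terminal_eq F _ _⟩
    have hepi : Epi (terminal.from X) := F.epi_of_epi_map hepiF
    haveI : H.PreservesEpimorphisms := preservesEpimorphisms_of_preservesColimitsOfShape H
    have hepiH : Epi (H.map (terminal.from X)) := inferInstance
    have hsurj : Function.Surjective (F'.map (H.map (terminal.from X))) :=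
      surjective_on_fiber_of_epi F' _
    have hT : IsTerminal (F'.obj (H.obj (⊤_ C))) :=
      IsTerminal.isTerminalObj F' _ (IsTerminal.isTerminalObj H (⊤_ C) terminalIsTerminal)
    let P : FintypeCat.{w} := FintypeCat.of PUnit.{w + 1}
    have t0 : F'.obj (H.obj (⊤_ C)) := (hT.from P) PUnit.unit
    obtain ⟨e, -⟩ := hsurj t0
    exact hX.false e
  obtain ⟨e⟩ := nonempty_iso_fiberFunctor F (H ⋙ F') hE
  exact fiberFunctor_of_iso e

end Groth.Agent.Lib.Helper14.Gal
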