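import Mathlib
import Groth.Prelude.Def_Pi1X
import Groth.Agent.Lib.Helper14.Gal2

/-!
# helper14: open subgroups of the fundamental group are stabilisers; continuity of the induced map
-/

set_option autoImplicit false
set_option linter.style.haveILetI false
set_option linter.unusedSectionVars false
universe u v w
open CategoryTheory CategoryTheory.Limits CategoryTheory.PreGaloisCategory

namespace Groth.Agent.Lib.Helper14.Gal

section Cont

variable {C C' : Type u} [Category.{v} C] [Category.{v} C']
  (H : C ⥤ C') (F' : C' ⥤ FintypeCat.{w})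

/-- the induced map of fundamental groups is continuous -/
theorem continuous_autWhisker : Continuous (Pi1X.autWhisker H F') := by
  rw [Topology.IsInducing.continuous_iff (autEmbedding_isClosedEmbedding _).isInducing,
    continuous_pi_iff]
  intro X
  change Continuous fun σ : Aut F' => autEmbedding F' σ (H.obj X)
  exact (continuous_apply (H.obj X)).comp (autEmbedding_isClosedEmbedding F').continuous

/-- the image of the induced map of fundamental groups is closed -/
theorem isClosed_range_autWhisker :
    IsClosed ((Pi1X.autWhisker H F').range : Set (Aut (H ⋙ F'))) := by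
  rw [MonoidHom.coe_range]
  exact (isCompact_range (continuous_autWhisker H F')).isClosed

/-- the kernel of the induced map of fundamental groups is closed -/
theorem isClosed_ker_autWhisker :
    IsClosed ((Pi1X.autWhisker H F').ker : Set (Aut F')) := by
  have : ((Pi1X.autWhisker H F').ker : Set (Aut F')) = (Pi1X.autWhisker H F') ⁻¹' {1} := by
    ext σ
    simp [MonoidHom.mem_ker]
  rw [this]
  exact isClosed_singleton.preimage (continuous_autWhisker H F')

end Cont


section Open

variable {C : Type u} [Category.{v} C] [GaloisCategory C]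
  (F : C ⥤ FintypeCat.{w}) [FiberFunctor F]

/-- special case: fibre functor valued in the universe of objects -/
theorem exists_pointed_of_openSubgroup_aux (G : C ⥤ FintypeCat.{u}) [FiberFunctor G]
    (V : OpenSubgroup (Aut G)) :
    ∃ (X : C) (b : G.obj X), IsConnected X ∧ MulAction.stabilizer (Aut G) b = V.toSubgroup := by
  obtain ⟨X, ⟨e⟩⟩ := exists_lift_of_quotient_openSubgroup (F := G) V
  let ψ : Aut G ⧸ V.toSubgroup → G.obj X := fun x => e.inv.hom x
  let b : G.obj X := ψ (QuotientGroup.mk (1 : Aut G))
  have hcomm : ∀ (σ : Aut G) (x : Aut G ⧸ V.toSubgroup), ψ (σ • x) = σ • ψ x := by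
    intro σ x
    exact congrArg (fun k => k x) (e.inv.comm σ)
  have hinj : Function.Injective ψ := by
    intro x y hxy
    have h1 : e.hom.hom (ψ x) = x := by
      have := congrArg (fun k => k.hom x) e.inv_hom_id
      exact this
    have h2 : e.hom.hom (ψ y) = y := by
      have := congrArg (fun k => k.hom y) e.inv_hom_id
      exact this
    rw [← h1, ← h2, hxy]
  have hsurj : Function.Surjective ψ := by
    intro x
    refine ⟨e.hom.hom x, ?_⟩
    have := congrArg (fun k => k.hom x) e.hom_inv_id
    exact this
  refine ⟨X, b, ?_, ?_⟩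
  · have : Nonempty (G.obj X) := ⟨b⟩
    have : MulAction.IsPretransitive (Aut G) (G.obj X) := by
      refine ⟨fun x y => ?_⟩
      obtain ⟨x', rfl⟩ := hsurj x
      obtain ⟨y', rfl⟩ := hsurj y
      obtain ⟨σ, rfl⟩ := QuotientGroup.mk_surjective x'
      obtain ⟨τ, rfl⟩ := QuotientGroup.mk_surjective y'
      refine ⟨τ * σ⁻¹, ?_⟩
      rw [← hcomm]
      congr 1
      change (QuotientGroup.mk (τ * σ⁻¹ * σ) : Aut G ⧸ V.toSubgroup) = QuotientGroup.mk τ
      rw [inv_mul_cancel_right]
    exact isConnected_of_isPretransitive G X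
  · ext σ
    rw [MulAction.mem_stabilizer_iff]
    change σ • ψ (QuotientGroup.mk (1 : Aut G)) = ψ (QuotientGroup.mk (1 : Aut G)) ↔ _
    rw [← hcomm, hinj.eq_iff]
    change (QuotientGroup.mk (σ * 1) : Aut G ⧸ V.toSubgroup) = QuotientGroup.mk 1 ↔ _
    rw [mul_one, QuotientGroup.eq]
    simp

/-- every open subgroup of the fundamental group is the stabiliser of a point of a connected
object -/
theorem exists_pointed_of_openSubgroup (U : Subgroup (Aut F)) (hU : IsOpen (U : Set (Aut F))) :
    ∃ (X : C) (a : F.obj X), IsConnected X ∧ MulAction.stabilizer (Aut F) a = U := by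
  let G : C ⥤ FintypeCat.{u} := F ⋙ FintypeCat.uSwitch.{w, u}
  letI : FiberFunctor G := FiberFunctor.comp_right _
  let e : Aut F ≃ₜ* Aut G :=
    autEquivAutWhiskerRight F (FintypeCat.uSwitchEquivalence.{w, u}).fullyFaithfulFunctor
  let V : OpenSubgroup (Aut G) :=
    OpenSubgroup.comap (e.symm : Aut G →* Aut F) e.symm.continuous ⟨U, hU⟩
  obtain ⟨X, b, hc, hb⟩ := exists_pointed_of_openSubgroup_aux G V
  let a : F.obj X := (F.obj X).uSwitchEquiv b
  let act : Aut G → G.obj X → G.obj X := fun τ y => τ • y
  have hkey : ∀ σ : Aut F, σ • a = (F.obj X).uSwitchEquiv (act (e σ) b) := by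
    intro σ
    exact FintypeCat.uSwitchEquiv_naturality (σ.hom.app X) b
  refine ⟨X, a, hc, ?_⟩
  ext σ
  rw [MulAction.mem_stabilizer_iff, hkey, Equiv.apply_eq_iff_eq]
  change (e σ) • b = b ↔ _
  rw [← MulAction.mem_stabilizer_iff, hb]
  change e.symm (e σ) ∈ U ↔ _
  rw [e.symm_apply_apply]


/-- a closed subgroup of the fundamental group is the intersection of the open subgroups
containing it -/
theorem mem_of_forall_open_of_isClosed (K : Subgroup (Aut F)) (hK : IsClosed (K : Set (Aut F)))
    (σ : Aut F)
    (h : ∀ U : Subgroup (Aut F), IsOpen (U : Set (Aut F)) → K ≤ U → σ ∈ U) : σ ∈ K := by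
  have := ProfiniteGrp.closedSubgroup_eq_sInf_open (G := Aut F) ⟨K, hK⟩
  have h2 : K = sInf {N : Subgroup (Aut F) | IsOpen (N : Set (Aut F)) ∧ K ≤ N} := this
  rw [h2, Subgroup.mem_sInf]
  rintro N ⟨hN, hKN⟩
  exact h N hN hKN

end Open

end Groth.Agent.Lib.Helper14.Gal
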