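import Mathlib
import Groth.Prelude.Def_Pi1X
import Groth.Agent.Lib.Helper14.Gal5

/-!
# helper14: essential image of a fully faithful exact functor of Galois categories
-/

set_option autoImplicit false
set_option linter.style.haveILetI false
set_option linter.unusedSectionVars false
universe u v w
open CategoryTheory CategoryTheory.Limits CategoryTheory.PreGaloisCategory

namespace Groth.Agent.Lib.Helper14.Gal

variable {C C' : Type u} [Category.{v} C] [Category.{v} C'] [GaloisCategory C] [GaloisCategory C']
  (H : C ⥤ C') (F' : C' ⥤ FintypeCat.{w}) [FiberFunctor F'] [FiberFunctor (H ⋙ F')]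

/-- a surjective induced map of fundamental groups is open -/
theorem isOpenMap_autWhisker (hu : Function.Surjective (Pi1X.autWhisker H F')) :
    IsOpenMap (Pi1X.autWhisker H F') :=
  MonoidHom.isOpenMap_of_sigmaCompact _ hu (continuous_autWhisker H F')

/-- connected case: a connected object on whose fibre the kernel of the (surjective) induced map
stabilises a point is in the essential image -/
theorem exists_iso_of_ker_le_stabilizer (hu : Function.Surjective (Pi1X.autWhisker H F'))
    (X' : C') [IsConnected X'] (a' : F'.obj X')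
    (hker : (Pi1X.autWhisker H F').ker ≤ MulAction.stabilizer (Aut F') a') :
    ∃ X : C, Nonempty (H.obj X ≅ X') := by
  let uu := Pi1X.autWhisker H F'
  let U' : Subgroup (Aut F') := MulAction.stabilizer (Aut F') a'
  let U : Subgroup (Aut (H ⋙ F')) := U'.map uu
  have hUo : IsOpen (U : Set (Aut (H ⋙ F'))) := by
    have : (U : Set (Aut (H ⋙ F'))) = uu '' (U' : Set (Aut F')) := Subgroup.coe_map _ _
    rw [this]
    exact isOpenMap_autWhisker H F' hu _ (stabilizer_isOpen (Aut F') a')
  obtain ⟨X, a, hX, hstab⟩ := exists_pointed_of_openSubgroup (H ⋙ F') U hUo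
  let a₁ : F'.obj (H.obj X) := a
  have hfull : H.Full := full_of_surjective H F' hu
  have htrans : MulAction.IsPretransitive (Aut F') (F'.obj (H.obj X)) :=
    isPretransitive_of_full H F' X
  have hne : Nonempty (F'.obj (H.obj X)) := ⟨a₁⟩
  have hconn : IsConnected (H.obj X) := isConnected_of_isPretransitive F' (H.obj X)
  -- the stabiliser of `a` for the big group is `U'`
  have hstab' : MulAction.stabilizer (Aut F') a₁ = U' := by
    ext σ
    rw [MulAction.mem_stabilizer_iff]
    have h1 : σ • a₁ = a₁ ↔ uu σ ∈ MulAction.stabilizer (Aut (H ⋙ F')) a := by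
      rw [MulAction.mem_stabilizer_iff]
      exact Iff.rfl
    rw [h1, hstab]
    constructor
    · rintro ⟨σ₀, hσ₀, h0⟩
      have hk : σ₀⁻¹ * σ ∈ uu.ker := by
        rw [MonoidHom.mem_ker, map_mul, map_inv, h0, inv_mul_cancel]
      have := U'.mul_mem hσ₀ (hker hk)
      rwa [mul_inv_cancel_left] at this
    · intro hσ
      exact ⟨σ, hσ, rfl⟩
  obtain ⟨g, hg⟩ := exists_hom_of_stabilizer_le F' a₁ a' (le_of_eq hstab')
  have hbij : Function.Bijective (F'.map g) := by
    constructor
    · intro x₁ x₂ h12
      obtain ⟨σ₁, rfl⟩ := MulAction.exists_smul_eq (Aut F') a₁ x₁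
      obtain ⟨σ₂, rfl⟩ := MulAction.exists_smul_eq (Aut F') a₁ x₂
      rw [← mulAction_naturality, ← mulAction_naturality, hg] at h12
      have hmem : σ₂⁻¹ * σ₁ ∈ MulAction.stabilizer (Aut F') a₁ := by
        rw [hstab', MulAction.mem_stabilizer_iff, mul_smul, h12, inv_smul_smul]
      rw [MulAction.mem_stabilizer_iff, mul_smul, inv_smul_eq_iff] at hmem
      exact hmem
    · exact surjective_of_nonempty_fiber_of_isConnected F' g
  have : IsIso g := isIso_of_bijective_fiber F' g hbij
  exact ⟨X, ⟨asIso g⟩⟩

/-- an object on whose fibre the kernel of the (surjective) induced map acts trivially is in the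
essential image -/
theorem exists_iso_of_ker_trivial [PreservesFiniteColimits H]
    (hu : Function.Surjective (Pi1X.autWhisker H F')) (X' : C')
    (hker : ∀ σ ∈ (Pi1X.autWhisker H F').ker, ∀ x : F'.obj X', σ • x = x) :
    ∃ X : C, Nonempty (H.obj X ≅ X') := by
  obtain ⟨ι, hfin, f, e, hc⟩ := has_decomp_connected_components' X'
  have hex : ∀ i, ∃ X : C, Nonempty (H.obj X ≅ f i) := by
    intro i
    have := hc i
    have hmono : Mono (Sigma.ι f i ≫ e.hom) := mono_comp _ _
    have hinj : Function.Injective (F'.map (Sigma.ι f i ≫ e.hom)) :=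
      ConcreteCategory.injective_of_mono_of_preservesPullback _
    obtain ⟨y0⟩ := nonempty_fiber_of_isConnected F' (f i)
    apply exists_iso_of_ker_le_stabilizer H F' hu (f i) y0
    intro σ hσ
    rw [MulAction.mem_stabilizer_iff]
    apply hinj
    rw [← mulAction_naturality, hker σ hσ]
  choose X hX using hex
  cases nonempty_fintype ι
  refine ⟨∐ X, ⟨PreservesCoproduct.iso H X ≪≫ Sigma.mapIso (fun i => (hX i).some) ≪≫ e⟩⟩

section Fix

variable {D : Type u} [Category.{v} D] [GaloisCategory D] (F : D ⥤ FintypeCat.{w}) [FiberFunctor F]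

/-- the subgroup of the fundamental group acting trivially on the fibre of an object -/
def fixSubgroup (X : D) : Subgroup (Aut F) := (MulAction.toPermHom (Aut F) (F.obj X)).ker

theorem mem_fixSubgroup_iff (X : D) (σ : Aut F) :
    σ ∈ fixSubgroup F X ↔ ∀ x : F.obj X, σ • x = x := by
  unfold fixSubgroup
  rw [MonoidHom.mem_ker]
  constructor
  · intro h x
    have := congrArg (fun p : Equiv.Perm (F.obj X) => p x) h
    exact this
  · intro h
    ext x
    exact h x

instance (X : D) : (fixSubgroup F X).Normal := MonoidHom.normal_ker _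

theorem isClosed_fixSubgroup (X : D) : IsClosed (fixSubgroup F X : Set (Aut F)) := by
  have : (fixSubgroup F X : Set (Aut F)) =
      ⋂ x : F.obj X, ((MulAction.stabilizer (Aut F) x : Subgroup (Aut F)) : Set (Aut F)) := by
    ext σ
    simp only [SetLike.mem_coe, mem_fixSubgroup_iff, Set.mem_iInter, MulAction.mem_stabilizer_iff]
  rw [this]
  exact isClosed_iInter fun x =>
    Subgroup.isClosed_of_isOpen _ (stabilizer_isOpen (Aut F) x)

theorem closure_normalClosure_le_fixSubgroup (S : Set (Aut F)) (X : D)
    (h : ∀ σ ∈ S, ∀ x : F.obj X, σ • x = x) :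
    (Subgroup.normalClosure S).topologicalClosure ≤ fixSubgroup F X := by
  apply Subgroup.topologicalClosure_minimal _ _ (isClosed_fixSubgroup F X)
  apply Subgroup.normalClosure_le_normal
  intro σ hσ
  exact (mem_fixSubgroup_iff F X σ).mpr (h σ hσ)

/-- a normal subgroup stabilising a point of a connected object acts trivially on its fibre -/
theorem smul_eq_of_normal_le_stabilizer (N : Subgroup (Aut F)) [N.Normal] (X : D) [IsConnected X]
    (a : F.obj X) (h : N ≤ MulAction.stabilizer (Aut F) a) (σ : Aut F) (hσ : σ ∈ N)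
    (x : F.obj X) : σ • x = x := by
  obtain ⟨τ, rfl⟩ := MulAction.exists_smul_eq (Aut F) a x
  have hmem : τ⁻¹ * σ * τ ∈ N := by
    have := Subgroup.Normal.conj_mem ‹N.Normal› σ hσ τ⁻¹
    rwa [inv_inv] at this
  have h2 := h hmem
  rw [MulAction.mem_stabilizer_iff, mul_smul, mul_smul, inv_smul_eq_iff] at h2
  exact h2

end Fix

end Groth.Agent.Lib.Helper14.Gal
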