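import Groth.Agent.Lib.Helper5.FGDescent3
import Groth.Agent.Lib.Helper14.FEtFullFaithful

/-!
# helper14: descent of sections of étale covers (towards exactness of the homotopy sequence)

* `exists_descent_over`: helper5's `FGLimit.exists_descent` with target locally of finite presentation over
  `X` (instead of over the base `S`): an `X`-morphism `X ×_S Spec K ⟶ Y` comes from an `X`-morphism
  `X ×_S Spec R[s] ⟶ Y` for a finite subset `s ⊆ K`.
* `exists_section_descent`: sections of an étale morphism descend along a universal homeomorphism.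
-/

set_option autoImplicit false
set_option backward.isDefEq.respectTransparency false
universe u
open CategoryTheory CategoryTheory.Limits AlgebraicGeometry

namespace Groth.Agent.Lib.Helper14.GalDesc

open Groth.Agent.Lib.helper5.FGLimit Groth.Agent.Lib.helper5.PBLimit

section FG

variable {S : Scheme.{u}} (R K : Type u) [CommRing R] [CommRing K] [Algebra R K]
  (q : Spec (CommRingCat.of R) ⟶ S) {X Y : Scheme.{u}} (u : X ⟶ S) (v : Y ⟶ X)

/-- the projections `X ×_S Spec R[s] ⟶ X`. -/
noncomputable def pbFst :
    pbDiagram (specDiagram R K) (specτ R K q) u ⟶ (Functor.const (Finset K)ᵒᵖ).obj X where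
  app s := pullback.fst u ((specτ R K q).app s)
  naturality i j f := by simp [pullback.map]

theorem exists_descent_over [QuasiCompact u] [QuasiSeparated u] [LocallyOfFinitePresentation v]
    (g' : pullback u (tK R K q) ⟶ Y) (hg' : g' ≫ v = pullback.fst u (tK R K q)) :
    ∃ (s : Finset K) (gs : pullback u (pS R K q s) ⟶ Y),
      gs ≫ v = pullback.fst u (pS R K q s) ∧ πX R K q u s ≫ gs = g' := by
  obtain ⟨i, g, h1, h2⟩ := Scheme.exists_π_app_comp_eq_of_locallyOfFinitePresentation
    (pbDiagram (specDiagram R K) (specτ R K q) u) (pbFst R K q u) v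
    (pbCone (specDiagram R K) (specτ R K q) u (specCone R K) (tK R K q) (specCone_specτ R K q))
    (isLimitPbCone (specDiagram R K) (specτ R K q) u (specCone R K) (tK R K q)
      (specCone_specτ R K q) (isLimitSpecCone R K)) g' (by
      ext i
      simp only [NatTrans.comp_app, Functor.const_map_app, pbCone_π_app, pbFst]
      rw [hg']
      simp only [pullback.map, pullback.lift_fst, Category.comp_id])
  exact ⟨i.unop, g, h2, h1⟩

end FG

section UH

/-- Sections of an étale morphism descend along a universal homeomorphism. -/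
theorem exists_section_descent {X' Y : Scheme.{u}} (c : X' ⟶ Y) [IsIntegralHom c]
    [UniversallyInjective c] [Surjective c] {B : Scheme.{u}} (b : B ⟶ Y) [Etale b]
    (τ : X' ⟶ B) (hτ : τ ≫ b = c) :
    ∃ σ : Y ⟶ B, σ ≫ b = 𝟙 Y ∧ c ≫ σ = τ := by
  have hsub : SGA1.UnivSubmersive c :=
    Groth.Agent.Lib.Helper14.FEtFullFaithful.univSubmersive_of_universallyClosed_surjective c
  have hconn : ∀ (K : Type u) [Field K] [IsAlgClosed K] (ξ : Spec (CommRingCat.of K) ⟶ Y),
      ConnectedSpace ↑(pullback c ξ) := by
    intro K _ _ ξ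
    have h1 : UniversallyInjective (pullback.snd c ξ) :=
      MorphismProperty.pullback_snd (P := @UniversallyInjective) c ξ inferInstance
    have h2 : Surjective (pullback.snd c ξ) := inferInstance
    have hinj : Function.Injective (pullback.snd c ξ) := (pullback.snd c ξ).injective
    haveI : Subsingleton ↑(pullback c ξ) := hinj.subsingleton
    haveI : Nonempty ↑(pullback c ξ) := by
      obtain ⟨x, _⟩ := (pullback.snd c ξ).surjective default
      exact ⟨x⟩
    exact { toPreconnectedSpace := inferInstance, toNonempty := inferInstance }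
  obtain ⟨-, hbij⟩ := Groth.Agent.S2916.result c hsub hconn
  let A₀ : Over Y := Over.mk (𝟙 Y)
  let B₀ : Over Y := Over.mk b
  haveI : Etale A₀.hom := inferInstanceAs (Etale (𝟙 Y))
  haveI : Etale B₀.hom := inferInstanceAs (Etale b)
  have hb := hbij A₀ B₀
  -- the morphism over `X'`
  let m : (Over.pullback c).obj A₀ ⟶ (Over.pullback c).obj B₀ :=
    Over.homMk (pullback.lift (pullback.snd (𝟙 Y) c ≫ τ) (pullback.snd (𝟙 Y) c)
      (by rw [Category.assoc]; erw [hτ])) (by
        erw [pullback.lift_snd]
        rfl)
  obtain ⟨n, hn⟩ := hb.2 m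
  have hn1 : n.left ≫ b = 𝟙 Y := Over.w n
  refine ⟨n.left, hn1, ?_⟩
  have h3 : ((Over.pullback c).map n).left ≫ pullback.fst b c = pullback.fst (𝟙 Y) c ≫ n.left := by
    erw [pullback.lift_fst]
    rfl
  have h4 : m.left ≫ pullback.fst b c = pullback.snd (𝟙 Y) c ≫ τ := by
    erw [pullback.lift_fst]
  rw [hn, h4] at h3
  have h5 : pullback.fst (𝟙 Y) c = pullback.snd (𝟙 Y) c ≫ c := by
    have := pullback.condition (f := 𝟙 Y) (g := c)
    rw [Category.comp_id] at this
    exact this
  rw [h5, Category.assoc] at h3
  haveI : IsIso (pullback.snd (𝟙 Y) c) := inferInstance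
  exact ((cancel_epi (pullback.snd (𝟙 Y) c)).mp h3).symm

end UH

end Groth.Agent.Lib.Helper14.GalDesc
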