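import Groth.Agent.Lib.Helper5.FGDescent3
import Mathlib

set_option autoImplicit false
universe u
open CategoryTheory CategoryTheory.Limits AlgebraicGeometry

namespace Groth.Agent.Lib.Helper14.GalDesc

section Field

variable (F E : Type u) [Field F] [Field E] [Algebra F E]

theorem etale_adjoin_of_isSeparable [Algebra.IsSeparable F E] (s : Finset E) :
    Algebra.Etale F (Algebra.adjoin F (s : Set E)) ∧ Module.Finite F (Algebra.adjoin F (s : Set E)) := by
  have halg : ∀ x ∈ (s : Set E), IsAlgebraic F x := fun x _ =>
    (Algebra.IsSeparable.isSeparable F x).isIntegral.isAlgebraic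
  have heq : (IntermediateField.adjoin F (s : Set E)).toSubalgebra = Algebra.adjoin F (s : Set E) :=
    IntermediateField.adjoin_toSubalgebra_of_isAlgebraic halg
  let L := IntermediateField.adjoin F (s : Set E)
  haveI : FiniteDimensional F L :=
    IntermediateField.finiteDimensional_adjoin (fun x _ => (Algebra.IsSeparable.isSeparable F x).isIntegral)
  haveI : Algebra.IsSeparable F L := inferInstance
  haveI : Algebra.FormallyEtale F L := Algebra.FormallyEtale.of_isSeparable F L
  haveI : Algebra.FinitePresentation F L := Algebra.FinitePresentation.of_finiteType.mp inferInstance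
  haveI : Algebra.Etale F L := ⟨inferInstance, inferInstance⟩
  let e : L ≃ₐ[F] (Algebra.adjoin F (s : Set E)) := Subalgebra.equivOfEq _ _ heq
  exact ⟨Algebra.Etale.of_equiv e, Module.Finite.equiv e.toLinearEquiv⟩

theorem univHomeo_of_isPurelyInseparable [IsPurelyInseparable F E] :
    IsIntegralHom (Spec.map (CommRingCat.ofHom (algebraMap F E))) ∧
    UniversallyInjective (Spec.map (CommRingCat.ofHom (algebraMap F E))) ∧
    Surjective (Spec.map (CommRingCat.ofHom (algebraMap F E))) := by
  refine ⟨?_, ?_, ?_⟩
  · rw [IsIntegralHom.SpecMap_iff]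
    have : Algebra.IsIntegral F E := inferInstance
    exact algebraMap_isIntegral_iff.mpr this
  · have := (tfae_universallyInjective (Spec.map (CommRingCat.ofHom (algebraMap F E)))).out 0 1
    rw [this]
    intro K _ g₁ g₂ h
    obtain ⟨a₁, rfl⟩ := Spec.map_surjective g₁
    obtain ⟨a₂, rfl⟩ := Spec.map_surjective g₂
    simp only [← Spec.map_comp] at h
    have h' := Spec.map_injective h
    have h2 : a₁.hom.comp (algebraMap F E) = a₂.hom.comp (algebraMap F E) := by
      have := congrArg CommRingCat.Hom.hom h'
      simpa using this
    have h3 := IsPurelyInseparable.injective_comp_algebraMap F E K h2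
    congr 1
    ext x
    exact congrArg (fun t => t x) h3
  · constructor
    intro y
    exact ⟨default, Subsingleton.elim _ _⟩

end Field

section Ext

theorem isUniversalColimit_cofan_specPi (ι : Type u) [Finite ι] (A : Type u) [CommRing A] :
    IsUniversalColimit (Cofan.mk (Spec (CommRingCat.of (ι → A)))
      (fun i : ι => Spec.map (CommRingCat.ofHom (Pi.evalRingHom (fun _ : ι => A) i)))) := by
  apply FinitaryPreExtensive.isUniversal_finiteCoproducts
  refine ((Cofan.nonempty_isColimit_iff_isIso_sigmaDesc _).mpr ?_).some
  exact inferInstanceAs (IsIso (sigmaSpec (fun _ : ι => CommRingCat.of A)))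

end Ext

end Groth.Agent.Lib.Helper14.GalDesc
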