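import Groth.Agent.Lib.Helper14.GalDesc1
import Groth.Agent.Lib.Helper14.GalDesc2
import Groth.Prelude.Def_Pi1

set_option autoImplicit false
set_option backward.isDefEq.respectTransparency false
universe u
open CategoryTheory CategoryTheory.Limits AlgebraicGeometry

namespace Groth.Agent.Lib.Helper14.GalDesc

open Groth.Agent.Lib.helper5.FGLimit Groth.Agent.Lib.helper5.PBLimit

section Main

variable (k : Type u) [Field k] {X : Scheme.{u}} (f : X ⟶ Spec (CommRingCat.of k))

/-- the separable closure of `k` in its algebraic closure, as a type. -/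
abbrev Ks : Type u := separableClosure k (AlgebraicClosure k)

theorem tK_comp :
    Spec.map (CommRingCat.ofHom (algebraMap (Ks k) (AlgebraicClosure k))) ≫ tK k (Ks k) (𝟙 _) =
      Spec.map (CommRingCat.ofHom (algebraMap k (AlgebraicClosure k))) := by
  unfold tK
  rw [Category.comp_id, ← Spec.map_comp, ← CommRingCat.ofHom_comp]
  rfl

/-- the universal homeomorphism `X_{k̄} ⟶ X_{k^s}`. -/
noncomputable def cMap :
    pullback f (Spec.map (CommRingCat.ofHom (algebraMap k (AlgebraicClosure k)))) ⟶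
      pullback f (tK k (Ks k) (𝟙 _)) :=
  pullback.map f _ f _ (𝟙 X) (Spec.map (CommRingCat.ofHom (algebraMap (Ks k) (AlgebraicClosure k))))
    (𝟙 _) (by simp) (by rw [Category.comp_id, tK_comp])

theorem cMap_fst : cMap k f ≫ pullback.fst f (tK k (Ks k) (𝟙 _)) = pullback.fst f _ := by
  unfold cMap
  rw [pullback.map, pullback.lift_fst, Category.comp_id]

theorem cMap_snd : cMap k f ≫ pullback.snd f (tK k (Ks k) (𝟙 _)) =
    pullback.snd f _ ≫ Spec.map (CommRingCat.ofHom (algebraMap (Ks k) (AlgebraicClosure k))) := by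
  unfold cMap
  rw [pullback.map, pullback.lift_snd]

theorem isPullback_cMap :
    IsPullback (cMap k f) (pullback.snd f _) (pullback.snd f (tK k (Ks k) (𝟙 _)))
      (Spec.map (CommRingCat.ofHom (algebraMap (Ks k) (AlgebraicClosure k)))) := by
  refine IsPullback.of_right ?_ (cMap_snd k f) (IsPullback.of_hasPullback f (tK k (Ks k) (𝟙 _)))
  rw [cMap_fst, tK_comp]
  exact IsPullback.of_hasPullback f _

theorem cMap_props : IsIntegralHom (cMap k f) ∧ UniversallyInjective (cMap k f) ∧
    Surjective (cMap k f) := by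
  obtain ⟨h1, h2, h3⟩ := univHomeo_of_isPurelyInseparable (Ks k) (AlgebraicClosure k)
  exact ⟨MorphismProperty.of_isPullback (isPullback_cMap k f).flip h1,
    MorphismProperty.of_isPullback (isPullback_cMap k f).flip h2,
    MorphismProperty.of_isPullback (isPullback_cMap k f).flip h3⟩

/-- Step 1: a section over `X_{k̄}` of an étale `Y ⟶ X` descends to a finite separable level. -/
theorem exists_finite_level [CompactSpace X] [QuasiSeparatedSpace X]
    {Y : Scheme.{u}} (v : Y ⟶ X) [Etale v]
    (τ : pullback f (Spec.map (CommRingCat.ofHom (algebraMap k (AlgebraicClosure k)))) ⟶ Y)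
    (hτ : τ ≫ v = pullback.fst f (Spec.map (CommRingCat.ofHom (algebraMap k (AlgebraicClosure k))))) :
    ∃ (s : Finset (Ks k)) (g : pullback f (pS k (Ks k) (𝟙 _) s) ⟶ Y),
      g ≫ v = pullback.fst f _ ∧ cMap k f ≫ πX k (Ks k) (𝟙 _) f s ≫ g = τ := by
  obtain ⟨hc1, hc2, hc3⟩ := cMap_props k f
  let ps := pullback.fst f (tK k (Ks k) (𝟙 _))
  have hqc : QuasiCompact f := by
    rw [HasAffineProperty.iff_of_isAffine (P := @QuasiCompact)]; infer_instance
  have hqs : QuasiSeparated f := by
    rw [HasAffineProperty.iff_of_isAffine (P := @QuasiSeparated)]; infer_instance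
  -- descend along `cMap`
  obtain ⟨σ, hσ1, hσ2⟩ := exists_section_descent (cMap k f) (pullback.snd v ps)
    (pullback.lift τ (cMap k f) (by rw [hτ, cMap_fst])) (pullback.lift_snd _ _ _)
  have h1 : (σ ≫ pullback.fst v ps) ≫ v = pullback.fst f (tK k (Ks k) (𝟙 _)) := by
    rw [Category.assoc, pullback.condition, ← Category.assoc, hσ1, Category.id_comp]
  obtain ⟨s, g, hg1, hg2⟩ := exists_descent_over k (Ks k) (𝟙 _) f v (σ ≫ pullback.fst v ps) h1
  refine ⟨s, g, hg1, ?_⟩
  rw [hg2, ← Category.assoc, hσ2, pullback.lift_fst]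

/-- the finite étale `k`-scheme `Spec (ι → A)`. -/
theorem finiteEtale_specPi (ι : Type u) [Finite ι] (A : Type u) [CommRing A] [Algebra k A]
    [Algebra.Etale k A] [Module.Finite k A] :
    FEt.prop (Spec.map (CommRingCat.ofHom (algebraMap k (ι → A)))) := by
  refine ⟨?_, ?_⟩
  · rw [IsFinite.SpecMap_iff]
    exact RingHom.finite_algebraMap.mpr inferInstance
  · rw [HasRingHomProperty.Spec_iff (P := @Etale)]
    exact RingHom.etale_algebraMap.mpr inferInstance

theorem exists_dominating [CompactSpace X] [QuasiSeparatedSpace X] (U : FEt.Cat X)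
    (hU : Pi1.IsSplit ((FEt.restrict (pullback.fst f
      (Spec.map (CommRingCat.ofHom (algebraMap k (AlgebraicClosure k)))))).obj U)) :
    ∃ (V : FEt.Cat (Spec (CommRingCat.of k))) (e : (FEt.restrict f).obj V ⟶ U),
      Surjective e.left := by
  classical
  obtain ⟨ι, hfin, e, he⟩ := hU
  haveI := hfin
  haveI : Fintype ι := Fintype.ofFinite ι
  haveI : Etale U.hom := U.prop.2
  -- sections
  let τ : ι → (pullback f (Spec.map (CommRingCat.ofHom (algebraMap k (AlgebraicClosure k)))) ⟶ U.left) :=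
    fun i => Sigma.ι (fun _ : ι => pullback f
      (Spec.map (CommRingCat.ofHom (algebraMap k (AlgebraicClosure k))))) i ≫ e.inv ≫
        pullback.fst U.hom (pullback.fst f _)
  have hτ : ∀ i, τ i ≫ U.hom = pullback.fst f _ := by
    intro i
    have h2 : Sigma.ι (fun _ : ι => pullback f
      (Spec.map (CommRingCat.ofHom (algebraMap k (AlgebraicClosure k))))) i ≫ e.inv ≫
        pullback.snd U.hom (pullback.fst f
      (Spec.map (CommRingCat.ofHom (algebraMap k (AlgebraicClosure k))))) = 𝟙 _ := he i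
    simp only [τ, Category.assoc]
    rw [pullback.condition, ← Category.assoc, ← Category.assoc, Category.assoc (Sigma.ι _ i), h2,
      Category.id_comp]
  choose s g hg1 hg2 using fun i => exists_finite_level k f U.hom (τ i) (hτ i)
  let S0 : Finset (Ks k) := Finset.univ.biUnion s
  have hs : ∀ i, s i ≤ S0 := fun i => Finset.subset_biUnion_of_mem s (Finset.mem_univ i)
  let g' : ∀ i, pullback f (pS k (Ks k) (𝟙 _) S0) ⟶ U.left :=
    fun i => trX k (Ks k) (𝟙 _) f (hs i) ≫ g i
  have hg'1 : ∀ i, g' i ≫ U.hom = pullback.fst f _ := by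
    intro i
    simp only [g', Category.assoc]
    rw [hg1, trX_fst]
  have hg'2 : ∀ i, cMap k f ≫ πX k (Ks k) (𝟙 _) f S0 ≫ g' i = τ i := by
    intro i
    simp only [g']
    rw [← Category.assoc (πX k (Ks k) (𝟙 _) f S0), πX_trX, hg2]
  -- the algebra
  obtain ⟨hA1, hA2⟩ := etale_adjoin_of_isSeparable k (Ks k) S0
  let V : FEt.Cat (Spec (CommRingCat.of k)) :=
    MorphismProperty.Over.mk ⊤ (Spec.map (CommRingCat.ofHom (algebraMap k (ι → adj k (Ks k) S0))))
      (finiteEtale_specPi k ι (adj k (Ks k) S0))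
  let π : ∀ i : ι, Spec (CommRingCat.of (adj k (Ks k) S0)) ⟶ Spec (CommRingCat.of (ι → adj k (Ks k) S0)) :=
    fun i => Spec.map (CommRingCat.ofHom (Pi.evalRingHom (fun _ : ι => adj k (Ks k) S0) i))
  have hπ : ∀ i, π i ≫ V.hom = pS k (Ks k) (𝟙 _) S0 := by
    intro i
    change Spec.map _ ≫ Spec.map _ = Spec.map _ ≫ 𝟙 _
    rw [Category.comp_id, ← Spec.map_comp]
    rfl
  have hau := isUniversalColimit_cofan_specPi ι (adj k (Ks k) S0)
  let d : Cofan (fun _ : ι => pullback f (pS k (Ks k) (𝟙 _) S0)) :=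
    Cofan.mk (pullback V.hom f) (fun i => pullback.lift
      (pullback.snd f (pS k (Ks k) (𝟙 _) S0) ≫ π i) (pullback.fst f (pS k (Ks k) (𝟙 _) S0))
      (by rw [Category.assoc, hπ, pullback.condition]))
  obtain ⟨hd⟩ := hau.nonempty_isColimit_of_isPullback_left
    (fun _ : ι => pS k (Ks k) (𝟙 _) S0) V.hom f
    (fun _ => pullback.fst f (pS k (Ks k) (𝟙 _) S0)) (fun _ => pullback.snd f (pS k (Ks k) (𝟙 _) S0))
    (fun _ => IsPullback.of_hasPullback _ _) (IsPullback.of_hasPullback V.hom f).flip d (Iso.refl _)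
    hπ (fun i => by simp [d, Cofan.inj]) (fun i => by simp [d, Cofan.inj, π])
  let E : pullback V.hom f ⟶ U.left := Cofan.IsColimit.desc hd g'
  have hE : ∀ i, d.inj i ≫ E = g' i := fun i => Cofan.IsColimit.fac hd g' i
  have hEw : E ≫ U.hom = pullback.snd V.hom f := by
    refine Cofan.IsColimit.hom_ext hd _ _ (fun i => ?_)
    rw [← Category.assoc, hE, hg'1]
    simp [d, Cofan.inj]
  refine ⟨V, MorphismProperty.Over.homMk E hEw trivial, ?_⟩
  change Surjective E
  constructor
  intro y
  -- lift `y` to the split cover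
  have hsurj : Surjective (pullback.fst U.hom (pullback.fst f
      (Spec.map (CommRingCat.ofHom (algebraMap k (AlgebraicClosure k)))))) := by
    have h0 : Surjective (Spec.map (CommRingCat.ofHom (algebraMap k (AlgebraicClosure k)))) := by
      constructor
      intro y
      exact ⟨default, Subsingleton.elim _ _⟩
    have h1 : Surjective (pullback.fst f
      (Spec.map (CommRingCat.ofHom (algebraMap k (AlgebraicClosure k))))) :=
      MorphismProperty.pullback_fst (P := @Surjective) _ _ h0
    exact MorphismProperty.pullback_fst (P := @Surjective) _ _ h1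
  obtain ⟨x, hx⟩ := hsurj.surj y
  obtain ⟨⟨i, w⟩, hw⟩ := (sigmaMk (fun _ : ι => pullback f
    (Spec.map (CommRingCat.ofHom (algebraMap k (AlgebraicClosure k)))))).surjective (e.hom x)
  rw [sigmaMk_mk] at hw
  refine ⟨d.inj i ((cMap k f ≫ πX k (Ks k) (𝟙 _) f S0) w), ?_⟩
  have key : (cMap k f ≫ πX k (Ks k) (𝟙 _) f S0) ≫ d.inj i ≫ E = τ i := by
    rw [hE, Category.assoc, hg'2]
  have h5 : E (d.inj i ((cMap k f ≫ πX k (Ks k) (𝟙 _) f S0) w)) =
      ((cMap k f ≫ πX k (Ks k) (𝟙 _) f S0) ≫ d.inj i ≫ E) w := rfl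
  rw [h5, key]
  simp only [τ]
  rw [Scheme.Hom.comp_apply, hw, Scheme.Hom.comp_apply, ← Scheme.Hom.comp_apply e.hom e.inv,
    e.hom_inv_id]
  exact hx

end Main

end Groth.Agent.Lib.Helper14.GalDesc
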