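import Mathlib
import Groth.Agent.Lib.Helper5.FGDescent3

/-!
# helper14: quasi-compact opens of `X ×_k Spec A` descend to a finitely generated subalgebra

`exists_descent_aux`: for any scheme `X` over a ring `k` and any `k`-algebra `A`, a quasi-compact
open `V` of `X ×_k Spec A` is the preimage of a quasi-compact open of `X ×_k Spec k[s]` for a finite
subset `s ⊆ A` (helper5's limit cone + Mathlib's `exists_preimage_eq`; no finiteness hypothesis on
`X`). The structure maps `t`, `p` are abstracted (with equations) so that the statement can be used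
both with helper5's `tK`, `pS` and with plain `Spec.map`.
-/

set_option autoImplicit false
set_option linter.style.haveILetI false
universe u
open CategoryTheory CategoryTheory.Limits AlgebraicGeometry

namespace Groth.Agent.Lib.Helper14.QCOpenDescent

open Groth.Agent.Lib.helper5.FGLimit Groth.Agent.Lib.helper5.PBLimit

variable {k A : Type u} [CommRing k] [CommRing A] [Algebra k A] {X : Scheme.{u}}
  (u : X ⟶ Spec (CommRingCat.of k))

theorem exists_descent_aux (t : Spec (CommRingCat.of A) ⟶ Spec (CommRingCat.of k))
    (ht : t = tK k A (𝟙 (Spec (CommRingCat.of k)))) (V : Set ↥(pullback u t)) (hV : IsOpen V)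
    (hVc : IsCompact V) :
    ∃ s : Finset A, ∀ (p : Spec (CommRingCat.of (adj k A s)) ⟶ Spec (CommRingCat.of k)),
      p = pS k A (𝟙 (Spec (CommRingCat.of k))) s →
      ∃ V' : Set ↥(pullback u p), IsOpen V' ∧ IsCompact V' ∧
        ∀ π : pullback u t ⟶ pullback u p, π ≫ pullback.fst u p = pullback.fst u t →
          π ≫ pullback.snd u p = pullback.snd u t ≫ jK k A s → π.base ⁻¹' V' = V := by
  subst ht
  let c := pbCone (specDiagram k A) (specτ k A (𝟙 (Spec (CommRingCat.of k)))) u (specCone k A)
    (tK k A (𝟙 _)) (specCone_specτ k A (𝟙 _))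
  let hc : IsLimit c := isLimitPbCone _ _ u _ _ (specCone_specτ k A (𝟙 _)) (isLimitSpecCone k A)
  obtain ⟨i, W, hWc, hW⟩ := exists_preimage_eq _ c hc ⟨V, hV⟩ hVc
  refine ⟨i.unop, fun p hp => ?_⟩
  subst hp
  refine ⟨W.1, W.2, hWc, fun π h1 h2 => ?_⟩
  have hπ : π = c.π.app i := by
    apply pullback.hom_ext
    · rw [h1]
      exact ((pullback.lift_fst _ _ _).trans (Category.comp_id _)).symm
    · rw [h2]
      exact (pullback.lift_snd _ _ _).symm
  rw [hπ]
  exact congrArg (fun W : c.pt.Opens => W.1) hW

end Groth.Agent.Lib.Helper14.QCOpenDescent
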