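import Mathlib
import Groth.Prelude.Def_Curv2
import Groth.Agent.Lib.Helper14.QCOpenDescent

/-!
# helper14: an open subgroup of the Galois group stabilises a quasi-compact open of `X_K`
-/

set_option autoImplicit false
set_option linter.style.haveILetI false
universe u
open CategoryTheory CategoryTheory.Limits AlgebraicGeometry

namespace Groth.Agent.Lib.Helper14.GalStabQC

open Groth.Agent.Lib.helper5.FGLimit Groth.Agent.Lib.helper5.PBLimit

variable (k : Type u) [Field k] (K : Type u) [Field K] [Algebra k K]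
  (X : Scheme.{u}) [X.Over (Spec (CommRingCat.of k))]

theorem galAct_fst (σ : K ≃ₐ[k] K) :
    Curv2.galAct k X K σ ≫ pullback.fst _ _ = pullback.fst _ _ := by
  unfold Curv2.galAct
  rw [pullback.lift_fst, Category.comp_id]

theorem galAct_snd (σ : K ≃ₐ[k] K) :
    Curv2.galAct k X K σ ≫ pullback.snd _ _ =
      pullback.snd _ _ ≫ Spec.map (CommRingCat.ofHom (σ : K →ₐ[k] K).toRingHom) := by
  unfold Curv2.galAct
  rw [pullback.lift_snd]

theorem galAct_comp (σ τ : K ≃ₐ[k] K) (h : ∀ a, σ (τ a) = a) :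
    Curv2.galAct k X K σ ≫ Curv2.galAct k X K τ = 𝟙 _ := by
  apply pullback.hom_ext
  · rw [Category.assoc, galAct_fst, galAct_fst, Category.id_comp]
  · rw [Category.assoc, galAct_snd, ← Category.assoc, galAct_snd, Category.assoc,
      ← Spec.map_comp, Category.id_comp]
    have : CommRingCat.ofHom (τ : K →ₐ[k] K).toRingHom ≫
        CommRingCat.ofHom (σ : K →ₐ[k] K).toRingHom = 𝟙 _ := by
      ext a
      exact h a
    rw [this, Spec.map_id, Category.comp_id]

theorem exists_stabilizer [Algebra.IsAlgebraic k K] (V : Set ↥(Curv2.bc k X K)) (hV : IsOpen V)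
    (hVc : IsCompact V) :
    ∃ E : IntermediateField k K, FiniteDimensional k ↥E ∧
      ∀ σ : K ≃ₐ[k] K, (∀ a : K, a ∈ E → σ a = a) →
        (Curv2.galAct k X K σ).base '' V = V := by
  obtain ⟨s, hs⟩ := Groth.Agent.Lib.Helper14.QCOpenDescent.exists_descent_aux
    (X ↘ (Spec (CommRingCat.of k))) (Spec.map (CommRingCat.ofHom (algebraMap k K)))
    (Category.comp_id _).symm V hV hVc
  obtain ⟨V', -, -, hV'⟩ := hs (pS k K (𝟙 (Spec (CommRingCat.of k))) s) rfl
  refine ⟨IntermediateField.adjoin k (s : Set K),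
    IntermediateField.finiteDimensional_adjoin (fun x _ => Algebra.IsIntegral.isIntegral x),
    fun σ hσ => ?_⟩
  -- a compatible projection
  let π : pullback (X ↘ (Spec (CommRingCat.of k)))
      (Spec.map (CommRingCat.ofHom (algebraMap k K))) ⟶
      pullback (X ↘ (Spec (CommRingCat.of k))) (pS k K (𝟙 (Spec (CommRingCat.of k))) s) :=
    pullback.map _ _ _ _ (𝟙 X) (jK k K s) (𝟙 _) (by simp) (by
      rw [Category.comp_id, jK_pS k K (𝟙 (Spec (CommRingCat.of k))) s]
      exact (Category.comp_id (Spec.map (CommRingCat.ofHom (algebraMap k K)))).symm)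
  have hπ1 : π ≫ pullback.fst _ _ = pullback.fst _ _ :=
    (pullback.lift_fst _ _ _).trans (Category.comp_id _)
  have hπ2 : π ≫ pullback.snd _ _ = pullback.snd _ _ ≫ jK k K s := pullback.lift_snd _ _ _
  have e1 := hV' π hπ1 hπ2
  -- the inverse automorphism
  let g := Curv2.galAct k X K σ
  let g' := Curv2.galAct k X K σ.symm
  have hgg' : g ≫ g' = 𝟙 _ := galAct_comp k K X σ σ.symm (fun a => σ.apply_symm_apply a)
  have hg'g : g' ≫ g = 𝟙 _ := galAct_comp k K X σ.symm σ (fun a => σ.symm_apply_apply a)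
  have hfix : Spec.map (CommRingCat.ofHom (σ.symm : K →ₐ[k] K).toRingHom) ≫ jK k K s =
      jK k K s := by
    unfold jK
    rw [← Spec.map_comp]
    congr 1
    ext ⟨a, ha⟩
    have haE : a ∈ IntermediateField.adjoin k (s : Set K) :=
      IntermediateField.algebra_adjoin_le_adjoin k _ ha
    show σ.symm a = a
    rw [σ.symm_apply_eq]
    exact (hσ a haE).symm
  have e2 := hV' (g' ≫ π) (by rw [Category.assoc, hπ1]; exact galAct_fst k K X σ.symm)
    (by rw [Category.assoc, hπ2, ← Category.assoc, galAct_snd, Category.assoc, hfix])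
  -- conclude
  have himg : g.base '' V = g'.base ⁻¹' V := by
    apply congrFun
    apply Set.image_eq_preimage_of_inverse
    · intro x
      rw [← Scheme.Hom.comp_apply, hgg']
      rfl
    · intro x
      rw [← Scheme.Hom.comp_apply, hg'g]
      rfl
  rw [himg]
  conv_lhs => rw [← e1]
  rw [← e2]
  rfl

end Groth.Agent.Lib.Helper14.GalStabQC
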