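import Mathlib

/-!
# helper14: irreducibility from a flat morphism with geometrically irreducible generic fibre

`irreducibleSpace_pullback_of_flat`: `f : X ⟶ C` flat, `C` irreducible with generic point `η`, the generic fibre
`X_η ⟶ Spec κ(η)` geometrically irreducible, `pr : C' ⟶ C` flat with `C'` irreducible. Then `X ×_C C'` is
irreducible.
-/

set_option autoImplicit false
universe u
open CategoryTheory CategoryTheory.Limits AlgebraicGeometry

namespace Groth.Agent.Lib.Helper14.GenFibIrr

/-- a subset of an irreducible sober space containing the generic point is irreducible. -/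
theorem isIrreducible_of_genericPoint_mem {α : Type*} [TopologicalSpace α] [QuasiSober α]
    [IrreducibleSpace α] (S : Set α) (h : genericPoint α ∈ S) : IsIrreducible S := by
  refine ⟨⟨_, h⟩, ?_⟩
  rintro u v hu hv ⟨x, -, hxu⟩ ⟨y, -, hyv⟩
  exact ⟨genericPoint α, h, (genericPoint_specializes x).mem_open hu hxu,
    (genericPoint_specializes y).mem_open hv hyv⟩

variable {X C C' : Scheme.{u}} (f : X ⟶ C) (pr : C' ⟶ C)

/-- a flat morphism between irreducible schemes maps the generic point to the generic point. -/
theorem map_genericPoint_of_flat [IrreducibleSpace C] [IrreducibleSpace C'] [Flat pr] :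
    pr (genericPoint C') = genericPoint C := by
  have hgen : GeneralizingMap pr := Flat.generalizingMap pr
  obtain ⟨x', hx', hx'2⟩ := hgen (genericPoint_specializes (pr (genericPoint C')))
  have : x' = genericPoint C' := (hx'.antisymm (genericPoint_specializes x')).eq
  rw [← this, hx'2]

theorem irreducibleSpace_fiber_genericPoint [IrreducibleSpace C] [IrreducibleSpace C'] [Flat pr] :
    IrreducibleSpace ↥(pr.fiber (genericPoint C)) := by
  have h1 : IsIrreducible (pr ⁻¹' {genericPoint C}) :=
    isIrreducible_of_genericPoint_mem _ (map_genericPoint_of_flat pr)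
  haveI := Subtype.irreducibleSpace h1
  exact (pr.fiberHomeo (genericPoint C)).irreducibleSpace_iff.mpr inferInstance

theorem irreducibleSpace_pullback_of_flat [IrreducibleSpace C] [IrreducibleSpace C'] [Flat f] [Flat pr]
    [GeometricallyIrreducible (f.fiberToSpecResidueField (genericPoint C))] :
    IrreducibleSpace ↥(pullback f pr) := by
  set η := genericPoint C with hη
  haveI hT : IrreducibleSpace ↥(pr.fiber η) := irreducibleSpace_fiber_genericPoint pr
  -- the generic fibre of `X ×_C C' ⟶ C`
  haveI : UniversallyOpen (f.fiberToSpecResidueField η) := inferInstance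
  haveI h1 : IrreducibleSpace ↥(pullback (f.fiberToSpecResidueField η) (pr.fiberToSpecResidueField η)) :=
    inferInstance
  have e1 : pullback (pullback.snd f (C.fromSpecResidueField η)) (pr.fiberToSpecResidueField η) ≅
      pullback f (pr.fiberToSpecResidueField η ≫ C.fromSpecResidueField η) :=
    pullbackLeftPullbackSndIso f (C.fromSpecResidueField η) (pr.fiberToSpecResidueField η)
  have e2 : pullback (pullback.snd f pr) (pr.fiberι η) ≅ pullback f (pr.fiberι η ≫ pr) :=
    pullbackLeftPullbackSndIso f pr (pr.fiberι η)
  have e3 : pullback f (pr.fiberι η ≫ pr) ≅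
      pullback f (pr.fiberToSpecResidueField η ≫ C.fromSpecResidueField η) :=
    pullback.congrHom rfl (pr.fiber_fac η)
  haveI h2 : IrreducibleSpace ↥(pullback (pullback.snd f pr) (pr.fiberι η)) :=
    ((e2 ≪≫ e3 ≪≫ e1.symm).hom.homeomorph).irreducibleSpace_iff.mpr h1
  -- density
  set φ := pullback.fst (pullback.snd f pr) (pr.fiberι η) with hφ
  have hrange : Set.range φ = (pullback.snd f pr ≫ pr) ⁻¹' {η} := by
    rw [hφ, Scheme.Pullback.range_fst, pr.range_fiberι]
    rfl
  have hirr : IsIrreducible (Set.range φ) := by
    rw [← Set.image_univ]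
    exact (IrreducibleSpace.isIrreducible_univ _).image _ φ.continuous.continuousOn
  have hgen : GeneralizingMap (pullback.snd f pr ≫ pr) := Flat.generalizingMap _
  have hdense : closure (Set.range φ) = Set.univ := by
    rw [Set.eq_univ_iff_forall]
    intro w
    obtain ⟨w', hw', hw'2⟩ := hgen (genericPoint_specializes ((pullback.snd f pr ≫ pr) w))
    have hw'3 : w' ∈ Set.range φ := by
      rw [hrange]
      exact hw'2
    exact closure_mono (Set.singleton_subset_iff.mpr hw'3) (specializes_iff_mem_closure.mp hw')
  rw [irreducibleSpace_def]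
  have := hirr.closure
  rw [hdense] at this
  exact this

end Groth.Agent.Lib.Helper14.GenFibIrr
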