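import Mathlib.CategoryTheory.Sites.PrecoverageToGrothendieck
import Mathlib.CategoryTheory.Sites.Hypercover.Zero
import Mathlib.CategoryTheory.Sites.Coverage

/-!
# Topology generated by two precoverages: composite coverings (helper14)
-/

set_option autoImplicit false

universe w v₁ u₁

open CategoryTheory CategoryTheory.Limits Opposite

namespace Groth.Agent.Lib.Helper14.GenTop

variable {C : Type u₁} [Category.{v₁} C] (C' : C → Prop) (P P' : Precoverage C)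

/-- Indexed form of "contains a composite `P' ∘ P` family with middle objects in `C'`". -/
def IsCompCov (X : C) (S' : Sieve X) : Prop :=
  ∃ (E : P.ZeroHypercover.{max u₁ v₁} X), (∀ i, C' (E.X i)) ∧
    ∀ i, ∃ R' ∈ P' (E.X i), R' ≤ (S'.pullback (E.f i)).arrows

/-- The form used in the statements. -/
def IsCompCov' (X : C) (S' : Sieve X) : Prop :=
  ∃ (R : Presieve X) (_ : R ∈ P X) (_ : ∀ ⦃Y : C⦄ ⦃f : Y ⟶ X⦄, R f → C' Y)
    (R' : ∀ ⦃Y : C⦄ ⦃f : Y ⟶ X⦄, R f → Presieve Y),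
    (∀ ⦃Y : C⦄ ⦃f : Y ⟶ X⦄ (hf : R f), R' hf ∈ P' Y) ∧
    ∀ ⦃Y : C⦄ ⦃f : Y ⟶ X⦄ (hf : R f) ⦃Z : C⦄ ⦃g : Z ⟶ Y⦄, R' hf g → S' (g ≫ f)

variable {C' P P'}

theorem transport_aux {X : C} (S' : Sieve X) {Y₀ Y : C} (e : Y₀ = Y) (f₀ : Y₀ ⟶ X) (f : Y ⟶ X)
    (hf : f₀ = eqToHom e ≫ f) (R₀ : Presieve Y₀) (h₀ : R₀ ∈ P' Y₀)
    (hS : R₀ ≤ (S'.pullback f₀).arrows) :
    (e ▸ R₀ : Presieve Y) ∈ P' Y ∧ (e ▸ R₀ : Presieve Y) ≤ (S'.pullback f).arrows := by
  subst e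
  simp only [eqToHom_refl, Category.id_comp] at hf
  subst hf
  exact ⟨h₀, hS⟩

theorem isCompCov'_of_isCompCov {X : C} {S' : Sieve X} (h : IsCompCov C' P P' X S') :
    IsCompCov' C' P P' X S' := by
  obtain ⟨E, hC, hR'⟩ := h
  choose R' hR'mem hR'le using hR'
  refine ⟨E.presieve₀, E.mem₀, ?_, fun Y f hf => (hf.obj_idx ▸ R' hf.idx : Presieve Y), ?_, ?_⟩
  · intro Y f hf
    exact hf.obj_idx ▸ hC hf.idx
  · intro Y f hf
    exact (transport_aux S' hf.obj_idx (E.f hf.idx) f hf.hom_idx (R' hf.idx) (hR'mem _)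
      (hR'le _)).1
  · intro Y f hf Z g hg
    exact (transport_aux S' hf.obj_idx (E.f hf.idx) f hf.hom_idx (R' hf.idx) (hR'mem _)
      (hR'le _)).2 _ _ hg

theorem isCompCov_of_isCompCov' {X : C} {S' : Sieve X} (h : IsCompCov' C' P P' X S') :
    IsCompCov C' P P' X S' := by
  obtain ⟨R, hR, hC, R', hR', hS⟩ := h
  obtain ⟨E, rfl⟩ := Precoverage.mem_iff_exists_zeroHypercover.1 hR
  refine ⟨E, fun i => hC (Presieve.ofArrows.mk i), fun i => ?_⟩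
  exact ⟨R' (Presieve.ofArrows.mk i), hR' _, fun Z g hg => hS _ hg⟩

theorem isCompCov_iff {X : C} {S' : Sieve X} :
    IsCompCov C' P P' X S' ↔ IsCompCov' C' P P' X S' :=
  ⟨isCompCov'_of_isCompCov, isCompCov_of_isCompCov'⟩

end Groth.Agent.Lib.Helper14.GenTop
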