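import Groth.Agent.Lib.Helper14.GenTop1

/-!
# Topology generated by two precoverages: description of the covering sieves (helper14)
-/

set_option autoImplicit false

universe w v₁ u₁

open CategoryTheory CategoryTheory.Limits Opposite

namespace Groth.Agent.Lib.Helper14.GenTop

variable {C : Type u₁} [Category.{v₁} C] {C' : C → Prop} {P P' : Precoverage C}

theorem mem_toGrothendieck_of_isCompCov {X : C} {S' : Sieve X}
    (h : IsCompCov C' P P' X S') : S' ∈ (P ⊔ P').toGrothendieck X := by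
  obtain ⟨E, -, hR'⟩ := h
  have hE : Sieve.generate E.presieve₀ ∈ (P ⊔ P').toGrothendieck X :=
    Precoverage.generate_mem_toGrothendieck (Or.inl E.mem₀)
  refine (P ⊔ P').toGrothendieck.transitive hE S' ?_
  rintro Y f ⟨Z, k, g, ⟨i⟩, rfl⟩
  rw [Sieve.pullback_comp]
  apply GrothendieckTopology.pullback_stable
  obtain ⟨R', hR'mem, hle⟩ := hR' i
  have h1 : Sieve.generate R' ∈ (P ⊔ P').toGrothendieck (E.X i) :=
    Precoverage.generate_mem_toGrothendieck (Or.inr hR'mem)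
  refine GrothendieckTopology.superset_covering _ ?_ h1
  rw [Sieve.generate_le_iff]
  exact hle

/-- The hypotheses of the statements. -/
structure Hyp (C' : C → Prop) (P P' : Precoverage C) : Prop where
  hP'C : ∀ ⦃X : C⦄ ⦃R : Presieve X⦄, R ∈ P' X → C' X ∧ ∀ ⦃Y : C⦄ ⦃f : Y ⟶ X⦄, R f → C' Y
  hP'id : ∀ ⦃X : C⦄, C' X → Presieve.singleton (𝟙 X) ∈ P' X
  ha : ∀ ⦃X : C⦄ ⦃R : Presieve X⦄, R ∈ P' X → ∀ ⦃T : C⦄ (g : T ⟶ X), C' T →
      ∃ _ : R.HasPullbacks g, Presieve.pullbackArrows g R ∈ P' T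
  hb : ∀ X : C, ∃ R ∈ P X, ∀ ⦃Y : C⦄ ⦃f : Y ⟶ X⦄, R f → C' Y
  hc : ∀ ⦃S : C⦄ ⦃R₁ : Presieve S⦄, R₁ ∈ P' S →
      ∀ (R₂ : ∀ ⦃Y : C⦄ ⦃f : Y ⟶ S⦄, R₁ f → Presieve Y),
        (∀ ⦃Y : C⦄ ⦃f : Y ⟶ S⦄ (hf : R₁ f), R₂ hf ∈ P Y ∧ ∀ ⦃Z : C⦄ ⦃g : Z ⟶ Y⦄, R₂ hf g → C' Z) →
      ∀ (R₃ : ∀ ⦃Y : C⦄ ⦃f : Y ⟶ S⦄ (hf : R₁ f) ⦃Z : C⦄ ⦃g : Z ⟶ Y⦄, R₂ hf g → Presieve Z),
        (∀ ⦃Y : C⦄ ⦃f : Y ⟶ S⦄ (hf : R₁ f) ⦃Z : C⦄ ⦃g : Z ⟶ Y⦄ (hg : R₂ hf g), R₃ hf hg ∈ P' Z) →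
      ∃ T ∈ P' S, ∀ ⦃W : C⦄ ⦃q : W ⟶ S⦄, T q →
        ∃ (Y Z V : C) (f : Y ⟶ S) (hf : R₁ f) (g : Z ⟶ Y) (hg : R₂ hf g) (h : V ⟶ Z) (_ : R₃ hf hg h)
          (r : W ⟶ V), r ≫ h ≫ g ≫ f = q

variable (H : Hyp C' P P')
include H

theorem Hyp.exists_zeroHypercover (X : C) :
    ∃ E : P.ZeroHypercover.{max u₁ v₁} X, ∀ i, C' (E.X i) := by
  obtain ⟨R, hR, hC⟩ := H.hb X
  obtain ⟨E, rfl⟩ := Precoverage.mem_iff_exists_zeroHypercover.1 hR
  exact ⟨E, fun i => hC (Presieve.ofArrows.mk i)⟩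

theorem isCompCov_top (X : C) : IsCompCov C' P P' X ⊤ := by
  obtain ⟨E, hE⟩ := H.exists_zeroHypercover X
  exact ⟨E, hE, fun i => ⟨_, H.hP'id (hE i), fun _ _ _ => trivial⟩⟩

theorem isCompCov_of_mem_P' {X : C} {R : Presieve X} (hR : R ∈ P' X) :
    IsCompCov C' P P' X (Sieve.generate R) := by
  obtain ⟨E, hE⟩ := H.exists_zeroHypercover X
  refine ⟨E, hE, fun i => ?_⟩
  obtain ⟨hpb, hmem⟩ := H.ha hR (E.f i) (hE i)
  refine ⟨_, hmem, ?_⟩
  rintro Z g ⟨W, h, hh⟩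
  change Sieve.generate R (_ ≫ E.f i)
  have := R.hasPullback (E.f i) hh
  rw [← pullback.condition]
  exact (Sieve.generate R).downward_closed (Sieve.le_generate R _ _ hh) _

theorem isCompCov_of_mem_P [P.IsStableUnderComposition] {X : C} {R : Presieve X}
    (hR : R ∈ P X) : IsCompCov C' P P' X (Sieve.generate R) := by
  obtain ⟨E, rfl⟩ := Precoverage.mem_iff_exists_zeroHypercover.1 hR
  choose F hF using fun i => H.exists_zeroHypercover (E.X i)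
  refine ⟨E.bind F, fun ij => hF ij.1 ij.2, fun ij => ?_⟩
  refine ⟨_, H.hP'id (hF ij.1 ij.2), ?_⟩
  rintro Z g ⟨⟩
  change Sieve.generate _ (𝟙 _ ≫ (F ij.1).f ij.2 ≫ E.f ij.1)
  rw [Category.id_comp]
  exact (Sieve.generate _).downward_closed (Sieve.le_generate _ _ _ (Presieve.ofArrows.mk ij.1)) _

theorem isCompCov_pullback [P.HasPullbacks] [P.IsStableUnderBaseChange]
    [P.IsStableUnderComposition] {X : C} {S : Sieve X} (h : IsCompCov C' P P' X S)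
    {Y : C} (f : Y ⟶ X) : IsCompCov C' P P' Y (S.pullback f) := by
  obtain ⟨E, hE, hR'⟩ := h
  choose R' hR'mem hR'le using hR'
  have hpb : ∀ i, HasPullback (E.f i) f := fun i =>
    (Precoverage.hasPullbacks_of_mem f E.mem₀).hasPullback (Presieve.ofArrows.mk i)
  choose F hF using fun i => H.exists_zeroHypercover (pullback (E.f i) f)
  refine ⟨(E.pullback₂ f).bind F, fun ij => hF ij.1 ij.2, fun ij => ?_⟩
  obtain ⟨i, j⟩ := ij
  obtain ⟨hpb', hmem⟩ := H.ha (hR'mem i) ((F i).f j ≫ pullback.fst (E.f i) f) (hF i j)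
  refine ⟨_, hmem, ?_⟩
  rintro Z g ⟨W, k, hk⟩
  have := (R' i).hasPullback ((F i).f j ≫ pullback.fst (E.f i) f) hk
  change S ((pullback.snd k ((F i).f j ≫ pullback.fst (E.f i) f) ≫
    ((F i).f j ≫ pullback.snd (E.f i) f)) ≫ f)
  have e : (pullback.snd k ((F i).f j ≫ pullback.fst (E.f i) f) ≫
      ((F i).f j ≫ pullback.snd (E.f i) f)) ≫ f =
      pullback.fst k ((F i).f j ≫ pullback.fst (E.f i) f) ≫ k ≫ E.f i := by
    simp only [Category.assoc]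
    rw [← pullback.condition (f := E.f i) (g := f), ← Category.assoc ((F i).f j),
      ← pullback.condition_assoc]
  rw [e]
  exact S.downward_closed (hR'le i _ _ hk) _

theorem isCompCov_transitive {X : C} {S R : Sieve X} (hS : IsCompCov C' P P' X S)
    (hR : ∀ ⦃Y : C⦄ ⦃f : Y ⟶ X⦄, S f → IsCompCov C' P P' Y (R.pullback f)) :
    IsCompCov C' P P' X R := by
  obtain ⟨E, hE, hR'⟩ := hS
  choose R' hR'mem hR'le using hR'
  refine ⟨E, hE, fun i => ?_⟩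
  have key : ∀ ⦃Z : C⦄ ⦃k : Z ⟶ E.X i⦄ (_ : R' i k),
      IsCompCov' C' P P' Z (R.pullback (k ≫ E.f i)) :=
    fun Z k hk => isCompCov'_of_isCompCov (hR (hR'le i _ _ hk))
  unfold IsCompCov' at key
  choose R₂ hR₂P hR₂C R₃ hR₃P' hR₃le using key
  obtain ⟨T, hT, hTfac⟩ := H.hc (hR'mem i) R₂ (fun Y f hf => ⟨hR₂P hf, hR₂C hf⟩) R₃
    (fun Y f hf Z g hg => hR₃P' hf hg)
  refine ⟨T, hT, ?_⟩
  intro W q hq
  obtain ⟨Y, Z, V, f, hf, g, hg, h, hh, r, rfl⟩ := hTfac hq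
  have h1 : R ((h ≫ g) ≫ f ≫ E.f i) := hR₃le hf hg hh
  have h2 := R.downward_closed h1 r
  change R ((r ≫ h ≫ g ≫ f) ≫ E.f i)
  simpa only [Category.assoc] using h2

theorem isCompCov_of_mem_toGrothendieck [P.HasPullbacks] [P.IsStableUnderBaseChange]
    [P.IsStableUnderComposition] {X : C} {S' : Sieve X}
    (h : S' ∈ (P ⊔ P').toGrothendieck X) : IsCompCov C' P P' X S' := by
  rw [Precoverage.mem_toGrothendieck_iff] at h
  induction h with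
  | of X R hR =>
    rcases hR with hR | hR
    · exact isCompCov_of_mem_P H hR
    · exact isCompCov_of_mem_P' H hR
  | top X => exact isCompCov_top H X
  | pullback X S _ Y f ih => exact isCompCov_pullback H ih f
  | transitive X S R _ _ ih1 ih2 => exact isCompCov_transitive H ih1 ih2

theorem mem_toGrothendieck_iff [P.HasPullbacks] [P.IsStableUnderBaseChange]
    [P.IsStableUnderComposition] {X : C} {S' : Sieve X} :
    S' ∈ (P ⊔ P').toGrothendieck X ↔ IsCompCov' C' P P' X S' :=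
  ⟨fun h => isCompCov'_of_isCompCov (isCompCov_of_mem_toGrothendieck H h),
    fun h => mem_toGrothendieck_of_isCompCov (isCompCov_of_isCompCov' h)⟩

end Groth.Agent.Lib.Helper14.GenTop
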