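import Groth.Agent.Lib.Helper14.GenTop2
import Mathlib.CategoryTheory.Sites.IsSheafFor

/-!
# Topology generated by two precoverages: sheaves (helper14)
-/

set_option autoImplicit false

universe w v₁ u₁

open CategoryTheory CategoryTheory.Limits Opposite

namespace Groth.Agent.Lib.Helper14.GenTop

variable {C : Type u₁} [Category.{v₁} C] {C' : C → Prop} {P P' : Precoverage C}
variable (F : Cᵒᵖ ⥤ Type w)

theorem isSeparatedFor_of_isCompCov'
    (hP : ∀ ⦃X : C⦄ ⦃R : Presieve X⦄, R ∈ P X → Presieve.IsSeparatedFor F R)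
    (hP' : ∀ ⦃X : C⦄ ⦃R : Presieve X⦄, R ∈ P' X → Presieve.IsSeparatedFor F R)
    {X : C} {S : Sieve X} (h : IsCompCov' C' P P' X S) :
    Presieve.IsSeparatedFor F S.arrows := by
  obtain ⟨R, hR, -, R', hR', hS⟩ := h
  intro x t₁ t₂ h₁ h₂
  refine (hP hR).ext (fun Y f hf => ?_)
  refine (hP' (hR' hf)).ext (fun Z g hg => ?_)
  rw [← Functor.map_comp_apply, ← Functor.map_comp_apply, ← op_comp]
  exact (h₁ _ (hS hf hg)).trans (h₂ _ (hS hf hg)).symm

theorem isSheafFor_of_isCompCov'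
    (hPs : ∀ ⦃X : C⦄ ⦃R : Presieve X⦄, R ∈ P X → Presieve.IsSheafFor F R)
    (hP's : ∀ ⦃X : C⦄ ⦃R : Presieve X⦄, R ∈ P' X → Presieve.IsSheafFor F R)
    (hsep : ∀ ⦃X : C⦄ (S : Sieve X), S ∈ (P ⊔ P').toGrothendieck X →
      Presieve.IsSeparatedFor F S.arrows)
    {X : C} {S : Sieve X} (hScov : S ∈ (P ⊔ P').toGrothendieck X)
    (h : IsCompCov' C' P P' X S) :
    Presieve.IsSheafFor F S.arrows := by
  obtain ⟨R, hR, hRC, R', hR', hS⟩ := h
  rw [← Presieve.isSeparatedFor_and_exists_isAmalgamation_iff_isSheafFor]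
  refine ⟨hsep S hScov, fun x hx => ?_⟩
  have hxs := (Presieve.compatible_iff_sieveCompatible x).1 hx
  -- step 1: glue over each member of `R`
  let y0 : ∀ ⦃Y : C⦄ ⦃f : Y ⟶ X⦄ (hf : R f), Presieve.FamilyOfElements F (R' hf) :=
    fun Y f hf Z g hg => x (g ≫ f) (hS hf hg)
  have hy0 : ∀ ⦃Y : C⦄ ⦃f : Y ⟶ X⦄ (hf : R f), (y0 hf).Compatible := by
    intro Y f hf Z₁ Z₂ W a₁ a₂ g₁ g₂ hg₁ hg₂ e
    exact hx a₁ a₂ (hS hf hg₁) (hS hf hg₂) (by rw [← Category.assoc, e, Category.assoc])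
  let y : Presieve.FamilyOfElements F R :=
    fun Y f hf => (hP's (hR' hf)).amalgamate (y0 hf) (hy0 hf)
  have hyspec : ∀ ⦃Y : C⦄ ⦃f : Y ⟶ X⦄ (hf : R f) ⦃Z : C⦄ ⦃g : Z ⟶ Y⦄ (hg : R' hf g),
      F.map g.op (y f hf) = x (g ≫ f) (hS hf hg) :=
    fun Y f hf Z g hg => (hP's (hR' hf)).valid_glue (hy0 hf) g hg
  have hgen : ∀ ⦃Y : C⦄ ⦃f : Y ⟶ X⦄ (hf : R f),
      Sieve.generate (R' hf) ∈ (P ⊔ P').toGrothendieck Y :=
    fun Y f hf => Precoverage.generate_mem_toGrothendieck (Or.inr (hR' hf))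
  -- step 2: the glued family is compatible
  have hy : y.Compatible := by
    intro Y₁ Y₂ W b₁ b₂ f₁ f₂ hf₁ hf₂ e
    have hU : (Sieve.generate (R' hf₁)).pullback b₁ ⊓ (Sieve.generate (R' hf₂)).pullback b₂ ∈
        (P ⊔ P').toGrothendieck W :=
      GrothendieckTopology.intersection_covering _
        (GrothendieckTopology.pullback_stable _ b₁ (hgen hf₁))
        (GrothendieckTopology.pullback_stable _ b₂ (hgen hf₂))
    refine (hsep _ hU).ext ?_
    rintro W' c ⟨⟨Z₁, a₁, g₁, hg₁, e₁⟩, ⟨Z₂, a₂, g₂, hg₂, e₂⟩⟩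
    rw [← Functor.map_comp_apply, ← Functor.map_comp_apply, ← op_comp, ← op_comp, ← e₁, ← e₂,
      op_comp, op_comp, Functor.map_comp_apply, Functor.map_comp_apply, hyspec hf₁ hg₁,
      hyspec hf₂ hg₂]
    refine hx a₁ a₂ _ _ ?_
    rw [← Category.assoc, e₁, ← Category.assoc, e₂, Category.assoc, Category.assoc, e]
  -- step 3: glue over `R`
  let s := (hPs hR).amalgamate y hy
  have hsspec : ∀ ⦃Y : C⦄ ⦃f : Y ⟶ X⦄ (hf : R f), F.map f.op s = y f hf :=
    fun Y f hf => (hPs hR).valid_glue hy f hf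
  refine ⟨s, ?_⟩
  intro W h hh
  -- the composite sieve
  have hT₀ : Sieve.generate (Presieve.bind R R') ∈ (P ⊔ P').toGrothendieck X := by
    apply mem_toGrothendieck_of_isCompCov (C' := C')
    apply isCompCov_of_isCompCov'
    refine ⟨R, hR, hRC, R', hR', ?_⟩
    intro Y f hf Z g hg
    exact Sieve.le_generate _ _ _ ⟨Y, g, f, hf, hg, rfl⟩
  refine (hsep _ (GrothendieckTopology.pullback_stable _ h hT₀)).ext ?_
  rintro W' c ⟨Z, a, k, ⟨Y, g, f, hf, hg, rfl⟩, e⟩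
  have e1 : F.map c.op (x h hh) = x (c ≫ h) (S.downward_closed hh c) := (hxs h c hh).symm
  rw [e1, ← Functor.map_comp_apply, ← op_comp]
  have e2 : x (c ≫ h) (S.downward_closed hh c) =
      F.map a.op (x (g ≫ f) (hS hf hg)) := by
    have := hxs (g ≫ f) a (hS hf hg)
    rw [← this]
    congr 1
    exact e.symm
  rw [e2, ← hyspec hf hg, ← hsspec hf, ← Functor.map_comp_apply, ← Functor.map_comp_apply,
    ← op_comp, ← op_comp, ← e, Category.assoc]

theorem isSheaf_toGrothendieck_iff (H : Hyp C' P P') [P.HasPullbacks]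
    [P.IsStableUnderBaseChange] [P.IsStableUnderComposition] :
    Presieve.IsSheaf (P ⊔ P').toGrothendieck F ↔
      (∀ ⦃X : C⦄ ⦃R : Presieve X⦄, R ∈ P X → Presieve.IsSheafFor F R) ∧
      (∀ ⦃X : C⦄ ⦃R : Presieve X⦄, R ∈ P' X → Presieve.IsSheafFor F R) := by
  constructor
  · intro h
    refine ⟨fun X R hR => ?_, fun X R hR => ?_⟩
    · exact (Presieve.isSheafFor_iff_generate R).2
        (h _ (Precoverage.generate_mem_toGrothendieck (Or.inl hR)))
    · exact (Presieve.isSheafFor_iff_generate R).2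
        (h _ (Precoverage.generate_mem_toGrothendieck (Or.inr hR)))
  · rintro ⟨hPs, hP's⟩
    have hsep : ∀ ⦃X : C⦄ (S : Sieve X), S ∈ (P ⊔ P').toGrothendieck X →
        Presieve.IsSeparatedFor F S.arrows := fun X S hS =>
      isSeparatedFor_of_isCompCov' F (fun _ _ hR => (hPs hR).isSeparatedFor)
        (fun _ _ hR => (hP's hR).isSeparatedFor) ((mem_toGrothendieck_iff H).1 hS)
    intro X S hS
    exact isSheafFor_of_isCompCov' F hPs hP's hsep hS ((mem_toGrothendieck_iff H).1 hS)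

end Groth.Agent.Lib.Helper14.GenTop
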