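import Mathlib
import Groth.Agent.Lib.Helper5.FGDescent3
import Groth.Agent.Lib.Helper3.GeomSep

/-!
# helper14: geometric connectedness of a quasi-compact scheme over a field can be tested on finite
separable extensions

* `connectedSpace_of_algEquiv`: connectedness of `X ×_k Spec A` only depends on the `k`-algebra `A`
  up to isomorphism.
* `connectedSpace_sepClosure`: if `X` is quasi-compact and `X_K` is connected for every finite
  separable `K/k`, then `X_{k^sep}` is connected (clopen subsets of `X_{k^sep} = lim X_{k[s]}`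
  descend to a finite level; no quasi-separatedness needed).
* `geometricallyConnected_iff_forall_finite_separable`.
-/

set_option autoImplicit false
set_option linter.style.haveILetI false
universe u
open CategoryTheory CategoryTheory.Limits AlgebraicGeometry

namespace Groth.Agent.Lib.Helper14.GeomConnFinSep

open Groth.Agent.Lib.helper5.FGLimit Groth.Agent.Lib.helper5.PBLimit

variable {k : Type u} [Field k] {X : Scheme.{u}} (f : X ⟶ Spec (CommRingCat.of k))

theorem connectedSpace_of_algEquiv {A B : Type u} [CommRing A] [CommRing B] [Algebra k A]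
    [Algebra k B] (e : A ≃ₐ[k] B)
    (h : ConnectedSpace ↥(pullback f (Spec.map (CommRingCat.ofHom (algebraMap k A))))) :
    ConnectedSpace ↥(pullback f (Spec.map (CommRingCat.ofHom (algebraMap k B)))) := by
  let φ : Spec (CommRingCat.of A) ⟶ Spec (CommRingCat.of B) :=
    Spec.map (CommRingCat.ofHom e.symm.toAlgHom.toRingHom)
  let ψ : Spec (CommRingCat.of B) ⟶ Spec (CommRingCat.of A) :=
    Spec.map (CommRingCat.ofHom e.toAlgHom.toRingHom)
  have h1 : φ ≫ ψ = 𝟙 _ := by
    rw [← Spec.map_comp, ← Spec.map_id]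
    congr 1
    ext x
    simp
  have h2 : ψ ≫ φ = 𝟙 _ := by
    rw [← Spec.map_comp, ← Spec.map_id]
    congr 1
    ext x
    simp
  haveI : IsIso φ := ⟨ψ, h1, h2⟩
  have hφ : φ ≫ Spec.map (CommRingCat.ofHom (algebraMap k B)) =
      Spec.map (CommRingCat.ofHom (algebraMap k A)) := by
    rw [← Spec.map_comp]
    congr 1
    ext x
    simp
  let g := pullback.map f (Spec.map (CommRingCat.ofHom (algebraMap k A))) f
    (Spec.map (CommRingCat.ofHom (algebraMap k B))) (𝟙 X) φ (𝟙 _) (by simp) (by simp [hφ])
  haveI : IsIso g := inferInstance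
  exact g.homeomorph.connectedSpace_iff.mp h

theorem surjective_specMap_val {K : Type u} [Field K] [Algebra k K] [Algebra.IsAlgebraic k K]
    (A : Subalgebra k K) :
    Surjective (Spec.map (CommRingCat.ofHom A.val.toRingHom)) := by
  refine ⟨fun x => ?_⟩
  have hint : A.val.toRingHom.IsIntegral := by
    intro y
    have hy : IsIntegral k y := Algebra.IsIntegral.isIntegral y
    obtain ⟨p, hp, hpy⟩ := hy
    refine ⟨p.map (algebraMap k A), hp.map _, ?_⟩
    rw [Polynomial.eval₂_map]
    exact hpy
  obtain ⟨y, hy⟩ := hint.comap_surjective Subtype.val_injective x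
  exact ⟨y, hy⟩

theorem connectedSpace_sepClosure [CompactSpace X]
    (H : ∀ (K : Type u) [Field K] [Algebra k K] [Module.Finite k K] [Algebra.IsSeparable k K],
        ConnectedSpace ↥(pullback f (Spec.map (CommRingCat.ofHom (algebraMap k K))))) :
    ConnectedSpace
      ↥(pullback f (Spec.map (CommRingCat.ofHom (algebraMap k (SeparableClosure k))))) := by
  set Ks := SeparableClosure k with hKs
  haveI : QuasiCompact f := (HasAffineProperty.iff_of_isAffine (P := @QuasiCompact)).mpr inferInstance
  -- finite levels are connected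
  have hlevel : ∀ s : Finset Ks,
      ConnectedSpace ↥(pullback f (pS k Ks (𝟙 (Spec (CommRingCat.of k))) s)) := by
    intro s
    have h1 : pS k Ks (𝟙 (Spec (CommRingCat.of k))) s =
        Spec.map (CommRingCat.ofHom (algebraMap k (adj k Ks s))) := Category.comp_id _
    rw [h1]
    let K' := IntermediateField.adjoin k (s : Set Ks)
    haveI : Module.Finite k K' :=
      IntermediateField.finiteDimensional_adjoin (fun x _ => Algebra.IsIntegral.isIntegral x)
    have heq : K'.toSubalgebra = adj k Ks s :=
      IntermediateField.adjoin_toSubalgebra_of_isAlgebraic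
        (fun x _ => Algebra.IsAlgebraic.isAlgebraic x)
    let e : K' ≃ₐ[k] adj k Ks s := Subalgebra.equivOfEq _ _ heq
    exact connectedSpace_of_algEquiv f e (H K')
  -- the limit cone
  let c := pbCone (specDiagram k Ks) (specτ k Ks (𝟙 (Spec (CommRingCat.of k)))) f (specCone k Ks)
    (tK k Ks (𝟙 _)) (specCone_specτ k Ks (𝟙 _))
  let hc : IsLimit c := isLimitPbCone _ _ f _ _ (specCone_specτ k Ks (𝟙 _)) (isLimitSpecCone k Ks)
  have htK : tK k Ks (𝟙 (Spec (CommRingCat.of k))) =
      Spec.map (CommRingCat.ofHom (algebraMap k Ks)) := Category.comp_id _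
  rw [← htK]
  show ConnectedSpace ↥c.pt
  have hsurj : ∀ i, Surjective (c.π.app i) := by
    intro i
    have hsq := isPullback_pbCone (specDiagram k Ks) (specτ k Ks (𝟙 (Spec (CommRingCat.of k)))) f
      (specCone k Ks) (tK k Ks (𝟙 _)) (specCone_specτ k Ks (𝟙 _)) i
    have h0 : Surjective ((specCone k Ks).π.app i) :=
      surjective_specMap_val (adj k Ks i.unop)
    exact MorphismProperty.of_isPullback (P := @Surjective) hsq.flip h0
  haveI : CompactSpace ↥c.pt :=
    @QuasiCompact.compactSpace_of_compactSpace _ _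
      (pullback.snd f (tK k Ks (𝟙 (Spec (CommRingCat.of k)))))
      (MorphismProperty.pullback_snd (P := @QuasiCompact) _ _ inferInstance) inferInstance
  rw [connectedSpace_iff_clopen]
  constructor
  · haveI := hlevel ∅
    obtain ⟨y⟩ : Nonempty ↥(pullback f (pS k Ks (𝟙 (Spec (CommRingCat.of k))) ∅)) := inferInstance
    obtain ⟨z, -⟩ := (hsurj (Opposite.op ∅)).surj y
    exact ⟨z⟩
  · intro s hs
    obtain ⟨i, V, -, hV⟩ := exists_preimage_eq _ c hc ⟨s, hs.2⟩ hs.1.isCompact
    obtain ⟨i', V', -, hV'⟩ := exists_preimage_eq _ c hc ⟨sᶜ, hs.1.isOpen_compl⟩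
      hs.2.isClosed_compl.isCompact
    let j := IsCofiltered.min i i'
    let V₁ := (pbDiagram (specDiagram k Ks) (specτ k Ks (𝟙 (Spec (CommRingCat.of k)))) f).map
      (IsCofiltered.minToLeft i i') ⁻¹ᵁ V
    let V₂ := (pbDiagram (specDiagram k Ks) (specτ k Ks (𝟙 (Spec (CommRingCat.of k)))) f).map
      (IsCofiltered.minToRight i i') ⁻¹ᵁ V'
    have hV₁' : c.π.app j ⁻¹ᵁ V₁ = ⟨s, hs.2⟩ := by
      rw [← hV, ← c.w (IsCofiltered.minToLeft i i'), Scheme.Hom.comp_preimage]
    have hV₂' : c.π.app j ⁻¹ᵁ V₂ = ⟨sᶜ, hs.1.isOpen_compl⟩ := by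
      rw [← hV', ← c.w (IsCofiltered.minToRight i i'), Scheme.Hom.comp_preimage]
    have hV₁ : (c.π.app j).base ⁻¹' V₁.1 = s :=
      congrArg (fun W : c.pt.Opens => W.1) hV₁'
    have hV₂ : (c.π.app j).base ⁻¹' V₂.1 = sᶜ :=
      congrArg (fun W : c.pt.Opens => W.1) hV₂'
    have hclopen : IsClopen V₁.1 := by
      refine ⟨?_, V₁.2⟩
      have : V₁.1 = V₂.1ᶜ := by
        apply (hsurj j).surj.preimage_injective
        rw [Set.preimage_compl, hV₁, hV₂, compl_compl]
      rw [this]
      exact V₂.2.isClosed_compl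
    haveI : ConnectedSpace ↥((pbDiagram (specDiagram k Ks)
        (specτ k Ks (𝟙 (Spec (CommRingCat.of k)))) f).obj j) := hlevel j.unop
    rcases isClopen_iff.mp hclopen with h | h
    · left
      rw [← hV₁]
      rw [h, Set.preimage_empty]
    · right
      rw [← hV₁]
      rw [h, Set.preimage_univ]

theorem geometricallyConnected_iff_forall_finite_separable [CompactSpace X] :
    GeometricallyConnected f ↔
      ∀ (K : Type u) [Field K] [Algebra k K] [Module.Finite k K] [Algebra.IsSeparable k K],
        ConnectedSpace ↥(pullback f (Spec.map (CommRingCat.ofHom (algebraMap k K)))) := by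
  constructor
  · intro h K _ _ _ _
    exact GeometricallyConnected.geometrically_connectedSpace _ _ _ (.of_hasPullback _ _)
  · intro H
    exact Groth.Agent.Lib.helper3.GeomSep.geometricallyConnected_of_connectedSpace_sepClosed f
      (SeparableClosure k) (connectedSpace_sepClosure f H)

end Groth.Agent.Lib.Helper14.GeomConnFinSep
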