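import Mathlib
import Groth.Agent.Lib.Helper3.AlgClosedTensor

/-!
# helper14: geometrically irreducible polynomials

* `quotTensorEquiv`: `K ⊗[k] (k[T]/(F)) ≃+* K[T]/(F_K)`.
* `irreducible_of_irreducible_map`: irreducibility descends along field extensions.
* `irreducible_map_of_isAlgClosed`: an irreducible polynomial over an algebraically closed field stays
  irreducible over every extension field.
-/

set_option autoImplicit false
universe u v w
open TensorProduct MvPolynomial

namespace Groth.Agent.Lib.Helper14.GeomIrrPoly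

section

variable {σ : Type v} (k : Type u) (K : Type w) [Field k] [Field K] [Algebra k K]

/-- `K ⊗[k] (k[T]/(F)) ≃+* K[T]/(F_K)`. -/
noncomputable def quotTensorEquiv (F : MvPolynomial σ k) :
    K ⊗[k] (MvPolynomial σ k ⧸ Ideal.span ({F} : Set (MvPolynomial σ k))) ≃ₐ[K]
      MvPolynomial σ K ⧸ Ideal.span ({map (algebraMap k K) F} : Set (MvPolynomial σ K)) :=
  (Algebra.TensorProduct.tensorQuotientEquiv (R := k) K (MvPolynomial σ k) K
    (Ideal.span ({F} : Set (MvPolynomial σ k)))).trans
    (Ideal.quotientEquivAlg _ _ (algebraTensorAlgEquiv k K (σ := σ)) (by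
      rw [Ideal.map_span, Ideal.map_span, Set.image_singleton, Set.image_singleton]
      congr 2
      simp))

end

section

variable {σ : Type v} {K : Type u} {L : Type w} [Field K] [Field L]

theorem isUnit_of_isUnit_map (φ : K →+* L) (a : MvPolynomial σ K) (h : IsUnit (map φ a)) :
    IsUnit a := by
  classical
  rw [isUnit_iff_eq_C_of_isReduced] at h ⊢
  obtain ⟨r, hr, hmap⟩ := h
  have hcoeff : ∀ m : σ →₀ ℕ, m ≠ 0 → coeff m a = 0 := by
    intro m hm
    have h1 : coeff m (map φ a) = 0 := by
      rw [hmap, coeff_C, if_neg (Ne.symm hm)]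
    rw [coeff_map] at h1
    exact (map_eq_zero φ).mp h1
  have h0 : φ (coeff 0 a) = r := by
    have h1 : coeff 0 (map φ a) = r := by rw [hmap, coeff_C, if_pos rfl]
    rwa [coeff_map] at h1
  refine ⟨coeff 0 a, ?_, ?_⟩
  · rw [isUnit_iff_ne_zero]
    intro h2
    rw [h2, map_zero] at h0
    exact hr.ne_zero h0.symm
  · ext m
    rw [coeff_C]
    split_ifs with hm
    · rw [← hm]
    · exact hcoeff m (Ne.symm hm)

theorem irreducible_of_irreducible_map (φ : K →+* L) (P : MvPolynomial σ K)
    (h : Irreducible (map φ P)) : Irreducible P := by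
  rw [irreducible_iff] at h ⊢
  refine ⟨fun hu => h.1 (hu.map (map φ)), fun a b hab => ?_⟩
  have := h.2 (show map φ P = map φ a * map φ b by rw [hab, map_mul])
  rcases this with h1 | h1
  · exact Or.inl (isUnit_of_isUnit_map φ a h1)
  · exact Or.inr (isUnit_of_isUnit_map φ b h1)

end

section

variable {σ : Type v} (Ω : Type u) (L : Type u) [Field Ω] [IsAlgClosed Ω] [Field L] [Algebra Ω L]

theorem irreducible_map_of_isAlgClosed (F : MvPolynomial σ Ω) (hF : Irreducible F) :
    Irreducible (map (algebraMap Ω L) F) := by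
  classical
  have hF0 : F ≠ 0 := hF.ne_zero
  have hprime : Prime F := UniqueFactorizationMonoid.irreducible_iff_prime.mp hF
  have hIprime : (Ideal.span ({F} : Set (MvPolynomial σ Ω))).IsPrime :=
    (Ideal.span_singleton_prime hF0).mpr hprime
  haveI : IsDomain (MvPolynomial σ Ω ⧸ Ideal.span ({F} : Set (MvPolynomial σ Ω))) :=
    Ideal.Quotient.isDomain _
  -- `L ⊗ D ↪ L ⊗ Frac D`
  have hinj : Function.Injective
      (Algebra.TensorProduct.map (AlgHom.id Ω L) (IsScalarTower.toAlgHom Ω
        (MvPolynomial σ Ω ⧸ Ideal.span ({F} : Set (MvPolynomial σ Ω)))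
        (FractionRing (MvPolynomial σ Ω ⧸ Ideal.span ({F} : Set (MvPolynomial σ Ω)))))) := by
    exact Module.Flat.lTensor_preserves_injective_linearMap (M := L)
      (IsScalarTower.toAlgHom Ω (MvPolynomial σ Ω ⧸ Ideal.span ({F} : Set (MvPolynomial σ Ω)))
        (FractionRing (MvPolynomial σ Ω ⧸ Ideal.span ({F} : Set (MvPolynomial σ Ω))))).toLinearMap
      (IsFractionRing.injective (MvPolynomial σ Ω ⧸ Ideal.span ({F} : Set (MvPolynomial σ Ω)))
        (FractionRing (MvPolynomial σ Ω ⧸ Ideal.span ({F} : Set (MvPolynomial σ Ω)))))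
  haveI : IsDomain (L ⊗[Ω] FractionRing (MvPolynomial σ Ω ⧸ Ideal.span ({F} : Set (MvPolynomial σ Ω)))) :=
    Groth.Agent.Lib.helper3.AlgClosedTensor.isDomain_tensor Ω L _
  haveI h3 : IsDomain (L ⊗[Ω] (MvPolynomial σ Ω ⧸ Ideal.span ({F} : Set (MvPolynomial σ Ω)))) :=
    Function.Injective.isDomain (Algebra.TensorProduct.map (AlgHom.id Ω L)
      (IsScalarTower.toAlgHom Ω (MvPolynomial σ Ω ⧸ Ideal.span ({F} : Set (MvPolynomial σ Ω)))
        (FractionRing (MvPolynomial σ Ω ⧸ Ideal.span ({F} : Set (MvPolynomial σ Ω)))))).toRingHom hinj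
  have hinj2 : Function.Injective ((quotTensorEquiv Ω L F).symm.toRingHom) :=
    (quotTensorEquiv Ω L F).symm.injective
  haveI : IsDomain (MvPolynomial σ L ⧸ Ideal.span ({map (algebraMap Ω L) F} : Set (MvPolynomial σ L))) :=
    Function.Injective.isDomain _ hinj2
  have hmap0 : map (algebraMap Ω L) F ≠ 0 := by
    intro h0
    apply hF0
    apply map_injective (algebraMap Ω L) (algebraMap Ω L).injective
    rw [h0, map_zero]
  have h2 : (Ideal.span ({map (algebraMap Ω L) F} : Set (MvPolynomial σ L))).IsPrime :=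
    (Ideal.Quotient.isDomain_iff_prime _).mp inferInstance
  exact ((Ideal.span_singleton_prime hmap0).mp h2).irreducible

end

end Groth.Agent.Lib.Helper14.GeomIrrPoly
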