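import Groth.Agent.Lib.Helper14.Giraud1
import Mathlib.CategoryTheory.Sites.DenseSubsite.InducedTopology

/-!
# Giraud's theorem, part 2: a detecting family is cover-dense for the canonical topology (helper14)
-/

set_option autoImplicit false

universe w v u

open CategoryTheory CategoryTheory.Limits Opposite

namespace Groth.Agent.Lib.Helper14.Giraud

variable {E : Type v} [Category.{u} E] [HasPullbacks E]

theorem isCoverDense_of_detecting
    (hb : SGA4.HasDisjointUniversalCoproducts.{v, u} E)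
    (hc : ∀ (R A : E) (p₁ p₂ : R ⟶ A), SGA4.IsEquivRel p₁ p₂ →
      SGA4.IsEffectiveUniversalEquivRel p₁ p₂)
    {C : Type u} [SmallCategory C] (i : C ⥤ E)
    (hi : ∀ ⦃X Y : E⦄ (f : X ⟶ Y),
      (∀ (c : C) (h : i.obj c ⟶ Y), ∃! h' : i.obj c ⟶ X, h' ≫ f = h) → IsIso f) :
    i.IsCoverDense (Sheaf.canonicalTopology E) := by
  constructor
  intro X
  obtain ⟨c, hcol, -, huniv⟩ := hb (Σ c : C, (i.obj c ⟶ X)) (fun a => i.obj a.1)
  let p : c.pt ⟶ X := Cofan.IsColimit.desc hcol (fun a => a.2)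
  have hp : ∀ a, c.inj a ≫ p = a.2 := fun a => Cofan.IsColimit.fac hcol _ a
  obtain ⟨B, π, m, hm, huee, hmono⟩ := exists_image_factorization hc p
  have hiso : IsIso m := by
    apply hi
    intro c₀ h
    refine ⟨c.inj ⟨c₀, h⟩ ≫ π, ?_, fun h' hh' => ?_⟩
    · show (c.inj ⟨c₀, h⟩ ≫ π) ≫ m = h
      rw [Category.assoc, hm, hp]
    · rw [← cancel_mono m, hh', Category.assoc, hm, hp]
  have hS := (Sheaf.canonicalTopology E).pullback_stable (inv m) (mem_canonical_of_uee π huee)
  refine (Sheaf.canonicalTopology E).transitive hS _ ?_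
  rintro Z g ⟨Z', k, _, ⟨⟩, hk⟩
  -- `g ≫ inv m = k ≫ π`
  have hg : g = k ≫ p := by
    have hk' : k ≫ π = g ≫ inv m := hk
    rw [← hm, ← Category.assoc, hk', Category.assoc, IsIso.inv_hom_id, Category.comp_id]
  rw [hg, Sieve.pullback_comp]
  apply (Sheaf.canonicalTopology E).pullback_stable
  refine (Sheaf.canonicalTopology E).superset_covering ?_
    (mem_canonical_of_isUniversalColimit c huniv)
  rintro T f ⟨T', l, _, ⟨a⟩, rfl⟩
  exact ⟨⟨a.1, l, a.2, by rw [Category.assoc, hp]⟩⟩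

end Groth.Agent.Lib.Helper14.Giraud
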