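import Groth.Agent.Lib.Helper14.Giraud2
import Mathlib.CategoryTheory.Limits.Shapes.DisjointCoproduct

/-!
# Giraud's theorem, part 3: sheaves for the canonical topology turn coproducts into products
(helper14)
-/

set_option autoImplicit false

universe w v u

open CategoryTheory CategoryTheory.Limits Opposite

namespace Groth.Agent.Lib.Helper14.Giraud

variable {E : Type v} [Category.{u} E]

/-- initial objects are strict -/
theorem nonempty_isInitial_of_hom (hb : SGA4.HasDisjointUniversalCoproducts.{v, u} E)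
    {I Z : E} (hI : IsInitial I) (f : Z ⟶ I) : Nonempty (IsInitial Z) := by
  obtain ⟨c, hcol, -, huniv⟩ := hb PEmpty (fun a => a.elim)
  have hpt : IsInitial c.pt := isColimitEquivIsInitialOfIsEmpty _ c hcol
  let c' : Cofan (fun a : PEmpty.{u + 1} => (a.elim : E)) := Cofan.mk Z (fun a => a.elim)
  obtain ⟨h⟩ := huniv c' (𝟙 _) (f ≫ hI.to c.pt) (by ext ⟨a⟩; exact a.elim)
    (NatTrans.Equifibered.of_discrete _) (by rintro ⟨a⟩; exact a.elim)
  exact ⟨isColimitEquivIsInitialOfIsEmpty _ c' h⟩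

theorem bot_mem_canonical_of_isInitial (hb : SGA4.HasDisjointUniversalCoproducts.{v, u} E)
    {Z : E} (hZ : IsInitial Z) : (⊥ : Sieve Z) ∈ Sheaf.canonicalTopology E Z := by
  apply Sheaf.mem_finestTopology_of_forall_isSheafFor
  rintro _ ⟨W, rfl⟩ Y f
  obtain ⟨hY⟩ := nonempty_isInitial_of_hom hb hZ f
  intro x _
  refine ⟨hY.to W, ?_, fun t _ => hY.hom_ext _ _⟩
  intro T g hg
  exact hg.elim

theorem subsingleton_of_isInitial (hb : SGA4.HasDisjointUniversalCoproducts.{v, u} E)
    (T : Eᵒᵖ ⥤ Type w) (hT : Presieve.IsSheaf (Sheaf.canonicalTopology E) T)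
    {Z : E} (hZ : IsInitial Z) : Subsingleton (T.obj (op Z)) := by
  have h := hT _ (bot_mem_canonical_of_isInitial hb hZ)
  refine ⟨fun s t => ?_⟩
  let x : Presieve.FamilyOfElements T ((⊥ : Sieve Z) : Presieve Z) := fun Y g hg => hg.elim
  have hx : x.Compatible := fun Y₁ Y₂ Z' g₁ g₂ f₁ f₂ h₁ => h₁.elim
  obtain ⟨u, -, hu⟩ := h x hx
  rw [hu s (fun Y g hg => hg.elim), hu t (fun Y g hg => hg.elim)]

variable [HasPullbacks E]

theorem existsUnique_section_of_cofan (hb : SGA4.HasDisjointUniversalCoproducts.{v, u} E)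
    (T : Eᵒᵖ ⥤ Type w) (hT : Presieve.IsSheaf (Sheaf.canonicalTopology E) T)
    {ι : Type w} {X : ι → E} (c : Cofan X) (hcol : IsColimit c) (hdisj : CoproductDisjoint X)
    (huniv : IsUniversalColimit c) (x : ∀ a, T.obj (op (X a))) :
    ∃! t : T.obj (op c.pt), ∀ a, T.map (c.inj a).op t = x a := by
  have h := hT _ (mem_canonical_of_isUniversalColimit c huniv)
  rw [← Presieve.isSheafFor_iff_generate, Presieve.isSheafFor_arrows_iff] at h
  apply h
  intro a b Z ga gb hab
  by_cases hne : a = b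
  · subst hne
    have := hdisj.mono_inj hcol a
    rw [(cancel_mono (c.inj a)).1 hab]
  · obtain ⟨hI⟩ := hdisj.nonempty_isInitial_of_ne hcol hne _
      (pullbackIsPullback (c.inj a) (c.inj b))
    obtain ⟨hZ⟩ := nonempty_isInitial_of_hom hb hI (pullback.lift ga gb hab)
    have := subsingleton_of_isInitial hb T hT hZ
    exact Subsingleton.elim _ _

end Groth.Agent.Lib.Helper14.Giraud
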