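import Groth.Agent.Lib.Helper14.Giraud3
import Mathlib.CategoryTheory.Sites.Subcanonical
import Mathlib.CategoryTheory.Sites.PreservesLimits

/-!
# Giraud's theorem, part 4: the Yoneda functor to sheaves for the canonical topology (helper14)
-/

set_option autoImplicit false

universe w v u

open CategoryTheory CategoryTheory.Limits Opposite

namespace Groth.Agent.Lib.Helper14.Giraud

variable {E : Type v} [Category.{u} E] [HasPullbacks E]

/-- the Yoneda functor sends universal disjoint coproducts to coproducts of sheaves -/
noncomputable def isColimitYonedaCofan (hb : SGA4.HasDisjointUniversalCoproducts.{v, u} E)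
    {ι : Type u} {X : ι → E} (c : Cofan X) (hcol : IsColimit c) (hdisj : CoproductDisjoint X)
    (huniv : IsUniversalColimit c) :
    IsColimit (Cofan.mk ((Sheaf.canonicalTopology E).yoneda.obj c.pt)
      (fun a => (Sheaf.canonicalTopology E).yoneda.map (c.inj a))) := by
  have key : ∀ (t : Cofan (fun a => (Sheaf.canonicalTopology E).yoneda.obj (X a))),
      ∃! s : t.pt.obj.obj (op c.pt), ∀ a, t.pt.obj.map (c.inj a).op s =
        (Sheaf.canonicalTopology E).yonedaEquiv (t.inj a) := fun t =>
    existsUnique_section_of_cofan hb t.pt.obj ((isSheaf_iff_isSheaf_of_type _ _).1 t.pt.property)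
      c hcol hdisj huniv _
  refine mkCofanColimit _ (fun t => (Sheaf.canonicalTopology E).yonedaEquiv.symm (key t).choose)
    (fun t a => ?_) (fun t m hm => ?_)
  · apply (Sheaf.canonicalTopology E).yonedaEquiv.injective
    have h1 := (key t).choose_spec.1 a
    rw [← h1]
    exact ((Sheaf.canonicalTopology E).yonedaEquiv_naturality _ _).symm.trans (by simp)
  · apply (Sheaf.canonicalTopology E).yonedaEquiv.injective
    rw [Equiv.apply_symm_apply]
    apply (key t).choose_spec.2
    intro a
    rw [(Sheaf.canonicalTopology E).yonedaEquiv_naturality, ← hm a]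
    rfl

theorem epi_yoneda_map_of_uee {A B : E} (p : A ⟶ B) (hp : UEE p) :
    Epi ((Sheaf.canonicalTopology E).yoneda.map p) := by
  constructor
  intro T a b hab
  apply (Sheaf.canonicalTopology E).yonedaEquiv.injective
  have hT := (isSheaf_iff_isSheaf_of_type _ _).1 T.property
  have hsep := (hT _ (mem_canonical_of_uee p hp)).isSeparatedFor
  apply hsep.ext
  rintro Y f ⟨Z, k, _, ⟨⟩, rfl⟩
  rw [op_comp, T.obj.map_comp]
  simp only [types_comp_apply]
  congr 1
  rw [(Sheaf.canonicalTopology E).yonedaEquiv_naturality,
    (Sheaf.canonicalTopology E).yonedaEquiv_naturality, hab]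

section Site

variable {C : Type u} [SmallCategory C] (i : C ⥤ E) [i.Full] [i.Faithful]
  [i.IsCoverDense (Sheaf.canonicalTopology E)]

/-- the topology induced on the small full subcategory -/
abbrev Jtop : GrothendieckTopology C := i.inducedTopology (Sheaf.canonicalTopology E)

/-- restriction of sheaves to the small full subcategory -/
noncomputable abbrev resF : Sheaf (Sheaf.canonicalTopology E) (Type u) ⥤ Sheaf (Jtop i) (Type u) :=
  i.sheafPushforwardContinuous (Type u) (Jtop i) (Sheaf.canonicalTopology E)

instance : (resF i).IsEquivalence := inferInstance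

/-- the functor `X ↦ Hom(i -, X)` -/
noncomputable abbrev hF : E ⥤ Sheaf (Jtop i) (Type u) :=
  (Sheaf.canonicalTopology E).yoneda ⋙ resF i

instance : (hF i).Full := inferInstance
instance : (hF i).Faithful := inferInstance

end Site

end Groth.Agent.Lib.Helper14.Giraud
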