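import Groth.Agent.Lib.Helper14.Giraud4

/-!
# Giraud's theorem, part 5: every sheaf is a quotient of a representable one (helper14)
-/

set_option autoImplicit false

universe w v u

open CategoryTheory CategoryTheory.Limits Opposite

namespace Groth.Agent.Lib.Helper14.Giraud

variable {E : Type v} [Category.{u} E] [HasPullbacks E]

variable {C : Type u} [SmallCategory C] (i : C ⥤ E) [i.Full] [i.Faithful]
  [i.IsCoverDense (Sheaf.canonicalTopology E)]

theorem hF_map_app {X Y : E} (f : X ⟶ Y) (c : C) (g : i.obj c ⟶ X) :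
    ((hF i).map f).hom.app (op c) g = g ≫ f := rfl

/-- the map `h(i c) ⟶ F` attached to a section of `F` over `c` -/
noncomputable def secHom (F : Sheaf (Jtop i) (Type u)) (c : C) (s : F.obj.obj (op c)) :
    (hF i).obj (i.obj c) ⟶ F :=
  ⟨{ app := fun c' => TypeCat.ofHom (fun g => F.obj.map (i.preimage g).op s)
     naturality := by
      intro c' c'' k
      ext g
      change F.obj.map (i.preimage (i.map k.unop ≫ g)).op s =
        F.obj.map k (F.obj.map (i.preimage g).op s)
      have hk : (i.preimage (i.map k.unop ≫ g)).op = (i.preimage g).op ≫ k := by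
        apply Quiver.Hom.unop_inj
        apply i.map_injective
        simp
      rw [hk, Functor.map_comp]
      rfl }⟩

theorem secHom_app_id (F : Sheaf (Jtop i) (Type u)) (c : C) (s : F.obj.obj (op c)) :
    (secHom i F c s).hom.app (op c) (𝟙 (i.obj c)) = s := by
  change F.obj.map (i.preimage (𝟙 (i.obj c))).op s = s
  rw [← i.map_id, i.preimage_map, op_id, F.obj.map_id]
  rfl

theorem exists_epi_from_hF (hb : SGA4.HasDisjointUniversalCoproducts.{v, u} E)
    (F : Sheaf (Jtop i) (Type u)) :
    ∃ (Y : E) (e : (hF i).obj Y ⟶ F), Epi e := by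
  obtain ⟨c, hcol, hdisj, huniv⟩ := hb (Σ c : C, F.obj.obj (op c)) (fun a => i.obj a.1)
  have h1 := isColimitYonedaCofan hb c hcol hdisj huniv
  have h2 : IsColimit (Cofan.mk ((hF i).obj c.pt) (fun a => (hF i).map (c.inj a))) :=
    isColimitCofanMkObjOfIsColimit (resF i) _ _ h1
  refine ⟨c.pt, Cofan.IsColimit.desc h2 (fun a => secHom i F a.1 a.2), ⟨fun {F'} a b hab => ?_⟩⟩
  have h3 : ∀ x : (Σ c : C, F.obj.obj (op c)), secHom i F x.1 x.2 ≫ a = secHom i F x.1 x.2 ≫ b := by
    intro x
    have := congrArg (fun k => (hF i).map (c.inj x) ≫ k) hab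
    simp only [← Category.assoc] at this
    have hfac : (hF i).map (c.inj x) ≫ Cofan.IsColimit.desc h2 (fun a => secHom i F a.1 a.2) =
      secHom i F x.1 x.2 := Cofan.IsColimit.fac h2 _ x
    rwa [hfac] at this
  apply ObjectProperty.hom_ext
  ext ⟨c₀⟩ s
  have h4 := congrArg (fun k => k.hom.app (op c₀) (𝟙 (i.obj c₀))) (h3 ⟨c₀, s⟩)
  simp only [ObjectProperty.FullSubcategory.comp_hom, NatTrans.comp_app, types_comp_apply] at h4
  rwa [secHom_app_id] at h4

end Groth.Agent.Lib.Helper14.Giraud
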