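import Groth.Agent.Lib.Helper14.Giraud5
import Mathlib.CategoryTheory.Sites.RegularEpi
import Mathlib.CategoryTheory.Limits.Shapes.KernelPair

/-!
# Giraud's theorem, part 6: essential surjectivity of `X ↦ Hom(i -, X)` (helper14)
-/

set_option autoImplicit false

universe w v u

open CategoryTheory CategoryTheory.Limits Opposite

namespace Groth.Agent.Lib.Helper14.Giraud

variable {E : Type v} [Category.{u} E] [HasFiniteLimits E]

variable {C : Type u} [SmallCategory C] (i : C ⥤ E) [i.Full] [i.Faithful]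
  [i.IsCoverDense (Sheaf.canonicalTopology E)]

theorem epi_hF_map_of_uee {A B : E} (p : A ⟶ B) (hp : UEE p) : Epi ((hF i).map p) := by
  have := epi_yoneda_map_of_uee p hp
  exact (resF i).map_epi _

theorem exists_iso_hF_obj (hb : SGA4.HasDisjointUniversalCoproducts.{v, u} E)
    (hc : ∀ (R A : E) (p₁ p₂ : R ⟶ A), SGA4.IsEquivRel p₁ p₂ →
      SGA4.IsEffectiveUniversalEquivRel p₁ p₂)
    (F : Sheaf (Jtop i) (Type u)) : ∃ B : E, Nonempty ((hF i).obj B ≅ F) := by
  obtain ⟨Y, e, he⟩ := exists_epi_from_hF i hb F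
  let r₁ := pullback.fst e e
  let r₂ := pullback.snd e e
  obtain ⟨Y', e', he'⟩ := exists_epi_from_hF i hb (pullback e e)
  let q₁ : Y' ⟶ Y := (hF i).preimage (e' ≫ r₁)
  let q₂ : Y' ⟶ Y := (hF i).preimage (e' ≫ r₂)
  have hq₁ : (hF i).map q₁ = e' ≫ r₁ := (hF i).map_preimage _
  have hq₂ : (hF i).map q₂ = e' ≫ r₂ := (hF i).map_preimage _
  obtain ⟨R', π', m, hm, huee', hmono⟩ := exists_image_factorization hc (prod.lift q₁ q₂)
  obtain ⟨m₁, hm₁def⟩ : ∃ m₁ : R' ⟶ Y, m₁ = m ≫ prod.fst := ⟨_, rfl⟩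
  obtain ⟨m₂, hm₂def⟩ : ∃ m₂ : R' ⟶ Y, m₂ = m ≫ prod.snd := ⟨_, rfl⟩
  have hm₁ : π' ≫ m₁ = q₁ := by rw [hm₁def, ← Category.assoc, hm, prod.lift_fst]
  have hm₂ : π' ≫ m₂ = q₂ := by rw [hm₂def, ← Category.assoc, hm, prod.lift_snd]
  have hepi' : Epi ((hF i).map π') := epi_hF_map_of_uee i π' huee'
  have hcond : (hF i).map m₁ ≫ e = (hF i).map m₂ ≫ e := by
    rw [← cancel_epi ((hF i).map π'), ← Category.assoc, ← Functor.map_comp, hm₁, hq₁,
      ← Category.assoc, ← Functor.map_comp, hm₂, hq₂, Category.assoc, Category.assoc,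
      pullback.condition]
  obtain ⟨d, hd₁, hd₂⟩ : ∃ d : (hF i).obj R' ⟶ pullback e e,
      d ≫ r₁ = (hF i).map m₁ ∧ d ≫ r₂ = (hF i).map m₂ :=
    ⟨pullback.lift _ _ hcond, pullback.lift_fst _ _ _, pullback.lift_snd _ _ _⟩
  have hπd : (hF i).map π' ≫ d = e' := by
    apply pullback.hom_ext
    · rw [Category.assoc]
      change _ ≫ d ≫ r₁ = e' ≫ r₁
      rw [hd₁, ← Functor.map_comp, hm₁, hq₁]
    · rw [Category.assoc]
      change _ ≫ d ≫ r₂ = e' ≫ r₂
      rw [hd₂, ← Functor.map_comp, hm₂, hq₂]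
  have hdepi : Epi d := by
    have : Epi ((hF i).map π' ≫ d) := by rw [hπd]; exact he'
    exact epi_of_epi ((hF i).map π') d
  have hdmono : Mono d := by
    constructor
    intro T x y hxy
    have h1 : x ≫ (hF i).map m₁ = y ≫ (hF i).map m₁ := by
      rw [← hd₁, ← Category.assoc, hxy, Category.assoc]
    have h2 : x ≫ (hF i).map m₂ = y ≫ (hF i).map m₂ := by
      rw [← hd₂, ← Category.assoc, hxy, Category.assoc]
    apply ObjectProperty.hom_ext
    ext ⟨c₀⟩ t
    have h1' : (x.hom.app (op c₀) t : i.obj c₀ ⟶ R') ≫ m₁ = (y.hom.app (op c₀) t) ≫ m₁ :=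
      congrArg (fun k => k.hom.app (op c₀) t) h1
    have h2' : (x.hom.app (op c₀) t : i.obj c₀ ⟶ R') ≫ m₂ = (y.hom.app (op c₀) t) ≫ m₂ :=
      congrArg (fun k => k.hom.app (op c₀) t) h2
    have h3 : (x.hom.app (op c₀) t : i.obj c₀ ⟶ R') ≫ m = (y.hom.app (op c₀) t) ≫ m := by
      apply Limits.prod.hom_ext
      · rw [Category.assoc, Category.assoc, ← hm₁def]; exact h1'
      · rw [Category.assoc, Category.assoc, ← hm₂def]; exact h2'
    exact (cancel_mono m).1 h3
  have hdiso : IsIso d := isIso_of_mono_of_epi d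
  have key : ∀ (T : E) (a b : T ⟶ Y), (∃ f : T ⟶ R', f ≫ m₁ = a ∧ f ≫ m₂ = b) ↔
      (hF i).map a ≫ e = (hF i).map b ≫ e := by
    intro T a b
    constructor
    · rintro ⟨f, rfl, rfl⟩
      rw [Functor.map_comp, Functor.map_comp, Category.assoc, Category.assoc, hcond]
    · intro hab
      let l : (hF i).obj T ⟶ pullback e e := pullback.lift _ _ hab
      refine ⟨(hF i).preimage (l ≫ inv d), ?_, ?_⟩
      · apply (hF i).map_injective
        rw [Functor.map_comp, Functor.map_preimage, Category.assoc, ← hd₁,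
          IsIso.inv_hom_id_assoc]
        exact pullback.lift_fst _ _ _
      · apply (hF i).map_injective
        rw [Functor.map_comp, Functor.map_preimage, Category.assoc, ← hd₂,
          IsIso.inv_hom_id_assoc]
        exact pullback.lift_snd _ _ _
  have heq : SGA4.IsEquivRel m₁ m₂ := by
    intro T
    refine ⟨fun f f' hff' => ?_, ?_⟩
    · simp only [Prod.mk.injEq] at hff'
      rw [← cancel_mono m]
      apply Limits.prod.hom_ext
      · rw [Category.assoc, Category.assoc, ← hm₁def]; exact hff'.1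
      · rw [Category.assoc, Category.assoc, ← hm₂def]; exact hff'.2
    · exact ⟨fun a => (key T a a).2 rfl, fun {a b} hab => (key T b a).2 ((key T a b).1 hab).symm,
        fun {a b c} hab hbc => (key T a c).2 (((key T a b).1 hab).trans ((key T b c).1 hbc))⟩
  obtain ⟨B, π, hpb, hpo, hueeπ⟩ := hc _ _ _ _ heq
  have hepiπ : Epi ((hF i).map π) := epi_hF_map_of_uee i π hueeπ
  have hpbh : IsPullback ((hF i).map m₁) ((hF i).map m₂) ((hF i).map π) ((hF i).map π) :=
    hpb.map (hF i)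
  have hpbe : IsPullback ((hF i).map m₁) ((hF i).map m₂) e e := by
    refine IsPullback.of_iso' (IsPullback.of_hasPullback e e) (asIso d) (Iso.refl _) (Iso.refl _)
      (Iso.refl _) ?_ ?_ ?_ ?_
    · simpa using hd₁
    · simpa using hd₂
    · simp
    · simp
  have hre₁ : IsRegularEpi e := IsRegularEpiCategory.regularEpiOfEpi e
  have hre₂ : IsRegularEpi ((hF i).map π) := IsRegularEpiCategory.regularEpiOfEpi _
  have col₁ := IsKernelPair.toCoequalizer' hpbe
  have col₂ := IsKernelPair.toCoequalizer' hpbh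
  exact ⟨B, ⟨col₂.coconePointUniqueUpToIso col₁⟩⟩

end Groth.Agent.Lib.Helper14.Giraud
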