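import Mathlib
import Groth.Agent.Lib.Helper15.NatGrp

set_option autoImplicit false
universe u
open CategoryTheory MonoidalCategory CartesianMonoidalCategory MonObj GrpObj AlgebraicGeometry
  CategoryTheory.Limits
open LaurentPolynomial
open Groth.Agent.Lib.helper15.NatGrp

namespace Groth.Agent.Lib.Helper14.GmLaurent

/-- ring homs out of a Laurent polynomial ring agreeing on constants and on `T` are equal -/
theorem ringHom_ext_laurent {R S : Type*} [CommRing R] [CommRing S] (g h : R[T;T⁻¹] →+* S)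
    (hC : ∀ r, g (C r) = h (C r)) (hT : g (T 1) = h (T 1)) : g = h := by
  have hTn : ∀ n : ℤ, g (T n) = h (T n) := by
    intro n
    have key : ∀ f : R[T;T⁻¹] →+* S, f (T n) =
        (((Units.map (f : R[T;T⁻¹] →* S) (unitT R)) ^ n : Sˣ) : S) := by
      intro f
      rw [← map_zpow, Units.coe_map, unitT_zpow]
      rfl
    rw [key g, key h]
    congr 2
    exact Units.ext hT
  apply RingHom.ext
  intro p
  induction p using LaurentPolynomial.induction_on' with
  | add p q hp hq => rw [map_add, map_add, hp, hq]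
  | C_mul_T n a => rw [map_mul, map_mul, hC, hTn]

variable {k : Type u} [Field k]

/-- the coordinate function on `Spec k[T, T⁻¹]` -/
noncomputable def Tgen (k : Type u) [Field k] :
    Γ(Spec (CommRingCat.of (LaurentPolynomial k)), ⊤) :=
  (Scheme.ΓSpecIso (CommRingCat.of (LaurentPolynomial k))).inv.hom (LaurentPolynomial.T 1)

variable (G : Over (Spec (CommRingCat.of k)))
  (e : G.left ≅ Spec (CommRingCat.of (LaurentPolynomial k)))

/-- the `T`-coordinate of a point -/
noncomputable def fn (X : Over (Spec (CommRingCat.of k))) (x : X ⟶ G) : Γ(X.left, ⊤) :=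
  (x.left ≫ e.hom).appTop.hom (Tgen k)

/-- the ring hom attached to a point -/
noncomputable def rho (X : Over (Spec (CommRingCat.of k))) (x : X ⟶ G) :
    LaurentPolynomial k →+* Γ(X.left, ⊤) :=
  ((Scheme.ΓSpecIso (CommRingCat.of (LaurentPolynomial k))).inv ≫ (x.left ≫ e.hom).appTop).hom

theorem rho_T (X : Over (Spec (CommRingCat.of k))) (x : X ⟶ G) :
    rho G e X x (T 1) = fn G e X x := rfl

theorem fn_nat {X Y : Over (Spec (CommRingCat.of k))} (g : Y ⟶ X) (x : X ⟶ G) :
    fn G e Y (g ≫ x) = g.left.appTop (fn G e X x) := by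
  unfold fn
  rw [Over.comp_left, Category.assoc, Scheme.Hom.comp_appTop]
  rfl

theorem fn_unit (X : Over (Spec (CommRingCat.of k))) (x : X ⟶ G) : IsUnit (fn G e X x) := by
  rw [← rho_T]
  exact (LaurentPolynomial.isUnit_T 1).map _

/-- the structure map `k → Γ(X, ⊤)` -/
noncomputable def sigma (X : Over (Spec (CommRingCat.of k))) : k →+* Γ(X.left, ⊤) :=
  ((Scheme.ΓSpecIso (CommRingCat.of k)).inv ≫ X.hom.appTop).hom

variable (he : e.hom ≫ Spec.map (CommRingCat.ofHom (algebraMap k (LaurentPolynomial k))) = G.hom)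

include he in
theorem rho_C (X : Over (Spec (CommRingCat.of k))) (x : X ⟶ G) (c : k) :
    rho G e X x (C c) = sigma X c := by
  have h1 : (x.left ≫ e.hom) ≫ Spec.map (CommRingCat.ofHom (algebraMap k (LaurentPolynomial k)))
      = X.hom := by
    rw [Category.assoc, he, Over.w]
  have h2 := Scheme.ΓSpecIso_inv_naturality
    (CommRingCat.ofHom (algebraMap k (LaurentPolynomial k)))
  have h3 : CommRingCat.ofHom (algebraMap k (LaurentPolynomial k)) ≫
      (Scheme.ΓSpecIso (CommRingCat.of (LaurentPolynomial k))).inv ≫ (x.left ≫ e.hom).appTop =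
      (Scheme.ΓSpecIso (CommRingCat.of k)).inv ≫ X.hom.appTop := by
    rw [← Category.assoc, h2, Category.assoc, ← Scheme.Hom.comp_appTop, h1]
  exact congr($h3 c)

include he in
theorem fn_inj (X : Over (Spec (CommRingCat.of k))) : Function.Injective (fn G e X) := by
  intro x y hxy
  apply Over.OverMorphism.ext
  rw [← cancel_mono e.hom]
  apply ext_of_isAffine
  rw [← cancel_epi (Scheme.ΓSpecIso (CommRingCat.of (LaurentPolynomial k))).inv]
  apply CommRingCat.hom_ext
  show rho G e X x = rho G e X y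
  apply ringHom_ext_laurent
  · intro c
    rw [rho_C G e he, rho_C G e he]
  · exact hxy

include he in
theorem fn_surj (X : Over (Spec (CommRingCat.of k))) (u : Γ(X.left, ⊤)) (hu : IsUnit u) :
    ∃ x, fn G e X x = u := by
  let φ : LaurentPolynomial k →+* Γ(X.left, ⊤) := LaurentPolynomial.eval₂ (sigma X) hu.unit
  let a : X.left ⟶ Spec (CommRingCat.of (LaurentPolynomial k)) :=
    X.left.toSpecΓ ≫ Spec.map (CommRingCat.ofHom φ)
  have ha : a ≫ Spec.map (CommRingCat.ofHom (algebraMap k (LaurentPolynomial k))) = X.hom := by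
    have h1 : CommRingCat.ofHom (algebraMap k (LaurentPolynomial k)) ≫ CommRingCat.ofHom φ =
        (Scheme.ΓSpecIso (CommRingCat.of k)).inv ≫ X.hom.appTop := by
      apply CommRingCat.hom_ext
      apply RingHom.ext
      intro c
      show φ (C c) = sigma X c
      exact LaurentPolynomial.eval₂_C _ _ c
    rw [Category.assoc, ← Spec.map_comp, h1, Spec.map_comp, ← Scheme.toSpecΓ_naturality_assoc,
      toSpecΓ_SpecMap_ΓSpecIso_inv, Category.comp_id]
  refine ⟨Over.homMk (a ≫ e.inv) ?_, ?_⟩
  · rw [Category.assoc, ← he, Iso.inv_hom_id_assoc, ha]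
  · show ((a ≫ e.inv) ≫ e.hom).appTop.hom (Tgen k) = u
    rw [Category.assoc, Iso.inv_hom_id, Category.comp_id]
    show (X.left.toSpecΓ ≫ Spec.map (CommRingCat.ofHom φ)).appTop.hom (Tgen k) = u
    rw [Scheme.Hom.comp_appTop, Scheme.toSpecΓ_appTop]
    have h2 := Scheme.ΓSpecIso_inv_naturality (CommRingCat.ofHom φ)
    have h4 : φ (T 1) = u := by
      rw [LaurentPolynomial.eval₂_T, zpow_one]
      rfl
    have h3 : (Scheme.ΓSpecIso (CommRingCat.of ↑Γ(X.left, ⊤))).inv.hom (φ (T 1)) =
        (Spec.map (CommRingCat.ofHom φ)).appTop.hom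
          ((Scheme.ΓSpecIso (CommRingCat.of (LaurentPolynomial k))).inv.hom
            (LaurentPolynomial.T 1)) := congr($h2 (LaurentPolynomial.T 1))
    show (Scheme.ΓSpecIso Γ(X.left, ⊤)).hom.hom ((Spec.map (CommRingCat.ofHom φ)).appTop.hom
      ((Scheme.ΓSpecIso (CommRingCat.of (LaurentPolynomial k))).inv.hom (LaurentPolynomial.T 1))) = u
    rw [← h3, h4]
    exact Iso.inv_hom_id_apply (C := CommRingCat) _ _

include he in
/-- **the group law on the punctured line is the multiplicative one** -/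
theorem fn_mul [GrpObj G] (hunit : fn G e (𝟙_ _) η[G] = 1)
    (S : Over (Spec (CommRingCat.of k))) (g h : S ⟶ G) :
    fn G e S (g * h) = fn G e S g * fn G e S h := by
  haveI : IsAffine G.left := .of_isIso e.hom
  haveI : IsAffine (G ⊗ G).left := by
    show IsAffine (Limits.pullback _ _)
    infer_instance
  obtain ⟨B, _, _, ⟨j⟩⟩ := exists_iso_Z k (G ⊗ G)
  let ve := veGm G (fn G e) (fn_unit G e) (fn_inj G e he) (fn_surj G e he)
  have hnat := fun {B B' : Type u} [CommRing B] [Algebra k B] [CommRing B'] [Algebra k B']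
    (g : B →ₐ[k] B') (x : Z k B ⟶ G) =>
      veGm_nat G (fn G e) (fn_nat G e) (fn_unit G e) (fn_inj G e he) (fn_surj G e he) g x
  have L1 := gm_points_law' G ve hnat B (j.inv ≫ fst G G) (j.inv ≫ snd G G)
  rw [← comp_lift, lift_fst_snd, Category.comp_id] at L1
  have hone : ve k (toUnit _ ≫ η[G]) = 1 := by
    ext
    rw [veGm_apply, fn_nat, hunit, map_one, map_one, Units.val_one]
  rw [hone, map_one, inv_one, _root_.mul_one] at L1
  have L2 : fn G e _ (j.inv ≫ μ[G]) =
      fn G e _ (j.inv ≫ fst G G) * fn G e _ (j.inv ≫ snd G G) := by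
    have h1 := congrArg (fun u : Bˣ => (u : B)) L1
    simp only [Units.val_mul] at h1
    rw [veGm_apply, veGm_apply, veGm_apply, ← map_mul] at h1
    exact (gsec k B).injective h1
  have hgh : g * h = (lift g h ≫ j.hom) ≫ (j.inv ≫ μ[G]) := by
    rw [Category.assoc, Iso.hom_inv_id_assoc]
    rfl
  rw [hgh, fn_nat, L2, map_mul, ← fn_nat, ← fn_nat]
  congr 2
  · rw [Category.assoc, Iso.hom_inv_id_assoc, lift_fst]
  · rw [Category.assoc, Iso.hom_inv_id_assoc, lift_snd]

end Groth.Agent.Lib.Helper14.GmLaurent
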