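import Mathlib

/-!
# helper14: lifting units of `B/mB` over the closed points of a semilocal ring `A` to a unit of a
finite `A`-algebra `B`.
-/

set_option autoImplicit false
universe u
open TensorProduct

namespace Groth.Agent.Lib.Helper14.GmWeil

variable (A B : Type u) [CommRing A] [CommRing B] [Algebra A B]

/-- `B → (A/m) ⊗ B`. -/
noncomputable abbrev incl (m : Ideal A) : B →ₐ[A] (A ⧸ m) ⊗[A] B :=
  Algebra.TensorProduct.includeRight

theorem incl_surjective (m : Ideal A) : Function.Surjective (incl A B m) := by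
  intro x
  induction x using TensorProduct.induction_on with
  | zero => exact ⟨0, map_zero _⟩
  | tmul a b =>
    obtain ⟨a, rfl⟩ := Ideal.Quotient.mk_surjective a
    refine ⟨a • b, ?_⟩
    change (1 : A ⧸ m) ⊗ₜ[A] (a • b) = _
    rw [TensorProduct.tmul_smul, TensorProduct.smul_tmul']
    congr 1
    rw [Algebra.smul_def, mul_one]
    rfl
  | add x y hx hy =>
    obtain ⟨x', rfl⟩ := hx
    obtain ⟨y', rfl⟩ := hy
    exact ⟨x' + y', map_add _ _ _⟩

theorem map_le_ker_incl (m : Ideal A) :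
    m.map (algebraMap A B) ≤ RingHom.ker (incl A B m : B →+* (A ⧸ m) ⊗[A] B) := by
  rw [Ideal.map_le_iff_le_comap]
  intro a ha
  rw [Ideal.mem_comap, RingHom.mem_ker]
  change (1 : A ⧸ m) ⊗ₜ[A] (algebraMap A B a) = 0
  rw [Algebra.algebraMap_eq_smul_one, TensorProduct.tmul_smul, TensorProduct.smul_tmul']
  have : a • (1 : A ⧸ m) = 0 := by
    rw [Algebra.smul_def, mul_one]
    exact Ideal.Quotient.eq_zero_iff_mem.mpr ha
  rw [this, TensorProduct.zero_tmul]

/-- the quotient `(A/m) ⊗ B → B/n` for `n` lying over (an ideal containing) `m` -/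
noncomputable def toQuot (m : Ideal A) (n : Ideal B) (h : m ≤ n.comap (algebraMap A B)) :
    (A ⧸ m) ⊗[A] B →ₐ[A] B ⧸ n :=
  Algebra.TensorProduct.lift
    (Ideal.Quotient.liftₐ m ((Ideal.Quotient.mkₐ A n).comp (Algebra.ofId A B)) (fun a ha => by
      change Ideal.Quotient.mk n (algebraMap A B a) = 0
      exact Ideal.Quotient.eq_zero_iff_mem.mpr (h ha)))
    (Ideal.Quotient.mkₐ A n) (fun _ _ => Commute.all _ _)

theorem toQuot_incl (m : Ideal A) (n : Ideal B) (h : m ≤ n.comap (algebraMap A B)) (b : B) :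
    toQuot A B m n h (incl A B m b) = Ideal.Quotient.mk n b := by
  change toQuot A B m n h ((1 : A ⧸ m) ⊗ₜ[A] b) = _
  rw [toQuot, Algebra.TensorProduct.lift_tmul, map_one, one_mul]
  rfl

theorem exists_unit_lift [Module.Finite A B] [Finite (MaximalSpectrum A)]
    (v : ∀ m : MaximalSpectrum A, ((A ⧸ m.asIdeal) ⊗[A] B)ˣ) :
    ∃ w : Bˣ, ∀ m : MaximalSpectrum A, incl A B m.asIdeal (w : B) = (v m : (A ⧸ m.asIdeal) ⊗[A] B) := by
  classical
  choose x hx using fun m : MaximalSpectrum A => incl_surjective A B m.asIdeal (v m)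
  have hcop : Pairwise (Function.onFun IsCoprime
      (fun m : MaximalSpectrum A =>
        RingHom.ker (incl A B m.asIdeal : B →+* (A ⧸ m.asIdeal) ⊗[A] B))) := by
    intro m m' hne
    change IsCoprime _ _
    rw [Ideal.isCoprime_iff_sup_eq]
    have h1 : m.asIdeal ⊔ m'.asIdeal = ⊤ := by
      have := MaximalSpectrum.isCoprime_of_ne hne
      rwa [Ideal.isCoprime_iff_sup_eq] at this
    rw [eq_top_iff]
    calc (⊤ : Ideal B) = (⊤ : Ideal A).map (algebraMap A B) := Ideal.map_top _ |>.symm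
      _ = (m.asIdeal ⊔ m'.asIdeal).map (algebraMap A B) := by rw [h1]
      _ = m.asIdeal.map (algebraMap A B) ⊔ m'.asIdeal.map (algebraMap A B) := Ideal.map_sup _ _ _
      _ ≤ _ := sup_le_sup (map_le_ker_incl A B _) (map_le_ker_incl A B _)
  obtain ⟨r, hr⟩ := Ideal.exists_forall_sub_mem_ideal hcop x
  have hrv : ∀ m : MaximalSpectrum A, incl A B m.asIdeal r = (v m : (A ⧸ m.asIdeal) ⊗[A] B) := by
    intro m
    have := hr m
    rw [RingHom.mem_ker, map_sub, sub_eq_zero] at this
    exact this.trans (hx m)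
  have hunit : IsUnit r := by
    by_contra hnu
    obtain ⟨n, hn, hrn⟩ := exists_max_ideal_of_mem_nonunits hnu
    haveI : Algebra.IsIntegral A B := Algebra.IsIntegral.of_finite A B
    have hm : (n.comap (algebraMap A B)).IsMaximal :=
      Ideal.isMaximal_comap_of_isIntegral_of_isMaximal n
    let m : MaximalSpectrum A := ⟨n.comap (algebraMap A B), hm⟩
    have h1 := toQuot_incl A B m.asIdeal n le_rfl r
    rw [hrv m] at h1
    have h2 : IsUnit (toQuot A B m.asIdeal n le_rfl (v m : (A ⧸ m.asIdeal) ⊗[A] B)) :=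
      (v m).isUnit.map _
    rw [h1, Ideal.Quotient.eq_zero_iff_mem.mpr hrn] at h2
    exact not_isUnit_zero h2
  exact ⟨hunit.unit, hrv⟩

end Groth.Agent.Lib.Helper14.GmWeil
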