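import Mathlib
import Groth.Prelude.Def_WeilRes
import Groth.Prelude.Def_GmPts
import Groth.Agent.Lib.Helper14.GmWeil1

/-!
# helper14: sections of the Weil restriction of `G_m` over a semilocal ring lift from the closed
points.
-/

set_option autoImplicit false
universe u
open CategoryTheory CategoryTheory.Limits AlgebraicGeometry TensorProduct

namespace Groth.Agent.Lib.Helper14.GmWeil

variable (A : Type u) [CommRing A] (B : Type u) [CommRing B] [Algebra A B]

theorem isIso_appTop {X Y : Scheme.{u}} (f : X ⟶ Y) [IsIso f] : IsIso f.appTop := by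
  change IsIso (Scheme.Γ.map f.op)
  infer_instance

/-- `Spec B → Spec A` -/
noncomputable abbrev fAB : Spec (CommRingCat.of B) ⟶ Spec (CommRingCat.of A) :=
  Spec.map (CommRingCat.ofHom (algebraMap A B))

/-- the closed point `Spec A/m` as an object over `Spec A` -/
noncomputable abbrev Tm (m : Ideal A) : Over (Spec (CommRingCat.of A)) :=
  Over.mk (Spec.map (CommRingCat.ofHom (Ideal.Quotient.mk m)))

/-- `Spec A` over itself -/
noncomputable abbrev TA : Over (Spec (CommRingCat.of A)) := Over.mk (𝟙 (Spec (CommRingCat.of A)))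

/-- the inclusion of the closed point -/
noncomputable abbrev ιm (m : Ideal A) : Tm A m ⟶ TA A :=
  Over.homMk (Spec.map (CommRingCat.ofHom (Ideal.Quotient.mk m))) (by simp)

/-- `B ⟶ Γ(Spec A ×_A Spec B)` -/
noncomputable def αhom : CommRingCat.of B ⟶ Γ((Red.bc (fAB A B) (TA A)).left, ⊤) :=
  (Scheme.ΓSpecIso (CommRingCat.of B)).inv ≫
    (pullback.snd (𝟙 (Spec (CommRingCat.of A))) (fAB A B)).appTop

instance : IsIso (αhom A B) := by
  unfold αhom
  haveI := isIso_appTop (pullback.snd (𝟙 (Spec (CommRingCat.of A))) (fAB A B))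
  infer_instance

/-- `(A/m) ⊗ B ⟶ Γ(Spec A/m ×_A Spec B)` -/
noncomputable def βhom (m : Ideal A) :
    CommRingCat.of ((A ⧸ m) ⊗[A] B) ⟶ Γ((Red.bc (fAB A B) (Tm A m)).left, ⊤) :=
  (Scheme.ΓSpecIso (CommRingCat.of ((A ⧸ m) ⊗[A] B))).inv ≫
    (pullbackSpecIso A (A ⧸ m) B).hom.appTop

instance (m : Ideal A) : IsIso (βhom A B m) := by
  unfold βhom
  haveI := isIso_appTop (pullbackSpecIso A (A ⧸ m) B).hom
  infer_instance

theorem compat (m : Ideal A) :
    αhom A B ≫ ((Over.pullback (fAB A B)).map (ιm A m)).left.appTop =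
      CommRingCat.ofHom (incl A B m : B →+* (A ⧸ m) ⊗[A] B) ≫ βhom A B m := by
  unfold αhom βhom
  have h1 : ((Over.pullback (fAB A B)).map (ιm A m)).left ≫
      pullback.snd (𝟙 (Spec (CommRingCat.of A))) (fAB A B) =
      pullback.snd (Tm A m).hom (fAB A B) := by
    simp only [Over.pullback_map_left]
    exact pullback.lift_snd _ _ _
  have h2 : (pullbackSpecIso A (A ⧸ m) B).hom ≫
      Spec.map (CommRingCat.ofHom (incl A B m : B →+* (A ⧸ m) ⊗[A] B)) =
      pullback.snd (Tm A m).hom (fAB A B) := pullbackSpecIso_hom_snd A (A ⧸ m) B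
  rw [Category.assoc, ← Scheme.Hom.comp_appTop, h1, ← Category.assoc,
    Scheme.ΓSpecIso_inv_naturality, Category.assoc, ← Scheme.Hom.comp_appTop, h2]

theorem exists_section [Module.Finite A B] [Finite (MaximalSpectrum A)]
    (P : Over (Spec (CommRingCat.of A)))
    (q : Red.bc (fAB A B) P ⟶ Red.Gm (Spec (CommRingCat.of B)))
    (hP : WeilRes.IsWeilRes (fAB A B) (Red.Gm (Spec (CommRingCat.of B))) P q)
    (u : ∀ m : MaximalSpectrum A, Tm A m.asIdeal ⟶ P) :
    ∃ s : TA A ⟶ P, ∀ m : MaximalSpectrum A, ιm A m.asIdeal ≫ s = u m := by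
  let t : ∀ m : MaximalSpectrum A,
      Red.bc (fAB A B) (Tm A m.asIdeal) ⟶ Red.Gm (Spec (CommRingCat.of B)) :=
    fun m => WeilRes.restr (fAB A B) q _ (u m)
  let v : ∀ m : MaximalSpectrum A, ((A ⧸ m.asIdeal) ⊗[A] B)ˣ := fun m =>
    Units.map (inv (βhom A B m.asIdeal)).hom.toMonoidHom (GmPts.unitOfPt (t m))
  obtain ⟨w, hw⟩ := exists_unit_lift A B v
  let w' : (Γ((Red.bc (fAB A B) (TA A)).left, ⊤))ˣ := Units.map (αhom A B).hom.toMonoidHom w
  have hw' : ∀ m : MaximalSpectrum A,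
      ((Over.pullback (fAB A B)).map (ιm A m.asIdeal)).left.appTop.hom w'.val =
        (GmPts.unitOfPt (t m)).val := by
    intro m
    have h1 := congrArg (fun φ => φ.hom (w : B)) (compat A B m.asIdeal)
    simp only [CommRingCat.hom_comp, RingHom.comp_apply, CommRingCat.hom_ofHom] at h1
    change ((Over.pullback (fAB A B)).map (ιm A m.asIdeal)).left.appTop.hom
      ((αhom A B).hom (w : B)) = _
    rw [h1]
    have h2 : (incl A B m.asIdeal : B →+* _) (w : B) = (v m : (A ⧸ m.asIdeal) ⊗[A] B) := hw m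
    rw [h2]
    change (βhom A B m.asIdeal).hom ((inv (βhom A B m.asIdeal)).hom
      (GmPts.unitOfPt (t m)).val) = _
    rw [← RingHom.comp_apply, ← CommRingCat.hom_comp, IsIso.inv_hom_id]
    rfl
  obtain ⟨s, hs⟩ := (hP (TA A)).2 (GmPts.ptOfUnit w')
  refine ⟨s, fun m => (hP _).1 ?_⟩
  rw [WeilRes.restr_comp, hs]
  change _ = t m
  rw [← GmPts.ptOfUnit_unitOfPt ((Over.pullback (fAB A B)).map (ιm A m.asIdeal) ≫ GmPts.ptOfUnit w'),
    ← GmPts.ptOfUnit_unitOfPt (t m)]
  congr 1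
  rw [GmPts.unitOfPt_comp, GmPts.unitOfPt_ptOfUnit]
  ext
  exact hw' m

end Groth.Agent.Lib.Helper14.GmWeil
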