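import Mathlib

/-!
# helper14: Artin–Rees bound on power-torsion, used for S8833
-/

set_option autoImplicit false

universe u

namespace Groth.Agent.Lib.Helper14.GrMod

open Submodule

/-- Artin–Rees: for `m` large, `J^m N` meets the `J`-power torsion of `N` trivially. -/
theorem exists_bound_torsion {B : Type u} [CommRing B] [IsNoetherianRing B] (J : Ideal B)
    (N : Type u) [AddCommGroup N] [Module B N] [Module.Finite B N] :
    ∃ m₀ : ℕ, ∀ m, m₀ ≤ m → ∀ z ∈ (J ^ m • ⊤ : Submodule B N),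
      (∃ q : ℕ, ∀ b ∈ J ^ q, b • z = 0) → z = 0 := by
  haveI : IsNoetherian B N := isNoetherian_of_isNoetherianRing_of_finite B N
  let T : ℕ →o Submodule B N :=
    ⟨fun q => torsionBySet B N ((J ^ q : Ideal B) : Set B), fun i j hij =>
      torsionBySet_le_torsionBySet_pow i j hij J⟩
  obtain ⟨q₀, hq₀⟩ := monotone_stabilizes_iff_noetherian.mpr inferInstance T
  obtain ⟨k, hk⟩ := Ideal.exists_pow_inf_eq_pow_smul J (T q₀)
  refine ⟨k + q₀, fun m hm z hz ⟨q, hq⟩ => ?_⟩
  have hzT : z ∈ T q₀ := by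
    have h1 : z ∈ T (max q q₀) := by
      have : z ∈ T q := by
        change z ∈ torsionBySet B N ((J ^ q : Ideal B) : Set B)
        rw [mem_torsionBySet_iff]
        rintro ⟨b, hb⟩
        exact hq b hb
      exact T.monotone (le_max_left q q₀) this
    rw [hq₀ (max q q₀) (le_max_right q q₀)]
    exact h1
  have hmem : z ∈ J ^ m • ⊤ ⊓ T q₀ := ⟨hz, hzT⟩
  rw [hk m (by omega)] at hmem
  have hle : J ^ (m - k) • (J ^ k • ⊤ ⊓ T q₀) ≤ (⊥ : Submodule B N) := by
    rw [Submodule.smul_le]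
    intro b hb t ht
    have hb' : b ∈ J ^ q₀ := Ideal.pow_le_pow_right (by omega) hb
    have ht' : t ∈ torsionBySet B N ((J ^ q₀ : Ideal B) : Set B) := ht.2
    rw [mem_torsionBySet_iff] at ht'
    rw [Submodule.mem_bot]
    exact ht' ⟨b, hb'⟩
  exact (Submodule.mem_bot B).1 (hle hmem)

end Groth.Agent.Lib.Helper14.GrMod
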