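import Groth.Agent.Lib.Helper14.GrMod1

/-!
# helper14: graded maps `⊕ I^{nc'} → A[T]`: bounds on coefficients (for S8833)
-/

set_option autoImplicit false

universe u

namespace Groth.Agent.Lib.Helper14.GrMod

open MvPolynomial

variable {A : Type u} [CommRing A] {r : ℕ} (I : Ideal A)

/-- `φ (I^c · I^k) ⊆ I^k` for a linear map `φ : I^c → A`. -/
theorem map_mem_pow (c k : ℕ) (φ : ↥(I ^ c) →ₗ[A] A) {g : A} (hg : g ∈ I ^ (c + k))
    (hg' : g ∈ I ^ c) : φ ⟨g, hg'⟩ ∈ I ^ k := by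
  rw [pow_add] at hg
  have key : g ∈ I ^ c ∧ ∀ hg' : g ∈ I ^ c, φ ⟨g, hg'⟩ ∈ I ^ k := by
    refine Submodule.mul_induction_on hg ?_ ?_
    · intro a ha b hb
      refine ⟨Ideal.mul_mem_right _ _ ha, fun h' => ?_⟩
      have : (⟨a * b, h'⟩ : ↥(I ^ c)) = b • ⟨a, ha⟩ := by
        ext; simp [mul_comm]
      rw [this, map_smul, smul_eq_mul]
      exact Ideal.mul_mem_right _ _ hb
    · rintro x y ⟨hx, hx'⟩ ⟨hy, hy'⟩
      refine ⟨add_mem hx hy, fun h' => ?_⟩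
      have : (⟨x + y, h'⟩ : ↥(I ^ c)) = ⟨x, hx⟩ + ⟨y, hy⟩ := rfl
      rw [this, map_add]
      exact add_mem (hx' hx) (hy' hy)
  exact key.2 hg'

/-- the hypotheses on `Φ` -/
structure IsGr (c' : ℕ) (ψ : Fin r → (↥(I ^ c') →ₗ[A] A)) (Φ : ℕ → A → MvPolynomial (Fin r) A) :
    Prop where
  add : ∀ n : ℕ, ∀ g ∈ I ^ (n * c'), ∀ h ∈ I ^ (n * c'), Φ n (g + h) = Φ n g + Φ n h
  smul : ∀ (n : ℕ) (a : A), ∀ g ∈ I ^ (n * c'), Φ n (a * g) = a • Φ n g
  mul : ∀ n m : ℕ, ∀ g ∈ I ^ (n * c'), ∀ h ∈ I ^ (m * c'), Φ (n + m) (g * h) = Φ n g * Φ m h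
  zero : ∀ a : A, Φ 0 a = MvPolynomial.C a
  one : ∀ (g : A) (hg : g ∈ I ^ c'), Φ 1 g = ∑ j, MvPolynomial.C (ψ j ⟨g, hg⟩) * MvPolynomial.X j

variable {I}

theorem IsGr.coeff_mem {c' : ℕ} {ψ : Fin r → (↥(I ^ c') →ₗ[A] A)}
    {Φ : ℕ → A → MvPolynomial (Fin r) A} (h : IsGr I c' ψ Φ) (k : ℕ)
    (hψ : ∀ j (g : A) (hg : g ∈ I ^ c'), ψ j ⟨g, hg⟩ ∈ I ^ k) :
    ∀ (n : ℕ) (g : A), g ∈ I ^ (n * c') → ∀ d, coeff d (Φ n g) ∈ I ^ (n * k) := by
  intro n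
  induction n with
  | zero =>
    intro g _ d
    simp
  | succ n ih =>
    intro g hg
    have e : I ^ ((n + 1) * c') = I ^ (1 * c') * I ^ (n * c') := by
      rw [← pow_add]; congr 1; ring
    have key : g ∈ I ^ ((n + 1) * c') ∧ ∀ d, coeff d (Φ (n + 1) g) ∈ I ^ ((n + 1) * k) := by
      rw [e] at hg
      refine Submodule.mul_induction_on hg ?_ ?_
      · intro a ha b hb
        refine ⟨by rw [e]; exact Ideal.mul_mem_mul ha hb, fun d => ?_⟩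
        have e1 : n + 1 = 1 + n := by ring
        have ha' : a ∈ I ^ c' := by simpa using ha
        rw [e1, h.mul 1 n a ha b hb, coeff_mul]
        refine Ideal.sum_mem _ fun x _ => ?_
        have h1 : coeff x.1 (Φ 1 a) ∈ I ^ k := by
          rw [h.one a ha', coeff_sum]
          refine Ideal.sum_mem _ fun j _ => ?_
          rw [coeff_C_mul]
          exact Ideal.mul_mem_right _ _ (hψ j a ha')
        have h2 : coeff x.2 (Φ n b) ∈ I ^ (n * k) := ih b hb x.2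
        have e2 : I ^ ((1 + n) * k) = I ^ k * I ^ (n * k) := by
          rw [← pow_add]; congr 1; ring
        rw [e2]
        exact Ideal.mul_mem_mul h1 h2
      · rintro x y ⟨hx, hx'⟩ ⟨hy, hy'⟩
        refine ⟨add_mem hx hy, fun d => ?_⟩
        rw [h.add (n + 1) x hx y hy, coeff_add]
        exact add_mem (hx' d) (hy' d)
    exact key.2

end Groth.Agent.Lib.Helper14.GrMod
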