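import Groth.Agent.Lib.Helper14.GrMod2

/-!
# helper14: the module map `K N → N[T]`, `g x ↦ F(g) ⊗ x` (for S8833)
-/

set_option autoImplicit false

universe u

namespace Groth.Agent.Lib.Helper14.GrMod

open MvPolynomial TensorProduct

variable {A : Type u} [CommRing A] {r : ℕ} (B : Type u) [CommRing B] [Algebra A B]
  (N : Type u) [AddCommGroup N] [Module B N] (K : Ideal A) (F : A → MvPolynomial (Fin r) A)

/-- the free module on pairs `(g, x)` -/
abbrev PP := (↥K × N) →₀ B

/-- `(g, x) ↦ g x` -/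
noncomputable def pMap : PP B N K →ₗ[B] N :=
  Finsupp.linearCombination B (fun v : ↥K × N => algebraMap A B (v.1 : A) • v.2)

/-- `(g, x) ↦ F(g) ⊗ x` -/
noncomputable def qMap : PP B N K →ₗ[B] (MvPolynomial (Fin r) B ⊗[B] N) :=
  Finsupp.linearCombination B
    (fun v : ↥K × N => MvPolynomial.map (algebraMap A B) (F (v.1 : A)) ⊗ₜ[B] v.2)

/-- `(g, x) ↦ coeff_d(F g) x` -/
noncomputable def dMap (d : Fin r →₀ ℕ) : PP B N K →ₗ[B] N :=
  Finsupp.linearCombination B
    (fun v : ↥K × N => algebraMap A B (coeff d (F (v.1 : A))) • v.2)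

/-- the coefficient isomorphism -/
noncomputable def eIso : (MvPolynomial (Fin r) B ⊗[B] N) ≃ₗ[B] ((Fin r →₀ ℕ) →₀ N) :=
  TensorProduct.equivFinsuppOfBasisLeft (MvPolynomial.basisMonomials (Fin r) B)

theorem eIso_tmul (P : MvPolynomial (Fin r) B) (x : N) (d : Fin r →₀ ℕ) :
    eIso B N (P ⊗ₜ[B] x) d = coeff d P • x :=
  TensorProduct.equivFinsuppOfBasisLeft_apply_tmul_apply _ P x d

theorem eIso_qMap (w : PP B N K) (d : Fin r →₀ ℕ) :
    eIso B N (qMap B N K F w) d = dMap B N K F d w := by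
  induction w using Finsupp.induction_linear with
  | zero => simp
  | add w₁ w₂ h₁ h₂ => simp only [map_add, Finsupp.add_apply, h₁, h₂]
  | single v b =>
    simp only [qMap, dMap, Finsupp.linearCombination_single, map_smul, Finsupp.smul_apply]
    rw [eIso_tmul, MvPolynomial.coeff_map]

variable {B N K F}

theorem smul_dMap (hsmul : ∀ (a : A), ∀ g ∈ K, F (a * g) = a • F g) (d : Fin r →₀ ℕ)
    (w : PP B N K) (h : A) (hh : h ∈ K) :
    algebraMap A B h • dMap B N K F d w = algebraMap A B (coeff d (F h)) • pMap B N K w := by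
  induction w using Finsupp.induction_linear with
  | zero => simp
  | add w₁ w₂ h₁ h₂ => simp only [map_add, smul_add, h₁, h₂]
  | single v b =>
    simp only [pMap, dMap, Finsupp.linearCombination_single, smul_smul]
    have e : h * coeff d (F (v.1 : A)) = coeff d (F h) * (v.1 : A) := by
      have h1 := hsmul h v.1 v.1.2
      have h2 := hsmul v.1 h hh
      rw [mul_comm] at h2
      rw [h1] at h2
      have := congrArg (coeff d) h2
      rw [coeff_smul, coeff_smul, smul_eq_mul, smul_eq_mul] at this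
      rw [this, mul_comm]
    congr 1
    have e' := congrArg (algebraMap A B) e
    rw [map_mul, map_mul] at e'
    linear_combination b * e'

theorem dMap_mem (J : Ideal B) (m : ℕ) (I : Ideal A)
    (hIJ : (I ^ m).map (algebraMap A B) ≤ J ^ m)
    (hcoef : ∀ g ∈ K, ∀ d, coeff d (F g) ∈ I ^ m) (d : Fin r →₀ ℕ) (w : PP B N K) :
    dMap B N K F d w ∈ (J ^ m • ⊤ : Submodule B N) := by
  induction w using Finsupp.induction_linear with
  | zero => simp
  | add w₁ w₂ h₁ h₂ =>
    rw [map_add]
    exact add_mem h₁ h₂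
  | single v b =>
    simp only [dMap, Finsupp.linearCombination_single]
    refine Submodule.smul_mem _ _ (Submodule.smul_mem_smul ?_ Submodule.mem_top)
    exact hIJ (Ideal.mem_map_of_mem _ (hcoef v.1 v.1.2 d))

end Groth.Agent.Lib.Helper14.GrMod

namespace Groth.Agent.Lib.Helper14.GrMod

open MvPolynomial TensorProduct

variable {A : Type u} [CommRing A] {r : ℕ} {B : Type u} [CommRing B] [Algebra A B]
  {N : Type u} [AddCommGroup N] [Module B N] {K : Ideal A} {F : A → MvPolynomial (Fin r) A}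

theorem pMap_single (v : ↥K × N) (b : B) :
    pMap B N K (Finsupp.single v b) = b • algebraMap A B (v.1 : A) • v.2 := by
  simp [pMap, Finsupp.linearCombination_single]

theorem qMap_single (v : ↥K × N) (b : B) :
    qMap B N K F (Finsupp.single v b) =
      b • (MvPolynomial.map (algebraMap A B) (F (v.1 : A)) ⊗ₜ[B] v.2) := by
  simp [qMap, Finsupp.linearCombination_single]

theorem pMap_mem_span (w : PP B N K) :
    pMap B N K w ∈ Submodule.span B {y : N | ∃ g ∈ K, ∃ x : N, y = algebraMap A B g • x} := by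
  induction w using Finsupp.induction_linear with
  | zero => simp
  | add w₁ w₂ h₁ h₂ =>
    rw [map_add]
    exact add_mem h₁ h₂
  | single v b =>
    rw [pMap_single]
    exact Submodule.smul_mem _ _ (Submodule.subset_span ⟨v.1, v.1.2, v.2, rfl⟩)

theorem exists_module_map (f : Fin r → A)
    (hsmul : ∀ (a : A), ∀ g ∈ K, F (a * g) = a • F g) (I : Ideal A) (m : ℕ)
    (hcoef : ∀ g ∈ K, ∀ d, coeff d (F g) ∈ I ^ m)
    (hkill : ∀ z ∈ ((I.map (algebraMap A B)) ^ m • ⊤ : Submodule B N),
      (∀ h ∈ K, algebraMap A B h • z = 0) → z = 0)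
    (haeval : ∀ g ∈ K, MvPolynomial.aeval f (F g) = g) :
    ∃ Ψ : ↥(Submodule.span B {y : N | ∃ g ∈ K, ∃ x : N, y = algebraMap A B g • x}) →ₗ[B]
        (MvPolynomial (Fin r) B ⊗[B] N),
      (∀ (g : A) (hg : g ∈ K) (x : N),
        Ψ ⟨algebraMap A B g • x, Submodule.subset_span ⟨g, hg, x, rfl⟩⟩ =
          MvPolynomial.map (algebraMap A B) (F g) ⊗ₜ[B] x) ∧
      (∀ y : ↥(Submodule.span B {y : N | ∃ g ∈ K, ∃ x : N, y = algebraMap A B g • x}),
        TensorProduct.lift ((LinearMap.lsmul B N).comp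
          (MvPolynomial.aeval (fun j ↦ algebraMap A B (f j))).toLinearMap) (Ψ y) = (y : N)) ∧
      (∀ Ψ' : ↥(Submodule.span B {y : N | ∃ g ∈ K, ∃ x : N, y = algebraMap A B g • x}) →ₗ[B]
          (MvPolynomial (Fin r) B ⊗[B] N),
        (∀ (g : A) (hg : g ∈ K) (x : N),
          Ψ' ⟨algebraMap A B g • x, Submodule.subset_span ⟨g, hg, x, rfl⟩⟩ =
            MvPolynomial.map (algebraMap A B) (F g) ⊗ₜ[B] x) → Ψ' = Ψ) := by
  set Sp := Submodule.span B {y : N | ∃ g ∈ K, ∃ x : N, y = algebraMap A B g • x} with hSp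
  let pt : PP B N K →ₗ[B] ↥Sp := (pMap B N K).codRestrict Sp pMap_mem_span
  have hpt : ∀ w, ((pt w : ↥Sp) : N) = pMap B N K w := fun w => rfl
  have hsurj : Function.Surjective pt := by
    have hle : Sp ≤ LinearMap.range (pMap B N K) := by
      rw [hSp, Submodule.span_le]
      rintro _ ⟨g, hg, x, rfl⟩
      refine ⟨Finsupp.single (⟨g, hg⟩, x) 1, ?_⟩
      rw [pMap_single, one_smul]
    rintro ⟨y, hy⟩
    obtain ⟨w, hw⟩ := hle hy
    exact ⟨w, Subtype.ext hw⟩
  have hker : LinearMap.ker pt ≤ LinearMap.ker (qMap B N K F) := by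
    intro w hw
    rw [LinearMap.mem_ker] at hw ⊢
    have hp : pMap B N K w = 0 := by
      rw [← hpt, hw]; rfl
    apply (eIso B N).injective
    rw [map_zero]
    ext d
    rw [eIso_qMap, Finsupp.zero_apply]
    apply hkill _ (dMap_mem _ m I (by rw [Ideal.map_pow]) hcoef d w)
    intro h hh
    rw [smul_dMap hsmul d w h hh, hp, smul_zero]
  let Ψ : ↥Sp →ₗ[B] (MvPolynomial (Fin r) B ⊗[B] N) :=
    ((LinearMap.ker pt).liftQ (qMap B N K F) hker) ∘ₗ
      (pt.quotKerEquivOfSurjective hsurj).symm.toLinearMap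
  have key : ∀ w, Ψ (pt w) = qMap B N K F w := by
    intro w
    have : (pt.quotKerEquivOfSurjective hsurj).symm (pt w) = Submodule.Quotient.mk w := by
      rw [LinearEquiv.symm_apply_eq]
      exact (LinearMap.quotKerEquivOfSurjective_apply_mk pt hsurj w).symm
    change ((LinearMap.ker pt).liftQ (qMap B N K F) hker)
      ((pt.quotKerEquivOfSurjective hsurj).symm (pt w)) = _
    rw [this]
    exact Submodule.liftQ_apply _ _ _
  have hgen : ∀ (g : A) (hg : g ∈ K) (x : N),
      (⟨algebraMap A B g • x, Submodule.subset_span ⟨g, hg, x, rfl⟩⟩ : ↥Sp) =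
        pt (Finsupp.single (⟨g, hg⟩, x) 1) := by
    intro g hg x
    apply Subtype.ext
    rw [hpt, pMap_single, one_smul]
  refine ⟨Ψ, ?_, ?_, ?_⟩
  · intro g hg x
    rw [hgen g hg x, key, qMap_single, one_smul]
  · intro y
    obtain ⟨w, rfl⟩ := hsurj y
    rw [key, hpt]
    induction w using Finsupp.induction_linear with
    | zero => simp
    | add w₁ w₂ h₁ h₂ => rw [map_add, map_add, map_add, h₁, h₂]
    | single v b =>
      rw [qMap_single, pMap_single, map_smul, TensorProduct.lift.tmul]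
      congr 1
      change (MvPolynomial.aeval (fun j ↦ algebraMap A B (f j)))
        (MvPolynomial.map (algebraMap A B) (F (v.1 : A))) • v.2 = _
      rw [MvPolynomial.aeval_map_algebraMap]
      have := MvPolynomial.aeval_algebraMap_apply (B := B) f (F (v.1 : A))
      rw [haeval _ v.1.2] at this
      rw [← this]
      rfl
  · intro Ψ' hΨ'
    apply LinearMap.ext
    intro y
    obtain ⟨w, rfl⟩ := hsurj y
    rw [key]
    induction w using Finsupp.induction_linear with
    | zero => simp
    | add w₁ w₂ h₁ h₂ => rw [map_add, map_add, map_add, h₁, h₂]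
    | single v b =>
      have e : pt (Finsupp.single v b) = b • pt (Finsupp.single v 1) := by
        rw [← map_smul, Finsupp.smul_single, smul_eq_mul, mul_one]
      rw [e, map_smul, ← hgen v.1 v.1.2 v.2, hΨ' (v.1 : A) v.1.2 v.2, qMap_single]

end Groth.Agent.Lib.Helper14.GrMod
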