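import Mathlib
import Groth.Agent.Lib.Helper14.AbsClosed2

/-!
# helper14: closed subfunctors of a functor on affine `R`-schemes represented by a scheme

`X` represents `F : CommAlgCat R ⥤ Type` on affine `R`-schemes; a predicate `𝒮` on elements of `F`
that is cut out by an ideal on every element (uniformly in base change) is represented by a closed
subscheme of `X`.
-/

set_option autoImplicit false
universe u
open CategoryTheory CategoryTheory.Limits AlgebraicGeometry

namespace Groth.Agent.Lib.Helper14.GrassClosed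

/-- basic open refinement of an open cover of an affine scheme -/
theorem span_refinement_eq_top (A : Type u) [CommRing A]
    (𝒱 : Scheme.OpenCover.{u} (Spec (CommRingCat.of A))) :
    Ideal.span {f : A | ∃ i, ∃ l : Spec (CommRingCat.of (Localization.Away f)) ⟶ 𝒱.X i,
      l ≫ 𝒱.f i = Spec.map (CommRingCat.ofHom (algebraMap A (Localization.Away f)))} = ⊤ := by
  by_contra h
  obtain ⟨m, hmax, hle⟩ := Ideal.exists_le_maximal _ h
  let p : PrimeSpectrum A := ⟨m, hmax.isPrime⟩
  obtain ⟨i, y, hy⟩ := 𝒱.exists_eq (p : Spec (CommRingCat.of A))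
  have hopen : IsOpen (Set.range (𝒱.f i)) := (𝒱.f i).isOpenEmbedding.isOpen_range
  obtain ⟨_, ⟨_, ⟨f, rfl⟩, rfl⟩, hpf, hsub⟩ :=
    PrimeSpectrum.isBasis_basic_opens.exists_subset_of_mem_open
      (show p ∈ Set.range (𝒱.f i) from ⟨y, hy⟩) hopen
  have hf : f ∈ m := by
    apply hle
    apply Ideal.subset_span
    refine ⟨i, IsOpenImmersion.lift (𝒱.f i) (Spec.map (CommRingCat.ofHom (algebraMap A
      (Localization.Away f)))) ?_, IsOpenImmersion.lift_fac _ _ _⟩
    rintro _ ⟨q, rfl⟩
    apply hsub
    have := PrimeSpectrum.localization_away_comap_range (Localization.Away f) f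
    rw [← this]
    exact ⟨q, rfl⟩
  exact hpf hf

/-- an ideal killed in all localizations of a spanning family is zero -/
theorem ideal_eq_bot_of_span (A : Type u) [CommRing A] (I : Ideal A) (s : Set A)
    (hs : Ideal.span s = ⊤)
    (h : ∀ f ∈ s, I ≤ RingHom.ker (algebraMap A (Localization.Away f))) : I = ⊥ := by
  rw [eq_bot_iff]
  intro r hr
  refine Submodule.mem_of_span_eq_top_of_smul_pow_mem (⊥ : Ideal A) s hs r ?_
  rintro ⟨f, hf⟩
  have h1 : algebraMap A (Localization.Away f) r = 0 := h f hf hr
  obtain ⟨⟨_, n, rfl⟩, hn⟩ :=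
    (IsLocalization.map_eq_zero_iff (Submonoid.powers f) (Localization.Away f) r).mp h1
  exact ⟨n, by simpa using hn⟩

end Groth.Agent.Lib.Helper14.GrassClosed
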