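import Mathlib
import Groth.Agent.Lib.Helper14.GrassClosed1

set_option autoImplicit false
universe u
open CategoryTheory CategoryTheory.Limits AlgebraicGeometry

namespace Groth.Agent.Lib.Helper14.GrassClosed

variable (R : Type u) [CommRing R]

/-- the affine `R`-scheme `Spec A` as an object over `Spec R` -/
noncomputable abbrev pt (A : CommAlgCat.{u} R) : Over (Spec (CommRingCat.of R)) :=
  Over.mk (Spec.map (CommRingCat.ofHom (algebraMap R A)))

variable {R}

/-- a ring map between `R`-algebras compatible with the structure maps is an algebra map -/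
theorem exists_algHom {A C : CommAlgCat.{u} R} (α : CommRingCat.of A ⟶ CommRingCat.of C)
    (h : CommRingCat.ofHom (algebraMap R A) ≫ α = CommRingCat.ofHom (algebraMap R C)) :
    ∃ φ : A ⟶ C, CommRingCat.ofHom φ.hom.toRingHom = α := by
  refine ⟨CommAlgCat.ofHom { α.hom with commutes' := fun r => ?_ }, ?_⟩
  · exact congrArg (fun m : CommRingCat.of R ⟶ CommRingCat.of C => m.hom r) h
  · ext x
    rfl

/-- points of affine schemes over `Spec R` come from algebra maps -/
theorem exists_algHom_of_over {X : Over (Spec (CommRingCat.of R))} {A C : CommAlgCat.{u} R}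
    (g : pt R A ⟶ X) (g' : pt R C ⟶ X) (a : (pt R C).left ⟶ (pt R A).left)
    (h : a ≫ g.left = g'.left) :
    ∃ φ : A ⟶ C, Spec.map (CommRingCat.ofHom φ.hom.toRingHom) = a := by
  obtain ⟨α, rfl⟩ := Spec.map_surjective a
  have h1 : Spec.map α ≫ Spec.map (CommRingCat.ofHom (algebraMap R A)) =
      Spec.map (CommRingCat.ofHom (algebraMap R C)) := by
    have e1 : g.left ≫ X.hom = Spec.map (CommRingCat.ofHom (algebraMap R A)) := Over.w g
    have e2 : g'.left ≫ X.hom = Spec.map (CommRingCat.ofHom (algebraMap R C)) := Over.w g'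
    rw [← e1, ← e2, ← h, Category.assoc]
  rw [← Spec.map_comp] at h1
  obtain ⟨φ, hφ⟩ := exists_algHom (A := A) (C := C) α (Spec.map_injective h1)
  exact ⟨φ, by rw [hφ]⟩

variable (F : CommAlgCat.{u} R ⥤ Type u) (X : Over (Spec (CommRingCat.of R)))

/-- the structure map of the coordinate ring of an affine open of `X` -/
noncomputable def chartφ (V : X.left.affineOpens) : CommRingCat.of R ⟶ Γ(X.left, V) :=
  Spec.preimage (V.2.fromSpec ≫ X.hom)

theorem chartφ_spec (V : X.left.affineOpens) :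
    Spec.map (chartφ X V) = V.2.fromSpec ≫ X.hom := Spec.map_preimage _

/-- the coordinate ring of an affine open of `X` as an `R`-algebra -/
noncomputable def chartAlg (V : X.left.affineOpens) : CommAlgCat.{u} R :=
  @CommAlgCat.of R _ Γ(X.left, V) _ (chartφ X V).hom.toAlgebra

theorem chartAlg_algebraMap (V : X.left.affineOpens) :
    CommRingCat.ofHom (algebraMap R (chartAlg X V)) = chartφ X V := rfl

/-- the chart as a point -/
noncomputable def chartPt (V : X.left.affineOpens) : pt R (chartAlg X V) ⟶ X :=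
  Over.homMk V.2.fromSpec (chartφ_spec X V).symm

theorem chartPt_left (V : X.left.affineOpens) : (chartPt X V).left = V.2.fromSpec := rfl

theorem exists_closed_of_cut
    (eX : ∀ A : CommAlgCat.{u} R, (pt R A ⟶ X) ≃ F.obj A)
    (heX : ∀ (A C : CommAlgCat.{u} R) (φ : A ⟶ C) (g : pt R A ⟶ X) (g' : pt R C ⟶ X),
      g'.left = Spec.map (CommRingCat.ofHom φ.hom.toRingHom) ≫ g.left → eX C g' = F.map φ (eX A g))
    (𝒮 : ∀ A : CommAlgCat.{u} R, F.obj A → Prop)
    (hcut : ∀ (A : CommAlgCat.{u} R) (N : F.obj A), ∃ I : Ideal A,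
      ∀ (A' : CommAlgCat.{u} R) (φ : A ⟶ A'), 𝒮 A' (F.map φ N) ↔ I ≤ RingHom.ker φ.hom.toRingHom) :
    ∃ (Z : Scheme.{u}) (ι : Z ⟶ X.left), IsClosedImmersion ι ∧
      ∀ (A : CommAlgCat.{u} R) (g : pt R A ⟶ X),
        (∃ h : (pt R A).left ⟶ Z, h ≫ ι = g.left) ↔ 𝒮 A (eX A g) := by
  -- base change stability
  have hbc : ∀ (A A' : CommAlgCat.{u} R) (φ : A ⟶ A') (N : F.obj A), 𝒮 A N → 𝒮 A' (F.map φ N) := by
    intro A A' φ N hN
    obtain ⟨I, hI⟩ := hcut A N
    have h1 : I ≤ RingHom.ker (𝟙 A : A ⟶ A).hom.toRingHom := by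
      rw [← hI A (𝟙 A), FunctorToTypes.map_id_apply]
      exact hN
    rw [hI A' φ]
    intro r hr
    have : r = 0 := h1 hr
    rw [this]
    exact Ideal.zero_mem _
  let P : ∀ ⦃T : Scheme.{u}⦄, (T ⟶ X.left) → Prop := fun T x =>
    ∀ (A : CommAlgCat.{u} R) (g : pt R A ⟶ X) (a : (pt R A).left ⟶ T), a ≫ x = g.left → 𝒮 A (eX A g)
  have hP : AbsClosed.IsLocalPred P := by
    refine ⟨fun T T' t x hx A g a ha => hx A g (a ≫ t) (by rw [Category.assoc, ha]), ?_⟩
    intro T x 𝒰 H A g a ha
    obtain ⟨I, hI⟩ := hcut A (eX A g)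
    suffices hI0 : I = ⊥ by
      have := (hI A (𝟙 A)).mpr (by rw [hI0]; exact bot_le)
      rwa [FunctorToTypes.map_id_apply] at this
    let 𝒱 : Scheme.OpenCover.{u} (Spec (CommRingCat.of A)) := 𝒰.pullback₁ a
    refine ideal_eq_bot_of_span A I _ (span_refinement_eq_top A 𝒱) ?_
    rintro f ⟨i₀, l₀, hl₀⟩
    obtain ⟨i, l, hl'⟩ : ∃ (i : 𝒰.I₀) (l : Spec (CommRingCat.of (Localization.Away f)) ⟶
        pullback a (𝒰.f i)), l ≫ pullback.fst a (𝒰.f i) =
          Spec.map (CommRingCat.ofHom (algebraMap A (Localization.Away f))) := ⟨i₀, l₀, hl₀⟩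
    let Af : CommAlgCat.{u} R := CommAlgCat.of R (Localization.Away f)
    let φf : A ⟶ Af := CommAlgCat.ofHom (IsScalarTower.toAlgHom R A (Localization.Away f))
    have hφf : CommRingCat.ofHom φf.hom.toRingHom =
        CommRingCat.ofHom (algebraMap A (Localization.Away f)) := rfl
    let gf : pt R Af ⟶ X := Over.homMk (Spec.map (CommRingCat.ofHom φf.hom.toRingHom) ≫ g.left) (by
      have e1 : g.left ≫ X.hom = Spec.map (CommRingCat.ofHom (algebraMap R A)) := Over.w g
      rw [Category.assoc, e1, ← Spec.map_comp]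
      rfl)
    have key := H i Af gf (l ≫ pullback.snd a (𝒰.f i)) (by
      rw [Category.assoc, ← pullback.condition_assoc, ha, reassoc_of% hl']
      rfl)
    rw [heX A Af φf g gf rfl, hI Af φf] at key
    exact key
  -- the ideals
  have hIV : ∀ V : X.left.affineOpens, ∃ I : Ideal (chartAlg X V),
      ∀ (A' : CommAlgCat.{u} R) (φ : chartAlg X V ⟶ A'),
        𝒮 A' (F.map φ (eX (chartAlg X V) (chartPt X V))) ↔ I ≤ RingHom.ker φ.hom.toRingHom :=
    fun V => hcut (chartAlg X V) (eX (chartAlg X V) (chartPt X V))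
  choose I hI using hIV
  obtain ⟨Z, ι, hι, hPι, huniv⟩ := AbsClosed.exists_closed_of_criterion hP
    (fun V => (I V : Ideal Γ(X.left, V))) (by
    intro V R' ρ
    -- `R'` as an `R`-algebra
    letI algR' : Algebra R R' := ((chartφ X V) ≫ ρ).hom.toAlgebra
    let A' : CommAlgCat.{u} R := CommAlgCat.of R R'
    obtain ⟨ψ, hψ⟩ := exists_algHom (A := chartAlg X V) (C := A') ρ rfl
    let g' : pt R A' ⟶ X := Over.homMk (Spec.map ρ ≫ V.2.fromSpec) (by
      rw [Category.assoc, ← chartφ_spec X V, ← Spec.map_comp]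
      rfl)
    have hg' : eX A' g' = F.map ψ (eX (chartAlg X V) (chartPt X V)) :=
      heX (chartAlg X V) A' ψ (chartPt X V) g' (by rw [hψ]; rfl)
    have hker : RingHom.ker ψ.hom.toRingHom = RingHom.ker ρ.hom := by
      rw [← hψ]; rfl
    constructor
    · intro hPρ
      have := hPρ A' g' (𝟙 _) (Category.id_comp _)
      rw [hg', hI V A' ψ, hker] at this
      exact this
    · intro hle A g a ha
      obtain ⟨φ, hφ⟩ := exists_algHom_of_over g' g a (by rw [← ha]; rfl)
      have hg : eX A g = F.map φ (eX A' g') := heX A' A φ g' g (by rw [hφ, ← ha]; rfl)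
      rw [hg]
      apply hbc
      rw [hg', hI V A' ψ, hker]
      exact hle)
  refine ⟨Z, ι, hι, fun A g => ⟨?_, ?_⟩⟩
  · rintro ⟨h, hh⟩
    exact hP.comp h ι hPι A g (𝟙 _) (by rw [Category.id_comp, hh])
  · intro hS
    refine huniv _ g.left ?_
    intro A' g' a ha
    obtain ⟨φ, hφ⟩ := exists_algHom_of_over g g' a ha
    have hg : eX A' g' = F.map φ (eX A g) := heX A A' φ g g' (by rw [hφ, ha])
    rw [hg]
    exact hbc A A' φ _ hS

end Groth.Agent.Lib.Helper14.GrassClosed
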