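import Mathlib
import Groth.Agent.Lib.Helper14.GrassClosed2
import Groth.Agent.Lib.Helper14.FixCoeffProj

set_option autoImplicit false
universe u
open CategoryTheory TensorProduct

namespace Groth.Agent.Lib.Helper14.GrassClosed

open Module TensorProduct.AlgebraTensorModule

variable {R : Type u} [CommRing R] {M : Type u} [AddCommGroup M] [Module R M]

section

variable {A : Type u} [CommRing A] [Algebra R A] {A' : Type u} [CommRing A'] [Algebra R A']
  [Algebra A A'] [IsScalarTower R A A']

/-- naturality of `cancelBaseChange` with respect to an endomorphism of `M` -/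
theorem cancel_nat (θ : M →ₗ[R] M) (y : A' ⊗[A] (A ⊗[R] M)) :
    θ.baseChange A' (cancelBaseChange R A A' A' M y) =
      cancelBaseChange R A A' A' M ((θ.baseChange A).baseChange A' y) := by
  induction y using TensorProduct.induction_on with
  | zero => simp
  | add x y hx hy => rw [map_add, map_add, map_add, map_add, hx, hy]
  | tmul b z =>
    induction z using TensorProduct.induction_on with
    | zero => simp
    | add x y hx hy =>
      rw [TensorProduct.tmul_add, map_add, map_add, map_add, map_add, hx, hy]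
    | tmul a m =>
      simp [cancelBaseChange_tmul]

variable (A') in
/-- the key computation: stability of the base-changed submodule in terms of the vanishing of
`1 ⊗ [θ u]`. -/
theorem stable_baseChange_iff (N : Submodule A (A ⊗[R] M)) {ι : Type*} (Θ : ι → (M →ₗ[R] M)) :
    (∀ i, ∀ x ∈ LinearMap.ker (Grassmannian.baseChangeMkQ A' N), (Θ i).baseChange A' x ∈
        LinearMap.ker (Grassmannian.baseChangeMkQ A' N)) ↔
      ∀ q ∈ {q : (A ⊗[R] M) ⧸ N | ∃ i, ∃ u ∈ N, q = N.mkQ ((Θ i).baseChange A u)},
        (1 : A') ⊗ₜ[A] q = 0 := by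
  constructor
  · rintro hst q ⟨i, u, hu, rfl⟩
    let u' : A' ⊗[R] M := cancelBaseChange R A A' A' M ((1 : A') ⊗ₜ[A] u)
    have hu' : u' ∈ LinearMap.ker (Grassmannian.baseChangeMkQ A' N) := by
      rw [LinearMap.mem_ker, Grassmannian.baseChangeMkQ, LinearMap.comp_apply]
      change (N.mkQ.baseChange A') ((cancelBaseChange R A A' A' M).symm u') = 0
      rw [LinearEquiv.symm_apply_apply, LinearMap.baseChange_tmul, Submodule.mkQ_apply,
        (Submodule.Quotient.mk_eq_zero N).mpr hu, TensorProduct.tmul_zero]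
    have h1 := hst i u' hu'
    rw [LinearMap.mem_ker, Grassmannian.baseChangeMkQ, LinearMap.comp_apply] at h1
    change (N.mkQ.baseChange A') ((cancelBaseChange R A A' A' M).symm _) = 0 at h1
    rw [cancel_nat, LinearEquiv.symm_apply_apply, LinearMap.baseChange_tmul,
      LinearMap.baseChange_tmul] at h1
    exact h1
  · intro hS i x hx
    rw [LinearMap.mem_ker, Grassmannian.baseChangeMkQ, LinearMap.comp_apply] at hx ⊢
    change (N.mkQ.baseChange A') ((cancelBaseChange R A A' A' M).symm x) = 0 at hx
    change (N.mkQ.baseChange A') ((cancelBaseChange R A A' A' M).symm _) = 0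
    obtain ⟨y, rfl⟩ : ∃ y, x = cancelBaseChange R A A' A' M y :=
      ⟨(cancelBaseChange R A A' A' M).symm x, by rw [LinearEquiv.apply_symm_apply]⟩
    rw [LinearEquiv.symm_apply_apply] at hx
    rw [cancel_nat, LinearEquiv.symm_apply_apply]
    -- the induced endomorphism of the quotient
    let lam : (A ⊗[R] M) →ₗ[A] A' ⊗[A] ((A ⊗[R] M) ⧸ N) :=
      (TensorProduct.mk A A' ((A ⊗[R] M) ⧸ N) 1) ∘ₗ N.mkQ ∘ₗ ((Θ i).baseChange A)
    have hlam : N ≤ LinearMap.ker lam := by
      intro u hu
      rw [LinearMap.mem_ker]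
      exact hS (N.mkQ ((Θ i).baseChange A u)) ⟨i, u, hu, rfl⟩
    let lamQ : ((A ⊗[R] M) ⧸ N) →ₗ[A] A' ⊗[A] ((A ⊗[R] M) ⧸ N) := N.liftQ lam hlam
    let Lam : A' ⊗[A] ((A ⊗[R] M) ⧸ N) →ₗ[A'] A' ⊗[A] ((A ⊗[R] M) ⧸ N) :=
      LinearMap.liftBaseChange A' lamQ
    have hcomm : ∀ y : A' ⊗[A] (A ⊗[R] M),
        (N.mkQ.baseChange A') ((((Θ i).baseChange A).baseChange A') y) =
          Lam ((N.mkQ.baseChange A') y) := by
      intro y
      induction y using TensorProduct.induction_on with
      | zero => simp
      | add a b ha hb => rw [map_add, map_add, map_add, map_add, ha, hb]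
      | tmul b z =>
        rw [LinearMap.baseChange_tmul, LinearMap.baseChange_tmul, LinearMap.baseChange_tmul]
        change _ = LinearMap.liftBaseChange A' lamQ (b ⊗ₜ[A] N.mkQ z)
        rw [LinearMap.liftBaseChange_tmul]
        change _ = b • ((1 : A') ⊗ₜ[A] N.mkQ ((Θ i).baseChange A z))
        rw [TensorProduct.smul_tmul', smul_eq_mul, mul_one]
    rw [hcomm, hx, map_zero]

end

end Groth.Agent.Lib.Helper14.GrassClosed
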