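import Mathlib
import Groth.Agent.Lib.Helper14.GrassClosed3

set_option autoImplicit false
universe u
open CategoryTheory TensorProduct AlgebraicGeometry

namespace Groth.Agent.Lib.Helper14.GrassClosed

open Module

variable {R : Type u} [CommRing R] {M : Type u} [AddCommGroup M] [Module R M]

/-- stability of a point of the Grassmannian under a family of endomorphisms of `M` -/
def Stable (e : ℕ) {ι : Type*} (Θ : ι → (M →ₗ[R] M)) (A : CommAlgCat.{u} R)
    (N : (Module.Grassmannian.functor (R := R) (M := M) e).obj A) : Prop :=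
  ∀ i, ∀ x ∈ N.toSubmodule, (Θ i).baseChange A x ∈ N.toSubmodule

theorem grass_cut (e : ℕ) {ι : Type*} (Θ : ι → (M →ₗ[R] M)) (A : CommAlgCat.{u} R)
    (N : (Module.Grassmannian.functor (R := R) (M := M) e).obj A) :
    ∃ I : Ideal A, ∀ (A' : CommAlgCat.{u} R) (φ : A ⟶ A'),
      Stable e Θ A' ((Module.Grassmannian.functor (R := R) (M := M) e).map φ N) ↔
        I ≤ RingHom.ker φ.hom.toRingHom := by
  let N' : Module.Grassmannian A (A ⊗[R] M) e := N
  haveI : Module.Projective A ((A ⊗[R] M) ⧸ N'.toSubmodule) := N'.projective_quotient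
  refine ⟨FixCoeffProj.coeffIdeal A ((A ⊗[R] M) ⧸ N'.toSubmodule)
    {q | ∃ i, ∃ u ∈ N'.toSubmodule, q = N'.toSubmodule.mkQ ((Θ i).baseChange A u)}, ?_⟩
  intro A' φ
  letI : Algebra A A' := φ.hom.toAlgebra
  haveI : IsScalarTower R A A' := IsScalarTower.of_algebraMap_eq' (φ.hom.comp_algebraMap).symm
  have h1 := stable_baseChange_iff A' N'.toSubmodule Θ
  have h2 := FixCoeffProj.tmul_eq_zero_iff (R := A) (M := (A ⊗[R] M) ⧸ N'.toSubmodule) A'
    {q | ∃ i, ∃ u ∈ N'.toSubmodule, q = N'.toSubmodule.mkQ ((Θ i).baseChange A u)}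
  exact Iff.trans (Iff.trans Iff.rfl h1) h2

end Groth.Agent.Lib.Helper14.GrassClosed

namespace Groth.Agent.Lib.Helper14.GrassClosed

open Module

variable {R : Type u} [CommRing R] {M : Type u} [AddCommGroup M] [Module R M]

/-- **Closed subfunctor of stable submodules of the Grassmannian.** -/
theorem exists_closed_stable (e : ℕ) {ι : Type*} (Θ : ι → (M →ₗ[R] M))
    (X : Over (Spec (CommRingCat.of R)))
    (eX : ∀ A : CommAlgCat.{u} R,
      (pt R A ⟶ X) ≃ (Module.Grassmannian.functor (R := R) (M := M) e).obj A)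
    (heX : ∀ (A C : CommAlgCat.{u} R) (φ : A ⟶ C) (g : pt R A ⟶ X) (g' : pt R C ⟶ X),
      g'.left = Spec.map (CommRingCat.ofHom φ.hom.toRingHom) ≫ g.left →
        eX C g' = (Module.Grassmannian.functor (R := R) (M := M) e).map φ (eX A g)) :
    ∃ (Z : Scheme.{u}) (j : Z ⟶ X.left), IsClosedImmersion j ∧
      ∀ (A : CommAlgCat.{u} R) (g : pt R A ⟶ X),
        (∃ h : (pt R A).left ⟶ Z, h ≫ j = g.left) ↔ Stable e Θ A (eX A g) :=
  exists_closed_of_cut (Module.Grassmannian.functor (R := R) (M := M) e) X eX heX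
    (Stable e Θ) (grass_cut e Θ)

/-- left multiplication by `1 ⊗ a` is the base change of left multiplication by `a` -/
theorem one_tmul_mul {A : Type u} [CommRing A] [Algebra R A] {B : Type u} [Ring B] [Algebra R B]
    (b : B) (x : A ⊗[R] B) :
    ((1 : A) ⊗ₜ[R] b) * x = (LinearMap.mulLeft R b).baseChange A x := by
  induction x using TensorProduct.induction_on with
  | zero => simp
  | add x y hx hy => rw [mul_add, map_add, hx, hy]
  | tmul a b' =>
    rw [Algebra.TensorProduct.tmul_mul_tmul, one_mul, LinearMap.baseChange_tmul]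
    rfl

end Groth.Agent.Lib.Helper14.GrassClosed
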