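import Mathlib

/-!
# helper14: embedding finitely generated field extensions into an algebraically closed field of
infinite transcendence degree

* `exists_algHom_of_algebraicIndependent`: `L/K` an essentially finite type field extension, `Ω/K`
  algebraically closed containing an infinite algebraically independent sequence; then there is a
  `K`-embedding `L → Ω`.
-/

set_option autoImplicit false
set_option linter.style.haveILetI false
universe u

namespace Groth.Agent.Lib.Helper14.OmegaPts

open MvPolynomial

theorem isAlgebraic_adjoin_finset (K L : Type u) [Field K] [Field L] [Algebra K L]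
    [Algebra.EssFiniteType K L] :
    Algebra.IsAlgebraic (Algebra.adjoin K ((Algebra.EssFiniteType.finset K L : Finset L) : Set L))
      L := by
  haveI := Algebra.EssFiniteType.isLocalization K L
  exact IsLocalization.isAlgebraic (R := Algebra.EssFiniteType.subalgebra K L) L
    (Algebra.EssFiniteType.submonoid K L)

theorem exists_algHom_of_algebraicIndependent (K L Ω : Type u) [Field K] [Field L] [Field Ω]
    [Algebra K L] [Algebra K Ω] [IsAlgClosed Ω] [Algebra.EssFiniteType K L] (t : ℕ → Ω)
    (ht : AlgebraicIndependent K t) : Nonempty (L →ₐ[K] Ω) := by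
  classical
  haveI := isAlgebraic_adjoin_finset K L
  obtain ⟨u, huσ, hu⟩ := exists_isTranscendenceBasis_subset (R := K)
    ((Algebra.EssFiniteType.finset K L : Finset L) : Set L)
  have hfin : u.Finite := (Finset.finite_toSet _).subset huσ
  haveI : Finite u := hfin
  haveI : Countable u := Finite.to_countable
  obtain ⟨e, he⟩ := exists_injective_nat u
  have ht' : AlgebraicIndependent K (t ∘ e) := ht.comp e he
  have hinj : Function.Injective (aeval (R := K) (t ∘ e)) :=
    algebraicIndependent_iff_injective_aeval.1 ht'
  let M := IntermediateField.adjoin K (Set.range ((↑) : u → L))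
  let φ₀ : FractionRing (MvPolynomial u K) →ₐ[K] Ω := IsFractionRing.liftAlgHom hinj
  let φ : M →ₐ[K] Ω := φ₀.comp hu.1.aevalEquivField.symm.toAlgHom
  letI : Algebra M Ω := φ.toRingHom.toAlgebra
  haveI : IsScalarTower K M Ω := IsScalarTower.of_algebraMap_eq fun c => (φ.commutes c).symm
  haveI : Algebra.IsAlgebraic M L := hu.isAlgebraic_field
  let ψ : L →ₐ[M] Ω := IsAlgClosed.lift
  exact ⟨ψ.restrictScalars K⟩

end Groth.Agent.Lib.Helper14.OmegaPts
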