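import Mathlib
import Groth.Agent.Lib.Helper14.OmegaPts1
import Groth.Agent.Lib.Helper14.KPtsDense2

/-!
# helper14: points with values in an algebraically closed field of infinite transcendence degree

* `resHom pY y` : the structure map `K → κ(y)` of a point of a `K`-scheme, with
  `SpecMap_resHom : Spec.map (resHom pY y) = Y.fromSpecResidueField y ≫ pY` and
  `essFiniteType_resHom`.
* `exists_omega_point` : every point of a scheme locally of finite type over `K` is the image of an
  `Ω`-point over `K`.
* `surjective_iff_omega_points` (= S4365).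
-/

set_option autoImplicit false
set_option linter.style.haveILetI false
universe u
open CategoryTheory AlgebraicGeometry

namespace Groth.Agent.Lib.Helper14.OmegaPts

variable {K : Type u} [Field K] {Y : Scheme.{u}} (pY : Y ⟶ Spec (CommRingCat.of K)) (y : Y)

/-- the structure map `K → κ(y)` -/
noncomputable def resHom : CommRingCat.of K ⟶ Y.residueField y :=
  StructureSheaf.toStalk (CommRingCat.of K) (pY y) ≫ pY.stalkMap y ≫ Y.residue y

theorem SpecMap_resHom : Spec.map (resHom pY y) = Y.fromSpecResidueField y ≫ pY := by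
  have h1 : Spec.map (StructureSheaf.toStalk (CommRingCat.of K) (pY y)) =
      (Spec (CommRingCat.of K)).fromSpecStalk (pY y) := (Spec.fromSpecStalk_eq' _ _).symm
  have h2 : Spec.map (pY.stalkMap y) ≫ (Spec (CommRingCat.of K)).fromSpecStalk (pY y) =
      Y.fromSpecStalk y ≫ pY := Scheme.SpecMap_stalkMap_fromSpecStalk pY (x := y)
  have h0 : Spec.map (resHom pY y) = Spec.map (Y.residue y) ≫ (Spec.map (pY.stalkMap y) ≫
      Spec.map (StructureSheaf.toStalk (CommRingCat.of K) (pY y))) := by
    unfold resHom
    rw [Spec.map_comp, Spec.map_comp, Category.assoc]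
    rfl
  refine h0.trans ?_
  refine (congrArg (fun t => Spec.map (Y.residue y) ≫ (Spec.map (pY.stalkMap y) ≫ t)) h1).trans ?_
  refine (congrArg (fun t => Spec.map (Y.residue y) ≫ t) h2).trans ?_
  rw [← Category.assoc]
  rfl

theorem essFiniteType_resHom [LocallyOfFiniteType pY] : (resHom pY y).hom.EssFiniteType := by
  have h1 : (StructureSheaf.toStalk (CommRingCat.of K) (pY y)).hom.EssFiniteType := by
    have hloc : IsLocalization.AtPrime ((Spec.structureSheaf K).presheaf.stalk (pY y))
        (pY y).asIdeal := StructureSheaf.IsLocalization.to_stalk K (pY y)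
    have : Algebra.EssFiniteType K ((Spec.structureSheaf K).presheaf.stalk (pY y)) :=
      Algebra.EssFiniteType.of_isLocalization _ (pY y).asIdeal.primeCompl
    exact this
  have h2 : (pY.stalkMap y).hom.EssFiniteType := LocallyOfFiniteType.stalkMap pY y
  have h3 : (Y.residue y).hom.EssFiniteType :=
    (RingHom.FiniteType.of_surjective _ (Y.residue_surjective y)).essFiniteType
  exact (h1.comp h2).comp h3

theorem exists_omega_point [LocallyOfFiniteType pY] (Ω : Type u) [Field Ω] [IsAlgClosed Ω]
    [Algebra K Ω] (t : ℕ → Ω) (ht : AlgebraicIndependent K t) :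
    ∃ q : Spec (CommRingCat.of Ω) ⟶ Y,
      q ≫ pY = Spec.map (CommRingCat.ofHom (algebraMap K Ω)) ∧
        q (IsLocalRing.closedPoint Ω) = y := by
  letI : Algebra K (Y.residueField y) := (resHom pY y).hom.toAlgebra
  haveI : Algebra.EssFiniteType K (Y.residueField y) := essFiniteType_resHom pY y
  obtain ⟨ψ⟩ := exists_algHom_of_algebraicIndependent K (Y.residueField y) Ω t ht
  refine ⟨Spec.map (CommRingCat.ofHom ψ.toRingHom) ≫ Y.fromSpecResidueField y, ?_, ?_⟩
  · rw [Category.assoc, ← SpecMap_resHom, ← Spec.map_comp]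
    congr 1
    ext c
    exact ψ.commutes c
  · rw [Scheme.Hom.comp_apply]
    exact Scheme.fromSpecResidueField_apply _ _

theorem surjective_iff_omega_points (K Ω : Type u) [Field K] [Field Ω] [IsAlgClosed Ω] [Algebra K Ω]
    (t : ℕ → Ω) (ht : AlgebraicIndependent K t)
    {X Y : Scheme.{u}} (pX : X ⟶ Spec (CommRingCat.of K)) (pY : Y ⟶ Spec (CommRingCat.of K))
    [LocallyOfFiniteType pX] [LocallyOfFiniteType pY] (f : X ⟶ Y) (hf : f ≫ pY = pX) :
    Surjective f ↔ ∀ y : Spec (CommRingCat.of Ω) ⟶ Y,
      y ≫ pY = Spec.map (CommRingCat.ofHom (algebraMap K Ω)) →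
        ∃ x : Spec (CommRingCat.of Ω) ⟶ X, x ≫ f = y := by
  haveI : LocallyOfFiniteType f := by
    haveI : LocallyOfFiniteType (f ≫ pY) := hf ▸ inferInstance
    exact locallyOfFiniteType_of_comp f pY
  constructor
  · intro hs y hy
    let f' : Over.mk pX ⟶ Over.mk pY := Over.homMk f hf
    haveI : LocallyOfFiniteType f'.left := inferInstanceAs (LocallyOfFiniteType f)
    haveI : Surjective f'.left := hs
    obtain ⟨g, hg⟩ := Groth.Agent.Lib.Helper14.KPtsDense.exists_kpt_lift_of_surjective (K := Ω) f'
      (Over.homMk y hy)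
    exact ⟨g.left, congrArg (fun t => t.left) hg⟩
  · intro h
    refine ⟨fun y₀ => ?_⟩
    obtain ⟨q, hq, hq0⟩ := exists_omega_point pY y₀ Ω t ht
    obtain ⟨x, hx⟩ := h q hq
    refine ⟨x (IsLocalRing.closedPoint Ω), ?_⟩
    rw [← hq0, ← hx, Scheme.Hom.comp_apply]

end Groth.Agent.Lib.Helper14.OmegaPts
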