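import Mathlib
import Groth.Prelude.Def_CurvBase
import Groth.Agent.Lib.Helper14.OmegaPts2

/-!
# helper14: schemes of finite type over an algebraically closed field all of whose closed points have
a field as local ring are finite discrete with local rings `k`
-/

set_option autoImplicit false
set_option linter.style.haveILetI false
universe u
open CategoryTheory MonoidalCategory CartesianMonoidalCategory MonObj GrpObj AlgebraicGeometry

namespace Groth.Agent.Lib.Helper14.GrpDiscrete

open Groth.Agent.Lib.Helper14.OmegaPts

section A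
variable {k : Type u} [Field k] {X : Scheme.{u}} (f : X ⟶ Spec (CommRingCat.of k))

/-- the structure map `k → O_{X,x}` -/
noncomputable def stalkHom (x : X) : CommRingCat.of k ⟶ X.presheaf.stalk x :=
  StructureSheaf.toStalk (CommRingCat.of k) (f x) ≫ f.stalkMap x

theorem stalkHom_residue (x : X) : stalkHom f x ≫ X.residue x = resHom f x := by
  rw [stalkHom, resHom, Category.assoc]

theorem stalkHom_apply (x : X) (c : k) :
    (stalkHom f x).hom c = (X.presheaf.germ ⊤ x trivial).hom
      ((f.appTop).hom ((Scheme.ΓSpecIso (CommRingCat.of k)).inv.hom c)) := by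
  have h := Scheme.Hom.germ_stalkMap_apply f ⊤ x trivial
    ((Scheme.ΓSpecIso (CommRingCat.of k)).inv.hom c)
  exact h

theorem resHom_bijective [IsAlgClosed k] [LocallyOfFiniteType f] (x : X)
    (hx : IsClosed ({x} : Set X)) : Function.Bijective (resHom f x).hom := by
  have h : resHom f x = (residueFieldIsoBase f x hx).inv := by
    apply Spec.map_injective
    rw [SpecMap_resHom, SpecMap_residueFieldIsoBase_inv]
  rw [h]
  exact ConcreteCategory.bijective_of_isIso (residueFieldIsoBase f x hx).inv

theorem stalkHom_bijective [IsAlgClosed k] [LocallyOfFiniteType f] (x : X)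
    (hx : IsClosed ({x} : Set X)) (hF : IsField (X.presheaf.stalk x)) :
    Function.Bijective (stalkHom f x).hom := by
  have h1 := resHom_bijective f x hx
  rw [← stalkHom_residue] at h1
  have hres : Function.Bijective (X.residue x).hom := by
    letI := hF.toField
    exact ⟨(X.residue x).hom.injective, X.residue_surjective x⟩
  exact (Function.Bijective.of_comp_iff' hres _).mp h1

end A

section B
variable {X : Scheme.{u}}

theorem eq_of_specializes_of_isField (x y : X) (hF : IsField (X.presheaf.stalk x)) (h : y ⤳ x) :
    y = x := by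
  have hrange : y ∈ Set.range (X.fromSpecStalk x) := by
    rw [Scheme.range_fromSpecStalk]; exact h
  obtain ⟨a, ha⟩ := hrange
  have hsub : Subsingleton (Spec (X.presheaf.stalk x)) := by
    letI := hF.toField
    exact inferInstanceAs (Subsingleton (PrimeSpectrum (X.presheaf.stalk x)))
  have hx' : X.fromSpecStalk x (IsLocalRing.closedPoint (X.presheaf.stalk x)) = x :=
    Scheme.fromSpecStalk_closedPoint
  exact ha.symm.trans ((congrArg (X.fromSpecStalk x) (Subsingleton.elim a _)).trans hx')

theorem isClosed_singleton_of_forall_isField [JacobsonSpace X]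
    (H : ∀ x : X, IsClosed ({x} : Set X) → IsField (X.presheaf.stalk x)) (y : X) :
    IsClosed ({y} : Set X) := by
  obtain ⟨x, hx1, hx2⟩ := nonempty_inter_closedPoints (X := X) (Z := closure {y})
    ⟨y, subset_closure rfl⟩ isClosed_closure.isLocallyClosed
  have hyx : y ⤳ x := specializes_iff_mem_closure.mpr hx1
  have := eq_of_specializes_of_isField x y (H x hx2) hyx
  rw [this]
  exact hx2

theorem finite_of_forall_isField [JacobsonSpace X] [CompactSpace X] [IsLocallyNoetherian X]
    (H : ∀ x : X, IsClosed ({x} : Set X) → IsField (X.presheaf.stalk x)) : Finite X := by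
  haveI : IsNoetherian X := {}
  haveI : TopologicalSpace.NoetherianSpace X := inferInstance
  have hcl := isClosed_singleton_of_forall_isField H
  have hfin : (irreducibleComponents X).Finite :=
    TopologicalSpace.NoetherianSpace.finite_irreducibleComponents
  have hmem : ∀ x : X, ({x} : Set X) ∈ irreducibleComponents X := by
    intro x
    refine ⟨isIrreducible_singleton, fun Z hZ hxZ => ?_⟩
    have hZc : IsIrreducible (closure Z) := hZ.closure
    obtain ⟨ξ, hξ⟩ := QuasiSober.sober hZc isClosed_closure
    have hξx : ξ ⤳ x := by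
      rw [specializes_iff_mem_closure, hξ.def]
      exact subset_closure (hxZ rfl)
    have := eq_of_specializes_of_isField x ξ (H x (hcl x)) hξx
    intro z hz
    have hz' : z ∈ closure ({ξ} : Set X) := by rw [hξ.def]; exact subset_closure hz
    rw [this, (hcl x).closure_eq] at hz'
    exact hz'
  haveI : Finite (irreducibleComponents X) := hfin
  exact Finite.of_injective (fun x : X => (⟨{x}, hmem x⟩ : irreducibleComponents X))
    (fun a b hab => Set.singleton_injective (congrArg Subtype.val hab))

end B

section C
variable {S : Scheme.{u}} (G : Over S) [GrpObj G]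

/-- right translation by a rational point -/
noncomputable def rtrans (g : 𝟙_ (Over S) ⟶ G) : G ⟶ G := 𝟙 G * (toUnit G ≫ g)

theorem rtrans_comp (g h : 𝟙_ (Over S) ⟶ G) : rtrans G g ≫ rtrans G h = rtrans G (g * h) := by
  unfold rtrans
  rw [comp_mul, Category.comp_id, ← Category.assoc, toUnit_unique ((𝟙 G * (toUnit G ≫ g)) ≫ toUnit G)
    (toUnit G), _root_.mul_assoc, ← comp_mul]

theorem rtrans_one : rtrans G 1 = 𝟙 G := by
  unfold rtrans
  rw [comp_one, _root_.mul_one]

theorem unit_rtrans (g : 𝟙_ (Over S) ⟶ G) : η[G] ≫ rtrans G g = g := by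
  unfold rtrans
  rw [comp_mul, Category.comp_id, ← Category.assoc, toUnit_unique (η[G] ≫ toUnit G) (𝟙 _),
    Category.id_comp]
  have : (η[G] : 𝟙_ (Over S) ⟶ G) = 1 := by
    rw [Hom.one_def, toUnit_unique (toUnit (𝟙_ (Over S))) (𝟙 _), Category.id_comp]
  rw [this, _root_.one_mul]

/-- right translation as an isomorphism -/
noncomputable def rtransIso (g : 𝟙_ (Over S) ⟶ G) : G ≅ G where
  hom := rtrans G g
  inv := rtrans G g⁻¹
  hom_inv_id := by rw [rtrans_comp, mul_inv_cancel, rtrans_one]
  inv_hom_id := by rw [rtrans_comp, inv_mul_cancel, rtrans_one]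

instance (g : 𝟙_ (Over S) ⟶ G) : IsIso (rtrans G g).left :=
  inferInstanceAs (IsIso ((Over.forget S).mapIso (rtransIso G g)).hom)

end C

theorem main (k : Type u) [Field k] [IsAlgClosed k]
    (G : Over (Spec (CommRingCat.of k))) [GrpObj G] [LocallyOfFiniteType G.hom] [QuasiCompact G.hom]
    (e : G.left) (he : e ∈ Set.range (η[G]).left.base) :
    letI : G.left.Over (Spec (CommRingCat.of k)) := ⟨G.hom⟩
    Subsingleton (IsLocalRing.CotangentSpace (G.left.presheaf.stalk e)) ↔
      (Finite G.left ∧ DiscreteTopology G.left ∧
        ∀ g : G.left, Function.Bijective (Curv2.stalkMap k G.left g)) := by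
  letI : G.left.Over (Spec (CommRingCat.of k)) := ⟨G.hom⟩
  haveI : IsLocallyNoetherian G.left := LocallyOfFiniteType.isLocallyNoetherian G.hom
  haveI : JacobsonSpace G.left := LocallyOfFiniteType.jacobsonSpace G.hom
  haveI : CompactSpace G.left := QuasiCompact.compactSpace_of_compactSpace G.hom
  have hst : ∀ g : G.left, Curv2.stalkMap k G.left g = (stalkHom G.hom g).hom := by
    intro g
    ext c
    exact (stalkHom_apply G.hom g c).symm
  show Subsingleton (IsLocalRing.CotangentSpace (G.left.presheaf.stalk e)) ↔ _
  rw [IsLocalRing.subsingleton_cotangentSpace_iff]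
  constructor
  · intro hFe
    obtain ⟨p₀, rfl⟩ := he
    have H : ∀ x : G.left, IsClosed ({x} : Set G.left) → IsField (G.left.presheaf.stalk x) := by
      intro x hx
      let g : 𝟙_ (Over (Spec (CommRingCat.of k))) ⟶ G :=
        Over.homMk (pointOfClosedPoint G.hom x hx) (by simp)
      have hgx : (rtrans G g).left ((η[G]).left.base p₀) = x := by
        have h1 : (η[G] ≫ rtrans G g).left p₀ = g.left p₀ := by rw [unit_rtrans]
        rw [Over.comp_left, Scheme.Hom.comp_apply] at h1
        refine h1.trans ?_
        exact pointOfClosedPoint_apply G.hom x hx p₀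
      have hF' : IsField (G.left.presheaf.stalk ((rtrans G g).left ((η[G]).left.base p₀))) :=
        (asIso ((rtrans G g).left.stalkMap
          ((η[G]).left.base p₀))).commRingCatIsoToRingEquiv.toMulEquiv.isField hFe
      exact hgx ▸ hF'
    have hcl := isClosed_singleton_of_forall_isField H
    haveI : Finite G.left := finite_of_forall_isField H
    haveI : T1Space G.left := ⟨hcl⟩
    refine ⟨inferInstance, inferInstance, fun g => ?_⟩
    rw [hst g]
    exact stalkHom_bijective G.hom g (hcl g) (H g (hcl g))
  · rintro ⟨-, -, h⟩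
    have hb := h e
    exact (RingEquiv.ofBijective _ hb).symm.toMulEquiv.isField (Field.toIsField k)

end Groth.Agent.Lib.Helper14.GrpDiscrete
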