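import Mathlib

/-!
# helper14: a unit-preserving morphism `f : X ⟶ G` to a group object with `f(xy) = g(x) h(y)` is a hom
-/

set_option autoImplicit false
universe v u
open CategoryTheory MonoidalCategory CartesianMonoidalCategory MonObj GrpObj

namespace Groth.Agent.Lib.Helper14.GrpFactor

variable {C : Type u} [Category.{v} C] [CartesianMonoidalCategory C]

theorem isMonHom_of_factor {X G : C} [MonObj X] [GrpObj G] (f : X ⟶ G) (hf : η[X] ≫ f = η[G])
    (g h : X ⟶ G) (hgh : μ[X] ≫ f = (fst X X ≫ g) * (snd X X ≫ h)) : IsMonHom f := by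
  set a : 𝟙_ C ⟶ G := η[X] ≫ g with ha
  set b : 𝟙_ C ⟶ G := η[X] ≫ h with hb
  have e1 : f = g * (toUnit X ≫ b) := by
    have h1 := congrArg (fun φ => lift (𝟙 X) (toUnit X ≫ η[X]) ≫ φ) hgh
    simp only [comp_mul] at h1
    rw [← Category.assoc, lift_comp_one_right, Category.id_comp] at h1
    rw [h1]
    simp [hb]
  have e2 : f = (toUnit X ≫ a) * h := by
    have h1 := congrArg (fun φ => lift (toUnit X ≫ η[X]) (𝟙 X) ≫ φ) hgh
    simp only [comp_mul] at h1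
    rw [← Category.assoc, lift_comp_one_left, Category.id_comp] at h1
    rw [h1]
    simp [ha]
  have e3 : a * b = 1 := by
    have h1 : η[X] ≫ f = (η[X] ≫ g) * (η[X] ≫ toUnit X ≫ b) := by
      conv_lhs => rw [e1]
      rw [comp_mul]
    rw [hf] at h1
    have h2 : η[X] ≫ toUnit X = 𝟙 (𝟙_ C) := toUnit_unique _ _
    rw [← Category.assoc, h2, Category.id_comp] at h1
    rw [← h1]
    simp [Hom.one_def]
  have hg : g = f * (toUnit X ≫ b)⁻¹ := by rw [e1]; group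
  have hh : h = (toUnit X ≫ a)⁻¹ * f := by rw [e2]; group
  have hT : ∀ c : 𝟙_ C ⟶ G, fst X X ≫ toUnit X ≫ c = toUnit (X ⊗ X) ≫ c ∧
      snd X X ≫ toUnit X ≫ c = toUnit (X ⊗ X) ≫ c := by
    intro c
    constructor <;> rw [← Category.assoc] <;> congr 1 <;> exact toUnit_unique _ _
  have hmul : μ[X] ≫ f = (fst X X ≫ f) * (snd X X ≫ f) := by
    rw [hgh]
    conv_lhs => rw [hg, hh]
    rw [comp_mul, comp_mul, comp_inv, comp_inv, (hT b).1, (hT a).2]
    have h3 : (toUnit (X ⊗ X) ≫ a) * (toUnit (X ⊗ X) ≫ b) = 1 := by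
      rw [← comp_mul, e3]
      simp [Hom.one_def]
    have h4 : (toUnit (X ⊗ X) ≫ b)⁻¹ * (toUnit (X ⊗ X) ≫ a)⁻¹ = 1 := by
      rw [← _root_.mul_inv_rev, h3, inv_one]
    calc fst X X ≫ f * (toUnit (X ⊗ X) ≫ b)⁻¹ * ((toUnit (X ⊗ X) ≫ a)⁻¹ * snd X X ≫ f)
        = fst X X ≫ f * ((toUnit (X ⊗ X) ≫ b)⁻¹ * (toUnit (X ⊗ X) ≫ a)⁻¹) * snd X X ≫ f := by
          group
      _ = fst X X ≫ f * snd X X ≫ f := by rw [h4, _root_.mul_one]
  refine ⟨hf, ?_⟩
  rw [hmul, Hom.mul_def]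
  congr 1
  apply CartesianMonoidalCategory.hom_ext <;> simp

end Groth.Agent.Lib.Helper14.GrpFactor
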