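import Groth.Agent.Lib.Helper5.GrpHomLocus1
import Groth.Agent.Lib.Helper3.FibreDimBC
import Groth.Agent.Lib.Helper3.FibreDimBC2
import Groth.Agent.Lib.Helper3.NowhereDenseGen
import Groth.Agent.Lib.Helper5.FibreDimLocal
import Groth.Agent.S0402

/-!
# helper14: the fibre dimension of a group scheme locally of finite type is constant along each
fibre, and the dimension of the fibre is the local dimension at the unit point
-/

set_option autoImplicit false
universe u
open CategoryTheory CategoryTheory.Limits MonoidalCategory CartesianMonoidalCategory MonObj GrpObj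
  AlgebraicGeometry

namespace Groth.Agent.Lib.Helper14.GrpFibDim

variable {S : Scheme.{u}} (G : Over S) [GrpObj G]

theorem toUnit_left : (toUnit G).left = G.hom := by
  have h := Over.w (toUnit G)
  exact (Category.comp_id _).symm.trans h

theorem fibreDimAt_eq_unit [LocallyOfFiniteType G.hom] (x : G.left) :
    FlatMor.fibreDimAt G.hom x = FlatMor.fibreDimAt G.hom (η[G].left (G.hom x)) := by
  haveI : LocallyOfFiniteType (toUnit G).left := by rw [toUnit_left]; infer_instance
  have key : ∀ c : WithBot ℕ∞, FlatMor.fibreDimAt (toUnit G).left x ≤ c ↔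
      FlatMor.fibreDimAt (toUnit G).left (η[G].left (G.hom x)) ≤ c := by
    intro c
    have hL : Groth.Agent.Lib.helper5.GrpHomLocus.TranslationInvariant (toUnit G)
        {y : G.left | FlatMor.fibreDimAt (toUnit G).left y ≤ c} := by
      refine Groth.Agent.Lib.helper5.GrpHomLocus.translationInvariant_of_pointwise (toUnit G) _
        (fun {U V} (f : U ⟶ V) (y : U) => FlatMor.fibreDimAt f y ≤ c) (fun y => Iff.rfl) ?_
      intro U' V' p h' k hsq u'
      rw [Groth.Agent.Lib.helper3.FibreDimBC.fibreDimAt_eq_of_isPullback (toUnit G).left k p h'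
        hsq u']
    exact Groth.Agent.Lib.helper5.GrpHomLocus.mem_iff_unit_mem hL x
  have key' : FlatMor.fibreDimAt (toUnit G).left x =
      FlatMor.fibreDimAt (toUnit G).left (η[G].left (G.hom x)) :=
    le_antisymm ((key _).mpr le_rfl) ((key _).mp le_rfl)
  rw [toUnit_left] at key'
  exact key'

theorem dim_fibre_eq [LocallyOfFiniteType G.hom] (s : S) :
    topologicalKrullDim ↥(G.hom.base ⁻¹' {s}) = FlatMor.fibreDimAt G.hom (η[G].left s) := by
  have hs : G.hom (η[G].left s) = s := Groth.Agent.Lib.helper5.GrpHomLocus.hom_unit_apply s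
  rw [Groth.Agent.Lib.helper3.FibreDimBC.dim_eq_iSup_localDim]
  haveI : Nonempty ↥(G.hom.base ⁻¹' {s}) := ⟨⟨η[G].left s, hs⟩⟩
  have hconst : ∀ z : ↥(G.hom.base ⁻¹' {s}),
      FlatMor.localDim ↥(G.hom.base ⁻¹' {s}) z = FlatMor.fibreDimAt G.hom (η[G].left s) := by
    rintro ⟨z, hz⟩
    have hz' : G.hom z = s := hz
    subst hz'
    rw [← fibreDimAt_eq_unit G z,
      Groth.Agent.Lib.helper5.FibreDimLocal.fibreDimAt_eq_localDim_preimage]
  rw [iSup_congr hconst, iSup_const]

theorem isOpen_setOf_dim_fibre_le [LocallyOfFiniteType G.hom] (n : ℕ) :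
    IsOpen {s : S | topologicalKrullDim ↥(G.hom.base ⁻¹' {s}) ≤ (n : WithBot ℕ∞)} := by
  have h1 : {s : S | topologicalKrullDim ↥(G.hom.base ⁻¹' {s}) ≤ (n : WithBot ℕ∞)} =
      η[G].left ⁻¹' {x : G.left | FlatMor.fibreDimAt G.hom x ≤ n} := by
    ext s
    simp only [Set.mem_setOf_eq, Set.mem_preimage]
    rw [dim_fibre_eq G s]
  rw [h1]
  exact (Groth.Agent.S0402.result G.hom n).preimage η[G].left.continuous

theorem exists_nat_dim_fibre [LocallyOfFiniteType G.hom] (s : S) :
    ∃ n : ℕ, topologicalKrullDim ↥(G.hom.base ⁻¹' {s}) = (n : WithBot ℕ∞) := by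
  obtain ⟨n, hn⟩ := Groth.Agent.Lib.helper3.NowhereDenseGen.exists_nat_fibreDimAt G.hom
    (η[G].left s)
  exact ⟨n, (dim_fibre_eq G s).trans hn⟩

end Groth.Agent.Lib.Helper14.GrpFibDim
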