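import Groth.Agent.Lib.Helper14.GrpFibDim1
import Groth.Agent.Lib.Helper3.FibreDimCons
import Groth.Agent.Lib.Helper5.ConsApprox1

/-!
# helper14: `s ↦ dim G_s` is upper semicontinuous and locally constructible for group schemes
(S5329)
-/

set_option autoImplicit false
universe u
open CategoryTheory CategoryTheory.Limits MonoidalCategory CartesianMonoidalCategory MonObj GrpObj
  AlgebraicGeometry Topology

namespace Groth.Agent.Lib.Helper14.GrpFibDim

open Groth.Agent.Lib.helper3.FibreDimCons

variable {S : Scheme.{u}} (G : Over S) [GrpObj G]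

theorem upperSemicontinuous_dim_fibre [LocallyOfFiniteType G.hom] :
    UpperSemicontinuous (fun s : S => topologicalKrullDim ↥(G.hom.base ⁻¹' {s})) := by
  intro s y hy
  obtain ⟨n, hn⟩ := exists_nat_dim_fibre G s
  have hopen := isOpen_setOf_dim_fibre_le G n
  have hs : s ∈ {t : S | topologicalKrullDim ↥(G.hom.base ⁻¹' {t}) ≤ (n : WithBot ℕ∞)} := hn.le
  filter_upwards [hopen.mem_nhds hs] with t ht
  have hy' : (n : WithBot ℕ∞) < y := by rw [← hn]; exact hy
  exact lt_of_le_of_lt ht hy'

theorem isLocallyConstructible_dim_fibre_le [LocallyOfFinitePresentation G.hom]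
    (c : WithBot ℕ∞) :
    IsLocallyConstructible {t : S | topologicalKrullDim ↥(G.hom.base ⁻¹' {t}) ≤ c} := by
  haveI : LocallyOfFiniteType G.hom := inferInstance
  have h1 := isLocallyConstructible_fibreDimAt_le G.hom c
  have h2 : IsLocallyConstructible
      ((η[G].left ⁻¹' {x : G.left | FlatMor.fibreDimAt G.hom x ≤ c} : Set S)) :=
    Groth.Agent.Lib.helper5.ConsApprox.isLocallyConstructible_preimage η[G].left h1
  have h3 : {t : S | topologicalKrullDim ↥(G.hom.base ⁻¹' {t}) ≤ c} =
      (η[G].left ⁻¹' {x : G.left | FlatMor.fibreDimAt G.hom x ≤ c} : Set S) := by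
    ext t
    simp only [Set.mem_setOf_eq, Set.mem_preimage]
    rw [dim_fibre_eq G t]
  rw [h3]
  exact h2

theorem isLocallyConstructible_dim_fibre_eq [LocallyOfFinitePresentation G.hom]
    (d : WithBot ℕ∞) :
    IsLocallyConstructible {t : S | topologicalKrullDim ↥(G.hom.base ⁻¹' {t}) = d} := by
  haveI : LocallyOfFiniteType G.hom := inferInstance
  induction d using WithBot.recBotCoe with
  | bot =>
    convert isLocallyConstructible_dim_fibre_le G ⊥ using 1
    ext y
    simp
  | coe n =>
    induction n using ENat.recTopCoe with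
    | top =>
      convert IsLocallyConstructible.empty
      ext y
      simp only [Set.mem_setOf_eq, Set.mem_empty_iff_false, iff_false]
      obtain ⟨m, hm⟩ := exists_nat_dim_fibre G y
      rw [hm]
      exact natCast_ne_top m
    | coe n =>
      rcases Nat.eq_zero_or_eq_succ_pred n with h0 | hs
      · subst h0
        have : {y : S | topologicalKrullDim ↥(G.hom.base ⁻¹' {y}) = ((0 : ℕ) : WithBot ℕ∞)} =
            {y : S | topologicalKrullDim ↥(G.hom.base ⁻¹' {y}) ≤ ((0 : ℕ) : WithBot ℕ∞)} ∩
              {y : S | topologicalKrullDim ↥(G.hom.base ⁻¹' {y}) ≤ ⊥}ᶜ := by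
          ext y
          simp only [Set.mem_setOf_eq, Set.mem_inter_iff, Set.mem_compl_iff]
          rw [← lt_coe_zero_iff, not_lt]
          exact ⟨fun h => ⟨h.le, h.ge⟩, fun h => le_antisymm h.1 h.2⟩
        exact this ▸ (isLocallyConstructible_dim_fibre_le G _).inter
          (isLocallyConstructible_compl (isLocallyConstructible_dim_fibre_le G _))
      · set m := n.pred with hm
        rw [hs]
        have : {y : S | topologicalKrullDim ↥(G.hom.base ⁻¹' {y}) =
              ((m.succ : ℕ) : WithBot ℕ∞)} =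
            {y : S | topologicalKrullDim ↥(G.hom.base ⁻¹' {y}) ≤ ((m.succ : ℕ) : WithBot ℕ∞)} ∩
              {y : S | topologicalKrullDim ↥(G.hom.base ⁻¹' {y}) ≤ (m : WithBot ℕ∞)}ᶜ := by
          ext y
          simp only [Set.mem_setOf_eq, Set.mem_inter_iff, Set.mem_compl_iff]
          rw [← lt_coe_succ_iff _ m, not_lt]
          exact ⟨fun h => ⟨h.le, h.ge⟩, fun h => le_antisymm h.1 h.2⟩
        exact this ▸ (isLocallyConstructible_dim_fibre_le G _).inter
          (isLocallyConstructible_compl (isLocallyConstructible_dim_fibre_le G _))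

theorem exists_nhd_finite_constructible [LocallyOfFinitePresentation G.hom] (s : S) :
    ∃ V : S.Opens, s ∈ V ∧
      ((fun t : S => topologicalKrullDim ↥(G.hom.base ⁻¹' {t})) '' (V : Set S)).Finite ∧
      ∀ d : WithBot ℕ∞, Topology.IsConstructible
        {t : V | topologicalKrullDim ↥(G.hom.base ⁻¹' {(t : S)}) = d} := by
  haveI : LocallyOfFiniteType G.hom := inferInstance
  obtain ⟨V, hV, hsV, -⟩ := exists_isAffineOpen_mem_and_subset (x := s) (U := ⊤) trivial
  refine ⟨V, hsV, ?_, ?_⟩
  · have hcomp : IsCompact (V : Set S) := hV.isCompact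
    have hcover : (V : Set S) ⊆ ⋃ n : ℕ,
        {t : S | topologicalKrullDim ↥(G.hom.base ⁻¹' {t}) ≤ (n : WithBot ℕ∞)} := by
      intro t _
      obtain ⟨n, hn⟩ := exists_nat_dim_fibre G t
      exact Set.mem_iUnion.mpr ⟨n, hn.le⟩
    obtain ⟨F, hF⟩ := hcomp.elim_finite_subcover _ (fun n => isOpen_setOf_dim_fibre_le G n) hcover
    refine Set.Finite.subset (((Finset.range (F.sup id + 1)).finite_toSet).image
      (fun m : ℕ => (m : WithBot ℕ∞))) ?_
    rintro _ ⟨t, ht, rfl⟩
    obtain ⟨m, hm⟩ := exists_nat_dim_fibre G t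
    obtain ⟨n, hnF, hn⟩ := Set.mem_iUnion₂.mp (hF ht)
    have hn' : topologicalKrullDim ↥(G.hom.base ⁻¹' {t}) ≤ (n : WithBot ℕ∞) := hn
    rw [hm] at hn'
    have hmn : m ≤ n := by exact_mod_cast hn'
    have hnF' : n ≤ F.sup id := Finset.le_sup (f := id) hnF
    refine ⟨m, ?_, hm.symm⟩
    simp only [Finset.coe_range, Set.mem_Iio]
    omega
  · intro d
    haveI : IsAffine V.toScheme := hV
    haveI : CompactSpace ↥V := isCompact_iff_compactSpace.mp hV.isCompact
    haveI : QuasiSeparatedSpace ↥V := inferInstanceAs (QuasiSeparatedSpace ↥V.toScheme)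
    haveI : PrespectralSpace ↥V := inferInstanceAs (PrespectralSpace ↥V.toScheme)
    have h1 := (isLocallyConstructible_dim_fibre_eq G d).preimage_of_isOpenEmbedding
      V.isOpenEmbedding'
    exact h1.isConstructible

end Groth.Agent.Lib.Helper14.GrpFibDim
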