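import Groth.Agent.Lib.Helper14.GrpFibDim1
import Groth.Agent.Lib.Helper3.GrpConn3
import Groth.Agent.Lib.Helper3.DimCriteria
import Groth.Agent.S2277

/-!
# helper14: a closed immersion of group schemes locally of finite type over a field of the same
dimension maps the identity component onto the identity component (S18027)
-/

set_option autoImplicit false
universe u
open CategoryTheory CategoryTheory.Limits MonoidalCategory CartesianMonoidalCategory MonObj GrpObj
  AlgebraicGeometry Topology TopologicalSpace

namespace Groth.Agent.Lib.Helper14.GrpFibDim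

open Groth.Agent.Lib.helper3

theorem dim_add_one_le_of_ssubset {X : Type*} [TopologicalSpace X] {T Z : Set X} (hTZ : T ⊆ Z)
    (hne : T ≠ Z) (hT : IsClosed T) (hZ : IsIrreducible Z) (hTne : T.Nonempty) :
    topologicalKrullDim ↥T + 1 ≤ topologicalKrullDim ↥Z := by
  let j : ↥T → ↥Z := Set.inclusion hTZ
  have hj : IsInducing j := (IsEmbedding.inclusion hTZ).isInducing
  haveI : IrreducibleSpace ↥Z := (irreducibleSpace_def _).mpr
    ((Subtype.preirreducibleSpace hZ.isPreirreducible).isPreirreducible_univ |> fun h =>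
      ⟨by obtain ⟨z, hz⟩ := hZ.nonempty; exact ⟨⟨z, hz⟩, trivial⟩, h⟩)
  let top : IrreducibleCloseds ↥Z := ⟨Set.univ, (irreducibleSpace_def _).mp inferInstance,
    isClosed_univ⟩
  let Φ : WithTop (IrreducibleCloseds ↥T) → IrreducibleCloseds ↥Z := fun a =>
    match a with
    | ⊤ => top
    | (a' : IrreducibleCloseds ↥T) => IrreducibleCloseds.map j hj.continuous a'
  have hrange : IsClosed (Set.range j) := by
    have : Set.range j = Subtype.val ⁻¹' T := by
      ext z
      constructor
      · rintro ⟨t, rfl⟩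
        exact t.2
      · intro hz
        exact ⟨⟨z.1, hz⟩, Subtype.ext rfl⟩
    rw [this]
    exact hT.preimage continuous_subtype_val
  have hlt : ∀ a' : IrreducibleCloseds ↥T, IrreducibleCloseds.map j hj.continuous a' < top := by
    intro a'
    refine lt_of_le_of_ne (fun z _ => trivial) ?_
    intro heq
    apply hne
    apply Set.Subset.antisymm hTZ
    intro z hz
    have h1 : (⟨z, hz⟩ : ↥Z) ∈ (IrreducibleCloseds.map j hj.continuous a' : Set ↥Z) := by
      rw [heq]; trivial
    have h2 : (IrreducibleCloseds.map j hj.continuous a' : Set ↥Z) ⊆ Set.range j := by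
      rw [IrreducibleCloseds.coe_map]
      exact closure_minimal (Set.image_subset_range _ _) hrange
    obtain ⟨t, ht⟩ := h2 h1
    have : (t : X) = z := congrArg Subtype.val ht
    rw [← this]
    exact t.2
  have hΦ : StrictMono Φ := by
    intro a b hab
    match a, b, hab with
    | ⊤, b, hab => exact absurd hab (not_top_lt)
    | (a' : IrreducibleCloseds ↥T), ⊤, _ => exact hlt a'
    | (a' : IrreducibleCloseds ↥T), (b' : IrreducibleCloseds ↥T), hab =>
      exact IrreducibleCloseds.map_strictMono_of_isInducing hj (WithTop.coe_lt_coe.mp hab)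
  haveI : Nonempty (IrreducibleCloseds ↥T) := by
    obtain ⟨t, ht⟩ := hTne
    exact ⟨⟨closure {(⟨t, ht⟩ : ↥T)}, isIrreducible_singleton.closure, isClosed_closure⟩⟩
  calc topologicalKrullDim ↥T + 1 = Order.krullDim (WithTop (IrreducibleCloseds ↥T)) :=
        Order.krullDim_WithTop.symm
    _ ≤ Order.krullDim (IrreducibleCloseds ↥Z) := Order.krullDim_le_of_strictMono Φ hΦ

variable {k : Type u} [Field k] (G : Over (Spec (CommRingCat.of k))) [GrpObj G]

theorem locallyConnectedSpace_of_lft [LocallyOfFiniteType G.hom] :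
    LocallyConnectedSpace ↥G.left := by
  haveI : IsLocallyNoetherian G.left := LocallyOfFiniteType.isLocallyNoetherian G.hom
  apply Groth.Agent.S2277.result
  intro x
  obtain ⟨_, ⟨U, hU, rfl⟩, hxU, -⟩ :=
    (G.left.isBasis_affineOpens).exists_subset_of_mem_open (Set.mem_univ x) isOpen_univ
  have : IsNoetherianRing Γ(G.left, U) := IsLocallyNoetherian.component_noetherian ⟨U, hU⟩
  exact ⟨U, U.isOpen.mem_nhds hxU, noetherianSpace_of_isAffineOpen U hU⟩

theorem dim_connectedComponent_unit [LocallyOfFiniteType G.hom] :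
    topologicalKrullDim ↥(connectedComponent (GrpIrr.e G)) = topologicalKrullDim ↥G.left ∧
      ∃ n : ℕ, topologicalKrullDim ↥G.left = (n : WithBot ℕ∞) := by
  haveI := locallyConnectedSpace_of_lft G
  set s : ↥(Spec (CommRingCat.of k)) := IsLocalRing.closedPoint k with hs
  haveI : Subsingleton ↥(Spec (CommRingCat.of k)) :=
    inferInstanceAs (Subsingleton (PrimeSpectrum k))
  have hF : ∀ s' : ↥(Spec (CommRingCat.of k)), G.hom.base ⁻¹' {s'} = Set.univ := by
    intro s'
    ext x
    simp only [Set.mem_preimage, Set.mem_singleton_iff, Set.mem_univ, iff_true]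
    exact Subsingleton.elim _ _
  have h1 : topologicalKrullDim ↥(G.hom.base ⁻¹' {s}) = topologicalKrullDim ↥G.left := by
    rw [hF s]
    exact IsHomeomorph.topologicalKrullDim_eq _ (Homeomorph.Set.univ ↥G.left).isHomeomorph
  have h2 := dim_fibre_eq G s
  obtain ⟨n, hn⟩ := exists_nat_dim_fibre G s
  refine ⟨?_, n, h1 ▸ hn⟩
  apply le_antisymm (topologicalKrullDim_subspace_le _ _)
  rw [← h1, h2, Groth.Agent.Lib.helper5.FibreDimLocal.fibreDimAt_eq_localDim_preimage]
  have hopen : IsOpen (connectedComponent (GrpIrr.e G)) := isOpen_connectedComponent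
  have hmem : GrpIrr.e G ∈ connectedComponent (GrpIrr.e G) := mem_connectedComponent
  have hAB : connectedComponent (GrpIrr.e G) =
      (G.hom ⁻¹' {G.hom (GrpIrr.e G)}) ∩ connectedComponent (GrpIrr.e G) := by
    rw [show (G.hom ⁻¹' {G.hom (GrpIrr.e G)} : Set ↥G.left) = Set.univ from hF _,
      Set.univ_inter]
  have h3 := Groth.Agent.Lib.helper5.FibreDimLocal.localDim_eq_of_inter_open _ _ _ hopen hAB
    (GrpIrr.e G) hmem
  have h4 := Groth.Agent.Lib.helper3.TopDim.localDim_le_dim
    (X := ↥(connectedComponent (GrpIrr.e G))) ⟨GrpIrr.e G, hmem⟩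
  exact h3 ▸ h4

theorem image_connectedComponent_unit (G H : Over (Spec (CommRingCat.of k))) [GrpObj G]
    [GrpObj H] [LocallyOfFiniteType G.hom] [LocallyOfFiniteType H.hom] (u : G ⟶ H) [IsMonHom u]
    [IsClosedImmersion u.left]
    (hdim : topologicalKrullDim ↥G.left = topologicalKrullDim ↥H.left) :
    u.left '' connectedComponent (GrpIrr.e G) = connectedComponent (GrpIrr.e H) := by
  have hu : u.left (GrpIrr.e G) = GrpIrr.e H := by
    have h1 : η[G] ≫ u = η[H] := IsMonHom.one_hom u
    have h2 := congrArg (fun m => m.left) h1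
    exact congr($h2 (IsLocalRing.closedPoint k))
  have hTsub : u.left '' connectedComponent (GrpIrr.e G) ⊆ connectedComponent (GrpIrr.e H) := by
    refine (isPreconnected_connectedComponent.image _
      u.left.continuous.continuousOn).subset_connectedComponent ?_
    exact ⟨GrpIrr.e G, mem_connectedComponent, hu⟩
  by_contra hne
  have hTcl : IsClosed (u.left '' connectedComponent (GrpIrr.e G)) :=
    u.left.isClosedEmbedding.isClosedMap _ isClosed_connectedComponent
  have hZ : IsIrreducible (connectedComponent (GrpIrr.e H)) :=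
    GrpConn.isIrreducible_connectedComponent_unit H
  have h1 := dim_add_one_le_of_ssubset hTsub hne hTcl hZ
    ⟨_, ⟨GrpIrr.e G, mem_connectedComponent, rfl⟩⟩
  obtain ⟨hG1, n, hn⟩ := dim_connectedComponent_unit G
  obtain ⟨hH1, -⟩ := dim_connectedComponent_unit H
  have h2 : topologicalKrullDim ↥(u.left '' connectedComponent (GrpIrr.e G)) =
      topologicalKrullDim ↥(connectedComponent (GrpIrr.e G)) := by
    symm
    refine DimCriteria.dim_eq_of_range_eq
      (fun c : ↥(connectedComponent (GrpIrr.e G)) => u.left c.1) Subtype.val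
      (u.left.isClosedEmbedding.isInducing.comp IsInducing.subtypeVal) IsInducing.subtypeVal ?_
    rw [Subtype.range_val]
    ext z
    constructor
    · rintro ⟨c, rfl⟩
      exact ⟨c.1, c.2, rfl⟩
    · rintro ⟨c, hc, rfl⟩
      exact ⟨⟨c, hc⟩, rfl⟩
  rw [h2, hG1, hH1, ← hdim, hn] at h1
  have h3 : n + 1 ≤ n := by exact_mod_cast h1
  omega

end Groth.Agent.Lib.Helper14.GrpFibDim
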