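import Mathlib.CategoryTheory.Monoidal.Cartesian.Grp
import Mathlib.CategoryTheory.Monoidal.Grp
import Mathlib.CategoryTheory.EquivalenceRelation
import Mathlib.CategoryTheory.EffectiveEpi.Basic
import Mathlib.CategoryTheory.Limits.Shapes.Pullback.IsPullback.Basic
import Mathlib.CategoryTheory.Limits.Shapes.KernelPair
import Mathlib.CategoryTheory.Limits.Shapes.Equalizers
import Mathlib.CategoryTheory.MorphismProperty.Limits

/-!
# Quotients of group objects by subgroup objects in an exact cartesian category (helper14)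

Abstract setting: a cartesian monoidal category in which every epimorphism is a universally
effective epimorphism and equivalence relations are effective.
-/

set_option autoImplicit false

universe v u

open CategoryTheory CategoryTheory.Limits MonoidalCategory CartesianMonoidalCategory MonObj

namespace Groth.Agent.Lib.Helper14.GrpQuot

/-- Every epimorphism is a universally effective epimorphism. -/
class EpiUnivEff (𝒮 : Type u) [Category.{v} 𝒮] : Prop where
  univ : ∀ {X Y : 𝒮} (f : X ⟶ Y) [Epi f],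
    MorphismProperty.universally (fun _ _ f => EffectiveEpi f) f

/-- Every equivalence relation is effective. -/
class EqRelEff (𝒮 : Type u) [Category.{v} 𝒮] : Prop where
  eff : ∀ {R X : 𝒮} (p₁ p₂ : R ⟶ X) [IsEquivalenceRelation p₁ p₂],
    IsEffectiveEquivalenceRelation p₁ p₂

variable {𝒮 : Type u} [Category.{v} 𝒮]

section General

theorem effectiveEpi_of_epi [EpiUnivEff 𝒮] {X Y : 𝒮} (f : X ⟶ Y) [Epi f] : EffectiveEpi f :=
  EpiUnivEff.univ f (𝟙 _) (𝟙 _) f (IsPullback.id_vert f)

theorem epi_of_isPullback [EpiUnivEff 𝒮] {X' Y' X Y : 𝒮} {f' : X' ⟶ Y'} {i₁ : X' ⟶ X}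
    {i₂ : Y' ⟶ Y} {f : X ⟶ Y} [Epi f] (h : IsPullback f' i₁ i₂ f) : Epi f' := by
  have : EffectiveEpi f' := EpiUnivEff.univ f i₁ i₂ f' h
  infer_instance

/-- Descent along an epimorphism. -/
theorem exists_desc [EpiUnivEff 𝒮] {X Q Z : 𝒮} (π : X ⟶ Q) [Epi π] (f : X ⟶ Z)
    (h : ∀ {Y : 𝒮} (a b : Y ⟶ X), a ≫ π = b ≫ π → a ≫ f = b ≫ f) :
    ∃ f' : Q ⟶ Z, π ≫ f' = f := by
  have : EffectiveEpi π := effectiveEpi_of_epi π
  exact ⟨EffectiveEpi.desc π f h, EffectiveEpi.fac π f h⟩

/-- A jointly monic pair which induces an equivalence relation on generalized elements is an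
equivalence relation. -/
theorem isEquivalenceRelation_of_yoneda {R X : 𝒮} (p₁ p₂ : R ⟶ X) [HasPullback p₂ p₁]
    (hm : JointlyMono₂ p₁ p₂)
    (h : ∀ Y : 𝒮, Equivalence (fun a b : Y ⟶ X => ∃ r : Y ⟶ R, r ≫ p₁ = a ∧ r ≫ p₂ = b)) :
    IsEquivalenceRelation p₁ p₂ := by
  obtain ⟨r, hr1, hr2⟩ := (h X).refl (𝟙 X)
  obtain ⟨s, hs1, hs2⟩ := (h R).symm ⟨𝟙 R, Category.id_comp p₁, Category.id_comp p₂⟩
  obtain ⟨t, ht1, ht2⟩ := (h (pullback p₂ p₁)).trans
    ⟨pullback.fst p₂ p₁, rfl, rfl⟩
    ⟨pullback.snd p₂ p₁, (pullback.condition (f := p₂) (g := p₁)).symm, rfl⟩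
  exact ⟨⟨{ toJointlyMono₂ := hm
            r := r
            reflexivity₁ := hr1
            reflexivity₂ := hr2
            s := s
            symmetry₁ := hs1
            symmetry₂ := hs2
            c := PullbackCone.mk (pullback.fst p₂ p₁) (pullback.snd p₂ p₁) pullback.condition
            isLimit := pullbackIsPullback p₂ p₁
            t := t
            transitivity₁ := ht1
            transitivity₂ := ht2 }⟩⟩

/-- For an effective equivalence relation, the relation is the kernel pair of the projection to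
the coequalizer. -/
theorem isKernelPair_coequalizerπ {R X : 𝒮} {p₁ p₂ : R ⟶ X}
    (e : EffectiveEquivalenceRelation p₁ p₂) [HasCoequalizer p₁ p₂] :
    IsKernelPair (coequalizer.π p₁ p₂) p₁ p₂ := by
  let i := IsColimit.coconePointUniqueUpToIso (coequalizerIsCoequalizer p₁ p₂)
    (EffectiveEquivalenceRelation.isCoequalizer p₁ p₂ e)
  have hi : coequalizer.π p₁ p₂ ≫ i.hom = e.π :=
    IsColimit.comp_coconePointUniqueUpToIso_hom (coequalizerIsCoequalizer p₁ p₂)
      (EffectiveEquivalenceRelation.isCoequalizer p₁ p₂ e) WalkingParallelPair.one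
  have h := e.isKernelPair
  rw [← hi] at h
  exact h.cancel_right_of_mono

end General

section Cartesian

variable [CartesianMonoidalCategory 𝒮]

theorem isPullback_whiskerLeft (G : 𝒮) {X Q : 𝒮} (π : X ⟶ Q) :
    IsPullback (G ◁ π) (snd G X) (snd G Q) π :=
  ⟨⟨by simp⟩, ⟨PullbackCone.IsLimit.mk _ (fun s => lift (s.fst ≫ fst G Q) s.snd)
    (fun s => by
      apply CartesianMonoidalCategory.hom_ext
      · simp
      · simpa using s.condition.symm)
    (fun s => by simp)
    (fun s m h1 h2 => by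
      apply CartesianMonoidalCategory.hom_ext
      · simp [← h1]
      · simpa using h2)⟩⟩

theorem isPullback_whiskerRight (G : 𝒮) {X Q : 𝒮} (π : X ⟶ Q) :
    IsPullback (π ▷ G) (fst X G) (fst Q G) π :=
  ⟨⟨by simp⟩, ⟨PullbackCone.IsLimit.mk _ (fun s => lift s.snd (s.fst ≫ snd Q G))
    (fun s => by
      apply CartesianMonoidalCategory.hom_ext
      · simpa using s.condition.symm
      · simp)
    (fun s => by simp)
    (fun s m h1 h2 => by
      apply CartesianMonoidalCategory.hom_ext
      · simpa using h2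
      · simp [← h1])⟩⟩

variable [EpiUnivEff 𝒮]

instance epi_whiskerLeft (G : 𝒮) {X Q : 𝒮} (π : X ⟶ Q) [Epi π] : Epi (G ◁ π) :=
  epi_of_isPullback (isPullback_whiskerLeft G π)

instance epi_whiskerRight (G : 𝒮) {X Q : 𝒮} (π : X ⟶ Q) [Epi π] : Epi (π ▷ G) :=
  epi_of_isPullback (isPullback_whiskerRight G π)

instance epi_tensorHom {X Q X' Q' : 𝒮} (π : X ⟶ Q) (π' : X' ⟶ Q') [Epi π] [Epi π'] :
    Epi (π ⊗ₘ π') := by
  rw [tensorHom_def]
  infer_instance

end Cartesian

end Groth.Agent.Lib.Helper14.GrpQuot
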