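import Groth.Agent.Lib.Helper14.GrpQuot1

/-!
# The quotient `G/H` of a group object by a subgroup object (helper14)
-/

set_option autoImplicit false

universe v u

open CategoryTheory CategoryTheory.Limits MonoidalCategory CartesianMonoidalCategory MonObj

namespace Groth.Agent.Lib.Helper14.GrpQuot

variable {𝒮 : Type u} [Category.{v} 𝒮] [CartesianMonoidalCategory 𝒮]

section Rel

variable {H G : 𝒮} [GrpObj H] [GrpObj G] (u : H ⟶ G)

omit [GrpObj H] in
theorem lift_whiskerLeft_mul {Y : 𝒮} (a : Y ⟶ G) (h : Y ⟶ H) :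
    lift a h ≫ (G ◁ u) ≫ μ = a * (h ≫ u) := by
  rw [Hom.mul_def, ← Category.assoc, lift_whiskerLeft]

omit [GrpObj H] in
theorem quot_rel_iff {Y : 𝒮} (a b : Y ⟶ G) :
    (∃ r : Y ⟶ G ⊗ H, r ≫ fst G H = a ∧ r ≫ (G ◁ u) ≫ μ = b) ↔
      ∃ h : Y ⟶ H, a * (h ≫ u) = b := by
  constructor
  · rintro ⟨r, rfl, rfl⟩
    refine ⟨r ≫ snd G H, ?_⟩
    rw [← lift_whiskerLeft_mul]
    congr 1
    apply CartesianMonoidalCategory.hom_ext <;> simp
  · rintro ⟨h, rfl⟩
    exact ⟨lift a h, by simp, lift_whiskerLeft_mul u a h⟩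

variable [Mono u]

omit [GrpObj H] in
theorem quot_jointlyMono₂ : JointlyMono₂ (fst G H) ((G ◁ u) ≫ μ) where
  right_cancellation Y f g h1 h2 := by
    have hf : f = lift (f ≫ fst G H) (f ≫ snd G H) := by
      apply CartesianMonoidalCategory.hom_ext <;> simp
    have hg : g = lift (g ≫ fst G H) (g ≫ snd G H) := by
      apply CartesianMonoidalCategory.hom_ext <;> simp
    apply CartesianMonoidalCategory.hom_ext
    · exact h1
    · rw [hf, hg, lift_whiskerLeft_mul, lift_whiskerLeft_mul, h1] at h2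
      have := mul_left_cancel h2
      rw [← cancel_mono u]
      simpa using this

variable [IsMonHom u]

omit [Mono u] in
theorem quot_equivalence (Y : 𝒮) :
    Equivalence (fun a b : Y ⟶ G => ∃ h : Y ⟶ H, a * (h ≫ u) = b) where
  refl a := ⟨1, by rw [MonObj.one_comp, _root_.mul_one]⟩
  symm := by
    rintro a b ⟨h, rfl⟩
    exact ⟨h⁻¹, by rw [GrpObj.inv_comp, _root_.mul_assoc, mul_inv_cancel, _root_.mul_one]⟩
  trans := by
    rintro a b c ⟨h, rfl⟩ ⟨h', rfl⟩
    exact ⟨h * h', by rw [MonObj.mul_comp, _root_.mul_assoc]⟩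

instance quot_isEquivalenceRelation [HasPullback ((G ◁ u) ≫ μ[G]) (fst G H)] :
    IsEquivalenceRelation (fst G H) ((G ◁ u) ≫ μ) := by
  apply isEquivalenceRelation_of_yoneda _ _ (quot_jointlyMono₂ u)
  intro Y
  have h := quot_equivalence u Y
  have e : (fun a b : Y ⟶ G => ∃ r : Y ⟶ G ⊗ H, r ≫ fst G H = a ∧ r ≫ (G ◁ u) ≫ μ = b) =
      (fun a b : Y ⟶ G => ∃ h : Y ⟶ H, a * (h ≫ u) = b) := by
    funext a b
    exact propext (quot_rel_iff u a b)
  rw [e]
  exact h

variable [HasPullbacks 𝒮] [EqRelEff 𝒮]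
  [HasCoequalizer (fst G H) ((G ◁ u) ≫ μ[G])]

theorem isKernelPair_quotπ :
    IsKernelPair (coequalizer.π (fst G H) ((G ◁ u) ≫ μ[G])) (fst G H) ((G ◁ u) ≫ μ) := by
  obtain ⟨e⟩ := (EqRelEff.eff (fst G H) ((G ◁ u) ≫ μ[G])).nonempty_effectiveEquivalenceRelation
  exact isKernelPair_coequalizerπ e

/-- Two generalized elements of `G` have the same image in `G/H` iff they differ by an element
of `H`. -/
theorem quotπ_eq_iff {Y : 𝒮} (a b : Y ⟶ G) :
    a ≫ coequalizer.π (fst G H) ((G ◁ u) ≫ μ[G]) = b ≫ coequalizer.π (fst G H) ((G ◁ u) ≫ μ[G]) ↔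
      ∃ h : Y ⟶ H, a * (h ≫ u) = b := by
  rw [← quot_rel_iff]
  constructor
  · intro h
    exact ⟨(isKernelPair_quotπ u).lift a b h, (isKernelPair_quotπ u).lift_fst a b h,
      (isKernelPair_quotπ u).lift_snd a b h⟩
  · rintro ⟨r, rfl, rfl⟩
    rw [Category.assoc, Category.assoc, Category.assoc]
    congr 1
    have := coequalizer.condition (fst G H) ((G ◁ u) ≫ μ[G])
    rwa [Category.assoc] at this

end Rel

end Groth.Agent.Lib.Helper14.GrpQuot
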