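import Groth.Agent.Lib.Helper14.GrpQuot3
import Mathlib.Tactic.Group

/-!
# The group structure on `G/H` for `H` normal (helper14)
-/

set_option autoImplicit false

universe v u

open CategoryTheory CategoryTheory.Limits MonoidalCategory CartesianMonoidalCategory MonObj

namespace Groth.Agent.Lib.Helper14.GrpQuot

variable {𝒮 : Type u} [Category.{v} 𝒮] [CartesianMonoidalCategory 𝒮]

variable [EpiUnivEff 𝒮] [HasPullbacks 𝒮] [EqRelEff 𝒮]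

section OfEpi

variable {G Q : 𝒮} [GrpObj G] (π : G ⟶ Q) [Epi π] (m : Q ⊗ Q ⟶ Q)
  (hm : (π ⊗ₘ π) ≫ m = μ[G] ≫ π) (i : Q ⟶ Q) (hi : π ≫ i = ι[G] ≫ π)

/-- A group structure descends along an epimorphism compatible with multiplication and
inverse. -/
@[reducible] def grpObjOfEpi : GrpObj Q where
  one := η[G] ≫ π
  mul := m
  one_mul := by
    rw [← cancel_epi ((𝟙_ 𝒮) ◁ π)]
    rw [comp_whiskerRight, Category.assoc, whisker_exchange_assoc, ← tensorHom_def'_assoc, hm,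
      MonObj.one_mul_assoc, leftUnitor_naturality]
  mul_one := by
    rw [← cancel_epi (π ▷ (𝟙_ 𝒮))]
    rw [whiskerLeft_comp, Category.assoc, ← whisker_exchange_assoc, ← tensorHom_def_assoc, hm,
      MonObj.mul_one_assoc, rightUnitor_naturality]
  mul_assoc := by
    rw [← cancel_epi ((π ⊗ₘ π) ⊗ₘ π)]
    have e1 : ((π ⊗ₘ π) ⊗ₘ π) ≫ m ▷ Q = (μ[G] ▷ G) ≫ (π ⊗ₘ π) := by
      rw [← tensorHom_id, tensorHom_comp_tensorHom, hm, Category.comp_id, ← tensorHom_id,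
        tensorHom_comp_tensorHom, Category.id_comp]
    have e2 : (π ⊗ₘ (π ⊗ₘ π)) ≫ Q ◁ m = (G ◁ μ[G]) ≫ (π ⊗ₘ π) := by
      rw [← id_tensorHom, tensorHom_comp_tensorHom, hm, Category.comp_id, ← id_tensorHom,
        tensorHom_comp_tensorHom, Category.id_comp]
    calc ((π ⊗ₘ π) ⊗ₘ π) ≫ m ▷ Q ≫ m = (μ[G] ▷ G) ≫ (π ⊗ₘ π) ≫ m := by
          rw [← Category.assoc, e1, Category.assoc]
      _ = (μ[G] ▷ G) ≫ μ[G] ≫ π := by rw [hm]
      _ = (α_ G G G).hom ≫ (G ◁ μ[G]) ≫ μ[G] ≫ π := by rw [MonObj.mul_assoc_assoc]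
      _ = (α_ G G G).hom ≫ (G ◁ μ[G]) ≫ (π ⊗ₘ π) ≫ m := by rw [hm]
      _ = (α_ G G G).hom ≫ (π ⊗ₘ (π ⊗ₘ π)) ≫ Q ◁ m ≫ m := by
          rw [← Category.assoc (G ◁ μ[G]), ← e2, Category.assoc]
      _ = ((π ⊗ₘ π) ⊗ₘ π) ≫ (α_ Q Q Q).hom ≫ Q ◁ m ≫ m := by
          rw [associator_naturality_assoc]
  inv := i
  left_inv := by
    rw [← cancel_epi π]
    rw [comp_lift_assoc, hi, Category.comp_id]
    have : lift (ι[G] ≫ π) π = lift ι[G] (𝟙 G) ≫ (π ⊗ₘ π) := by simp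
    rw [this, Category.assoc, hm, GrpObj.left_inv_assoc, comp_toUnit_assoc]
  right_inv := by
    rw [← cancel_epi π]
    rw [comp_lift_assoc, hi, Category.comp_id]
    have : lift π (ι[G] ≫ π) = lift (𝟙 G) ι[G] ≫ (π ⊗ₘ π) := by simp
    rw [this, Category.assoc, hm, GrpObj.right_inv_assoc, comp_toUnit_assoc]

end OfEpi

section Grp

variable {H G : 𝒮} [GrpObj H] [GrpObj G] (u : H ⟶ G) [Mono u] [IsMonHom u]
  [HasCoequalizer (fst G H) ((G ◁ u) ≫ μ[G])]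
  (hn : ∀ (Y : 𝒮) (g : Y ⟶ G) (h : Y ⟶ H), ∃ h' : Y ⟶ H, g * (h ≫ u) * g⁻¹ = h' ≫ u)

local notation "Q" => coequalizer (fst G H) ((G ◁ u) ≫ μ[G])
local notation "π" => coequalizer.π (fst G H) ((G ◁ u) ≫ μ[G])

include hn

omit [EpiUnivEff 𝒮] in
theorem mul_desc_condition {Y : 𝒮} (a b : Y ⟶ G ⊗ G) (h : a ≫ (π ⊗ₘ π) = b ≫ (π ⊗ₘ π)) :
    a ≫ μ ≫ π = b ≫ μ ≫ π := by
  have h1 : (a ≫ fst G G) ≫ π = (b ≫ fst G G) ≫ π := by
    have := congrArg (fun f => f ≫ fst Q Q) h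
    simpa using this
  have h2 : (a ≫ snd G G) ≫ π = (b ≫ snd G G) ≫ π := by
    have := congrArg (fun f => f ≫ snd Q Q) h
    simpa using this
  obtain ⟨k₁, hk₁⟩ := (quotπ_eq_iff u _ _).1 h1
  obtain ⟨k₂, hk₂⟩ := (quotπ_eq_iff u _ _).1 h2
  obtain ⟨k', hk'⟩ := hn Y (a ≫ snd G G)⁻¹ k₁
  rw [← Category.assoc, ← Category.assoc, quotπ_eq_iff u]
  refine ⟨k' * k₂, ?_⟩
  rw [comp_mul_eq, comp_mul_eq, ← hk₁, ← hk₂, MonObj.mul_comp, ← hk']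
  group

omit [EpiUnivEff 𝒮] in
theorem inv_desc_condition {Y : 𝒮} (a b : Y ⟶ G) (h : a ≫ π = b ≫ π) :
    a ≫ ι ≫ π = b ≫ ι ≫ π := by
  obtain ⟨k, hk⟩ := (quotπ_eq_iff u _ _).1 h
  obtain ⟨k', hk'⟩ := hn Y a k⁻¹
  rw [← Category.assoc, ← Category.assoc, quotπ_eq_iff u]
  refine ⟨k', ?_⟩
  rw [← Hom.inv_def, ← Hom.inv_def, ← hk, ← hk', GrpObj.inv_comp]
  group

/-- S6047, abstract form. -/
theorem existsUnique_grpObj :
    ∃! str : GrpObj Q, @IsMonHom 𝒮 _ _ G Q _ str.toMonObj π := by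
  obtain ⟨m, hm⟩ := exists_desc (π ⊗ₘ π) (μ[G] ≫ π) (fun a b h => mul_desc_condition u hn a b h)
  obtain ⟨i, hi⟩ := exists_desc π (ι[G] ≫ π) (fun a b h => inv_desc_condition u hn a b h)
  refine ⟨grpObjOfEpi π m hm i hi, @IsMonHom.mk 𝒮 _ _ G Q _ (grpObjOfEpi π m hm i hi).toMonObj π
    rfl hm.symm, ?_⟩
  intro str' h'
  apply GrpObj.ext
  apply MonObj.ext
  rw [← cancel_epi (π ⊗ₘ π)]
  have h1 := @IsMonHom.mul_hom 𝒮 _ _ G Q _ str'.toMonObj π h'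
  exact h1.symm.trans hm.symm

end Grp

end Groth.Agent.Lib.Helper14.GrpQuot
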