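import Groth.Agent.Lib.Helper14.GrpQuot3

/-!
# `G/K` as the quotient of `G/H` by the free action of `K/H` (helper14)
-/

set_option autoImplicit false

universe v u

open CategoryTheory CategoryTheory.Limits MonoidalCategory CartesianMonoidalCategory MonObj

namespace Groth.Agent.Lib.Helper14.GrpQuot

variable {𝒮 : Type u} [Category.{v} 𝒮]

/-- Local lifting of a generalized element along an epimorphism. -/
theorem exists_local_lift [EpiUnivEff 𝒮] [HasPullbacks 𝒮] {X Q Y : 𝒮} (π : X ⟶ Q) [Epi π]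
    (x : Y ⟶ Q) : ∃ (Y' : 𝒮) (p : Y' ⟶ Y) (_ : Epi p) (g : Y' ⟶ X), g ≫ π = p ≫ x :=
  ⟨pullback π x, pullback.snd π x, epi_of_isPullback (IsPullback.of_hasPullback π x).flip,
    pullback.fst π x, pullback.condition⟩

variable [CartesianMonoidalCategory 𝒮] [EpiUnivEff 𝒮] [HasPullbacks 𝒮] [EqRelEff 𝒮]

section Third

variable {H K G : 𝒮} [GrpObj H] [GrpObj K] [GrpObj G] (h : H ⟶ K) (k : K ⟶ G)
  [Mono h] [Mono k] [IsMonHom h] [IsMonHom k]
  [HasCoequalizer (fst G H) ((G ◁ (h ≫ k)) ≫ μ[G])]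
  [HasCoequalizer (fst K H) ((K ◁ h) ≫ μ[K])]
  [HasCoequalizer (fst G K) ((G ◁ k) ≫ μ[G])]

local notation "QGH" => coequalizer (fst G H) ((G ◁ (h ≫ k)) ≫ μ[G])
local notation "πGH" => coequalizer.π (fst G H) ((G ◁ (h ≫ k)) ≫ μ[G])
local notation "QKH" => coequalizer (fst K H) ((K ◁ h) ≫ μ[K])
local notation "πKH" => coequalizer.π (fst K H) ((K ◁ h) ≫ μ[K])
local notation "QGK" => coequalizer (fst G K) ((G ◁ k) ≫ μ[G])
local notation "πGK" => coequalizer.π (fst G K) ((G ◁ k) ≫ μ[G])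

theorem act_free (act : QGH ⊗ QKH ⟶ QGH)
    (hact : (πGH ⊗ₘ πKH) ≫ act = (G ◁ k) ≫ μ[G] ≫ πGH) : Mono (lift act (fst QGH QKH)) := by
  constructor
  intro Y a b hab
  have hx : a ≫ fst _ _ = b ≫ fst _ _ := by
    have := congrArg (fun f => f ≫ snd _ _) hab
    simpa using this
  have hact' : a ≫ act = b ≫ act := by
    have := congrArg (fun f => f ≫ fst _ _) hab
    simpa using this
  apply CartesianMonoidalCategory.hom_ext _ _ hx
  -- local lifting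
  obtain ⟨Y', p, hp, t, ht⟩ := exists_local_lift (πGH ⊗ₘ (πKH ⊗ₘ πKH))
    (lift (a ≫ fst _ _) (lift (a ≫ snd _ _) (b ≫ snd _ _)))
  rw [← cancel_epi p]
  have hg : (t ≫ fst _ _) ≫ πGH = p ≫ a ≫ fst _ _ := by
    have := congrArg (fun f => f ≫ fst _ _) ht
    simpa using this
  have hκ : (t ≫ snd _ _ ≫ fst _ _) ≫ πKH = p ≫ a ≫ snd _ _ := by
    have := congrArg (fun f => f ≫ snd _ _ ≫ fst _ _) ht
    simpa using this
  have hκ' : (t ≫ snd _ _ ≫ snd _ _) ≫ πKH = p ≫ b ≫ snd _ _ := by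
    have := congrArg (fun f => f ≫ snd _ _ ≫ snd _ _) ht
    simpa using this
  have ha : p ≫ a = lift (t ≫ fst _ _) (t ≫ snd _ _ ≫ fst _ _) ≫ (πGH ⊗ₘ πKH) := by
    apply CartesianMonoidalCategory.hom_ext
    · simpa using hg.symm
    · simpa using hκ.symm
  have hb : p ≫ b = lift (t ≫ fst _ _) (t ≫ snd _ _ ≫ snd _ _) ≫ (πGH ⊗ₘ πKH) := by
    apply CartesianMonoidalCategory.hom_ext
    · simpa [hx] using hg.symm
    · simpa using hκ'.symm
  have key : (p ≫ a) ≫ act = (p ≫ b) ≫ act := by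
    rw [Category.assoc, Category.assoc, hact']
  rw [ha, hb, Category.assoc, Category.assoc, hact] at key
  have key' : ((t ≫ fst _ _) * ((t ≫ snd _ _ ≫ fst _ _) ≫ k)) ≫ πGH =
      ((t ≫ fst _ _) * ((t ≫ snd _ _ ≫ snd _ _) ≫ k)) ≫ πGH := by
    rw [← lift_whiskerLeft_mul, ← lift_whiskerLeft_mul]
    simpa only [Category.assoc] using key
  obtain ⟨e, he⟩ := (quotπ_eq_iff (h ≫ k) _ _).1 key'
  have h3 : ((t ≫ snd _ _ ≫ fst _ _) * (e ≫ h)) ≫ k = (t ≫ snd _ _ ≫ snd _ _) ≫ k := by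
    rw [MonObj.mul_comp, Category.assoc]
    refine mul_left_cancel (a := t ≫ fst _ _) ?_
    rw [← _root_.mul_assoc]
    simpa only [Category.assoc] using he
  have h4 : (t ≫ snd _ _ ≫ fst _ _) * (e ≫ h) = t ≫ snd _ _ ≫ snd _ _ := (cancel_mono k).1 h3
  rw [← hκ, ← hκ']
  exact (quotπ_eq_iff h _ _).2 ⟨e, h4⟩

theorem isColimit_qbar (act : QGH ⊗ QKH ⟶ QGH)
    (hact : (πGH ⊗ₘ πKH) ≫ act = (G ◁ k) ≫ μ[G] ≫ πGH)
    (qbar : QGH ⟶ QGK) (hq : πGH ≫ qbar = πGK) :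
    ∃ wq : fst QGH QKH ≫ qbar = act ≫ qbar, Nonempty (IsColimit (Cofork.ofπ qbar wq)) := by
  have wq : fst QGH QKH ≫ qbar = act ≫ qbar := by
    rw [← cancel_epi (πGH ⊗ₘ πKH), tensorHom_fst_assoc, hq, reassoc_of% hact, hq]
    have := coequalizer.condition (fst G K) ((G ◁ k) ≫ μ[G])
    rwa [Category.assoc] at this
  have hepi : Epi qbar := by
    have : Epi (πGH ≫ qbar) := by rw [hq]; infer_instance
    exact epi_of_epi πGH qbar
  refine ⟨wq, ⟨Cofork.IsColimit.mk _ (fun s => coequalizer.desc (πGH ≫ s.π) ?_) ?_ ?_⟩⟩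
  · have hs := s.condition
    calc fst G K ≫ πGH ≫ s.π = (πGH ⊗ₘ πKH) ≫ fst QGH QKH ≫ s.π := by
          rw [tensorHom_fst_assoc]
      _ = (πGH ⊗ₘ πKH) ≫ act ≫ s.π := by rw [hs]
      _ = ((G ◁ k) ≫ μ[G]) ≫ πGH ≫ s.π := by
          rw [← Category.assoc, hact]; simp only [Category.assoc]
  · intro s
    rw [← cancel_epi πGH]
    change πGH ≫ qbar ≫ _ = _
    rw [← Category.assoc, hq, coequalizer.π_desc]
  · intro s m hm
    rw [← cancel_epi πGK]
    rw [coequalizer.π_desc, ← hq, Category.assoc]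
    congr 1


end Third

end Groth.Agent.Lib.Helper14.GrpQuot
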