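import Groth.Agent.Lib.Helper14.SubQuot1

/-!
# Quotient of a subobject by the induced relation embeds in the quotient (helper14)
-/

set_option autoImplicit false

universe v u

open CategoryTheory CategoryTheory.Limits

namespace Groth.Agent.Lib.Helper14.GrpQuot

variable {𝒮 : Type u} [Category.{v} 𝒮]

/-- Simultaneous local lifting of two generalized elements along an epimorphism. -/
theorem exists_local_lift₂ [EpiUnivEff 𝒮] [HasPullbacks 𝒮] {X Q Y : 𝒮} (π : X ⟶ Q) [Epi π]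
    (x y : Y ⟶ Q) : ∃ (Y' : 𝒮) (p : Y' ⟶ Y) (_ : Epi p) (g g' : Y' ⟶ X),
      g ≫ π = p ≫ x ∧ g' ≫ π = p ≫ y := by
  obtain ⟨Y₁, p₁, hp₁, g₁, hg₁⟩ := exists_local_lift π x
  obtain ⟨Y₂, p₂, hp₂, g₂, hg₂⟩ := exists_local_lift π (p₁ ≫ y)
  exact ⟨Y₂, p₂ ≫ p₁, epi_comp _ _, p₂ ≫ g₁, g₂, by rw [Category.assoc, hg₁, Category.assoc],
    by rw [hg₂, Category.assoc]⟩

/-- A kernel pair from its description on generalized elements. -/
theorem isKernelPair_of_yoneda {X Q R : 𝒮} (f : X ⟶ Q) (a b : R ⟶ X) (w : a ≫ f = b ≫ f)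
    (hm : JointlyMono₂ a b)
    (h : ∀ (Y : 𝒮) (x y : Y ⟶ X), x ≫ f = y ≫ f → ∃ r : Y ⟶ R, r ≫ a = x ∧ r ≫ b = y) :
    IsKernelPair f a b :=
  ⟨⟨w⟩, ⟨PullbackCone.IsLimit.mk _
    (fun s => Classical.choose (h _ s.fst s.snd s.condition))
    (fun s => (Classical.choose_spec (h _ s.fst s.snd s.condition)).1)
    (fun s => (Classical.choose_spec (h _ s.fst s.snd s.condition)).2)
    (fun s _ h1 h2 => hm.right_cancellation _ _
      (h1.trans (Classical.choose_spec (h _ s.fst s.snd s.condition)).1.symm)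
      (h2.trans (Classical.choose_spec (h _ s.fst s.snd s.condition)).2.symm))⟩⟩

variable [EpiUnivEff 𝒮] [HasPullbacks 𝒮]

/-- S5226, abstract form. -/
theorem mono_quotient_map_of_sub {R X Y : 𝒮} {p₁ p₂ : R ⟶ X}
    (e : EffectiveEquivalenceRelation p₁ p₂) (ι : Y ⟶ X)
    [HasCoequalizer (pullback.fst (pullback.fst p₁ ι ≫ p₂) ι ≫ pullback.snd p₁ ι)
      (pullback.snd (pullback.fst p₁ ι ≫ p₂) ι)]
    (g : coequalizer (pullback.fst (pullback.fst p₁ ι ≫ p₂) ι ≫ pullback.snd p₁ ι)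
      (pullback.snd (pullback.fst p₁ ι ≫ p₂) ι) ⟶ e.B)
    (hg : coequalizer.π _ _ ≫ g = ι ≫ e.π) :
    Mono g := by
  constructor
  intro W s t hst
  obtain ⟨W', p, hp, s', t', hs', ht'⟩ := exists_local_lift₂
    (coequalizer.π (pullback.fst (pullback.fst p₁ ι ≫ p₂) ι ≫ pullback.snd p₁ ι)
      (pullback.snd (pullback.fst p₁ ι ≫ p₂) ι)) s t
  rw [← cancel_epi p, ← hs', ← ht']
  have hcomm : (s' ≫ ι) ≫ e.π = (t' ≫ ι) ≫ e.π := by
    rw [Category.assoc, Category.assoc, ← hg, ← Category.assoc, ← Category.assoc, hs', ht',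
      Category.assoc, Category.assoc, hst]
  have hr1 : e.isKernelPair.lift _ _ hcomm ≫ p₁ = s' ≫ ι := e.isKernelPair.lift_fst _ _ hcomm
  have hr2 : e.isKernelPair.lift _ _ hcomm ≫ p₂ = t' ≫ ι := e.isKernelPair.lift_snd _ _ hcomm
  let ρ₁ : W' ⟶ pullback p₁ ι := pullback.lift (e.isKernelPair.lift _ _ hcomm) s' hr1
  let ρ : W' ⟶ pullback (pullback.fst p₁ ι ≫ p₂) ι := pullback.lift ρ₁ t' (by
    rw [← Category.assoc, pullback.lift_fst, hr2])
  have h1 : ρ ≫ (pullback.fst (pullback.fst p₁ ι ≫ p₂) ι ≫ pullback.snd p₁ ι) = s' := by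
    rw [← Category.assoc, pullback.lift_fst, pullback.lift_snd]
  have h2 : ρ ≫ pullback.snd (pullback.fst p₁ ι ≫ p₂) ι = t' := pullback.lift_snd _ _ _
  have hc := coequalizer.condition (pullback.fst (pullback.fst p₁ ι ≫ p₂) ι ≫ pullback.snd p₁ ι)
    (pullback.snd (pullback.fst p₁ ι ≫ p₂) ι)
  calc s' ≫ coequalizer.π _ _ = ρ ≫ (pullback.fst (pullback.fst p₁ ι ≫ p₂) ι ≫
        pullback.snd p₁ ι) ≫ coequalizer.π _ _ := by rw [← Category.assoc, h1]
    _ = ρ ≫ pullback.snd (pullback.fst p₁ ι ≫ p₂) ι ≫ coequalizer.π _ _ := by rw [hc]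
    _ = t' ≫ coequalizer.π _ _ := by rw [← Category.assoc, h2]

end Groth.Agent.Lib.Helper14.GrpQuot
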