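import Groth.Agent.Lib.Helper14.GrpQuot3
import Groth.Agent.Lib.Helper14.SubQuot2
import Mathlib.Tactic.Group

/-!
# The kernel pair of `L ⟶ G ⟶ G/H` (helper14)
-/

set_option autoImplicit false

universe v u

open CategoryTheory CategoryTheory.Limits MonoidalCategory CartesianMonoidalCategory MonObj

namespace Groth.Agent.Lib.Helper14.GrpQuot

variable {𝒮 : Type u} [Category.{v} 𝒮] [CartesianMonoidalCategory 𝒮]

variable [HasPullbacks 𝒮] [EqRelEff 𝒮]

section

variable {H L G : 𝒮} [GrpObj H] [GrpObj L] [GrpObj G] (u : H ⟶ G) (l : L ⟶ G)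
  [Mono u] [Mono l] [IsMonHom u] [IsMonHom l]
  [HasCoequalizer (fst G H) ((G ◁ u) ≫ μ[G])]

/-- S6055, abstract form. -/
theorem isKernelPair_comp_quotπ :
    IsKernelPair (l ≫ coequalizer.π (fst G H) ((G ◁ u) ≫ μ[G]))
      (fst L (pullback u l)) ((L ◁ pullback.snd u l) ≫ μ[L]) := by
  have hform : ∀ {Y : 𝒮} (r : Y ⟶ L ⊗ pullback u l),
      r ≫ (L ◁ pullback.snd u l) ≫ μ[L] =
        (r ≫ fst _ _) * (r ≫ snd _ _ ≫ pullback.snd u l) := by
    intro Y r
    rw [← Category.assoc, comp_mul_eq]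
    simp
  apply isKernelPair_of_yoneda
  · -- commutativity
    rw [← Category.assoc, ← Category.assoc, quotπ_eq_iff u]
    refine ⟨snd _ _ ≫ pullback.fst u l, ?_⟩
    have h1 := hform (𝟙 (L ⊗ pullback u l))
    rw [Category.id_comp, Category.id_comp, Category.id_comp] at h1
    rw [Category.assoc, h1, MonObj.mul_comp, Category.assoc, pullback.condition]
  · exact quot_jointlyMono₂ (pullback.snd u l)
  · intro Y x y hxy
    rw [← Category.assoc, ← Category.assoc, quotπ_eq_iff u] at hxy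
    obtain ⟨e, he⟩ := hxy
    have h2 : e ≫ u = (x⁻¹ * y) ≫ l := by
      rw [MonObj.mul_comp, GrpObj.inv_comp, ← he]
      group
    refine ⟨lift x (pullback.lift e (x⁻¹ * y) h2), by simp, ?_⟩
    rw [hform]
    simp only [lift_fst, lift_snd_assoc, pullback.lift_snd]
    group

end

end Groth.Agent.Lib.Helper14.GrpQuot
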