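import Groth.Agent.Lib.Helper14.SubGrp1

/-!
# Subgroups of `G/H` and subgroups of `G` containing `H` (helper14)
-/

set_option autoImplicit false

universe v u

open CategoryTheory CategoryTheory.Limits MonoidalCategory CartesianMonoidalCategory MonObj

namespace Groth.Agent.Lib.Helper14.GrpQuot

variable {𝒮 : Type u} [Category.{v} 𝒮]

/-- A subobject stable under an effective relation comes from the quotient. -/
theorem exists_pullback_eq_of_stable [EpiUnivEff 𝒮] [HasPullbacks 𝒮] [HasEpiMonoFact 𝒮]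
    {R X Q : 𝒮} {p₁ p₂ : R ⟶ X} (π : X ⟶ Q) [Epi π] (hk : IsKernelPair π p₁ p₂)
    (Y : Subobject X) (hY : (Subobject.pullback p₁).obj Y = (Subobject.pullback p₂).obj Y) :
    ∃ A : Subobject Q, (Subobject.pullback π).obj A = Y := by
  obtain ⟨I, q, m, hq, hm, hqm⟩ := HasEpiMonoFact.fact (Y.arrow ≫ π)
  refine ⟨Subobject.mk m, le_antisymm ?_ ?_⟩
  · apply Subobject.le_of_factors
    set x := ((Subobject.pullback π).obj (Subobject.mk m)).arrow with hx
    have h1 : (Subobject.mk m).Factors (x ≫ π) := by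
      rw [← pullback_factors_iff]
      exact Subobject.factors_self _
    obtain ⟨z, hz⟩ := (Subobject.mk_factors_iff m _).1 h1
    obtain ⟨W', p, hp, y, hy⟩ := exists_local_lift q z
    apply factors_of_epi_comp p
    have hcomm : (p ≫ x) ≫ π = (y ≫ Y.arrow) ≫ π := by
      rw [Category.assoc, Category.assoc, ← hqm, ← Category.assoc y, hy, Category.assoc]
      change p ≫ x ≫ π = p ≫ z ≫ (MonoOver.mk m).arrow
      rw [hz]
    have hr1 : hk.lift _ _ hcomm ≫ p₁ = p ≫ x := hk.lift_fst _ _ hcomm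
    have hr2 : hk.lift _ _ hcomm ≫ p₂ = y ≫ Y.arrow := hk.lift_snd _ _ hcomm
    rw [← hr1, ← pullback_factors_iff, hY, pullback_factors_iff, hr2]
    exact Subobject.factors_of_factors_right _ (Subobject.factors_self Y)
  · apply Subobject.le_of_factors
    rw [pullback_factors_iff, ← hqm]
    exact Subobject.factors_of_factors_right _ (Subobject.mk_factors_self m)

variable [CartesianMonoidalCategory 𝒮]

theorem comp_whiskerLeft_mul {G P : 𝒮} [MonObj G] {Y : 𝒮} (r : Y ⟶ G ⊗ P) (f : P ⟶ G) :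
    r ≫ (G ◁ f) ≫ μ[G] = (r ≫ fst _ _) * (r ≫ snd _ _ ≫ f) := by
  rw [← Category.assoc, comp_mul_eq]
  simp

variable [EpiUnivEff 𝒮] [HasPullbacks 𝒮] [EqRelEff 𝒮] [HasEpiMonoFact 𝒮]

section

variable {H G : 𝒮} [GrpObj H] [GrpObj G] (u : H ⟶ G) [Mono u] [IsMonHom u]
  [HasCoequalizer (fst G H) ((G ◁ u) ≫ μ[G])]

theorem comp_quotπ_eq_one [GrpObj (coequalizer (fst G H) ((G ◁ u) ≫ μ[G]))]
    [IsMonHom (coequalizer.π (fst G H) ((G ◁ u) ≫ μ[G]))] :
    u ≫ coequalizer.π (fst G H) ((G ◁ u) ≫ μ[G]) = 1 := by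
  have : (1 : H ⟶ G) ≫ coequalizer.π (fst G H) ((G ◁ u) ≫ μ[G]) =
      u ≫ coequalizer.π (fst G H) ((G ◁ u) ≫ μ[G]) := by
    rw [quotπ_eq_iff u]
    exact ⟨𝟙 H, by rw [Category.id_comp, _root_.one_mul]⟩
  rw [← this, MonObj.one_comp]

theorem stable_of_isSubgroupSub {K : Subobject G} (hK : IsSubgroupSub K) (hu : K.Factors u) :
    (Subobject.pullback (fst G H)).obj K = (Subobject.pullback ((G ◁ u) ≫ μ[G])).obj K := by
  apply le_antisymm
  · apply Subobject.le_of_factors
    have h1 : K.Factors (((Subobject.pullback (fst G H)).obj K).arrow ≫ fst G H) := by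
      rw [← pullback_factors_iff]
      exact Subobject.factors_self _
    rw [pullback_factors_iff, comp_whiskerLeft_mul]
    refine hK.mul _ _ h1 ?_
    rw [← Category.assoc]
    exact Subobject.factors_of_factors_right _ hu
  · apply Subobject.le_of_factors
    have h1 : K.Factors (((Subobject.pullback ((G ◁ u) ≫ μ[G])).obj K).arrow ≫ (G ◁ u) ≫ μ[G]) := by
      rw [← pullback_factors_iff]
      exact Subobject.factors_self _
    rw [comp_whiskerLeft_mul] at h1
    rw [pullback_factors_iff]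
    set r := ((Subobject.pullback ((G ◁ u) ≫ μ[G])).obj K).arrow
    have h2 : K.Factors (r ≫ snd _ _ ≫ u) := by
      rw [← Category.assoc]
      exact Subobject.factors_of_factors_right _ hu
    have h3 := hK.mul _ _ h1 (hK.inv _ h2)
    rwa [mul_inv_cancel_right] at h3

/-- S6050 (first part), abstract form. -/
theorem subgroup_bijOn [GrpObj (coequalizer (fst G H) ((G ◁ u) ≫ μ[G]))]
    [IsMonHom (coequalizer.π (fst G H) ((G ◁ u) ≫ μ[G]))] :
    Set.BijOn (Subobject.pullback (coequalizer.π (fst G H) ((G ◁ u) ≫ μ[G]))).obj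
      {K' | IsSubgroupSub K'} {K | Subobject.mk u ≤ K ∧ IsSubgroupSub K} := by
  refine ⟨?_, (pullback_obj_injective _).injOn, ?_⟩
  · intro K' hK'
    refine ⟨?_, IsSubgroupSub.pullback _ hK'⟩
    have h : ((Subobject.pullback (coequalizer.π (fst G H) ((G ◁ u) ≫ μ[G]))).obj K').Factors u := by
      rw [pullback_factors_iff, comp_quotπ_eq_one]
      exact hK'.one _
    exact Subobject.mk_le_of_comm (Subobject.factorThru _ u h) (Subobject.factorThru_arrow _ u h)
  · rintro K ⟨hle, hK⟩
    have hu : K.Factors u := Subobject.factors_of_le u hle (Subobject.mk_factors_self u)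
    obtain ⟨A, hA⟩ := exists_pullback_eq_of_stable
      (coequalizer.π (fst G H) ((G ◁ u) ≫ μ[G])) (isKernelPair_quotπ u) K
      (stable_of_isSubgroupSub u hK hu)
    refine ⟨A, ?_, hA⟩
    apply IsSubgroupSub.of_pullback (coequalizer.π (fst G H) ((G ◁ u) ≫ μ[G]))
    rw [hA]
    exact hK

end

end Groth.Agent.Lib.Helper14.GrpQuot
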