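import Groth.Agent.Lib.Helper14.QuotRel1
import Mathlib.CategoryTheory.Sites.LeftExact
import Mathlib.CategoryTheory.Sites.LocallySurjective
import Mathlib.CategoryTheory.Sites.RegularEpi

/-!
# Quotients of sheaves of sets by equivalence relations, general universe (helper14)
-/

set_option autoImplicit false

universe w v₁ u₁

open CategoryTheory CategoryTheory.Limits Opposite

namespace Groth.Agent.Lib.Helper14.QuotRel

variable {C : Type u₁} [Category.{v₁} C] {J : GrothendieckTopology C} [HasSheafify J (Type w)]

section

variable {R X : Sheaf J (Type w)} {p₁ p₂ : R ⟶ X}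

theorem jointlyMono₂_hom (h : JointlyMono₂ p₁ p₂) : JointlyMono₂ p₁.hom p₂.hom where
  right_cancellation Y f g h1 h2 := by
    let adj := sheafificationAdjunction J (Type w)
    apply (adj.homEquiv Y R).symm.injective
    apply h.right_cancellation
    · rw [← adj.homEquiv_naturality_right_symm, ← adj.homEquiv_naturality_right_symm]
      exact congrArg _ h1
    · rw [← adj.homEquiv_naturality_right_symm, ← adj.homEquiv_naturality_right_symm]
      exact congrArg _ h2

/-- The underlying presheaf maps of an equivalence relation of sheaves form an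
equivalence relation of presheaves. -/
noncomputable def homEquivalenceRelation (e : EquivalenceRelation p₁ p₂) :
    EquivalenceRelation p₁.hom p₂.hom :=
  haveI : JointlyMono₂ ((sheafToPresheaf J (Type w)).map p₁) ((sheafToPresheaf J (Type w)).map p₂) :=
    jointlyMono₂_hom e.toJointlyMono₂
  haveI : PreservesLimitsOfShape WalkingCospan (sheafToPresheaf J (Type w)) :=
    (sheafificationAdjunction J (Type w)).rightAdjoint_preservesLimits.preservesLimitsOfShape
  { __ := e.toReflexiveRelation.map (sheafToPresheaf J (Type w))
    __ := e.toSymmetricRelation.map (sheafToPresheaf J (Type w))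
    __ := e.toTransitiveRelation.map (sheafToPresheaf J (Type w)) }

end

section

variable {R X : Sheaf J (Type w)} (p₁ p₂ : R ⟶ X)

/-- The sheaf quotient. -/
noncomputable def shQuot : Sheaf J (Type w) :=
  (presheafToSheaf J (Type w)).obj (quotPsh p₁.hom p₂.hom)

/-- The projection to the sheaf quotient. -/
noncomputable def shQuotπ : X ⟶ shQuot p₁ p₂ :=
  inv ((sheafificationAdjunction J (Type w)).counit.app X) ≫
    (presheafToSheaf J (Type w)).map (quotMk p₁.hom p₂.hom)

variable {p₁ p₂} (e : EquivalenceRelation p₁ p₂)

include e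

theorem isPullback_shQuotπ : IsPullback p₁ p₂ (shQuotπ p₁ p₂) (shQuotπ p₁ p₂) := by
  have h := (isPullback_quotMk (homEquivalenceRelation e)).map (presheafToSheaf J (Type w))
  refine h.of_iso (asIso ((sheafificationAdjunction J (Type w)).counit.app R))
    (asIso ((sheafificationAdjunction J (Type w)).counit.app X))
    (asIso ((sheafificationAdjunction J (Type w)).counit.app X)) (Iso.refl _) ?_ ?_ ?_ ?_
  · exact (sheafificationAdjunction J (Type w)).counit.naturality p₁
  · exact (sheafificationAdjunction J (Type w)).counit.naturality p₂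
  · simp only [shQuotπ, Iso.refl_hom, asIso_hom, IsIso.hom_inv_id_assoc]
    exact Category.comp_id _
  · simp only [shQuotπ, Iso.refl_hom, asIso_hom, IsIso.hom_inv_id_assoc]
    exact Category.comp_id _

theorem isPushout_shQuotπ : IsPushout p₁ p₂ (shQuotπ p₁ p₂) (shQuotπ p₁ p₂) := by
  have : PreservesColimitsOfSize.{0, 0} (presheafToSheaf J (Type w)) :=
    (sheafificationAdjunction J (Type w)).leftAdjoint_preservesColimits
  have h := (isPushout_quotMk (homEquivalenceRelation e)).map (presheafToSheaf J (Type w))
  refine h.of_iso (asIso ((sheafificationAdjunction J (Type w)).counit.app R))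
    (asIso ((sheafificationAdjunction J (Type w)).counit.app X))
    (asIso ((sheafificationAdjunction J (Type w)).counit.app X)) (Iso.refl _) ?_ ?_ ?_ ?_
  · exact (sheafificationAdjunction J (Type w)).counit.naturality p₁
  · exact (sheafificationAdjunction J (Type w)).counit.naturality p₂
  · simp only [shQuotπ, Iso.refl_hom, asIso_hom, IsIso.hom_inv_id_assoc]
    exact Category.comp_id _
  · simp only [shQuotπ, Iso.refl_hom, asIso_hom, IsIso.hom_inv_id_assoc]
    exact Category.comp_id _

end

omit [HasSheafify J (Type w)] in
/-- Locally surjective morphisms of sheaves of sets are stable under base change. -/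
theorem isLocallySurjective_of_isPullback {X' Y' X Y : Sheaf J (Type w)} {f' : X' ⟶ Y'}
    {i₁ : X' ⟶ X} {i₂ : Y' ⟶ Y} {f : X ⟶ Y} (h : IsPullback f' i₁ i₂ f)
    [Sheaf.IsLocallySurjective f] : Sheaf.IsLocallySurjective f' := by
  constructor
  intro U s
  refine J.superset_covering ?_ (Presheaf.imageSieve_mem J f.hom (i₂.hom.app _ s))
  rintro V g ⟨t, ht⟩
  have hV := h.map (sheafToPresheaf J (Type w) ⋙ (evaluation Cᵒᵖ (Type w)).obj (op V))
  obtain ⟨z, hz1, -⟩ := Types.exists_of_isPullback hV (Y'.obj.map g.op s) t (by
    refine Eq.trans ?_ ht.symm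
    exact NatTrans.naturality_apply i₂.hom g.op s)
  exact ⟨z, hz1⟩

/-- Epimorphisms of sheaves of sets are universally effective epimorphisms. -/
theorem universally_effectiveEpi_of_epi {X Y : Sheaf J (Type w)} (π : X ⟶ Y) [Epi π] :
    MorphismProperty.universally (fun _ _ f => EffectiveEpi f) π := by
  intro X' Y' i₁ i₂ π' h
  have : Sheaf.IsLocallySurjective π := (Sheaf.isLocallySurjective_iff_epi π).2 inferInstance
  have : Sheaf.IsLocallySurjective π' := isLocallySurjective_of_isPullback h
  have : Epi π' := (Sheaf.isLocallySurjective_iff_epi π').1 inferInstance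
  exact (isRegularEpi_iff_effectiveEpi _).1 (IsRegularEpiCategory.regularEpiOfEpi _)

/-- S5217. -/
theorem sheaf_isUniversallyEffective {R X : Sheaf J (Type w)} (p₁ p₂ : R ⟶ X)
    [IsEquivalenceRelation p₁ p₂] : IsUniversallyEffectiveEquivalenceRelation p₁ p₂ := by
  obtain ⟨e⟩ := IsEquivalenceRelation.nonempty_equivalenceRelation (p₁ := p₁) (p₂ := p₂)
  have : Epi (shQuotπ p₁ p₂) := by
    have h0 : Epi (quotMk p₁.hom p₂.hom) := inferInstance
    have hF : (presheafToSheaf J (Type w)).PreservesEpimorphisms :=
      Functor.preservesEpimorphisms_of_adjunction (sheafificationAdjunction J (Type w))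
    have h1 : Epi ((presheafToSheaf J (Type w)).map (quotMk p₁.hom p₂.hom)) :=
      (presheafToSheaf J (Type w)).map_epi _
    unfold shQuotπ
    exact @epi_comp _ _ _ _ _ _ inferInstance _ h1
  exact ⟨⟨{ toEquivalenceRelation := e
            B := shQuot p₁ p₂
            π := shQuotπ p₁ p₂
            isKernelPair := isPullback_shQuotπ e
            isPushout := isPushout_shQuotπ e
            universally_effectiveEpi_π := universally_effectiveEpi_of_epi _ }⟩⟩

end Groth.Agent.Lib.Helper14.QuotRel
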