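import Groth.Agent.Lib.Helper14.GrpQuot3
import Groth.Agent.Lib.Helper14.QuotRel2
import Mathlib.CategoryTheory.Sites.CartesianMonoidal
import Mathlib.CategoryTheory.Sites.Limits

/-!
# Sheaves of sets satisfy the exactness hypotheses of `GrpQuot` (helper14)
-/

set_option autoImplicit false

universe w v₁ u₁

open CategoryTheory CategoryTheory.Limits

namespace Groth.Agent.Lib.Helper14.GrpQuot

variable {C : Type u₁} [Category.{v₁} C] {J : GrothendieckTopology C} [HasSheafify J (Type w)]

instance : EpiUnivEff (Sheaf J (Type w)) :=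
  ⟨fun f _ => QuotRel.universally_effectiveEpi_of_epi f⟩

instance : EqRelEff (Sheaf J (Type w)) :=
  ⟨fun p₁ p₂ _ => by
    obtain ⟨⟨e⟩⟩ := QuotRel.sheaf_isUniversallyEffective p₁ p₂
    exact ⟨⟨e.toEffectiveEquivalenceRelation⟩⟩⟩

example : HasPullbacks (Sheaf J (Type w)) := inferInstance

end Groth.Agent.Lib.Helper14.GrpQuot
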