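import Mathlib.CategoryTheory.Monoidal.Cartesian.Grp
import Mathlib.CategoryTheory.Monoidal.Grp
import Mathlib.CategoryTheory.Limits.Shapes.Pullback.IsPullback.Basic

/-!
# Trivialising a group homomorphism over a section (helper14)
-/

set_option autoImplicit false

universe v u

open CategoryTheory CategoryTheory.Limits MonoidalCategory CartesianMonoidalCategory MonObj GrpObj

namespace Groth.Agent.Lib.Helper14.GrpTriv

variable {C : Type u} [Category.{v} C] [CartesianMonoidalCategory C]

theorem isPullback_fst_snd_toUnit (N V : C) :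
    IsPullback (fst N V) (snd N V) (toUnit N) (toUnit V) :=
  ⟨⟨toUnit_unique _ _⟩, ⟨PullbackCone.IsLimit.mk _ (fun s => lift s.fst s.snd)
    (fun s => by simp)
    (fun s => by simp)
    (fun s m h1 h2 => by
      apply CartesianMonoidalCategory.hom_ext
      · simpa using h1
      · simpa using h2)⟩⟩

/-- if `g : V ⟶ H` lifts to `h : V ⟶ G` through the homomorphism `f : G ⟶ H` with kernel `N`,
then the base change of `f` along `g` is `N ⊗ V ⟶ V` -/
theorem isPullback_trivialization {G H N V : C} [GrpObj G] [GrpObj H] (f : G ⟶ H) [IsMonHom f]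
    (i : N ⟶ G) (hi : IsPullback i (toUnit N) f η[H]) (g : V ⟶ H) (h : V ⟶ G)
    (hg : h ≫ f = g) :
    IsPullback ((fst N V ≫ i) * (snd N V ≫ h)) (snd N V) f g := by
  have hif : i ≫ f = 1 := by
    rw [hi.w, Hom.one_def]
  have hw : ((fst N V ≫ i) * (snd N V ≫ h)) ≫ f = snd N V ≫ g := by
    rw [MonObj.mul_comp, Category.assoc, Category.assoc, hif, MonObj.comp_one, _root_.one_mul, hg]
  have hker : ∀ {T : C} (x : T ⟶ G) (v : T ⟶ V), x ≫ f = v ≫ g →
      (x * (v ≫ h)⁻¹) ≫ f = toUnit T ≫ η[H] := by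
    intro T x v hc
    rw [MonObj.mul_comp, GrpObj.inv_comp, Category.assoc, hg, hc, mul_inv_cancel, Hom.one_def]
  refine ⟨⟨hw⟩, ⟨PullbackCone.IsLimit.mk _ (fun s => lift
    (hi.lift (s.fst * (s.snd ≫ h)⁻¹) (toUnit _) (hker s.fst s.snd s.condition)) s.snd) ?_ ?_ ?_⟩⟩
  · intro s
    rw [MonObj.comp_mul, ← Category.assoc, ← Category.assoc, lift_fst, lift_snd, hi.lift_fst,
      inv_mul_cancel_right]
  · intro s
    rw [lift_snd]
  · intro s m h1 h2
    apply CartesianMonoidalCategory.hom_ext
    · rw [lift_fst]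
      apply hi.hom_ext
      · rw [hi.lift_fst, eq_mul_inv_iff_mul_eq, ← h1, MonObj.comp_mul, ← h2]
        simp only [Category.assoc]
      · exact toUnit_unique _ _
    · rw [lift_snd]
      exact h2

end Groth.Agent.Lib.Helper14.GrpTriv
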