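import Mathlib
import Groth.Agent.Lib.Helper14.HilbSep1
import Groth.Agent.Lib.Helper14.WeilClosed3

set_option autoImplicit false
universe u
open CategoryTheory CategoryTheory.Limits AlgebraicGeometry

namespace Groth.Agent.Lib.Helper14.HilbSep

variable {X S : Scheme.{u}} (f : X ⟶ S) (d : ℕ)

/-- finite locally free of degree `d` is stable under base change -/
lemma isFinLocFreeOfDeg_of_isPullback {P A B C : Scheme.{u}} (fst : P ⟶ A) (snd : P ⟶ B)
    (p : A ⟶ C) (g : B ⟶ C) (h : IsPullback fst snd p g) (hp : Mor2.IsFinLocFreeOfDeg d p) :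
    Mor2.IsFinLocFreeOfDeg d snd := by
  obtain ⟨⟨h1, h2, h3⟩, h4⟩ := hp
  haveI := h1; haveI := h2; haveI := h3
  refine ⟨⟨MorphismProperty.of_isPullback (P := @IsFinite) h h1,
    MorphismProperty.of_isPullback (P := @Flat) h h2,
    MorphismProperty.of_isPullback (P := @LocallyOfFinitePresentation) h h3⟩, fun y => ?_⟩
  rw [Scheme.Hom.finrank_of_isPullback fst snd p g h y, h4]

lemma isFinLocFreeOfDeg_iso_comp {A A' B : Scheme.{u}} (θ : A' ⟶ A) [IsIso θ] (p : A ⟶ B)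
    (hp : Mor2.IsFinLocFreeOfDeg d p) : Mor2.IsFinLocFreeOfDeg d (θ ≫ p) := by
  obtain ⟨⟨h1, h2, h3⟩, h4⟩ := hp
  haveI := h1; haveI := h2; haveI := h3
  refine ⟨⟨inferInstance, inferInstance, inferInstance⟩, fun y => ?_⟩
  rw [Scheme.Hom.finrank_comp_left_of_isIso, h4]

lemma isFinLocFreeOfDeg_imageι {A B C : Scheme.{u}} (c : A ⟶ B) [IsClosedImmersion c] (p : B ⟶ C)
    (h : Mor2.IsFinLocFreeOfDeg d (c ≫ p)) : Mor2.IsFinLocFreeOfDeg d (c.imageι ≫ p) := by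
  have h2 : c.imageι ≫ p = inv c.toImage ≫ (c ≫ p) := by
    rw [IsIso.eq_inv_comp, ← Category.assoc, c.toImage_imageι]
  rw [h2]
  exact isFinLocFreeOfDeg_iso_comp d _ _ h

/-- `pull` preserves `Hilb^d` -/
lemma pull_isFinLocFreeOfDeg {T T' : Over S} (g : T' ⟶ T) (I : (PicF.XT f T).IdealSheafData)
    (hI : Mor2.IsFinLocFreeOfDeg d (I.subschemeι ≫ PicF.XTproj f T)) :
    Mor2.IsFinLocFreeOfDeg d ((HilbD.pull f g I).subschemeι ≫ PicF.XTproj f T') := by
  have h1 : Mor2.IsFinLocFreeOfDeg d (bcι f g I ≫ PicF.XTproj f T') :=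
    isFinLocFreeOfDeg_of_isPullback d _ _ _ _ (isPullback_bcZ f g I) hI
  exact isFinLocFreeOfDeg_imageι d (bcι f g I) _ h1

/-- the pulled back object -/
noncomputable def pullObj {T T' : Over S} (g : T' ⟶ T) (Z : HilbD.Obj f d T) : HilbD.Obj f d T' :=
  ⟨HilbD.pull f g Z.1, pull_isFinLocFreeOfDeg f d g Z.1 Z.2⟩

/-- equalizer criterion from universality -/
lemma eq_iff_pull_eq {H : Over S} (Z : HilbD.Obj f d H) (hZ : HilbD.IsUniversal f d H Z)
    {T : Over S} (g₁ g₂ : T ⟶ H) :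
    g₁ = g₂ ↔ HilbD.pull f g₁ Z.1 = HilbD.pull f g₂ Z.1 := by
  constructor
  · rintro rfl; rfl
  · intro h
    obtain ⟨g, _, hg⟩ := hZ T (pullObj f d g₁ Z)
    rw [hg g₁ rfl, hg g₂ h.symm]

end Groth.Agent.Lib.Helper14.HilbSep
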