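import Mathlib
import Groth.Agent.Lib.Helper14.HilbSep2

set_option autoImplicit false
universe u
open CategoryTheory CategoryTheory.Limits AlgebraicGeometry

namespace Groth.Agent.Lib.Helper14.HilbSep

variable {X S : Scheme.{u}} (f : X ⟶ S) (d : ℕ)

section

variable {H T : Over S} (I : (PicF.XT f H).IdealSheafData) (g₁ g₂ : T ⟶ H)

instance {T' : Over S} (g : T' ⟶ H) : IsClosedImmersion (bcι f g I) := by
  unfold bcι
  infer_instance

/-- structure map of `Z₁ = g₁^* Z` to `T` -/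
noncomputable abbrev strT : bcZ f g₁ I ⟶ T.left := bcι f g₁ I ≫ PicF.XTproj f T

/-- the map `Z₁ ⟶ X_H` through `g₂` -/
noncomputable abbrev cross : bcZ f g₁ I ⟶ PicF.XT f H := bcι f g₁ I ≫ PicF.XTmap f g₂

/-- the comparison `(t ≫ g₁)^* Z ⟶ g₁^* Z` -/
noncomputable def kap {T' : Over S} (t : T' ⟶ T) : bcZ f (t ≫ g₁) I ⟶ bcZ f g₁ I :=
  pullback.lift (pullback.fst _ _) (bcι f (t ≫ g₁) I ≫ PicF.XTmap f t)
    (by rw [pullback.condition, Category.assoc, ← XTmap_comp])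

lemma kap_fst {T' : Over S} (t : T' ⟶ T) :
    kap f I g₁ t ≫ pullback.fst _ _ = pullback.fst _ _ := pullback.lift_fst _ _ _

lemma kap_bcι {T' : Over S} (t : T' ⟶ T) :
    kap f I g₁ t ≫ bcι f g₁ I = bcι f (t ≫ g₁) I ≫ PicF.XTmap f t := pullback.lift_snd _ _ _

lemma kap_strT {T' : Over S} (t : T' ⟶ T) :
    kap f I g₁ t ≫ strT f I g₁ = (bcι f (t ≫ g₁) I ≫ PicF.XTproj f T') ≫ t.left := by
  rw [strT, ← Category.assoc, kap_bcι, Category.assoc, XTmap_snd, Category.assoc]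

lemma isPullback_kap {T' : Over S} (t : T' ⟶ T) :
    IsPullback (kap f I g₁ t) (bcι f (t ≫ g₁) I ≫ PicF.XTproj f T') (strT f I g₁) t.left := by
  have big := isPullback_bcZ f (t ≫ g₁) I
  rw [← kap_fst f I g₁ t] at big
  exact IsPullback.of_right big (kap_strT f I g₁ t) (isPullback_bcZ f g₁ I)

/-- **Key equivalence**: `(t≫g₁)^*Z ⊆ (t≫g₂)^*Z` iff every point of `Z₁` over `t` maps into `Z`
through `g₂`. -/
lemma factors_iff_univ {T' : Over S} (t : T' ⟶ T) :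
    (∃ l : bcZ f (t ≫ g₁) I ⟶ bcZ f (t ≫ g₂) I, l ≫ bcι f (t ≫ g₂) I = bcι f (t ≫ g₁) I) ↔
      WeilClosed.Univ (strT f I g₁) (WeilClosed.Factors I.subschemeι (cross f I g₁ g₂)) t.left := by
  rw [factors_bcι_iff]
  constructor
  · rintro ⟨e₀, he₀⟩ T'' z s hz
    let z' := (isPullback_kap f I g₁ t).lift z s hz
    have hz' : z' ≫ kap f I g₁ t = z := (isPullback_kap f I g₁ t).lift_fst _ _ _
    refine ⟨z' ≫ e₀, ?_⟩
    rw [Category.assoc, he₀, XTmap_comp, ← hz', cross, Category.assoc]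
    rw [← Category.assoc (kap f I g₁ t), kap_bcι, Category.assoc]
  · intro hU
    obtain ⟨e₁, he₁⟩ := hU _ (kap f I g₁ t) (bcι f (t ≫ g₁) I ≫ PicF.XTproj f T')
      (kap_strT f I g₁ t)
    refine ⟨e₁, ?_⟩
    rw [he₁, cross, ← Category.assoc, kap_bcι, Category.assoc, XTmap_comp]

end

/-- the equalizer of `g₁ g₂ : T ⟶ H` in terms of the two universal conditions -/
lemma comp_eq_iff {H : Over S} (Z : HilbD.Obj f d H) (hZ : HilbD.IsUniversal f d H Z)
    {T T' : Over S} (g₁ g₂ : T ⟶ H) (t : T' ⟶ T) :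
    t ≫ g₁ = t ≫ g₂ ↔
      WeilClosed.Univ (strT f Z.1 g₁) (WeilClosed.Factors Z.1.subschemeι (cross f Z.1 g₁ g₂)) t.left ∧
      WeilClosed.Univ (strT f Z.1 g₂) (WeilClosed.Factors Z.1.subschemeι (cross f Z.1 g₂ g₁)) t.left := by
  rw [eq_iff_pull_eq f d Z hZ, pull_eq_ker, pull_eq_ker, ker_eq_iff, factors_iff_univ,
    factors_iff_univ]

end Groth.Agent.Lib.Helper14.HilbSep
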