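import Mathlib
import Groth.Agent.Lib.Helper14.HilbSep3

set_option autoImplicit false
universe u
open CategoryTheory CategoryTheory.Limits AlgebraicGeometry

namespace Groth.Agent.Lib.Helper14.HilbSep

open WeilClosed in
/-- the closed locus of the base over which a finite locally free scheme maps into a closed
subscheme (no finite presentation assumed on the closed subscheme). -/
theorem exists_closed_univ_factors {B Z₁ W E : Scheme.{u}} (p : Z₁ ⟶ B) [IsFinite p] [Flat p]
    [LocallyOfFinitePresentation p] (γ : Z₁ ⟶ W) (j : E ⟶ W) [IsClosedImmersion j] :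
    ∃ (C : Scheme.{u}) (c : C ⟶ B), IsClosedImmersion c ∧
      ∀ (T' : Scheme.{u}) (x : T' ⟶ B), Univ p (Factors j γ) x ↔ ∃ l : T' ⟶ C, l ≫ c = x := by
  have hfin : ∀ U : B.affineOpens,
      @Module.Projective Γ(B, U) _ (chM p U.2.fromSpec) _
        (chφ p U.2.fromSpec).hom.toAlgebra.toModule := by
    intro U
    have h1 : IsFinite (Spec.map (chφ p U.2.fromSpec)) := by
      rw [chφ_spec]; infer_instance
    have h2 : Flat (Spec.map (chφ p U.2.fromSpec)) := by
      rw [chφ_spec]; infer_instance
    have h3 : LocallyOfFinitePresentation (Spec.map (chφ p U.2.fromSpec)) := by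
      rw [chφ_spec]; infer_instance
    rw [IsFinite.SpecMap_iff] at h1
    rw [Flat.SpecMap_iff] at h2
    rw [LocallyOfFinitePresentation.SpecMap_iff] at h3
    algebraize [(chφ p U.2.fromSpec).hom]
    haveI : Module.FinitePresentation Γ(B, U) (chM p U.2.fromSpec) :=
      Module.FinitePresentation.of_finite_of_finitePresentation _ _
    exact Module.Flat.projective_of_finitePresentation
  obtain ⟨C, c, hc, hfix, huniv⟩ := exists_closed_univ_on_basis p
    (isLocalPred_factors j γ) Set.univ (fun _ _ _ _ => Set.mem_univ _)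
    (fun x => by
      obtain ⟨_, ⟨U, hU, rfl⟩, hx, -⟩ := B.isBasis_affineOpens.exists_subset_of_mem_open
        (Set.mem_univ x) isOpen_univ
      exact ⟨⟨U, hU⟩, Set.mem_univ _, hx⟩)
    (fun U _ => hfin U)
    (fun U _ => by
      obtain ⟨K, -, hK⟩ := exists_cutIdeal_factors p j γ U.2.fromSpec
      exact ⟨K, hK⟩)
  refine ⟨C, c, hc, fun T' x => ⟨fun h => huniv T' x h, ?_⟩⟩
  rintro ⟨l, rfl⟩
  exact (isLocalPred_univ (isLocalPred_factors j γ)).comp l c hfix

end Groth.Agent.Lib.Helper14.HilbSep
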