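import Mathlib
import Groth.Agent.Lib.Helper14.HilbSep4

set_option autoImplicit false
universe u
open CategoryTheory CategoryTheory.Limits AlgebraicGeometry

namespace Groth.Agent.Lib.Helper14.HilbSep

variable {X S : Scheme.{u}} (f : X ⟶ S) (d : ℕ)

/-- the equalizer of two points of `Hilb^d` is a closed subscheme -/
theorem exists_closed_equalizer {H : Over S} (Z : HilbD.Obj f d H) (hZ : HilbD.IsUniversal f d H Z)
    {T : Over S} (g₁ g₂ : T ⟶ H) :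
    ∃ (E : Scheme.{u}) (ιE : E ⟶ T.left), IsClosedImmersion ιE ∧
      ∀ (T' : Scheme.{u}) (x : T' ⟶ T.left),
        (∃ l : T' ⟶ E, l ≫ ιE = x) ↔ x ≫ g₁.left = x ≫ g₂.left := by
  have hfl₁ : Mor2.IsFinLocFreeOfDeg d (strT f Z.1 g₁) :=
    isFinLocFreeOfDeg_of_isPullback d _ _ _ _ (isPullback_bcZ f g₁ Z.1) Z.2
  have hfl₂ : Mor2.IsFinLocFreeOfDeg d (strT f Z.1 g₂) :=
    isFinLocFreeOfDeg_of_isPullback d _ _ _ _ (isPullback_bcZ f g₂ Z.1) Z.2
  obtain ⟨⟨a1, a2, a3⟩, -⟩ := hfl₁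
  obtain ⟨⟨b1, b2, b3⟩, -⟩ := hfl₂
  obtain ⟨C₁, c₁, hc₁, hC₁⟩ := exists_closed_univ_factors (strT f Z.1 g₁) (cross f Z.1 g₁ g₂)
    Z.1.subschemeι
  obtain ⟨C₂, c₂, hc₂, hC₂⟩ := exists_closed_univ_factors (strT f Z.1 g₂) (cross f Z.1 g₂ g₁)
    Z.1.subschemeι
  refine ⟨pullback c₁ c₂, pullback.fst c₁ c₂ ≫ c₁, inferInstance, fun T' x => ?_⟩
  let T'o : Over S := Over.mk (x ≫ T.hom)
  let t : T'o ⟶ T := Over.homMk x rfl
  have key := comp_eq_iff f d Z hZ g₁ g₂ t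
  have h1 : t ≫ g₁ = t ≫ g₂ ↔ x ≫ g₁.left = x ≫ g₂.left := by
    constructor
    · intro h
      exact congrArg (fun m => m.left) h
    · intro h
      exact Over.OverMorphism.ext h
  rw [← h1, key]
  change _ ↔ WeilClosed.Univ _ _ x ∧ WeilClosed.Univ _ _ x
  rw [hC₁ T' x, hC₂ T' x]
  constructor
  · rintro ⟨l, rfl⟩
    exact ⟨⟨l ≫ pullback.fst _ _, by rw [Category.assoc]⟩,
      ⟨l ≫ pullback.snd _ _, by rw [Category.assoc, ← pullback.condition]⟩⟩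
  · rintro ⟨⟨l₁, hl₁⟩, ⟨l₂, hl₂⟩⟩
    exact ⟨pullback.lift l₁ l₂ (by rw [hl₁, hl₂]), by rw [pullback.lift_fst_assoc, hl₁]⟩

/-- **`Hilb^d_{X/S}` is separated over `S`.** -/
theorem isSeparated_of_isUniversal (H : Over S) (Z : HilbD.Obj f d H)
    (hZ : HilbD.IsUniversal f d H Z) : IsSeparated H.hom := by
  let T : Over S := Over.mk (pullback.fst H.hom H.hom ≫ H.hom)
  let g₁ : T ⟶ H := Over.homMk (pullback.fst H.hom H.hom) rfl
  let g₂ : T ⟶ H := Over.homMk (pullback.snd H.hom H.hom) pullback.condition.symm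
  obtain ⟨E, ιE, hιE, hE⟩ := exists_closed_equalizer f d Z hZ g₁ g₂
  have hE' : ∀ (T' : Scheme.{u}) (x : T' ⟶ pullback H.hom H.hom),
      (∃ l : T' ⟶ E, l ≫ ιE = x) ↔ x ≫ pullback.fst H.hom H.hom = x ≫ pullback.snd H.hom H.hom :=
    hE
  obtain ⟨l, hl⟩ := (hE' _ (pullback.diagonal H.hom)).mpr
    (by rw [pullback.diagonal_fst, pullback.diagonal_snd])
  have hEeq : ιE ≫ pullback.fst H.hom H.hom = ιE ≫ pullback.snd H.hom H.hom :=
    (hE' _ ιE).mp ⟨𝟙 _, Category.id_comp _⟩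
  let r : E ⟶ H.left := ιE ≫ pullback.fst H.hom H.hom
  have hrΔ : r ≫ pullback.diagonal H.hom = ιE := by
    apply pullback.hom_ext
    · rw [Category.assoc, pullback.diagonal_fst, Category.comp_id]
    · rw [Category.assoc, pullback.diagonal_snd, Category.comp_id, ← hEeq]
  have hlr : l ≫ r = 𝟙 _ := by
    change l ≫ ιE ≫ _ = _
    rw [reassoc_of% hl, pullback.diagonal_fst]
  have hrl : r ≫ l = 𝟙 _ := by
    rw [← cancel_mono ιE, Category.assoc, hl, hrΔ, Category.id_comp]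
  haveI : IsIso l := ⟨r, hlr, hrl⟩
  constructor
  rw [← hl]
  infer_instance

end Groth.Agent.Lib.Helper14.HilbSep
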