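import Mathlib
import Groth.Agent.Lib.Helper14.HilbSep5

set_option autoImplicit false
universe u
open CategoryTheory CategoryTheory.Limits AlgebraicGeometry

namespace Groth.Agent.Lib.Helper14.HilbSep

/-- closed immersions with the same functor of points have the same kernel -/
lemma ker_eq_of_factors_iff {A₁ A₂ B : Scheme.{u}} (c₁ : A₁ ⟶ B) (c₂ : A₂ ⟶ B)
    [IsClosedImmersion c₁] [IsClosedImmersion c₂]
    (h : ∀ (A : Scheme.{u}) (x : A ⟶ B), (∃ l : A ⟶ A₁, l ≫ c₁ = x) ↔ (∃ l : A ⟶ A₂, l ≫ c₂ = x)) :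
    c₁.ker = c₂.ker :=
  (ker_eq_iff c₁ c₂).mpr ⟨(h _ c₁).mp ⟨𝟙 _, Category.id_comp _⟩, (h _ c₂).mpr ⟨𝟙 _, Category.id_comp _⟩⟩

lemma factors_iff_of_ker_eq {A₁ A₂ B : Scheme.{u}} (c₁ : A₁ ⟶ B) (c₂ : A₂ ⟶ B)
    [IsClosedImmersion c₁] [IsClosedImmersion c₂] (h : c₁.ker = c₂.ker)
    {A : Scheme.{u}} (x : A ⟶ B) : (∃ l : A ⟶ A₁, l ≫ c₁ = x) ↔ (∃ l : A ⟶ A₂, l ≫ c₂ = x) := by
  obtain ⟨⟨a, ha⟩, ⟨b, hb⟩⟩ := (ker_eq_iff c₁ c₂).mp h
  constructor
  · rintro ⟨l, rfl⟩; exact ⟨l ≫ a, by rw [Category.assoc, ha]⟩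
  · rintro ⟨l, rfl⟩; exact ⟨l ≫ b, by rw [Category.assoc, hb]⟩

/-- a closed immersion and the inclusion of its image have the same functor of points -/
lemma factors_imageι_iff {A B : Scheme.{u}} (c : A ⟶ B) [IsClosedImmersion c]
    {A' : Scheme.{u}} (x : A' ⟶ B) :
    (∃ l : A' ⟶ c.image, l ≫ c.imageι = x) ↔ (∃ l : A' ⟶ A, l ≫ c = x) := by
  constructor
  · rintro ⟨l, rfl⟩
    exact ⟨l ≫ inv c.toImage, by
      rw [Category.assoc]; congr 1; rw [IsIso.inv_comp_eq, c.toImage_imageι]⟩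
  · rintro ⟨l, rfl⟩
    exact ⟨l ≫ c.toImage, by rw [Category.assoc, c.toImage_imageι]⟩

variable {X S : Scheme.{u}} (f : X ⟶ S)

/-- points of `pull g I` -/
lemma factors_pull_iff {T T' : Over S} (g : T' ⟶ T) (I : (PicF.XT f T).IdealSheafData)
    {A : Scheme.{u}} (x : A ⟶ PicF.XT f T') :
    (∃ l : A ⟶ (HilbD.pull f g I).subscheme, l ≫ (HilbD.pull f g I).subschemeι = x) ↔
      ∃ e : A ⟶ I.subscheme, e ≫ I.subschemeι = x ≫ PicF.XTmap f g := by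
  rw [← factors_bcι_iff]
  exact factors_imageι_iff (bcι f g I) x

/-- `pull` of the kernel of a closed immersion -/
lemma factors_pull_ker_iff {T T' : Over S} (g : T' ⟶ T) {A₀ : Scheme.{u}}
    (a : A₀ ⟶ PicF.XT f T) [IsClosedImmersion a]
    {A : Scheme.{u}} (x : A ⟶ PicF.XT f T') :
    (∃ l : A ⟶ (HilbD.pull f g a.ker).subscheme, l ≫ (HilbD.pull f g a.ker).subschemeι = x) ↔
      ∃ e : A ⟶ A₀, e ≫ a = x ≫ PicF.XTmap f g := by
  rw [factors_pull_iff]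
  exact factors_imageι_iff a _

lemma ideal_eq_of_factors_iff {B : Scheme.{u}} (I₁ I₂ : B.IdealSheafData)
    (h : ∀ (A : Scheme.{u}) (x : A ⟶ B), (∃ l : A ⟶ I₁.subscheme, l ≫ I₁.subschemeι = x) ↔
      (∃ l : A ⟶ I₂.subscheme, l ≫ I₂.subschemeι = x)) : I₁ = I₂ := by
  rw [← I₁.ker_subschemeι, ← I₂.ker_subschemeι]
  exact ker_eq_of_factors_iff _ _ h

lemma XTmap_id (T : Over S) : PicF.XTmap f (𝟙 T) = 𝟙 _ := by
  apply pullback.hom_ext
  · rw [XTmap_fst, Category.id_comp]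
  · rw [XTmap_snd, Category.id_comp]
    exact Category.comp_id _

lemma pull_id {T : Over S} (I : (PicF.XT f T).IdealSheafData) : HilbD.pull f (𝟙 T) I = I := by
  apply ideal_eq_of_factors_iff
  intro A x
  rw [factors_pull_iff, XTmap_id, Category.comp_id]

lemma pull_comp {T T' T'' : Over S} (t : T'' ⟶ T') (g : T' ⟶ T) (I : (PicF.XT f T).IdealSheafData) :
    HilbD.pull f (t ≫ g) I = HilbD.pull f t (HilbD.pull f g I) := by
  apply ideal_eq_of_factors_iff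
  intro A x
  rw [factors_pull_iff, factors_pull_iff, factors_pull_iff, XTmap_comp, Category.assoc]

end Groth.Agent.Lib.Helper14.HilbSep
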