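import Mathlib
import Groth.Agent.Lib.Helper14.HilbSep6

set_option autoImplicit false
universe u
open CategoryTheory CategoryTheory.Limits AlgebraicGeometry

namespace Groth.Agent.Lib.Helper14.HilbSep

variable {X Y S : Scheme.{u}} (i : X ⟶ Y) (g : Y ⟶ S)

/-- `X_T ⟶ Y_T` -/
noncomputable abbrev jT (T : Over S) : PicF.XT (i ≫ g) T ⟶ PicF.XT g T :=
  pullback.map (i ≫ g) T.hom g T.hom i (𝟙 _) (𝟙 S) (Category.comp_id _) (by simp)

lemma push_eq_ker (T : Over S) (I : (PicF.XT (i ≫ g) T).IdealSheafData) :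
    HilbD.push i g T I = (I.subschemeι ≫ jT i g T).ker := rfl

lemma jT_fst (T : Over S) :
    jT i g T ≫ pullback.fst g T.hom = pullback.fst (i ≫ g) T.hom ≫ i := pullback.lift_fst _ _ _

lemma jT_snd (T : Over S) :
    jT i g T ≫ pullback.snd g T.hom = pullback.snd (i ≫ g) T.hom := by
  unfold jT pullback.map
  rw [pullback.lift_snd, Category.comp_id]

lemma isPullback_jT (T : Over S) :
    IsPullback (jT i g T) (pullback.fst (i ≫ g) T.hom) (pullback.fst g T.hom) i := by
  have right : IsPullback (pullback.snd g T.hom) (pullback.fst g T.hom) T.hom g :=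
    (IsPullback.of_hasPullback g T.hom).flip
  have big : IsPullback (jT i g T ≫ pullback.snd g T.hom) (pullback.fst (i ≫ g) T.hom) T.hom
      (i ≫ g) := by
    rw [jT_snd]
    exact (IsPullback.of_hasPullback (i ≫ g) T.hom).flip
  exact IsPullback.of_right big (jT_fst i g T) right

instance [IsClosedImmersion i] (T : Over S) : IsClosedImmersion (jT i g T) :=
  MorphismProperty.of_isPullback (P := @IsClosedImmersion) (isPullback_jT i g T).flip inferInstance

lemma jT_XTmap {T T' : Over S} (t : T' ⟶ T) :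
    jT i g T' ≫ PicF.XTmap g t = PicF.XTmap (i ≫ g) t ≫ jT i g T := by
  apply pullback.hom_ext
  · rw [Category.assoc, XTmap_fst, jT_fst, Category.assoc, jT_fst, ← Category.assoc, XTmap_fst]
  · rw [Category.assoc, XTmap_snd, ← Category.assoc, jT_snd, Category.assoc, jT_snd, XTmap_snd]

lemma isPullback_jT_XTmap {T T' : Over S} (t : T' ⟶ T) :
    IsPullback (PicF.XTmap (i ≫ g) t) (jT i g T') (jT i g T) (PicF.XTmap g t) := by
  have right := (isPullback_jT i g T).flip
  have big := (isPullback_jT i g T').flip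
  rw [← XTmap_fst (i ≫ g) t, ← XTmap_fst g t] at big
  exact IsPullback.of_right big (jT_XTmap i g t).symm right

/-- points of `push I` -/
lemma factors_push_iff [IsClosedImmersion i] (T : Over S) (I : (PicF.XT (i ≫ g) T).IdealSheafData)
    {A : Scheme.{u}} (x : A ⟶ PicF.XT g T) :
    (∃ l : A ⟶ (HilbD.push i g T I).subscheme, l ≫ (HilbD.push i g T I).subschemeι = x) ↔
      ∃ e : A ⟶ I.subscheme, e ≫ I.subschemeι ≫ jT i g T = x :=
  factors_imageι_iff (I.subschemeι ≫ jT i g T) x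

lemma push_injective [IsClosedImmersion i] (T : Over S) (I₁ I₂ : (PicF.XT (i ≫ g) T).IdealSheafData)
    (h : HilbD.push i g T I₁ = HilbD.push i g T I₂) : I₁ = I₂ := by
  apply ideal_eq_of_factors_iff
  intro A x
  have key : ∀ (J₁ J₂ : (PicF.XT (i ≫ g) T).IdealSheafData),
      HilbD.push i g T J₁ = HilbD.push i g T J₂ →
      (∃ l : A ⟶ J₁.subscheme, l ≫ J₁.subschemeι = x) →
      (∃ l : A ⟶ J₂.subscheme, l ≫ J₂.subschemeι = x) := by
    intro J₁ J₂ hJ hl
    obtain ⟨l, rfl⟩ := hl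
    have h1 : ∃ l' : A ⟶ (HilbD.push i g T J₁).subscheme,
        l' ≫ (HilbD.push i g T J₁).subschemeι = (l ≫ J₁.subschemeι) ≫ jT i g T :=
      (factors_push_iff i g T J₁ _).mpr ⟨l, by rw [Category.assoc]⟩
    rw [hJ] at h1
    obtain ⟨e, he⟩ := (factors_push_iff i g T J₂ _).mp h1
    refine ⟨e, ?_⟩
    rw [← cancel_mono (jT i g T), Category.assoc, he]
  exact ⟨key I₁ I₂ h, key I₂ I₁ h.symm⟩

/-- `push` preserves `Hilb^d` -/
lemma push_isFinLocFreeOfDeg [IsClosedImmersion i] (d : ℕ) (T : Over S)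
    (I : (PicF.XT (i ≫ g) T).IdealSheafData)
    (hI : Mor2.IsFinLocFreeOfDeg d (I.subschemeι ≫ PicF.XTproj (i ≫ g) T)) :
    Mor2.IsFinLocFreeOfDeg d ((HilbD.push i g T I).subschemeι ≫ PicF.XTproj g T) := by
  refine isFinLocFreeOfDeg_imageι d (I.subschemeι ≫ jT i g T) _ ?_
  rw [Category.assoc]
  have : jT i g T ≫ PicF.XTproj g T = PicF.XTproj (i ≫ g) T := jT_snd i g T
  rw [this]
  exact hI

noncomputable def pushObj [IsClosedImmersion i] (d : ℕ) (T : Over S) (Z : HilbD.Obj (i ≫ g) d T) :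
    HilbD.Obj g d T :=
  ⟨HilbD.push i g T Z.1, push_isFinLocFreeOfDeg i g d T Z.1 Z.2⟩

/-- `push` commutes with `pull` -/
lemma pull_push [IsClosedImmersion i] {T T' : Over S} (t : T' ⟶ T)
    (I : (PicF.XT (i ≫ g) T).IdealSheafData) :
    HilbD.pull g t (HilbD.push i g T I) = HilbD.push i g T' (HilbD.pull (i ≫ g) t I) := by
  apply ideal_eq_of_factors_iff
  intro A x
  rw [factors_pull_iff, factors_push_iff i g T I, factors_push_iff i g T' (HilbD.pull (i ≫ g) t I)]
  constructor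
  · rintro ⟨e', he'⟩
    -- `x` lands in `X_{T'}`
    let x' : A ⟶ PicF.XT (i ≫ g) T' := (isPullback_jT_XTmap i g t).lift (e' ≫ I.subschemeι) x
      (by rw [Category.assoc, he'])
    have hx'1 : x' ≫ PicF.XTmap (i ≫ g) t = e' ≫ I.subschemeι :=
      (isPullback_jT_XTmap i g t).lift_fst _ _ _
    have hx'2 : x' ≫ jT i g T' = x := (isPullback_jT_XTmap i g t).lift_snd _ _ _
    obtain ⟨l, hl⟩ := (factors_pull_iff (i ≫ g) t I x').mpr ⟨e', hx'1.symm⟩
    exact ⟨l, by rw [← Category.assoc, hl, hx'2]⟩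
  · rintro ⟨l, hl⟩
    obtain ⟨e', he'⟩ := (factors_pull_iff (i ≫ g) t I _).mp ⟨l, rfl⟩
    refine ⟨e', ?_⟩
    rw [← Category.assoc, he', Category.assoc, ← jT_XTmap, ← Category.assoc, Category.assoc l, hl]

end Groth.Agent.Lib.Helper14.HilbSep
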