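import Mathlib
import Groth.Agent.Lib.Helper14.HilbSep7

set_option autoImplicit false
universe u
open CategoryTheory CategoryTheory.Limits AlgebraicGeometry

namespace Groth.Agent.Lib.Helper14.HilbSep

variable {X Y S : Scheme.{u}} (i : X ⟶ Y) [IsClosedImmersion i] (g : Y ⟶ S) (d : ℕ)

/-- converse of `push_isFinLocFreeOfDeg` -/
lemma isFinLocFreeOfDeg_of_push (T : Over S) (I : (PicF.XT (i ≫ g) T).IdealSheafData)
    (hI : Mor2.IsFinLocFreeOfDeg d ((HilbD.push i g T I).subschemeι ≫ PicF.XTproj g T)) :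
    Mor2.IsFinLocFreeOfDeg d (I.subschemeι ≫ PicF.XTproj (i ≫ g) T) := by
  have h1 : I.subschemeι ≫ PicF.XTproj (i ≫ g) T =
      (I.subschemeι ≫ jT i g T).toImage ≫ ((I.subschemeι ≫ jT i g T).imageι ≫ PicF.XTproj g T) := by
    rw [← Category.assoc, Scheme.Hom.toImage_imageι, Category.assoc]
    congr 1
    exact (jT_snd i g T).symm
  rw [h1]
  exact isFinLocFreeOfDeg_iso_comp d _ _ hI

variable {H : Over S} (I : (PicF.XT g H).IdealSheafData)

/-- the condition "the subscheme `m^*Z` of `Y_T` lies in `X_T`" in the two forms -/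
lemma univ_iff_exists_push {T : Over S} (m : T ⟶ H) :
    WeilClosed.Univ (I.subschemeι ≫ PicF.XTproj g H)
        (WeilClosed.Factors (jT i g H) I.subschemeι) m.left ↔
      ∃ I'' : (PicF.XT (i ≫ g) T).IdealSheafData, HilbD.push i g T I'' = HilbD.pull g m I := by
  constructor
  · intro hU
    obtain ⟨e, he⟩ := hU _ (pullback.fst I.subschemeι (PicF.XTmap g m))
      (bcι g m I ≫ PicF.XTproj g T) (isPullback_bcZ g m I).w
    let a : bcZ g m I ⟶ PicF.XT (i ≫ g) T := (isPullback_jT_XTmap i g m).lift e (bcι g m I)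
      (by rw [he]; exact pullback.condition)
    have ha : a ≫ jT i g T = bcι g m I := (isPullback_jT_XTmap i g m).lift_snd _ _ _
    haveI : IsClosedImmersion (a ≫ jT i g T) := by rw [ha]; infer_instance
    haveI : IsClosedImmersion a := IsClosedImmersion.of_comp a (jT i g T)
    refine ⟨a.ker, ?_⟩
    rw [push_eq_ker, pull_eq_ker, ← ha]
    have h1 : a ≫ jT i g T = a.toImage ≫ (a.imageι ≫ jT i g T) := by
      rw [← Category.assoc, a.toImage_imageι]
    rw [h1, Scheme.Hom.ker_comp_of_isIso a.toImage]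
  · rintro ⟨I'', hI''⟩ T'' z s hz
    let z' : T'' ⟶ bcZ g m I := (isPullback_bcZ g m I).lift z s hz
    have hz' : z' ≫ pullback.fst _ _ = z := (isPullback_bcZ g m I).lift_fst _ _ _
    have h1 : ∃ l : T'' ⟶ (HilbD.pull g m I).subscheme,
        l ≫ (HilbD.pull g m I).subschemeι = z' ≫ bcι g m I :=
      (factors_pull_iff g m I _).mpr ⟨z, by
        rw [← hz', Category.assoc, Category.assoc, pullback.condition]⟩
    rw [← hI''] at h1
    obtain ⟨e, he⟩ := (factors_push_iff i g T I'' _).mp h1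
    refine ⟨e ≫ I''.subschemeι ≫ PicF.XTmap (i ≫ g) m, ?_⟩
    rw [Category.assoc, Category.assoc, ← jT_XTmap, ← Category.assoc, ← Category.assoc,
      Category.assoc e, he, ← hz', Category.assoc, Category.assoc, pullback.condition]

end Groth.Agent.Lib.Helper14.HilbSep
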