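import Mathlib
import Groth.Agent.Lib.Helper14.HilbSep8

set_option autoImplicit false
universe u
open CategoryTheory CategoryTheory.Limits AlgebraicGeometry

namespace Groth.Agent.Lib.Helper14.HilbSep

variable {X Y S : Scheme.{u}} (i : X ⟶ Y) [IsClosedImmersion i] (g : Y ⟶ S) (d : ℕ)

/-- `Hilb^d_{X/S}` is a closed subscheme of `Hilb^d_{Y/S}` for a closed immersion `X ⟶ Y`. -/
theorem representable_closed (H : Over S) (Z : HilbD.Obj g d H) (hZ : HilbD.IsUniversal g d H Z) :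
    ∃ (Cov : Over S) (cO : Cov ⟶ H) (Z₀ : HilbD.Obj (i ≫ g) d Cov), IsClosedImmersion cO.left ∧
      HilbD.IsUniversal (i ≫ g) d Cov Z₀ ∧ HilbD.push i g Cov Z₀.1 = HilbD.pull g cO Z.1 := by
  obtain ⟨⟨a1, a2, a3⟩, -⟩ := Z.2
  obtain ⟨C, c, hc, hC⟩ := exists_closed_univ_factors (Z.1.subschemeι ≫ PicF.XTproj g H)
    Z.1.subschemeι (jT i g H)
  let Cov : Over S := Over.mk (c ≫ H.hom)
  let cO : Cov ⟶ H := Over.homMk c rfl
  have hcO : cO.left = c := rfl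
  have hmono : ∀ {T : Over S} (m₁ m₂ : T ⟶ Cov), m₁ ≫ cO = m₂ ≫ cO → m₁ = m₂ := by
    intro T m₁ m₂ h
    apply Over.OverMorphism.ext
    have := congrArg (fun m => m.left) h
    simp only [Over.comp_left] at this
    rw [hcO] at this
    exact (cancel_mono c).mp this
  -- the universal object
  have hUc : WeilClosed.Univ (Z.1.subschemeι ≫ PicF.XTproj g H)
      (WeilClosed.Factors (jT i g H) Z.1.subschemeι) cO.left := (hC _ c).mpr ⟨𝟙 _, Category.id_comp _⟩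
  obtain ⟨I₀, hI₀⟩ := (univ_iff_exists_push i g Z.1 cO).mp hUc
  have hI₀fl : Mor2.IsFinLocFreeOfDeg d (I₀.subschemeι ≫ PicF.XTproj (i ≫ g) Cov) := by
    apply isFinLocFreeOfDeg_of_push i g d Cov I₀
    rw [hI₀]
    exact pull_isFinLocFreeOfDeg g d cO Z.1 Z.2
  let Z₀ : HilbD.Obj (i ≫ g) d Cov := ⟨I₀, hI₀fl⟩
  have hcomp : ∀ {T : Over S} (m' : T ⟶ Cov),
      HilbD.pull g (m' ≫ cO) Z.1 = HilbD.push i g T (HilbD.pull (i ≫ g) m' I₀) := by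
    intro T m'
    rw [pull_comp, ← hI₀, pull_push]
  refine ⟨Cov, cO, Z₀, by rw [hcO]; exact hc, ?_, hI₀⟩
  intro T Z''
  obtain ⟨m, hm, hmuniq⟩ := hZ T (pushObj i g d T Z'')
  have hm' : HilbD.pull g m Z.1 = HilbD.push i g T Z''.1 := hm
  have hUm : WeilClosed.Univ (Z.1.subschemeι ≫ PicF.XTproj g H)
      (WeilClosed.Factors (jT i g H) Z.1.subschemeι) m.left :=
    (univ_iff_exists_push i g Z.1 m).mpr ⟨Z''.1, hm'.symm⟩
  obtain ⟨l, hl⟩ := (hC _ m.left).mp hUm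
  let m' : T ⟶ Cov := Over.homMk l (by
    change l ≫ c ≫ H.hom = T.hom
    rw [← Category.assoc, hl, Over.w m])
  have hm'c : m' ≫ cO = m := by
    apply Over.OverMorphism.ext
    exact hl
  refine ⟨m', ?_, ?_⟩
  · change HilbD.pull (i ≫ g) m' I₀ = Z''.1
    apply push_injective i g T
    rw [← hcomp, hm'c, hm']
  · intro m₂ hm₂
    have hm₂' : HilbD.pull (i ≫ g) m₂ I₀ = Z''.1 := hm₂
    apply hmono
    rw [hm'c]
    apply hmuniq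
    change HilbD.pull g (m₂ ≫ cO) Z.1 = HilbD.push i g T Z''.1
    rw [hcomp, hm₂']

/-- two universal pairs are isomorphic -/
lemma exists_iso_of_isUniversal {X S : Scheme.{u}} (f : X ⟶ S) (d : ℕ) (H₁ H₂ : Over S)
    (Z₁ : HilbD.Obj f d H₁) (Z₂ : HilbD.Obj f d H₂) (h₁ : HilbD.IsUniversal f d H₁ Z₁)
    (h₂ : HilbD.IsUniversal f d H₂ Z₂) :
    ∃ φ : H₂ ⟶ H₁, IsIso φ ∧ HilbD.pull f φ Z₁.1 = Z₂.1 := by
  obtain ⟨φ, hφ, -⟩ := h₁ H₂ Z₂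
  obtain ⟨ψ, hψ, -⟩ := h₂ H₁ Z₁
  have hφ' : HilbD.pull f φ Z₁.1 = Z₂.1 := hφ
  have hψ' : HilbD.pull f ψ Z₂.1 = Z₁.1 := hψ
  have e1 : φ ≫ ψ = 𝟙 H₂ := by
    obtain ⟨u, -, hu⟩ := h₂ H₂ Z₂
    rw [hu (φ ≫ ψ) (by change HilbD.pull f (φ ≫ ψ) Z₂.1 = Z₂.1; rw [pull_comp, hψ', hφ']),
      hu (𝟙 H₂) (pull_id f Z₂.1)]
  have e2 : ψ ≫ φ = 𝟙 H₁ := by
    obtain ⟨u, -, hu⟩ := h₁ H₁ Z₁
    rw [hu (ψ ≫ φ) (by change HilbD.pull f (ψ ≫ φ) Z₁.1 = Z₁.1; rw [pull_comp, hφ', hψ']),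
      hu (𝟙 H₁) (pull_id f Z₁.1)]
  exact ⟨φ, ⟨ψ, e1, e2⟩, hφ'⟩

theorem closedImmersion_of_classifying (H : Over S) (Z : HilbD.Obj g d H)
    (hZ : HilbD.IsUniversal g d H Z)
    (H' : Over S) (Z' : HilbD.Obj (i ≫ g) d H') (hZ' : HilbD.IsUniversal (i ≫ g) d H' Z')
    (m : H' ⟶ H) (hm : HilbD.pull g m Z.1 = HilbD.push i g H' Z'.1) :
    IsClosedImmersion m.left := by
  obtain ⟨Cov, cO, Z₀, hc, hZ₀, hpush⟩ := representable_closed i g d H Z hZ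
  obtain ⟨φ, hφiso, hφ⟩ := exists_iso_of_isUniversal (i ≫ g) d Cov H' Z₀ Z' hZ₀ hZ'
  have h1 : HilbD.pull g (φ ≫ cO) Z.1 = HilbD.push i g H' Z'.1 := by
    rw [pull_comp, ← hpush, pull_push, hφ]
  have h2 : m = φ ≫ cO := by
    obtain ⟨u, -, hu⟩ := hZ H' (pushObj i g d H' Z')
    rw [hu m hm, hu (φ ≫ cO) h1]
  rw [h2, Over.comp_left]
  haveI : IsIso φ.left := (Over.forget S).map_isIso φ
  infer_instance

end Groth.Agent.Lib.Helper14.HilbSep
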