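import Groth.Agent.Lib.Helper5.GrpHomLocus5
import Groth.Agent.Lib.Helper14.HomFlat2
import Groth.Agent.Lib.Helper22.FlatSrc

/-!
# helper14: a surjective homomorphism `G ⟶ H` of group schemes over `S`, `G` flat and locally of
finite presentation, `H` locally of finite type with geometrically reduced fibres, is flat; then
`H` is flat over `S` (for S7800)
-/

set_option autoImplicit false
universe u
open CategoryTheory CategoryTheory.Limits MonoidalCategory CartesianMonoidalCategory MonObj GrpObj
  AlgebraicGeometry

namespace Groth.Agent.Lib.Helper14.HomFlatFib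

variable {S : Scheme.{u}} (G H : Over S) [GrpObj G] [GrpObj H]

/-- the fibre of a surjective homomorphism onto a group with reduced fibre is flat -/
theorem flat_fibre [LocallyOfFiniteType G.hom] [LocallyOfFiniteType H.hom]
    [GeometricallyReduced H.hom] (f : G ⟶ H) [IsMonHom f] [Surjective f.left] (s : S) :
    Flat ((Over.pullback (S.fromSpecResidueField s)).map f).left := by
  let g := S.fromSpecResidueField s
  letI : GrpObj ((Over.pullback g).obj G) := Functor.grpObjObj
  letI : GrpObj ((Over.pullback g).obj H) := Functor.grpObjObj
  haveI : IsMonHom ((Over.pullback g).map f) := Functor.map.instIsMonHom _ _ _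
  haveI : LocallyOfFiniteType ((Over.pullback g).obj G).hom :=
    inferInstanceAs (LocallyOfFiniteType (pullback.snd G.hom g))
  haveI : LocallyOfFiniteType ((Over.pullback g).obj H).hom :=
    inferInstanceAs (LocallyOfFiniteType (pullback.snd H.hom g))
  haveI : IsReduced ((Over.pullback g).obj H).left :=
    inferInstanceAs (IsReduced (H.hom.fiber s))
  haveI : Surjective ((Over.pullback g).map f).left :=
    MorphismProperty.of_isPullback (P := @Surjective)
      (Groth.Agent.Lib.helper5.GrpHomLocus.isPullback_pullback_map g f) inferInstance
  exact Groth.Agent.Lib.Helper14.HomFlat.flat_of_surjective (k := S.residueField s)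
    ((Over.pullback g).map f)

/-- **a surjective homomorphism onto a group scheme with geometrically reduced fibres is flat** -/
theorem flat_of_surjective_of_geometricallyReduced [Flat G.hom]
    [LocallyOfFinitePresentation G.hom] [LocallyOfFiniteType H.hom] [GeometricallyReduced H.hom]
    (f : G ⟶ H) [IsMonHom f] [Surjective f.left] : Flat f.left := by
  obtain ⟨-, hF2⟩ := Groth.Agent.Lib.helper5.GrpHomLocus.flat_main f
  rw [Flat.iff_flat_stalkMap]
  intro x
  have hx : x ∈ G.hom.base ⁻¹'
      {s : S | Flat ((Over.pullback (S.fromSpecResidueField s)).map f).left} :=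
    flat_fibre G H f _
  rw [← hF2] at hx
  exact hx

theorem flat_target [Flat G.hom] [LocallyOfFinitePresentation G.hom] [LocallyOfFiniteType H.hom]
    [GeometricallyReduced H.hom] (f : G ⟶ H) [IsMonHom f] [Surjective f.left] : Flat H.hom := by
  haveI := flat_of_surjective_of_geometricallyReduced G H f
  haveI : Flat (f.left ≫ H.hom) := by rw [Over.w f]; infer_instance
  exact Groth.Agent.Lib.helper22.flat_of_flat_comp f.left H.hom

end Groth.Agent.Lib.Helper14.HomFlatFib
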