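import Mathlib
import Groth.Agent.Lib.Helper14.HomImage2

/-!
# helper14: the schematic image of a homomorphism of group schemes over a field, II

* `exists_div`: if `f = g ≫ i : H ⟶ K ⟶ G` is a homomorphism with `i` a closed immersion and `g`
  quasi-compact and schematically dominant, then `(k₁, k₂) ↦ i(k₁)⁻¹ i(k₂)` factors through `i`.
* `surjective_of_dominant_hom`: a quasi-compact, locally finitely presented, schematically dominant
  homomorphism of group schemes over a field is surjective.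
-/

set_option autoImplicit false
universe u
open CategoryTheory CategoryTheory.Limits AlgebraicGeometry MonoidalCategory
  CartesianMonoidalCategory MonObj

namespace Groth.Agent.Lib.Helper14.HomImage

variable {k : Type u} [Field k]

theorem exists_div {H G K : Over (Spec (CommRingCat.of k))} [GrpObj H] [GrpObj G]
    (f : H ⟶ G) [IsMonHom f] (i : K ⟶ G) [IsClosedImmersion i.left] (g : H ⟶ K)
    (hgi : g ≫ i = f) [QuasiCompact g.left] [IsSchemeTheoreticallyDominant g.left] :
    ∃ d : K ⊗ K ⟶ K, d ≫ i = (fst K K ≫ i)⁻¹ * (snd K K ≫ i) := by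
  set dG : K ⊗ K ⟶ G := (fst K K ≫ i)⁻¹ * (snd K K ≫ i) with hdG
  have hcomm : (g ⊗ₘ g) ≫ dG = (((fst H H)⁻¹ * snd H H) ≫ g) ≫ i := by
    rw [Category.assoc, hgi, hdG, comp_mul, GrpObj.comp_inv, MonObj.mul_comp, GrpObj.inv_comp,
      ← Category.assoc, tensorHom_fst, ← Category.assoc (g ⊗ₘ g), tensorHom_snd, Category.assoc,
      Category.assoc, hgi]
  have hcomm' : (g ⊗ₘ g).left ≫ dG.left = (((fst H H)⁻¹ * snd H H) ≫ g).left ≫ i.left := by
    have := congrArg CommaMorphism.left hcomm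
    simpa using this
  let jZ : pullback dG.left i.left ⟶ (K ⊗ K).left := pullback.fst dG.left i.left
  haveI : IsClosedImmersion jZ := inferInstanceAs (IsClosedImmersion (pullback.fst dG.left i.left))
  let l : (H ⊗ H).left ⟶ pullback dG.left i.left :=
    pullback.lift (g ⊗ₘ g).left (((fst H H)⁻¹ * snd H H) ≫ g).left hcomm'
  have hl : l ≫ jZ = (g ⊗ₘ g).left := pullback.lift_fst _ _ _
  haveI := dominant_tensorHom g g
  have hker : jZ.ker = ⊥ := by
    have h1 := l.le_ker_comp jZ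
    rw [hl, (g ⊗ₘ g).left.ker_eq_bot] at h1
    exact le_bot_iff.mp h1
  haveI : IsIso jZ := IsClosedImmersion.isIso_iff_ker_eq_bot.mpr hker
  have hcond : jZ ≫ dG.left = pullback.snd dG.left i.left ≫ i.left := pullback.condition
  refine ⟨Over.homMk (inv jZ ≫ pullback.snd dG.left i.left) ?_, ?_⟩
  · have hK : K.hom = i.left ≫ G.hom := (Over.w i).symm
    rw [hK, Category.assoc, ← Category.assoc (pullback.snd dG.left i.left), ← hcond,
      Category.assoc, Over.w dG, IsIso.inv_hom_id_assoc]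
  · apply Over.OverMorphism.ext
    show (inv jZ ≫ pullback.snd dG.left i.left) ≫ i.left = dG.left
    rw [Category.assoc, ← hcond, IsIso.inv_hom_id_assoc]

theorem surjective_of_dominant_hom {H K : Over (Spec (CommRingCat.of k))} [GrpObj H] [GrpObj K]
    (g : H ⟶ K) [IsMonHom g] [QuasiCompact g.left] [LocallyOfFinitePresentation g.left]
    [IsSchemeTheoreticallyDominant g.left] : Surjective g.left := by
  haveI : Unique (Spec (CommRingCat.of k)) := inferInstanceAs (Unique (PrimeSpectrum k))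
  haveI : Nonempty K.left := ⟨η[K].left (by exact (default : ↥(Spec (CommRingCat.of k))))⟩
  obtain ⟨U, hUne, hUE⟩ := exists_open_subset_range g.left
  refine ⟨fun x => ?_⟩
  -- the residue field point
  let Tκ : Over (Spec (CommRingCat.of k)) := Over.mk (K.left.fromSpecResidueField x ≫ K.hom)
  let xb : Tκ ⟶ K := Over.homMk (K.left.fromSpecResidueField x) rfl
  obtain ⟨τ', hτ'⟩ : ∃ τ' : K ⊗ Tκ ⟶ K, τ' = (fst K Tκ)⁻¹ * (snd K Tκ ≫ xb) := ⟨_, rfl⟩
  obtain ⟨σ'', hσ''⟩ : ∃ σ'' : K ⊗ Tκ ⟶ K ⊗ Tκ,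
      σ'' = lift ((snd K Tκ ≫ xb) * (fst K Tκ)⁻¹) (snd K Tκ) := ⟨_, rfl⟩
  have h1 : σ'' ≫ τ' = fst K Tκ := by
    rw [hτ', comp_mul, GrpObj.comp_inv, hσ'', lift_fst, ← Category.assoc, lift_snd]
    group
  have hTκ : Surjective Tκ.hom := by
    refine ⟨fun y => ?_⟩
    haveI : Nonempty ↥(Spec (K.left.residueField x)) :=
      inferInstanceAs (Nonempty (PrimeSpectrum (K.left.residueField x)))
    obtain ⟨t⟩ := ‹Nonempty ↥(Spec (K.left.residueField x))›
    exact ⟨t, Subsingleton.elim _ _⟩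
  have hfs : Surjective (fst K Tκ).left :=
    MorphismProperty.of_isPullback (P := @Surjective) (isPullback_left' K Tκ).flip hTκ
  have hτs : Function.Surjective τ'.left := by
    intro y
    obtain ⟨z, hz⟩ := hfs.surj y
    refine ⟨σ''.left z, ?_⟩
    rw [← hz]
    have := congrArg (fun φ : K ⊗ Tκ ⟶ K => φ.left z) h1
    simpa using this
  obtain ⟨hd1, hd2⟩ := dominant_whiskerRight g Tκ
  haveI := hd1
  haveI := hd2
  have hdr : DenseRange (g ▷ Tκ).left := (g ▷ Tκ).left.denseRange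
  have hopen : IsOpen (τ'.left ⁻¹' (U : Set K.left)) := U.isOpen.preimage τ'.left.continuous
  have hne : (τ'.left ⁻¹' (U : Set K.left)).Nonempty := by
    obtain ⟨u, hu⟩ := hUne
    obtain ⟨y, rfl⟩ := hτs u
    exact ⟨y, hu⟩
  obtain ⟨w, hw⟩ := hdr.exists_mem_open hopen hne
  obtain ⟨b', hb'⟩ : ∃ b' : H ⊗ Tκ ⟶ K, b' = (g ▷ Tκ) ≫ τ' := ⟨_, rfl⟩
  have hb'w : b'.left w ∈ Set.range g.left := by
    apply hUE
    rw [hb']
    simpa using hw
  obtain ⟨h₂, hh₂⟩ := hb'w
  obtain ⟨z, hz1, hz2⟩ := Scheme.Pullback.exists_preimage_pullback (f := b'.left) (g := g.left)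
    w h₂ hh₂.symm
  let R : Over (Spec (CommRingCat.of k)) := Over.mk (pullback.fst b'.left g.left ≫ (H ⊗ Tκ).hom)
  let r₁ : R ⟶ H ⊗ Tκ := Over.homMk (pullback.fst b'.left g.left) rfl
  let r₂ : R ⟶ H := Over.homMk (pullback.snd b'.left g.left) (by
    have e1 : H.hom = g.left ≫ K.hom := (Over.w g).symm
    have e2 : (H ⊗ Tκ).hom = b'.left ≫ K.hom := (Over.w b').symm
    show pullback.snd b'.left g.left ≫ H.hom = pullback.fst b'.left g.left ≫ (H ⊗ Tκ).hom
    rw [e1, e2, ← Category.assoc, ← Category.assoc, pullback.condition])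
  have hr : r₁ ≫ b' = r₂ ≫ g := by
    apply Over.OverMorphism.ext
    exact pullback.condition
  obtain ⟨m, hm⟩ : ∃ m : R ⟶ H, m = (r₁ ≫ fst H Tκ) * r₂ := ⟨_, rfl⟩
  have hmg : m ≫ g = r₁ ≫ snd H Tκ ≫ xb := by
    rw [hm, MonObj.mul_comp, ← hr, hb', hτ']
    simp only [comp_mul, GrpObj.comp_inv, Category.assoc, whiskerRight_fst, whiskerRight_snd,
      whiskerRight_fst_assoc, whiskerRight_snd_assoc]
    group
  refine ⟨m.left z, ?_⟩
  have h2 := congrArg (fun φ : R ⟶ K => φ.left z) hmg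
  have h3 : g.left (m.left z) = xb.left ((r₁ ≫ snd H Tκ).left z) := by
    simpa using h2
  rw [h3]
  have h4 : xb.left ((r₁ ≫ snd H Tκ).left z) ∈ Set.range (K.left.fromSpecResidueField x) :=
    ⟨_, rfl⟩
  rw [Scheme.range_fromSpecResidueField] at h4
  exact h4

end Groth.Agent.Lib.Helper14.HomImage
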