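import Mathlib
import Groth.Prelude.Def_AlgGrp
import Groth.Prelude.Def_Red
import Groth.Prelude.Def_SGA3x
import Groth.Agent.Lib.Helper14.TrivLoc2
import Groth.Agent.Lib.Helper14.MTComm
import Groth.Agent.Lib.Helper14.SplitSum
import Groth.Agent.Lib.Helper14.BCNat
import Groth.Agent.Lib.Helper14.SplitQuot2
import Groth.Agent.Lib.Helper14.MaxSplit2
import Groth.Agent.Lib.Helper14.AbsMain

/-!
# helper14: rigidity of homomorphisms of groups of multiplicative type over a connected base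

* `hom_eq_of_eq_at`: two homomorphisms of groups of multiplicative type of finite type over a
  connected base which agree after one base change with non-empty source are equal.
* `DSmap_injective'`: `D_B(-)` is faithful over a non-empty base.
* `exists_DSmap_of_connected`: over a connected base every homomorphism `D_B(M) ⟶ D_B(N)` of split
  tori is `D_B(ψ)`.
-/

set_option autoImplicit false
universe u
open CategoryTheory CategoryTheory.Limits AlgebraicGeometry MonoidalCategory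
  CartesianMonoidalCategory MonObj

namespace Groth.Agent.Lib.Helper14.HomRigid

noncomputable section

open Groth.Agent.Lib.Helper14.MultNilAff Groth.Agent.Lib.Helper14.DiagHom1
  Groth.Agent.Lib.Helper14.DiagHom2 Groth.Agent.Lib.Helper14.DiagHom3
  Groth.Agent.Lib.Helper14.DiagHom4 Groth.Agent.Lib.Helper14.BCGrp
  Groth.Agent.Lib.Helper14.MultNilGlobal Groth.Agent.Lib.Helper14.TorusQuot
  Groth.Agent.Lib.Helper14.DiagHomG1 Groth.Agent.Lib.Helper14.DiagHomG2
  Groth.Agent.Lib.Helper14.TrivLoc Groth.Agent.Lib.Helper14.TorusMonoIso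
  Groth.Agent.Lib.Helper14.MaxSplit Groth.Agent.Lib.Helper14.BCNat

theorem isCommMonObj_of_isMultTypeFT {S : Scheme.{u}} {H : Over S} [GrpObj H]
    (hH : SGA3x.IsMultTypeFT H) : IsCommMonObj H := by
  rw [isCommMonObj_iff_isMulCommutative]
  intro X
  exact ⟨⟨fun a b => Groth.Agent.Lib.Helper14.MTComm.comm_of_isMultTypeFT hH X a b⟩⟩

/-- points lying over `g` see only the base change along `g` -/
theorem comp_eq_of_map_eq {S X : Scheme.{u}} {A B : Over S} (u v : A ⟶ B) (g : X ⟶ S)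
    (h : (Over.pullback g).map u = (Over.pullback g).map v)
    (Y : Over S) (p : Y.left ⟶ X) (hp : p ≫ g = Y.hom) (y : Y ⟶ A) : y ≫ u = y ≫ v := by
  have h' : pullback.fst A.hom g ≫ u.left = pullback.fst A.hom g ≫ v.left := by
    rw [← pb_map_fst, ← pb_map_fst, h]
  have hy : y.left ≫ A.hom = p ≫ g := by rw [Over.w y, hp]
  have h1 : y.left = pullback.lift y.left p hy ≫ pullback.fst A.hom g :=
    (pullback.lift_fst _ _ _).symm
  apply Over.OverMorphism.ext
  rw [Over.comp_left, Over.comp_left, h1, Category.assoc, Category.assoc, h']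

/-- **Rigidity.**  Two homomorphisms of groups of multiplicative type of finite type over a
connected base which agree after a base change with non-empty source are equal. -/
theorem hom_eq_of_eq_at {B B' : Scheme.{u}} [ConnectedSpace ↥B] [Nonempty ↥B'] {G H : Over B}
    [GrpObj G] [GrpObj H] (hG : SGA3x.IsMultTypeFT G) (hH : SGA3x.IsMultTypeFT H)
    (u v : G ⟶ H) [IsMonHom u] [IsMonHom v] (k : B' ⟶ B)
    (h : (Over.pullback k).map u = (Over.pullback k).map v) : u = v := by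
  haveI := isCommMonObj_of_isMultTypeFT hH
  haveI : IsMonHom (u * v⁻¹) :=
    Groth.Agent.Lib.Helper14.SplitSum.isMonHom_mul_of_comm
      (Groth.Agent.Lib.Helper14.MTComm.comm_of_isMultTypeFT hH) u v⁻¹
  obtain ⟨U, hUc, hUiff, hU1⟩ := trivial_locus G H hG hH (u * v⁻¹)
  have hpt : PT (u * v⁻¹) k := by
    intro Y p hp y
    have h1 : y ≫ u = y ≫ v := comp_eq_of_map_eq u v k h Y p hp y
    rw [MonObj.comp_mul, GrpObj.comp_inv, h1, mul_inv_cancel]
  obtain ⟨b'⟩ := ‹Nonempty ↥B'›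
  have hb : k b' ∈ U := by
    rw [hUiff, ← PT_iff_map_eq_one]
    exact (Groth.Agent.Lib.Helper14.AbsMain.fibre_iff (fun {X} g => PT (u * v⁻¹) g)
      (fun g k h => PT.comp g k h) (fun g k hk h => PT.desc g k hk h) k b').mp
      (PT.comp _ _ hpt)
  have hUtop : U = ⊤ :=
    Groth.Agent.Lib.Helper14.SplitQuot.opens_eq_top_of_clopen U hUc (k b') hb
  have hptU : PT (u * v⁻¹) U.ι := (PT_iff_map_eq_one _).mpr hU1
  have hpt1 : PT (u * v⁻¹) (𝟙 B) := by
    intro Y p hp y
    have hr : Set.range p.base ⊆ Set.range U.ι.base := by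
      rw [Scheme.Opens.range_ι, hUtop]
      exact fun _ _ => trivial
    refine hptU Y (IsOpenImmersion.lift U.ι p hr) ?_ y
    rw [IsOpenImmersion.lift_fac, ← hp, Category.comp_id]
  have hw : u * v⁻¹ = 1 := by
    have := hpt1 G G.hom (Category.comp_id _) (𝟙 G)
    rwa [Category.id_comp] at this
  exact mul_inv_eq_one.mp hw

section Split

variable {B : Scheme.{u}} {M N : Type} [AddCommGroup M] [AddCommGroup N]

/-- `D_B(-)` is faithful over a non-empty base -/
theorem DSmap_injective' [Nonempty ↥B] (ψ ψ' : N →+ M)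
    (h : Red.DSmap B ψ = Red.DSmap B ψ') : ψ = ψ' := by
  obtain ⟨b⟩ := ‹Nonempty ↥B›
  obtain ⟨U₁, hU₁, hbU₁, -⟩ := exists_affine_nbhd B ⊤ b trivial
  let v : Spec Γ(B, U₁) ⟶ B := hU₁.fromSpec
  haveI : Nontrivial Γ(B, U₁) := by
    have : Nonempty (PrimeSpectrum Γ(B, U₁)) := ⟨hU₁.primeIdealOf ⟨b, hbU₁⟩⟩
    exact (PrimeSpectrum.nonempty_iff_nontrivial).mp this
  apply DSmap_injective (R := Γ(B, U₁))
  have h1 := DSbcIso_natural v ψ
  have h2 := DSbcIso_natural v ψ'
  rw [h] at h1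
  have h3 : (DSbcIso v M).hom.hom.hom ≫ Red.DSmap (Spec Γ(B, U₁)) ψ =
      (DSbcIso v M).hom.hom.hom ≫ Red.DSmap (Spec Γ(B, U₁)) ψ' := h1.symm.trans h2
  have h4 : (DSbcIso v M).inv.hom.hom ≫ (DSbcIso v M).hom.hom.hom = 𝟙 _ :=
    congrArg (fun t => t.hom.hom) (DSbcIso v M).inv_hom_id
  calc Red.DSmap (Spec Γ(B, U₁)) ψ
      = (DSbcIso v M).inv.hom.hom ≫ (DSbcIso v M).hom.hom.hom ≫ Red.DSmap _ ψ := by
        rw [← Category.assoc, h4, Category.id_comp]
    _ = (DSbcIso v M).inv.hom.hom ≫ (DSbcIso v M).hom.hom.hom ≫ Red.DSmap _ ψ' := by rw [h3]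
    _ = Red.DSmap (Spec Γ(B, U₁)) ψ' := by rw [← Category.assoc, h4, Category.id_comp]

/-- over a connected base every homomorphism of split diagonalisable groups is `D_B(ψ)` -/
theorem exists_DSmap_of_connected [ConnectedSpace ↥B] [AddGroup.FG N]
    (hM : SGA3x.IsMultTypeFT (Red.DS B M)) (hN : SGA3x.IsMultTypeFT (Red.DS B N))
    (u : Red.DS B M ⟶ Red.DS B N) [IsMonHom u] : ∃ ψ : N →+ M, u = Red.DSmap B ψ := by
  obtain ⟨b⟩ : Nonempty ↥B := inferInstance
  obtain ⟨U₁, hU₁, hbU₁, -⟩ := exists_affine_nbhd B ⊤ b trivial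
  let v : Spec Γ(B, U₁) ⟶ B := hU₁.fromSpec
  let eG : Grp.mk (Red.bc v (Red.DS B M)) ≅ Grp.mk (Red.DS (Spec Γ(B, U₁)) M) := DSbcIso v M
  let eH : Grp.mk (Red.bc v (Red.DS B N)) ≅ Grp.mk (Red.DS (Spec Γ(B, U₁)) N) := DSbcIso v N
  let uR : Red.bc v (Red.DS B M) ⟶ Red.bc v (Red.DS B N) := (Over.pullback v).map u
  haveI : IsMonHom uR := Functor.map.instIsMonHom _ _ _
  let 𝔭 : PrimeSpectrum Γ(B, U₁) := hU₁.primeIdealOf ⟨b, hbU₁⟩
  obtain ⟨h, φ, hh, hloc⟩ := local_DSmap (R := Γ(B, U₁)) eG eH uR 𝔭.asIdeal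
  let Rh := Localization.Away h
  let kh : Spec (CommRingCat.of Rh) ⟶ Spec Γ(B, U₁) := kk Γ(B, U₁) Rh
  have hunit : IsUnit (algebraMap Γ(B, U₁) Rh h) := IsLocalization.Away.algebraMap_isUnit h
  have hkrange : Set.range kh.base = (PrimeSpectrum.basicOpen h : Set (PrimeSpectrum Γ(B, U₁))) :=
    PrimeSpectrum.localization_away_comap_range (Localization.Away h) h
  haveI : Nonempty ↥(Spec (CommRingCat.of Rh)) := by
    have h1 : 𝔭 ∈ Set.range kh.base := by
      rw [hkrange]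
      exact hh
    obtain ⟨t₀, -⟩ := h1
    exact ⟨t₀⟩
  obtain ⟨heq, -⟩ := hloc Rh hunit
  refine ⟨phiAdd φ, ?_⟩
  haveI : IsMonHom (Red.DSmap B (phiAdd φ)) :=
    Groth.Agent.Lib.helper15.DSMap.isMonHom_DSmap _ _
  apply hom_eq_of_eq_at hM hN u (Red.DSmap B (phiAdd φ)) (kh ≫ v)
  rw [map_eq_map_iff_of_iso (Over.pullbackComp kh v) u (Red.DSmap B (phiAdd φ))]
  show (Over.pullback kh).map uR = _
  rw [heq]
  have nat1 : (Over.pullback v).map (Red.DSmap B (phiAdd φ)) ≫ eH.hom.hom.hom =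
      eG.hom.hom.hom ≫ Red.DSmap (Spec Γ(B, U₁)) (phiAdd φ) := DSbcIso_natural v (phiAdd φ)
  have nat2 := splitBC_natural kh eG eH ((Over.pullback v).map (Red.DSmap B (phiAdd φ)))
    (phiAdd φ) nat1
  have h3 : (Over.pullback kh).map ((Over.pullback v).map (Red.DSmap B (phiAdd φ))) ≫
      eh (bcDiag (R₁ := Rh) eH) =
      eh (bcDiag (R₁ := Rh) eG) ≫ Red.DSmap _ (phiAdd φ) := nat2
  calc eh (bcDiag (R₁ := Rh) eG) ≫ Red.DSmap _ (phiAdd φ) ≫ ei (bcDiag (R₁ := Rh) eH)
      = ((Over.pullback kh).map ((Over.pullback v).map (Red.DSmap B (phiAdd φ))) ≫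
          eh (bcDiag (R₁ := Rh) eH)) ≫ ei (bcDiag (R₁ := Rh) eH) := by
        rw [h3, Category.assoc]
    _ = (Over.pullback kh).map ((Over.pullback v).map (Red.DSmap B (phiAdd φ))) := by
        rw [Category.assoc, eh_ei, Category.comp_id]

end Split

end

end Groth.Agent.Lib.Helper14.HomRigid
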