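import Groth.Agent.Lib.Helper14.ActPts
import Groth.Agent.Lib.Helper14.KerPullback

/-!
# Principal bundles trivialised by a group extension are homogeneous (helper14)

`π : X ⟶ A` a principal `G`-bundle (`hcart : IsPullback (snd G X) a.act π π`), `φ : E ⟶ A` a
homomorphism with kernel `h : Hk ⟶ E`, `σ : E ⟶ X` with `σ ≫ π = φ`.  Assume every morphism
`Hk ⊗ E ⟶ G` factors through `fst` (e.g. `G` affine, `E` anti-affine).  Then for `e₀ : 𝟙 ⟶ E`
the map `(g, e) ↦ g · σ(e e₀)` is constant on the fibres of `Θ : (g, e) ↦ g · σ(e)`.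
-/

set_option autoImplicit false
universe u
open CategoryTheory CategoryTheory.Limits MonoidalCategory CartesianMonoidalCategory MonObj GrpObj
  AlgebraicGeometry

namespace Groth.Agent.Lib.Helper14.HomogBundle

open Groth.Agent.Lib.Helper14.ActPts Groth.Agent.Lib.Helper14.KerPullback

variable {S : Scheme.{u}} {G X A E Hk : Over S} [GrpObj G] [GrpObj A] [GrpObj E]
  (a : AlgGrp.Action G X) (π : X ⟶ A) (hcart : IsPullback (snd G X) a.act π π)

include hcart in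
/-- freeness of the action -/
theorem eq_of_act_eq {T : Over S} (g₁ g₂ : T ⟶ G) (x : T ⟶ X)
    (hh : lift g₁ x ≫ a.act = lift g₂ x ≫ a.act) : g₁ = g₂ := by
  have h1 : lift g₁ x = lift g₂ x := by
    apply hcart.hom_ext
    · simp
    · exact hh
  have := congrArg (fun m => m ≫ fst G X) h1
  simpa using this

include hcart in
/-- transitivity on the fibres of `π` -/
theorem exists_act_eq {T : Over S} (x₁ x₂ : T ⟶ X) (hx : x₁ ≫ π = x₂ ≫ π) :
    ∃ g : T ⟶ G, lift g x₁ ≫ a.act = x₂ := by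
  refine ⟨hcart.lift x₁ x₂ hx ≫ fst G X, ?_⟩
  have h1 : lift (hcart.lift x₁ x₂ hx ≫ fst G X) x₁ = hcart.lift x₁ x₂ hx := by
    apply CartesianMonoidalCategory.hom_ext
    · simp
    · simp only [lift_snd]
      exact (hcart.lift_fst x₁ x₂ hx).symm
  rw [h1]
  exact hcart.lift_snd x₁ x₂ hx

include hcart in
theorem act_comp_pi {T : Over S} (g : T ⟶ G) (x : T ⟶ X) :
    (lift g x ≫ a.act) ≫ π = x ≫ π := by
  rw [Category.assoc, ← hcart.w, ← Category.assoc, lift_snd]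

variable (φ : E ⟶ A) [IsMonHom φ] (h : Hk ⟶ E) (hk : AlgGrp.IsKernel h φ)
  (σ : E ⟶ X) (hσ : σ ≫ π = φ)

/-- the map `Θ : (g, e) ↦ g · σ(e)` -/
noncomputable def Theta : G ⊗ E ⟶ X := lift (fst G E) (snd G E ≫ σ) ≫ a.act

theorem comp_Theta {T : Over S} (m : T ⟶ G ⊗ E) :
    m ≫ Theta a σ = lift (m ≫ fst G E) ((m ≫ snd G E) ≫ σ) ≫ a.act := by
  unfold Theta
  rw [← Category.assoc, comp_lift]
  simp only [Category.assoc]

include hcart hσ in
theorem isPullback_Theta : IsPullback (Theta a σ) (snd G E) π φ := by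
  have hw : Theta a σ ≫ π = snd G E ≫ φ := by
    unfold Theta
    rw [act_comp_pi a π hcart, Category.assoc, hσ]
  refine ⟨⟨hw⟩, ⟨PullbackCone.IsLimit.mk _ (fun s => ?_) (fun s => ?_) (fun s => ?_)
    (fun s m hm1 hm2 => ?_)⟩⟩
  · have hx : (s.snd ≫ σ) ≫ π = s.fst ≫ π := by
      rw [Category.assoc, hσ]; exact s.condition.symm
    exact lift (exists_act_eq a π hcart (s.snd ≫ σ) s.fst hx).choose s.snd
  · have hx : (s.snd ≫ σ) ≫ π = s.fst ≫ π := by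
      rw [Category.assoc, hσ]; exact s.condition.symm
    rw [comp_Theta]
    simp only [lift_fst, lift_snd]
    exact (exists_act_eq a π hcart (s.snd ≫ σ) s.fst hx).choose_spec
  · simp
  · have hx : (s.snd ≫ σ) ≫ π = s.fst ≫ π := by
      rw [Category.assoc, hσ]; exact s.condition.symm
    apply CartesianMonoidalCategory.hom_ext
    · simp only [lift_fst]
      apply eq_of_act_eq a π hcart _ _ (s.snd ≫ σ)
      rw [(exists_act_eq a π hcart (s.snd ≫ σ) s.fst hx).choose_spec, ← hm1, comp_Theta, hm2]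
    · simp only [lift_snd]; exact hm2

variable (d₀ : Hk ⟶ G)
  (hd₀ : lift (fst Hk E ≫ d₀) (snd Hk E ≫ σ) ≫ a.act = ((fst Hk E ≫ h) * snd Hk E) ≫ σ)

include hd₀ in
/-- `σ(h(κ) e) = d₀(κ) · σ(e)` on points -/
theorem sigma_mul {T : Over S} (κ : T ⟶ Hk) (e : T ⟶ E) :
    ((κ ≫ h) * e) ≫ σ = lift (κ ≫ d₀) (e ≫ σ) ≫ a.act := by
  have h1 : lift κ e ≫ lift (fst Hk E ≫ d₀) (snd Hk E ≫ σ) ≫ a.act =
      lift κ e ≫ ((fst Hk E ≫ h) * snd Hk E) ≫ σ := by rw [hd₀]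
  rw [← Category.assoc, comp_lift, ← Category.assoc, ← Category.assoc, ← Category.assoc,
    lift_fst, lift_snd] at h1
  rw [h1, MonObj.comp_mul, ← Category.assoc, lift_fst, lift_snd]

include hcart hk hσ hd₀ in
/-- the descent condition for `(g, e) ↦ g · σ(e e₀)` along `Θ` -/
theorem descent_condition (e₀ : 𝟙_ (Over S) ⟶ E) {T : Over S} (m₁ m₂ : T ⟶ G ⊗ E)
    (hm : m₁ ≫ Theta a σ = m₂ ≫ Theta a σ) :
    lift (m₁ ≫ fst G E) (((m₁ ≫ snd G E) * (toUnit T ≫ e₀)) ≫ σ) ≫ a.act =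
      lift (m₂ ≫ fst G E) (((m₂ ≫ snd G E) * (toUnit T ≫ e₀)) ≫ σ) ≫ a.act := by
  rw [comp_Theta, comp_Theta] at hm
  set g₁ := m₁ ≫ fst G E
  set g₂ := m₂ ≫ fst G E
  set e₁ := m₁ ≫ snd G E
  set e₂ := m₂ ≫ snd G E
  -- φ(e₁) = φ(e₂)
  have hφ : e₁ ≫ φ = e₂ ≫ φ := by
    have : (lift g₁ (e₁ ≫ σ) ≫ a.act) ≫ π = (lift g₂ (e₂ ≫ σ) ≫ a.act) ≫ π := by rw [hm]
    have h4 : ∀ e : T ⟶ E, (e ≫ σ) ≫ π = e ≫ φ := fun e => by rw [Category.assoc, hσ]
    rw [act_comp_pi a π hcart, act_comp_pi a π hcart, h4, h4] at this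
    exact this
  have hone : (e₂ * e₁⁻¹) ≫ φ = 1 := by
    rw [MonObj.mul_comp, GrpObj.inv_comp, hφ, mul_inv_cancel]
  obtain ⟨κ, hκ⟩ := exists_lift_of_comp_eq_one h φ hk (e₂ * e₁⁻¹) hone
  have he₂ : e₂ = (κ ≫ h) * e₁ := by
    rw [hκ, inv_mul_cancel_right]
  -- g₁ = g₂ * d₀(κ)
  have hg : g₁ = g₂ * (κ ≫ d₀) := by
    apply eq_of_act_eq a π hcart _ _ (e₁ ≫ σ)
    rw [hm, he₂, sigma_mul a h σ d₀ hd₀, act_mul_pt]
  rw [hg, he₂, _root_.mul_assoc, sigma_mul a h σ d₀ hd₀, act_mul_pt]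

end Groth.Agent.Lib.Helper14.HomogBundle
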