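import Mathlib

/-!
# helper14: clopen subsets from integral elements over a field, and global idempotent-like
sections cutting out clopen subsets of a scheme
-/

set_option autoImplicit false
universe u
open CategoryTheory AlgebraicGeometry TopologicalSpace

namespace Groth.Agent.Lib.Helper14.IntegralClopen

open Polynomial in
theorem isClopen_zeroLocus_of_isIntegralElem {K R : Type*} [Field K] [CommRing R] (φ : K →+* R)
    (f : R) (hf : φ.IsIntegralElem f) :
    IsClopen (PrimeSpectrum.zeroLocus {f} : Set (PrimeSpectrum R)) := by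
  obtain ⟨p, hmonic, hp⟩ := hf
  have hp0 : p ≠ 0 := hmonic.ne_zero
  obtain ⟨q, hq, hndvd⟩ := Polynomial.exists_eq_pow_rootMultiplicity_mul_and_not_dvd p hp0 0
  set m := rootMultiplicity 0 p
  have hc : q.coeff 0 ≠ 0 := by
    intro h0
    apply hndvd
    rw [Polynomial.dvd_iff_isRoot, IsRoot, ← Polynomial.coeff_zero_eq_eval_zero]
    exact h0
  set g := eval₂ φ f q with hg
  have hfg : f ^ m * g = 0 := by
    have : eval₂ φ f p = (f - φ 0) ^ m * g := by
      conv_lhs => rw [hq]
      rw [eval₂_mul, eval₂_pow, eval₂_sub, eval₂_X, eval₂_C]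
    rw [← hp, this, map_zero, sub_zero]
  have hgr : g = eval₂ φ f q.divX * f + φ (q.coeff 0) := by
    conv_lhs => rw [hg, ← Polynomial.divX_mul_X_add q]
    rw [eval₂_add, eval₂_mul, eval₂_X, eval₂_C]
  have hcompl : (PrimeSpectrum.zeroLocus {f} : Set (PrimeSpectrum R))ᶜ =
      PrimeSpectrum.zeroLocus {g} := by
    ext x
    simp only [Set.mem_compl_iff, PrimeSpectrum.mem_zeroLocus, Set.singleton_subset_iff,
      SetLike.mem_coe]
    constructor
    · intro hfx
      have h0 : f ^ m * g ∈ x.asIdeal := by rw [hfg]; exact zero_mem _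
      rcases x.isPrime.mem_or_mem h0 with h1 | h1
      · exact absurd (x.isPrime.mem_of_pow_mem _ h1) hfx
      · exact h1
    · intro hgx hfx
      have h1 : φ (q.coeff 0) ∈ x.asIdeal := by
        have : φ (q.coeff 0) = g - eval₂ φ f q.divX * f := by rw [hgr]; ring
        rw [this]
        exact sub_mem hgx (Ideal.mul_mem_left _ _ hfx)
      have h2 : (1 : R) ∈ x.asIdeal := by
        have : (1 : R) = φ (q.coeff 0) * φ (q.coeff 0)⁻¹ := by
          rw [← map_mul, mul_inv_cancel₀ hc, map_one]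
        rw [this]
        exact Ideal.mul_mem_right _ _ h1
      exact x.isPrime.ne_top ((Ideal.eq_top_iff_one _).mpr h2)
  refine ⟨PrimeSpectrum.isClosed_zeroLocus _, ?_⟩
  rw [← isClosed_compl_iff, hcompl]
  exact PrimeSpectrum.isClosed_zeroLocus _

/-- a global section whose non-vanishing locus is a given clopen subset -/
theorem exists_section_basicOpen_eq_of_isClopen (W : Scheme.{u}) (S : Set W) (hS : IsClopen S) :
    ∃ e : Γ(W, ⊤), (W.basicOpen e : Set W) = S := by
  obtain ⟨U₁, hU₁⟩ : ∃ U₁ : W.Opens, (U₁ : Set W) = S := ⟨⟨S, hS.isOpen⟩, rfl⟩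
  obtain ⟨U₂, hU₂⟩ : ∃ U₂ : W.Opens, (U₂ : Set W) = Sᶜ := ⟨⟨Sᶜ, hS.compl.isOpen⟩, rfl⟩
  have hinf : U₁ ⊓ U₂ = ⊥ := by
    ext x
    simp only [Opens.coe_inf, hU₁, hU₂, Set.inter_compl_self, Opens.coe_bot]
  have hsup : (⊤ : W.Opens) ≤ U₁ ⊔ U₂ := by
    intro x _
    by_cases hx : x ∈ S
    · exact Or.inl (hU₁ ▸ hx : x ∈ (U₁ : Set W))
    · exact Or.inr (hU₂ ▸ hx : x ∈ (U₂ : Set W))
  let U : Bool → W.Opens := fun b => match b with | true => U₁ | false => U₂
  let s : ∀ b, Γ(W, U b) := fun b => match b with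
    | true => (1 : Γ(W, U₁))
    | false => (0 : Γ(W, U₂))
  have hcov : (⊤ : W.Opens) ≤ iSup U := by
    refine hsup.trans (sup_le ?_ ?_)
    · exact le_iSup U true
    · exact le_iSup U false
  have compat : TopCat.Presheaf.IsCompatible W.presheaf U s := by
    intro i j
    cases i <;> cases j
    · rfl
    · haveI : Subsingleton Γ(W, U false ⊓ U true) := by
        have : U false ⊓ U true = ⊥ := by rw [inf_comm]; exact hinf
        rw [this]; infer_instance
      exact Subsingleton.elim _ _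
    · haveI : Subsingleton Γ(W, U true ⊓ U false) := by
        have : U true ⊓ U false = ⊥ := hinf
        rw [this]; infer_instance
      exact Subsingleton.elim _ _
    · rfl
  obtain ⟨e, he, -⟩ : ∃! e : Γ(W, ⊤), ∀ b : Bool,
      W.presheaf.map (homOfLE (le_top : U b ≤ ⊤)).op e = s b :=
    W.sheaf.existsUnique_gluing' U ⊤ (fun b => homOfLE le_top) hcov s compat
  refine ⟨e, ?_⟩
  ext x
  by_cases hx : x ∈ S
  · have hx1 : x ∈ U₁ := (hU₁ ▸ hx : x ∈ (U₁ : Set W))
    simp only [hx, iff_true]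
    rw [SetLike.mem_coe, W.mem_basicOpen e x (Opens.mem_top x)]
    have h1 : W.presheaf.germ ⊤ x (Opens.mem_top x) e =
        W.presheaf.germ U₁ x hx1 (W.presheaf.map (homOfLE (le_top : U₁ ≤ ⊤)).op e) := by
      rw [TopCat.Presheaf.germ_res_apply]
    rw [h1, he true]
    show IsUnit (W.presheaf.germ U₁ x hx1 (1 : Γ(W, U₁)))
    rw [map_one]
    exact isUnit_one
  · have hx2 : x ∈ U₂ := (hU₂ ▸ hx : x ∈ (U₂ : Set W))
    simp only [hx, iff_false]
    rw [SetLike.mem_coe, W.mem_basicOpen e x (Opens.mem_top x)]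
    have h1 : W.presheaf.germ ⊤ x (Opens.mem_top x) e =
        W.presheaf.germ U₂ x hx2 (W.presheaf.map (homOfLE (le_top : U₂ ≤ ⊤)).op e) := by
      rw [TopCat.Presheaf.germ_res_apply]
    rw [h1, he false]
    show ¬ IsUnit (W.presheaf.germ U₂ x hx2 (0 : Γ(W, U₂)))
    rw [map_zero]
    exact not_isUnit_zero

end Groth.Agent.Lib.Helper14.IntegralClopen
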