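import Mathlib
import Groth.Agent.Lib.Helper3.QuasiFlatBC

/-!
# helper14: irreducible components dominate irreducible components after quasi-flat base change (S4633)
-/

set_option autoImplicit false
universe u
open CategoryTheory CategoryTheory.Limits AlgebraicGeometry

namespace Groth.Agent.Lib.Helper14.IrrCompDom

section Top

variable {α : Type*} [TopologicalSpace α] [QuasiSober α] [T0Space α]

/-- an irreducible component has a generic point, which is a maximal point. -/
theorem exists_genericPoint_of_mem_irreducibleComponents {Z : Set α} (hZ : Z ∈ irreducibleComponents α) :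
    ∃ z, IsGenericPoint z Z ∧ ∀ p, p ⤳ z → p = z := by
  obtain ⟨z, hz⟩ := QuasiSober.sober hZ.1 (isClosed_of_mem_irreducibleComponents _ hZ)
  refine ⟨z, hz, fun p hp => ?_⟩
  have h1 : Z ⊆ closure {p} := by
    rw [← hz.def]
    exact closure_minimal (Set.singleton_subset_iff.mpr (specializes_iff_mem_closure.mp hp))
      isClosed_closure
  have h2 : closure {p} ⊆ Z := hZ.2 isIrreducible_singleton.closure h1
  have h3 : z ⤳ p := by
    rw [specializes_iff_mem_closure, hz.def]
    exact h2 (subset_closure rfl)
  exact (hp.antisymm h3).eq

/-- the closure of a maximal point is an irreducible component. -/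
theorem closure_singleton_mem_irreducibleComponents (x : α) (hx : ∀ p, p ⤳ x → p = x) :
    closure {x} ∈ irreducibleComponents α := by
  obtain ⟨Z, hZ, hsub⟩ := exists_mem_irreducibleComponents_subset_of_isIrreducible (closure {x})
    isIrreducible_singleton.closure
  obtain ⟨z, hz, -⟩ := exists_genericPoint_of_mem_irreducibleComponents hZ
  have h1 : z ⤳ x := by
    rw [specializes_iff_mem_closure, hz.def]
    exact hsub (subset_closure rfl)
  have h2 := hx z h1
  rw [← h2, hz.def]
  exact hZ

/-- if the closure of a point is an irreducible component, the point is maximal. -/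
theorem eq_of_specializes_of_closure_mem {y : α} (hy : closure {y} ∈ irreducibleComponents α) (p : α)
    (hp : p ⤳ y) : p = y := by
  have h1 : closure {y} ⊆ closure {p} :=
    closure_minimal (Set.singleton_subset_iff.mpr (specializes_iff_mem_closure.mp hp)) isClosed_closure
  have h2 : closure {p} ⊆ closure {y} := hy.2 isIrreducible_singleton.closure h1
  have h3 : y ⤳ p := by
    rw [specializes_iff_mem_closure]
    exact h2 (subset_closure rfl)
  exact (hp.antisymm h3).eq

end Top

section Main

variable {X Y Y' : Scheme.{u}} (f : X ⟶ Y) (g : Y' ⟶ Y)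

/-- the base change of `pullback.snd f g` to the fibre `g⁻¹(y)` is flat (it is a base change of
`X_y ⟶ Spec κ(y)`), hence generalizing. -/
theorem generalizingMap_snd_fiber (y : Y) :
    GeneralizingMap (pullback.snd (pullback.snd f g) (g.fiberι y)) := by
  haveI : Flat (f.fiberToSpecResidueField y) := inferInstance
  haveI : Flat (pullback.snd (pullback.snd f (Y.fromSpecResidueField y))
      (g.fiberToSpecResidueField y)) :=
    MorphismProperty.pullback_snd (P := @Flat) _ _ (inferInstanceAs (Flat (f.fiberToSpecResidueField y)))
  have heq : pullback.snd (pullback.snd f g) (g.fiberι y) =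
      ((pullbackLeftPullbackSndIso f g (g.fiberι y)).hom ≫
        (pullback.congrHom (f₁ := f) (g₁ := g.fiberι y ≫ g) rfl (g.fiber_fac y)).hom ≫
        (pullbackLeftPullbackSndIso f (Y.fromSpecResidueField y)
          (g.fiberToSpecResidueField y)).inv) ≫
        pullback.snd (pullback.snd f (Y.fromSpecResidueField y)) (g.fiberToSpecResidueField y) := by
    simp only [Category.assoc, pullbackLeftPullbackSndIso_inv_snd_snd, pullback.congrHom_hom,
      pullback.lift_snd, pullback.map]
    rw [Category.comp_id, pullbackLeftPullbackSndIso_hom_snd]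
  rw [heq]
  exact Flat.generalizingMap _

theorem main (hf : ∀ Z ∈ irreducibleComponents ↥X, closure (⇑f '' Z) ∈ irreducibleComponents ↥Y)
    (hg : FDesc.IsQuasiFlat g) (Z' : Set ↥(pullback f g)) (hZ' : Z' ∈ irreducibleComponents ↥(pullback f g)) :
    closure (⇑(pullback.snd f g) '' Z') ∈ irreducibleComponents ↥Y' := by
  obtain ⟨ζ, hζ, hζmax⟩ := exists_genericPoint_of_mem_irreducibleComponents hZ'
  -- `x = fst ζ` is maximal
  have hfst : FDesc.IsQuasiFlat (pullback.fst f g) :=
    Groth.Agent.Lib.helper3.QuasiFlatBC.isQuasiFlat_of_isPullback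
      (IsPullback.of_hasPullback f g).flip hg
  have hgen1 : GeneralizingMap (pullback.fst f g) := Groth.Agent.S2493.result _ hfst
  have hxmax : ∀ p, p ⤳ pullback.fst f g ζ → p = pullback.fst f g ζ := by
    intro p hp
    obtain ⟨q, hq, hq2⟩ := hgen1 hp
    rw [← hq2, hζmax q hq]
  have hxc := closure_singleton_mem_irreducibleComponents _ hxmax
  -- `y = f x` is maximal
  have hyc : closure {f (pullback.fst f g ζ)} ∈ irreducibleComponents ↥Y := by
    have := hf _ hxc
    rwa [closure_image_closure f.continuous, Set.image_singleton] at this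
  have hymax := eq_of_specializes_of_closure_mem hyc
  -- `y' = snd ζ` is maximal
  have hy'max : ∀ p, p ⤳ pullback.snd f g ζ → p = pullback.snd f g ζ := by
    intro y'' hy''
    set y := f (pullback.fst f g ζ) with hy
    have hgy' : g (pullback.snd f g ζ) = y := by
      rw [hy, ← Scheme.Hom.comp_apply, ← Scheme.Hom.comp_apply, pullback.condition]
    have hgy'' : g y'' = y := by
      apply hymax
      rw [← hgy']
      exact hy''.map g.continuous
    -- points of the fibre
    have h1 : pullback.snd f g ζ ∈ Set.range (g.fiberι y) := by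
      rw [g.range_fiberι]; exact hgy'
    have h2 : y'' ∈ Set.range (g.fiberι y) := by
      rw [g.range_fiberι]; exact hgy''
    obtain ⟨t', ht'⟩ := h1
    obtain ⟨t'', ht''⟩ := h2
    have hspec : t'' ⤳ t' := by
      rw [← (g.fiberι y).isEmbedding.isInducing.specializes_iff, ht', ht'']
      exact hy''
    obtain ⟨ζT, hζT1, hζT2⟩ := Scheme.Pullback.exists_preimage_pullback
      (f := pullback.snd f g) (g := g.fiberι y) ζ t' ht'.symm
    obtain ⟨ζT', hζT'1, hζT'2⟩ := generalizingMap_snd_fiber f g y (hζT2 ▸ hspec)
    have h3 : pullback.fst (pullback.snd f g) (g.fiberι y) ζT' = ζ := by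
      apply hζmax
      rw [← hζT1]
      exact hζT'1.map (pullback.fst (pullback.snd f g) (g.fiberι y)).continuous
    rw [← ht'', ← hζT'2, ← Scheme.Hom.comp_apply, ← pullback.condition, Scheme.Hom.comp_apply, h3]
  have := closure_singleton_mem_irreducibleComponents _ hy'max
  rwa [← hζ.def, closure_image_closure (pullback.snd f g).continuous, Set.image_singleton]

end Main

end Groth.Agent.Lib.Helper14.IrrCompDom
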