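import Mathlib
import Groth.Prelude.Def_AlgGrp
import Groth.Prelude.Def_Red
import Groth.Prelude.Def_SGA3x
import Groth.Agent.Lib.Helper14.HomRigid
import Groth.Agent.Lib.Helper14.LocSplit5

/-!
# helper14: restriction of splittings of a torus to smaller opens, and their rigidity
-/

set_option autoImplicit false
universe u
open CategoryTheory CategoryTheory.Limits AlgebraicGeometry MonoidalCategory
  CartesianMonoidalCategory MonObj

namespace Groth.Agent.Lib.Helper14.IrrSplit

noncomputable section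

open Groth.Agent.Lib.Helper14.DiagHom2 Groth.Agent.Lib.Helper14.BCGrp
  Groth.Agent.Lib.Helper14.TorusMonoIso Groth.Agent.Lib.Helper14.MaxSplit
  Groth.Agent.Lib.Helper14.BCNat Groth.Agent.Lib.Helper14.HomRigid

variable {S : Scheme.{u}} {T : Over S} [GrpObj T] {M : Type} [AddCommGroup M]

/-- the transition morphism between the restrictions of `T` to two opens -/
def tr {W' W : S.Opens} (h : W' ≤ W) : (Red.bc W'.ι T).left ⟶ (Red.bc W.ι T).left :=
  pullback.map T.hom W'.ι T.hom W.ι (𝟙 _) (S.homOfLE h) (𝟙 _) (by simp) (by simp)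

lemma tr_fst {W' W : S.Opens} (h : W' ≤ W) :
    tr (T := T) h ≫ pullback.fst T.hom W.ι = pullback.fst T.hom W'.ι := by
  unfold tr pullback.map
  rw [pullback.lift_fst, Category.comp_id]

lemma tr_snd {W' W : S.Opens} (h : W' ≤ W) :
    tr (T := T) h ≫ pullback.snd T.hom W.ι = pullback.snd T.hom W'.ι ≫ S.homOfLE h := by
  unfold tr pullback.map
  rw [pullback.lift_snd]

lemma tr_tr {W'' W' W : S.Opens} (h₁ : W'' ≤ W') (h₂ : W' ≤ W) :
    tr (T := T) h₁ ≫ tr h₂ = tr (h₁.trans h₂) := by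
  apply pullback.hom_ext
  · rw [Category.assoc, tr_fst, tr_fst, tr_fst]
  · rw [Category.assoc, tr_snd, ← Category.assoc, tr_snd, Category.assoc, Scheme.homOfLE_homOfLE,
      tr_snd]

/-- the component in `Spec ℤ[M]` of a splitting -/
def cmp {W : S.Opens} (e : Grp.mk (Red.bc W.ι T) ≅ Grp.mk (Red.DS W M)) :
    (Red.bc W.ι T).left ⟶ (Red.diag (ULift.{u} ℤ) M).left :=
  e.hom.hom.hom.left ≫ pullback.fst _ _

/-- restriction of a splitting to a smaller open -/
def res {W' W : S.Opens} (h : W' ≤ W) (e : Grp.mk (Red.bc W.ι T) ≅ Grp.mk (Red.DS W M)) :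
    Grp.mk (Red.bc W'.ι T) ≅ Grp.mk (Red.DS W' M) :=
  bcGrpIsoOfEq (Scheme.homOfLE_ι S h).symm T ≪≫ diagBC (S.homOfLE h) W.ι T M e

lemma res_hom {W' W : S.Opens} (h : W' ≤ W) (e : Grp.mk (Red.bc W.ι T) ≅ Grp.mk (Red.DS W M)) :
    (res h e).hom.hom.hom =
      (bcGrpIsoOfEq (Scheme.homOfLE_ι S h).symm T).hom.hom.hom ≫
        (bcCompGrpIso (S.homOfLE h) W.ι T).hom.hom.hom ≫
          (Over.pullback (S.homOfLE h)).map e.hom.hom.hom ≫
            (DSbcIso (S.homOfLE h) M).hom.hom.hom := rfl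

theorem cmp_res {W' W : S.Opens} (h : W' ≤ W)
    (e : Grp.mk (Red.bc W.ι T) ≅ Grp.mk (Red.DS W M)) : cmp (res h e) = tr h ≫ cmp e := by
  have h1 : ((bcGrpIsoOfEq (Scheme.homOfLE_ι S h).symm T).hom.hom.hom ≫
      (bcCompGrpIso (S.homOfLE h) W.ι T).hom.hom.hom).left ≫
        pullback.fst (Red.bc W.ι T).hom (S.homOfLE h) = tr h := by
    apply pullback.hom_ext
    · rw [tr_fst, Over.comp_left, Category.assoc, Category.assoc, bcCompGrpIso_hom_fst,
        bcGrpIsoOfEq_fst]
    · rw [tr_snd, Category.assoc]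
      have hc : pullback.fst (Red.bc W.ι T).hom (S.homOfLE h) ≫ pullback.snd T.hom W.ι =
          pullback.snd (Red.bc W.ι T).hom (S.homOfLE h) ≫ S.homOfLE h := pullback.condition
      rw [hc, ← Category.assoc]
      congr 1
      exact Over.w ((bcGrpIsoOfEq (Scheme.homOfLE_ι S h).symm T).hom.hom.hom ≫
        (bcCompGrpIso (S.homOfLE h) W.ι T).hom.hom.hom)
  unfold cmp
  rw [res_hom, ← h1]
  simp only [Over.comp_left, Category.assoc]
  rw [DSbcIso_fst, ← Category.assoc ((Over.pullback (S.homOfLE h)).map e.hom.hom.hom).left,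
    pb_map_fst]
  simp only [Category.assoc]

/-- a morphism into `D_B(M)` is determined by its component in `Spec ℤ[M]` -/
theorem hom_ext_DS {B : Scheme.{u}} {A : Over B} (x y : A ⟶ Red.DS B M)
    (h : x.left ≫ pullback.fst _ _ = y.left ≫ pullback.fst _ _) : x = y := by
  apply Over.OverMorphism.ext
  apply pullback.hom_ext
  · exact h
  · exact (Over.w x).trans (Over.w y).symm

instance isIso_grpIso_hom {C : Type*} [Category C] [CartesianMonoidalCategory C] {G H : C}
    [GrpObj G] [GrpObj H] (e : Grp.mk G ≅ Grp.mk H) : IsIso e.hom.hom.hom :=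
  ⟨e.inv.hom.hom, congrArg (fun t => t.hom.hom) e.hom_inv_id,
    congrArg (fun t => t.hom.hom) e.inv_hom_id⟩

/-- **Rigidity of splittings.**  Two splittings over a connected open which agree over a
non-empty smaller open have the same component. -/
theorem cmp_eq_of_tr_eq (r : ℕ) {W' W : S.Opens} [ConnectedSpace ↥(W : Scheme.{u})]
    [Nonempty ↥(W' : Scheme.{u})] (h : W' ≤ W)
    (a b : Grp.mk (Red.bc W.ι T) ≅ Grp.mk (Red.DS W (Fin r → ℤ)))
    (hab : tr h ≫ cmp a = tr h ≫ cmp b) : a.hom.hom.hom = b.hom.hom.hom := by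
  rw [← cmp_res, ← cmp_res] at hab
  have h1 : (res h a).hom.hom.hom = (res h b).hom.hom.hom := hom_ext_DS _ _ hab
  rw [res_hom, res_hom] at h1
  have h2 : (Over.pullback (S.homOfLE h)).map a.hom.hom.hom =
      (Over.pullback (S.homOfLE h)).map b.hom.hom.hom := by
    rw [cancel_epi, cancel_epi, cancel_mono] at h1
    exact h1
  have hG : SGA3x.IsMultTypeFT (Red.bc W.ι T) :=
    isMultTypeFT_of_isTorus (isTorus_of_split r ⟨a⟩)
  have hH : SGA3x.IsMultTypeFT (Red.DS (W : Scheme.{u}) (Fin r → ℤ)) :=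
    isMultTypeFT_of_isTorus (isTorus_of_split r ⟨Iso.refl _⟩)
  haveI : IsMonHom a.hom.hom.hom := inferInstance
  haveI : IsMonHom b.hom.hom.hom := inferInstance
  exact hom_eq_of_eq_at hG hH a.hom.hom.hom b.hom.hom.hom (S.homOfLE h) h2

end

end Groth.Agent.Lib.Helper14.IrrSplit
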