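import Mathlib
import Groth.Prelude.Def_AlgGrp
import Groth.Prelude.Def_Red
import Groth.Prelude.Def_SGA3x
import Groth.Agent.Lib.Helper14.IrrSplit1

/-!
# helper14: normalised splittings of a locally split torus over an irreducible base
-/

set_option autoImplicit false
universe u
open CategoryTheory CategoryTheory.Limits AlgebraicGeometry MonoidalCategory
  CartesianMonoidalCategory MonObj

namespace Groth.Agent.Lib.Helper14.IrrSplit

noncomputable section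

open Groth.Agent.Lib.Helper14.DiagHom2 Groth.Agent.Lib.Helper14.DiagHom3
  Groth.Agent.Lib.Helper14.BCGrp
  Groth.Agent.Lib.Helper14.TorusMonoIso Groth.Agent.Lib.Helper14.MaxSplit
  Groth.Agent.Lib.Helper14.BCNat Groth.Agent.Lib.Helper14.HomRigid

variable {S : Scheme.{u}} [IrreducibleSpace ↥S]

theorem connectedSpace_of_nonempty (W : S.Opens) (hW : (W : Set S).Nonempty) :
    ConnectedSpace ↥(W : Scheme.{u}) := by
  have h1 : IsPreirreducible (W : Set S) :=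
    (PreirreducibleSpace.isPreirreducible_univ (X := S)).open_subset W.2 (Set.subset_univ _)
  haveI : PreconnectedSpace ↥(W : Set S) :=
    isPreconnected_iff_preconnectedSpace.mp h1.isPreconnected
  haveI : Nonempty ↥(W : Set S) := hW.to_subtype
  exact @ConnectedSpace.mk ↥(W : Set S) _ ‹PreconnectedSpace ↥(W : Set S)› ‹Nonempty ↥(W : Set S)›

theorem inf_nonempty (W U : S.Opens) (hW : (W : Set S).Nonempty) (hU : (U : Set S).Nonempty) :
    ((W ⊓ U : S.Opens) : Set S).Nonempty :=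
  nonempty_preirreducible_inter W.2 U.2 hW hU

variable {T : Over S} [GrpObj T] (r : ℕ)

/-- a splitting over `W` is normalised with respect to a reference splitting `e₀` over `U₀` if
the two agree over `W ⊓ U₀` -/
def IsNorm (U₀ : S.Opens) (e₀ : Grp.mk (Red.bc U₀.ι T) ≅ Grp.mk (Red.DS U₀ (Fin r → ℤ)))
    (W : S.Opens) (a : Grp.mk (Red.bc W.ι T) ≅ Grp.mk (Red.DS W (Fin r → ℤ))) : Prop :=
  tr (inf_le_left : W ⊓ U₀ ≤ W) ≫ cmp a = tr (inf_le_right : W ⊓ U₀ ≤ U₀) ≫ cmp e₀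

theorem exists_norm (U₀ : S.Opens) (hU₀ : (U₀ : Set S).Nonempty)
    (e₀ : Grp.mk (Red.bc U₀.ι T) ≅ Grp.mk (Red.DS U₀ (Fin r → ℤ)))
    (W : S.Opens) (hW : (W : Set S).Nonempty)
    (a : Grp.mk (Red.bc W.ι T) ≅ Grp.mk (Red.DS W (Fin r → ℤ))) :
    ∃ a' : Grp.mk (Red.bc W.ι T) ≅ Grp.mk (Red.DS W (Fin r → ℤ)), IsNorm r U₀ e₀ W a' := by
  have hW₀ := inf_nonempty W U₀ hW hU₀
  haveI := connectedSpace_of_nonempty (W ⊓ U₀) hW₀
  haveI : Nonempty ↥((W ⊓ U₀ : S.Opens) : Scheme.{u}) := hW₀.to_subtype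
  let a₀ := res (inf_le_left : W ⊓ U₀ ≤ W) a
  let e₀' := res (inf_le_right : W ⊓ U₀ ≤ U₀) e₀
  let c := a₀.symm ≪≫ e₀'
  haveI : AddGroup.FG (Fin r → ℤ) := Module.Finite.iff_addGroup_fg.mp inferInstance
  have hD : SGA3x.IsMultTypeFT (Red.DS ((W ⊓ U₀ : S.Opens) : Scheme.{u}) (Fin r → ℤ)) :=
    isMultTypeFT_of_isTorus (isTorus_of_split r ⟨Iso.refl _⟩)
  haveI : IsMonHom c.hom.hom.hom := inferInstance
  haveI : IsMonHom c.inv.hom.hom := inferInstance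
  obtain ⟨ψ, hψ⟩ := exists_DSmap_of_connected hD hD c.hom.hom.hom
  obtain ⟨ψ', hψ'⟩ := exists_DSmap_of_connected hD hD c.inv.hom.hom
  have hc1 : c.hom.hom.hom ≫ c.inv.hom.hom = 𝟙 _ := congrArg (fun t => t.hom.hom) c.hom_inv_id
  have hc2 : c.inv.hom.hom ≫ c.hom.hom.hom = 𝟙 _ := congrArg (fun t => t.hom.hom) c.inv_hom_id
  have h1 : ψ.comp ψ' = AddMonoidHom.id _ := by
    apply DSmap_injective' (B := ((W ⊓ U₀ : S.Opens) : Scheme.{u}))
    rw [DSmap_comp, DSmap_id, ← hψ, ← hψ']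
    exact hc1
  have h2 : ψ'.comp ψ = AddMonoidHom.id _ := by
    apply DSmap_injective' (B := ((W ⊓ U₀ : S.Opens) : Scheme.{u}))
    rw [DSmap_comp, DSmap_id, ← hψ, ← hψ']
    exact hc2
  let Ψ : Red.DS (W : Scheme.{u}) (Fin r → ℤ) ≅ Red.DS (W : Scheme.{u}) (Fin r → ℤ) :=
    ⟨Red.DSmap _ ψ, Red.DSmap _ ψ', by rw [← DSmap_comp, h1, DSmap_id],
      by rw [← DSmap_comp, h2, DSmap_id]⟩
  haveI : IsMonHom Ψ.hom := Groth.Agent.Lib.helper15.DSMap.isMonHom_DSmap _ _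
  let a' : Grp.mk (Red.bc W.ι T) ≅ Grp.mk (Red.DS W (Fin r → ℤ)) := a ≪≫ Grp.mkIso' Ψ
  refine ⟨a', ?_⟩
  have ha' : cmp a' = cmp a ≫ (Red.diagMap (ULift.{u} ℤ) ψ).left := by
    have e1 : a'.hom.hom.hom = a.hom.hom.hom ≫ Red.DSmap _ ψ := rfl
    unfold cmp
    rw [e1, Over.comp_left, Category.assoc, DSmap_fst, Category.assoc]
  have he₀' : cmp e₀' = cmp a₀ ≫ (Red.diagMap (ULift.{u} ℤ) ψ).left := by
    have e1 : a₀.hom ≫ c.hom = e₀'.hom := Iso.hom_inv_id_assoc a₀ e₀'.hom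
    have e2 : e₀'.hom.hom.hom = a₀.hom.hom.hom ≫ c.hom.hom.hom := by
      rw [← e1]
      rfl
    unfold cmp
    rw [e2, hψ, Over.comp_left, Category.assoc, DSmap_fst, Category.assoc]
  unfold IsNorm
  rw [ha', ← Category.assoc, ← cmp_res, ← cmp_res]
  exact he₀'.symm

theorem norm_compat (U₀ : S.Opens) (hU₀ : (U₀ : Set S).Nonempty)
    (e₀ : Grp.mk (Red.bc U₀.ι T) ≅ Grp.mk (Red.DS U₀ (Fin r → ℤ)))
    {W' W : S.Opens} (h : W' ≤ W) (hW' : (W' : Set S).Nonempty)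
    (a : Grp.mk (Red.bc W.ι T) ≅ Grp.mk (Red.DS W (Fin r → ℤ)))
    (a' : Grp.mk (Red.bc W'.ι T) ≅ Grp.mk (Red.DS W' (Fin r → ℤ)))
    (ha : IsNorm r U₀ e₀ W a) (ha' : IsNorm r U₀ e₀ W' a') : tr h ≫ cmp a = cmp a' := by
  have hW₀ := inf_nonempty W' U₀ hW' hU₀
  haveI := connectedSpace_of_nonempty W' hW'
  haveI : Nonempty ↥((W' ⊓ U₀ : S.Opens) : Scheme.{u}) := hW₀.to_subtype
  have key : (res h a).hom.hom.hom = a'.hom.hom.hom := by
    apply cmp_eq_of_tr_eq r (inf_le_left : W' ⊓ U₀ ≤ W')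
    rw [cmp_res, ← Category.assoc, tr_tr]
    have e1 : tr (T := T) ((inf_le_left : W' ⊓ U₀ ≤ W').trans h) =
        tr (inf_le_inf_right U₀ h : W' ⊓ U₀ ≤ W ⊓ U₀) ≫ tr (inf_le_left : W ⊓ U₀ ≤ W) :=
      (tr_tr _ _).symm
    rw [e1, Category.assoc, ha, ← Category.assoc, tr_tr]
    exact ha'.symm
  rw [← cmp_res]
  unfold cmp
  rw [key]

end

end Groth.Agent.Lib.Helper14.IrrSplit
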