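import Mathlib
import Groth.Prelude.Def_AlgGrp
import Groth.Prelude.Def_Red
import Groth.Prelude.Def_SGA3x
import Groth.Agent.Lib.Helper14.IrrSplit2

/-!
# helper14: a torus over an irreducible base which is split Zariski-locally is split
-/

set_option autoImplicit false
universe u
open CategoryTheory CategoryTheory.Limits AlgebraicGeometry MonoidalCategory
  CartesianMonoidalCategory MonObj

namespace Groth.Agent.Lib.Helper14.IrrSplit

noncomputable section

open Groth.Agent.Lib.Helper14.DiagHom2 Groth.Agent.Lib.Helper14.DiagHom3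
  Groth.Agent.Lib.Helper14.BCGrp Groth.Agent.Lib.Helper14.DiagHomG1
  Groth.Agent.Lib.Helper14.TorusMonoIso Groth.Agent.Lib.Helper14.MaxSplit
  Groth.Agent.Lib.Helper14.BCNat Groth.Agent.Lib.Helper14.HomRigid

section Reflect

open Functor.LaxMonoidal Functor.OplaxMonoidal
open scoped Obj

/-- a jointly faithful family of monoidal functors reflects homomorphisms of monoid objects -/
theorem isMonHom_of_map_family {C : Type*} [Category C] [MonoidalCategory C] {J : Type*}
    {D : J → Type*} [∀ i, Category (D i)] [∀ i, MonoidalCategory (D i)] (F : ∀ i, C ⥤ D i)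
    [∀ i, (F i).Monoidal] {X Y : C} [MonObj X] [MonObj Y] (g : X ⟶ Y)
    (hinj1 : ∀ a b : 𝟙_ C ⟶ Y, (∀ i, (F i).map a = (F i).map b) → a = b)
    (hinj2 : ∀ a b : X ⊗ X ⟶ Y, (∀ i, (F i).map a = (F i).map b) → a = b)
    [∀ i, IsMonHom ((F i).map g)] : IsMonHom g where
  one_hom := hinj1 _ _ fun i => by simpa [cancel_epi] using IsMonHom.one_hom ((F i).map g)
  mul_hom := hinj2 _ _ fun i => by simpa [cancel_epi] using IsMonHom.mul_hom ((F i).map g)

end Reflect

/-- two morphisms over `S` which agree after restriction to the members of an open cover of `S`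
are equal -/
theorem hom_ext_zariski {S : Scheme.{u}} {I : Type u} (U : I → S.Opens) (hU : TopologicalSpace.IsOpenCover U)
    {X Y : Over S} (a b : X ⟶ Y)
    (h : ∀ i, (Over.pullback (U i).ι).map a = (Over.pullback (U i).ι).map b) : a = b := by
  apply Over.OverMorphism.ext
  apply ((S.openCoverOfIsOpenCover U hU).pullback₁ X.hom).hom_ext
  intro i
  show pullback.fst X.hom (U i).ι ≫ a.left = pullback.fst X.hom (U i).ι ≫ b.left
  rw [← pb_map_fst, ← pb_map_fst, h i]

/-- a morphism into the restriction of `D_S(M)` is determined by its component in `Spec ℤ[M]` -/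
theorem hom_ext_bcDS {S : Scheme.{u}} {M : Type} [AddCommGroup M] (W : S.Opens)
    {A : Over (W : Scheme.{u})} (x y : A ⟶ Red.bc W.ι (Red.DS S M))
    (h : x.left ≫ pullback.fst _ _ ≫ pullback.fst _ _ =
      y.left ≫ pullback.fst _ _ ≫ pullback.fst _ _) : x = y := by
  apply Over.OverMorphism.ext
  apply pullback.hom_ext
  · apply pullback.hom_ext
    · simpa only [Category.assoc] using h
    · have hc : pullback.fst (Red.DS S M).hom W.ι ≫ (Red.DS S M).hom =
          pullback.snd (Red.DS S M).hom W.ι ≫ W.ι := pullback.condition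
      have hx : x.left ≫ pullback.snd (Red.DS S M).hom W.ι = A.hom := Over.w x
      have hy : y.left ≫ pullback.snd (Red.DS S M).hom W.ι = A.hom := Over.w y
      show (x.left ≫ pullback.fst _ _) ≫ (Red.DS S M).hom =
        (y.left ≫ pullback.fst _ _) ≫ (Red.DS S M).hom
      rw [Category.assoc, Category.assoc, hc, ← Category.assoc, ← Category.assoc, hx, hy]
  · exact (Over.w x).trans (Over.w y).symm

variable {S : Scheme.{u}} {T : Over S} [GrpObj T] (r : ℕ)

variable (T) in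
/-- the non-empty opens over which `T` is split of rank `r` -/
def Idx : Type u := {W : S.Opens // (W : Set S).Nonempty ∧
  Nonempty (Grp.mk (Red.bc W.ι T) ≅ Grp.mk (Red.DS W (Fin r → ℤ)))}

instance : Preorder (Idx T r) :=
  inferInstanceAs (Preorder {W : S.Opens // (W : Set S).Nonempty ∧
    Nonempty (Grp.mk (Red.bc W.ι T) ≅ Grp.mk (Red.DS W (Fin r → ℤ)))})

variable (T) in
/-- the family of opens -/
def Ufam (i : Idx T r) : S.Opens := i.1

theorem isOpenCover_Ufam
    (hT : ∀ s : S, ∃ U : S.Opens, s ∈ U ∧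
      Nonempty (Grp.mk (Red.bc U.ι T) ≅ Grp.mk (Red.DS U (Fin r → ℤ)))) :
    TopologicalSpace.IsOpenCover (Ufam T r) := by
  rw [TopologicalSpace.IsOpenCover, eq_top_iff]
  intro x _
  obtain ⟨U, hxU, hU⟩ := hT x
  rw [TopologicalSpace.Opens.mem_iSup]
  exact ⟨⟨U, ⟨x, hxU⟩, hU⟩, hxU⟩

variable (T) in
/-- the open cover of the base -/
def cov (hcov : TopologicalSpace.IsOpenCover (Ufam T r)) : S.OpenCover :=
  S.openCoverOfIsOpenCover (Ufam T r) hcov

instance (hcov : TopologicalSpace.IsOpenCover (Ufam T r)) : Preorder (cov T r hcov).I₀ :=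
  inferInstanceAs (Preorder (Idx T r))

theorem cov_le_iff (hcov : TopologicalSpace.IsOpenCover (Ufam T r)) {i j : (cov T r hcov).I₀} :
    i ≤ j ↔ ((cov T r hcov).f i).opensRange ≤ ((cov T r hcov).f j).opensRange := by
  show i.1 ≤ j.1 ↔ (i.1.ι).opensRange ≤ (j.1.ι).opensRange
  rw [Scheme.Opens.opensRange_ι, Scheme.Opens.opensRange_ι]

theorem cov_isBasis
    (hT : ∀ s : S, ∃ U : S.Opens, s ∈ U ∧
      Nonempty (Grp.mk (Red.bc U.ι T) ≅ Grp.mk (Red.DS U (Fin r → ℤ))))
    (hcov : TopologicalSpace.IsOpenCover (Ufam T r)) :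
    TopologicalSpace.Opens.IsBasis
      (Set.range fun i : (cov T r hcov).I₀ => ((cov T r hcov).f i).opensRange) := by
  rw [TopologicalSpace.Opens.isBasis_iff_nbhd]
  intro O x hxO
  obtain ⟨U, hxU, ⟨eU⟩⟩ := hT x
  have hle' : U ⊓ O ≤ U := inf_le_left
  refine ⟨U ⊓ O, ⟨⟨U ⊓ O, ⟨x, hxU, hxO⟩, ⟨res hle' eU⟩⟩, ?_⟩, ⟨hxU, hxO⟩, inf_le_right⟩
  show (Scheme.Opens.ι (U ⊓ O)).opensRange = U ⊓ O
  rw [Scheme.Opens.opensRange_ι]

variable [IrreducibleSpace ↥S]

/-- **A torus over an irreducible base which is split of rank `r` Zariski-locally is split.** -/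
theorem split_of_locallySplit
    (hT : ∀ s : S, ∃ U : S.Opens, s ∈ U ∧
      Nonempty (Grp.mk (Red.bc U.ι T) ≅ Grp.mk (Red.DS U (Fin r → ℤ)))) :
    Nonempty (Grp.mk T ≅ Grp.mk (Red.DS S (Fin r → ℤ))) := by
  obtain ⟨s₀⟩ : Nonempty ↥S := inferInstance
  obtain ⟨U₀, hs₀, ⟨e₀⟩⟩ := hT s₀
  have hU₀ : (U₀ : Set S).Nonempty := ⟨s₀, hs₀⟩
  have hcov := isOpenCover_Ufam r hT
  let 𝒰 : S.OpenCover := cov T r hcov
  letI : 𝒰.LocallyDirected :=
    Scheme.Cover.LocallyDirected.ofIsBasisOpensRange (cov_le_iff r hcov) (cov_isBasis r hT hcov)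
  let 𝒱 : T.left.OpenCover := 𝒰.pullback₁ T.hom
  -- the normalised splittings
  have hex : ∀ i : Idx T r, ∃ a : Grp.mk (Red.bc i.1.ι T) ≅ Grp.mk (Red.DS i.1 (Fin r → ℤ)),
      IsNorm r U₀ e₀ i.1 a := fun i =>
    exists_norm r U₀ hU₀ e₀ i.1 i.2.1 (Classical.choice i.2.2)
  choose a ha using hex
  let g : ∀ i : 𝒱.I₀, 𝒱.X i ⟶ (Red.diag (ULift.{u} ℤ) (Fin r → ℤ)).left := fun i => cmp (a i)
  have hg : ∀ {i j : 𝒱.I₀} (hij : i ⟶ j), 𝒱.trans hij ≫ g j = g i := by
    intro i j hij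
    have hij' : i.1 ≤ j.1 := leOfHom hij
    have e1 : 𝒱.trans hij = tr (T := T) hij' := rfl
    rw [e1]
    exact norm_compat r U₀ hU₀ e₀ hij' i.2.1 (a j) (a i) (ha j) (ha i)
  let c : T.left ⟶ (Red.diag (ULift.{u} ℤ) (Fin r → ℤ)).left :=
    𝒱.glueMorphismsOfLocallyDirected g hg
  have hc : ∀ i : Idx T r, pullback.fst T.hom i.1.ι ≫ c = cmp (a i) := fun i =>
    𝒱.map_glueMorphismsOfLocallyDirected g hg i
  let e : T ⟶ Red.DS S (Fin r → ℤ) :=
    Over.homMk (pullback.lift c T.hom (specULiftZIsTerminal.hom_ext _ _))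
      (pullback.lift_snd _ _ _)
  have he : e.left ≫ pullback.fst _ _ = c := pullback.lift_fst _ _ _
  have key : ∀ i : Idx T r, (Over.pullback i.1.ι).map e =
      (a i).hom.hom.hom ≫ (DSbcIso i.1.ι (Fin r → ℤ)).inv.hom.hom := by
    intro i
    apply hom_ext_bcDS
    rw [← Category.assoc, pb_map_fst, Category.assoc, he, hc i]
    have h1 : (DSbcIso i.1.ι (Fin r → ℤ)).inv.hom.hom.left ≫ pullback.fst _ _ ≫ pullback.fst _ _ =
        pullback.fst _ _ := by
      rw [← DSbcIso_fst, ← Category.assoc, ← Over.comp_left]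
      have h2 : (DSbcIso i.1.ι (Fin r → ℤ)).inv.hom.hom ≫ (DSbcIso i.1.ι (Fin r → ℤ)).hom.hom.hom =
          𝟙 _ := congrArg (fun t => t.hom.hom) (DSbcIso i.1.ι (Fin r → ℤ)).inv_hom_id
      rw [h2]
      exact Category.id_comp _
    rw [Over.comp_left, Category.assoc, h1]
    rfl
  -- `e` is an isomorphism
  have hiso : PAt (MorphismProperty.isomorphisms Scheme.{u}) e (𝟙 S) := by
    apply PAt.of_local (P := MorphismProperty.isomorphisms Scheme.{u}) (u := e) (𝟙 S)
    intro x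
    obtain ⟨U, hxU, hU⟩ := hT x
    let i : Idx T r := ⟨U, ⟨x, hxU⟩, hU⟩
    refine ⟨U, hxU, (U : Scheme.{u}), 𝟙 _,
      Groth.Agent.Lib.Helper14.DiagHomG5.qfpqc_id _, ?_⟩
    rw [Category.id_comp, Category.comp_id]
    show MorphismProperty.isomorphisms Scheme.{u} ((Over.pullback i.1.ι).map e).left
    rw [key i, MorphismProperty.isomorphisms.iff, Over.comp_left]
    haveI : IsIso (a i).hom.hom.hom.left := (Over.forget _).map_isIso (a i).hom.hom.hom
    haveI : IsIso (DSbcIso i.1.ι (Fin r → ℤ)).inv.hom.hom :=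
      ⟨(DSbcIso i.1.ι (Fin r → ℤ)).hom.hom.hom,
        congrArg (fun t => t.hom.hom) (DSbcIso i.1.ι (Fin r → ℤ)).inv_hom_id,
        congrArg (fun t => t.hom.hom) (DSbcIso i.1.ι (Fin r → ℤ)).hom_inv_id⟩
    haveI : IsIso (DSbcIso i.1.ι (Fin r → ℤ)).inv.hom.hom.left :=
      (Over.forget _).map_isIso (DSbcIso i.1.ι (Fin r → ℤ)).inv.hom.hom
    infer_instance
  haveI : IsIso e := isIso_of_PAt_id e hiso
  -- `e` is a homomorphism
  haveI : ∀ i : Idx T r, IsMonHom ((Over.pullback (Ufam T r i).ι).map e) := by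
    intro i
    show IsMonHom ((Over.pullback i.1.ι).map e)
    rw [key i]
    haveI : IsMonHom (a i).hom.hom.hom := inferInstance
    haveI : IsMonHom (DSbcIso i.1.ι (Fin r → ℤ)).inv.hom.hom := inferInstance
    infer_instance
  haveI : IsMonHom e :=
    isMonHom_of_map_family (fun i : Idx T r => Over.pullback (Ufam T r i).ι) e
      (fun x y h => hom_ext_zariski (Ufam T r) hcov x y h)
      (fun x y h => hom_ext_zariski (Ufam T r) hcov x y h)
  haveI : IsMonHom (asIso e).hom := inferInstanceAs (IsMonHom e)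
  exact ⟨Grp.mkIso' (asIso e)⟩

end

end Groth.Agent.Lib.Helper14.IrrSplit
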