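import Mathlib
import Groth.Agent.Lib.Helper3.FibreDimSum
import Groth.Agent.Lib.Helper5.GrpHomLocus2
import Groth.Agent.Lib.Helper14.HomFlat2

/-!
# helper14: a surjective homomorphism of proper group schemes over a field of the same dimension is
quasi-finite, hence finite (and flat when the target is reduced)
-/

set_option autoImplicit false
universe u
open CategoryTheory MonoidalCategory CartesianMonoidalCategory MonObj GrpObj AlgebraicGeometry Limits

namespace Groth.Agent.Lib.Helper14.IsogDim

/-- an irreducible scheme locally of finite type over a field has finite dimension -/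
theorem exists_nat_dim (k : Type u) [Field k] {Y : Scheme.{u}} (q : Y ⟶ Spec (CommRingCat.of k))
    [LocallyOfFiniteType q] [IrreducibleSpace Y] : ∃ n : ℕ, topologicalKrullDim Y = n := by
  letI : Y.Over (Spec (CommRingCat.of k)) := ⟨q⟩
  haveI : LocallyOfFiniteType (Y ↘ Spec (CommRingCat.of k)) := ‹LocallyOfFiniteType q›
  obtain ⟨n, hn⟩ := Groth.Agent.Lib.helper3.FTField.exists_nat_trdeg_residueField k Y (genericPoint Y)
  refine ⟨n, ?_⟩
  have h1 := Groth.Agent.Lib.helper3.FTField.dim_closure_eq_trdeg k Y _ n hn
  have h2 : closure ({genericPoint Y} : Set Y) = Set.univ := genericPoint_spec Y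
  rw [h2] at h1
  have h3 : topologicalKrullDim ↥(Set.univ : Set Y) = topologicalKrullDim Y :=
    (Homeomorph.Set.univ Y).isHomeomorph.topologicalKrullDim_eq
  rw [← h3, h1]

theorem one_le_of_nonneg_of_ne_zero (a : WithBot ℕ∞) (h0 : 0 ≤ a) (h1 : a ≠ 0) : 1 ≤ a := by
  induction a using WithBot.recBotCoe with
  | bot => exact absurd h0 (by simp)
  | coe m =>
    have hm : m ≠ 0 := fun h => h1 (by rw [h]; rfl)
    have : (1 : ℕ∞) ≤ m := ENat.one_le_iff_ne_zero.mpr hm
    exact_mod_cast this

theorem zero_le_localDim {T : Type u} [TopologicalSpace T] (t : T) : 0 ≤ FlatMor.localDim T t := by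
  obtain ⟨U, htU, hU⟩ := Groth.Agent.Lib.helper3.TopDim.exists_open_dim_eq_localDim t
  rw [← hU]
  haveI : Nonempty ↥(U.1 : Set T) := ⟨⟨t, htU⟩⟩
  exact Groth.Agent.Lib.helper3.TopDim.dim_nonneg

open Groth.Agent.Lib.helper5.GrpHomLocus in
/-- a surjective homomorphism between finite-type group schemes over a field, with irreducible
target of the same dimension as the source, is locally quasi-finite -/
theorem locallyQuasiFinite_of_dim_eq (k : Type u) [Field k]
    (X Y : Over (Spec (CommRingCat.of k))) [GrpObj X] [GrpObj Y]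
    [LocallyOfFiniteType X.hom] [LocallyOfFiniteType Y.hom] [QuasiCompact Y.hom]
    [IrreducibleSpace Y.left]
    (f : X ⟶ Y) [IsMonHom f] [Surjective f.left] [QuasiCompact f.left]
    (hdim : topologicalKrullDim X.left = topologicalKrullDim Y.left) :
    LocallyQuasiFinite f.left := by
  haveI : LocallyOfFiniteType (f.left ≫ Y.hom) := by rw [Over.w f]; infer_instance
  haveI : LocallyOfFiniteType f.left := locallyOfFiniteType_of_comp f.left Y.hom
  obtain ⟨n, hn⟩ := exists_nat_dim k Y.hom
  -- some point is quasi-finite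
  have hex : ∃ x : X.left, f.left.QuasiFiniteAt x := by
    by_contra hcon
    push Not at hcon
    have hfib : ∀ y : Y.left, (∀ y' : Y.left, y' ⤳ y → y' = y) →
        ((1 : ℕ) : WithBot ℕ∞) ≤ topologicalKrullDim (f.left.base ⁻¹' {y}) := by
      intro y _
      obtain ⟨x, rfl⟩ := f.left.surjective y
      have h1 : FlatMor.fibreDimAt f.left x ≠ 0 := fun h =>
        hcon x ((quasiFiniteAt_iff_fibreDimAt f.left x).mpr h)
      have h2 : 1 ≤ FlatMor.fibreDimAt f.left x :=
        one_le_of_nonneg_of_ne_zero _ (zero_le_localDim _) h1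
      have h3 : FlatMor.fibreDimAt f.left x ≤ topologicalKrullDim ↥(f.left.fiber (f.left x)) :=
        Groth.Agent.Lib.helper3.TopDim.localDim_le_dim _
      have h4 : topologicalKrullDim ↥(f.left.base ⁻¹' {f.left x}) =
          topologicalKrullDim ↥(f.left.fiber (f.left x)) :=
        (IsHomeomorph.topologicalKrullDim_eq _ (f.left.fiberHomeo (f.left x)).isHomeomorph).symm
      rw [h4]
      exact_mod_cast h2.trans h3
    have hle := Groth.Agent.Lib.helper3.FibreDimSum.add_le_dim k Y.hom f.left 1 hfib
    rw [hdim, hn] at hle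
    have : (1 : ℕ) + n ≤ n := by exact_mod_cast hle
    omega
  obtain ⟨x₀, hx₀⟩ := hex
  have hL := translationInvariant_quasiFiniteLocus f
  rw [← Scheme.Hom.quasiFiniteLocus_eq_top_iff]
  ext x
  simp only [TopologicalSpace.Opens.coe_top, Set.mem_univ, iff_true]
  exact (mem_iff_of_fibre_eq hL x₀ x (Subsingleton.elim (α := PrimeSpectrum k) _ _)).mp hx₀

/-- a surjective homomorphism of proper group schemes over a field with reduced irreducible target
of the same dimension is finite and flat -/
theorem finite_flat_of_dim_eq (k : Type u) [Field k]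
    (X Y : Over (Spec (CommRingCat.of k))) [GrpObj X] [GrpObj Y]
    [IsProper X.hom] [IsProper Y.hom] [IrreducibleSpace Y.left] [IsReduced Y.left]
    (f : X ⟶ Y) [IsMonHom f] [Surjective f.left]
    (hdim : topologicalKrullDim X.left = topologicalKrullDim Y.left) :
    IsFinite f.left ∧ Flat f.left := by
  haveI : IsProper (f.left ≫ Y.hom) := by rw [Over.w f]; infer_instance
  haveI : IsProper f.left := IsProper.of_comp f.left Y.hom
  haveI : LocallyQuasiFinite f.left := locallyQuasiFinite_of_dim_eq k X Y f hdim
  exact ⟨IsFinite.of_isProper_of_locallyQuasiFinite f.left,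
    Groth.Agent.Lib.Helper14.HomFlat.flat_of_surjective f⟩

end Groth.Agent.Lib.Helper14.IsogDim
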