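import Mathlib
import Groth.Agent.Lib.Helper14.IsogDim1
import Groth.Agent.Lib.Helper14.AbVarComm
import Groth.Agent.Lib.Helper11.SpecDim

/-!
# helper14: for homomorphisms of abelian varieties of the same dimension, flat ⇔ finite
-/

set_option autoImplicit false
universe u
open CategoryTheory MonoidalCategory CartesianMonoidalCategory MonObj GrpObj AlgebraicGeometry Limits

namespace Groth.Agent.Lib.Helper14.IsogDim

section top
variable {A B : Type*} [TopologicalSpace A] [TopologicalSpace B]

attribute [local instance] specializationPreorder

/-- a continuous map with closed range and discrete fibres from a space of finite dimension `n`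
into an irreducible space of the same dimension `n` is surjective -/
theorem surjective_of_dim_eq [QuasiSober A] [T0Space A] [QuasiSober B] [T0Space B]
    [IrreducibleSpace B] {f : A → B} (hf : Continuous f) (hcl : IsClosed (Set.range f))
    (hd : ∀ y, _root_.IsDiscrete (f ⁻¹' {y})) (n : ℕ) (hA : topologicalKrullDim A = n)
    (hB : topologicalKrullDim B = n) : Function.Surjective f := by
  by_contra hns
  have hgen : genericPoint B ∉ Set.range f := by
    intro hmem
    apply hns
    have h1 : closure ({genericPoint B} : Set B) ⊆ Set.range f :=
      hcl.closure_subset_iff.mpr (Set.singleton_subset_iff.mpr hmem)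
    rw [genericPoint_spec B] at h1
    intro b
    exact h1 (Set.mem_univ b)
  have hmono : StrictMono f :=
    Groth.Agent.Lib.helper11.SpecDim.strictMono_of_fibres hf
      (Groth.Agent.Lib.helper11.SpecDim.eq_of_specializes_of_isDiscrete hd)
  rw [Groth.Agent.Lib.helper11.SpecDim.topologicalKrullDim_eq_krullDim] at hA hB
  have hlen : ∀ l : LTSeries A, l.length + 1 ≤ n := by
    intro l
    have hlt : (l.map f hmono).last < genericPoint B := by
      rw [LTSeries.last_map]
      have hle : f l.last ≤ genericPoint B := genericPoint_specializes (f l.last)
      refine lt_of_le_not_ge hle ?_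
      intro hge
      have h1 : genericPoint B ⤳ f l.last := hle
      have h2 : f l.last ⤳ genericPoint B := hge
      exact hgen ⟨l.last, (h2.antisymm h1).eq⟩
    have h2 := Order.LTSeries.length_le_krullDim ((l.map f hmono).snoc (genericPoint B) hlt)
    rw [hB] at h2
    simp only [RelSeries.snoc_length, LTSeries.map_length] at h2
    exact_mod_cast h2
  have hAle : Order.krullDim A ≤ ((n - 1 : ℕ) : WithBot ℕ∞) := by
    unfold Order.krullDim
    refine iSup_le fun l => ?_
    have := hlen l
    have h3 : l.length ≤ n - 1 := by omega
    exact_mod_cast h3
  rw [hA] at hAle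
  have h4 : n ≤ n - 1 := by exact_mod_cast hAle
  have h5 : 1 ≤ n := by
    rcases isEmpty_or_nonempty A with hE | ⟨⟨a⟩⟩
    · rw [Order.krullDim_eq_bot] at hA
      exact absurd hA.symm (by simp)
    · have := hlen (RelSeries.singleton _ a)
      omega
  omega

end top

/-- for a homomorphism of abelian varieties of the same dimension, flat ⇔ finite -/
theorem flat_iff_isFinite (k : Type u) [Field k]
    (A B : Over (Spec (CommRingCat.of k)))
    [GrpObj A] [Smooth A.hom] [IsProper A.hom] [GeometricallyConnected A.hom]
    [GrpObj B] [Smooth B.hom] [IsProper B.hom] [GeometricallyConnected B.hom]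
    (f : A ⟶ B) [IsMonHom f] (hdim : topologicalKrullDim A.left = topologicalKrullDim B.left) :
    Flat f.left ↔ IsFinite f.left := by
  haveI : ConnectedSpace A.left :=
    GeometricallyConnected.connectedSpace_of_subsingleton (f := A.hom)
  haveI : ConnectedSpace B.left :=
    GeometricallyConnected.connectedSpace_of_subsingleton (f := B.hom)
  haveI : IsIntegral A.left :=
    Groth.Agent.Lib.Helper14.AbVarComm.isIntegral_of_smooth_connected A.hom
  haveI : IsIntegral B.left :=
    Groth.Agent.Lib.Helper14.AbVarComm.isIntegral_of_smooth_connected B.hom
  haveI : IsProper (f.left ≫ B.hom) := by rw [Over.w f]; infer_instance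
  haveI : IsProper f.left := IsProper.of_comp f.left B.hom
  haveI : IsLocallyNoetherian B.left := LocallyOfFiniteType.isLocallyNoetherian B.hom
  haveI : LocallyOfFinitePresentation f.left := inferInstance
  constructor
  · intro hflat
    have hopen : IsOpen (Set.range f.left) := f.left.isOpenMap.isOpen_range
    have hclosed : IsClosed (Set.range f.left) := f.left.isClosedMap.isClosed_range
    have hne : (Set.range f.left).Nonempty :=
      ⟨_, ⟨η[A].left (IsLocalRing.closedPoint k), rfl⟩⟩
    have huniv : Set.range f.left = Set.univ := IsClopen.eq_univ ⟨hclosed, hopen⟩ hne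
    haveI : Surjective f.left := ⟨Set.range_eq_univ.mp huniv⟩
    exact (finite_flat_of_dim_eq k A B f hdim).1
  · intro hfin
    obtain ⟨n, hn⟩ := exists_nat_dim k B.hom
    have hsurj : Function.Surjective f.left :=
      surjective_of_dim_eq f.left.continuous f.left.isClosedMap.isClosed_range
        (fun y => f.left.isDiscrete_preimage_singleton y) n (hdim.trans hn) hn
    haveI : Surjective f.left := ⟨hsurj⟩
    exact Groth.Agent.Lib.Helper14.HomFlat.flat_of_surjective f

end Groth.Agent.Lib.Helper14.IsogDim
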