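import Mathlib
import Groth.Agent.Lib.Helper11.SpecDim

/-!
# helper14: dimension along closed surjective maps with discrete fibres (finite surjective
morphisms preserve dimension)
-/

set_option autoImplicit false
universe u
open CategoryTheory AlgebraicGeometry Order Topology

namespace Groth.Agent.Lib.Helper14.IsogDim

section top
variable {X Y : Type*} [TopologicalSpace X] [TopologicalSpace Y]

attribute [local instance] specializationPreorder

/-- Lifting chains along a continuous specializing map, starting from a given lift of the last
(most generic) element. -/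
theorem exists_ltSeries_lift_last {f : X → Y} (hf : Continuous f) (hs : SpecializingMap f)
    (l : LTSeries Y) (w : X) (hw : f w = l.last) :
    ∃ L : LTSeries X, L.length = l.length ∧ L.last = w := by
  induction l using RelSeries.inductionOn' generalizing w with
  | singleton q => exact ⟨RelSeries.singleton _ w, rfl, rfl⟩
  | snoc l q lt ih =>
    simp only [RelSeries.last_snoc] at hw
    have lt' : l.last < q := lt
    have h1 : f w ⤳ l.last := by rw [hw]; exact lt'.le
    obtain ⟨w', hw'1, hw'2⟩ := hs h1
    obtain ⟨L, hL1, hL2⟩ := ih w' hw'2
    have hlt : L.last < w := by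
      rw [hL2]
      refine lt_of_le_not_ge hw'1 ?_
      intro h3
      have h3' : w' ⤳ w := h3
      have := h3'.map hf
      rw [hw, hw'2] at this
      exact lt'.not_ge this
    exact ⟨L.snoc w hlt, by simp [hL1], by simp⟩

theorem krullDim_le_of_specializingMap {f : X → Y} (hf : Continuous f) (hs : SpecializingMap f)
    (hsurj : Function.Surjective f) : krullDim Y ≤ krullDim X := by
  unfold krullDim
  refine iSup_le fun l => ?_
  obtain ⟨w, hw⟩ := hsurj l.last
  obtain ⟨L, hL1, hL2⟩ := exists_ltSeries_lift_last hf hs l w hw
  rw [← hL1]
  exact le_iSup (fun L : LTSeries X => (L.length : WithBot ℕ∞)) L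

/-- a continuous closed surjection with discrete fibres between sober `T0` spaces preserves the
Krull dimension -/
theorem topologicalKrullDim_eq_of_isClosedMap [QuasiSober X] [T0Space X] [QuasiSober Y] [T0Space Y]
    {f : X → Y} (hf : Continuous f) (hc : IsClosedMap f) (hsurj : Function.Surjective f)
    (hd : ∀ y, _root_.IsDiscrete (f ⁻¹' {y})) :
    topologicalKrullDim X = topologicalKrullDim Y := by
  rw [Groth.Agent.Lib.helper11.SpecDim.topologicalKrullDim_eq_krullDim,
    Groth.Agent.Lib.helper11.SpecDim.topologicalKrullDim_eq_krullDim]
  apply le_antisymm
  · exact krullDim_le_of_strictMono f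
      (Groth.Agent.Lib.helper11.SpecDim.strictMono_of_fibres hf
        (Groth.Agent.Lib.helper11.SpecDim.eq_of_specializes_of_isDiscrete hd))
  · exact krullDim_le_of_specializingMap hf hc.specializingMap hsurj

end top

/-- a finite surjective morphism of schemes preserves the dimension -/
theorem topologicalKrullDim_eq_of_isFinite_of_surjective {P Q : Scheme.{u}} (g : P ⟶ Q)
    [IsFinite g] [Surjective g] : topologicalKrullDim P = topologicalKrullDim Q :=
  topologicalKrullDim_eq_of_isClosedMap g.continuous g.isClosedMap g.surjective
    (fun y => g.isDiscrete_preimage_singleton y)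

end Groth.Agent.Lib.Helper14.IsogDim
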