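import Mathlib
import Groth.Agent.Lib.Helper14.IsogDim2
import Groth.Agent.Lib.Helper5.GrpHomLocus7

/-!
# helper14: homomorphisms of abelian schemes with fibres of equal dimension:
locally quasi-finite ⇔ surjective
-/

set_option autoImplicit false
universe u
open CategoryTheory MonoidalCategory CartesianMonoidalCategory MonObj GrpObj AlgebraicGeometry Limits

namespace Groth.Agent.Lib.Helper14.IsogDim

open Groth.Agent.Lib.helper5.GrpHomLocus

variable {S : Scheme.{u}} (A B : Over S)
  [GrpObj A] [Smooth A.hom] [IsProper A.hom] [GeometricallyConnected A.hom]
  [GrpObj B] [Smooth B.hom] [IsProper B.hom] [GeometricallyConnected B.hom]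
  (f : A ⟶ B) [IsMonHom f]

/-- the fibre of `f` over `s` is locally quasi-finite iff it is surjective, when the fibres of `A`
and `B` over `s` have the same dimension -/
theorem fibre_lqf_iff_surjective (s : S)
    (hdim : topologicalKrullDim ↥(A.hom.fiber s) = topologicalKrullDim ↥(B.hom.fiber s)) :
    LocallyQuasiFinite ((Over.pullback (S.fromSpecResidueField s)).map f).left ↔
      Surjective ((Over.pullback (S.fromSpecResidueField s)).map f).left := by
  let g := S.fromSpecResidueField s
  letI : GrpObj ((Over.pullback g).obj A) := Functor.grpObjObj
  letI : GrpObj ((Over.pullback g).obj B) := Functor.grpObjObj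
  haveI : IsMonHom ((Over.pullback g).map f) := Functor.map.instIsMonHom _ _ _
  haveI : Smooth ((Over.pullback g).obj A).hom := inferInstanceAs (Smooth (pullback.snd A.hom g))
  haveI : Smooth ((Over.pullback g).obj B).hom := inferInstanceAs (Smooth (pullback.snd B.hom g))
  haveI : IsProper ((Over.pullback g).obj A).hom :=
    inferInstanceAs (IsProper (pullback.snd A.hom g))
  haveI : IsProper ((Over.pullback g).obj B).hom :=
    inferInstanceAs (IsProper (pullback.snd B.hom g))
  haveI : GeometricallyConnected ((Over.pullback g).obj A).hom :=
    inferInstanceAs (GeometricallyConnected (pullback.snd A.hom g))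
  haveI : GeometricallyConnected ((Over.pullback g).obj B).hom :=
    inferInstanceAs (GeometricallyConnected (pullback.snd B.hom g))
  haveI : ConnectedSpace ((Over.pullback g).obj A).left :=
    GeometricallyConnected.connectedSpace_of_subsingleton (f := ((Over.pullback g).obj A).hom)
  haveI : ConnectedSpace ((Over.pullback g).obj B).left :=
    GeometricallyConnected.connectedSpace_of_subsingleton (f := ((Over.pullback g).obj B).hom)
  haveI : IsIntegral ((Over.pullback g).obj A).left :=
    Groth.Agent.Lib.Helper14.AbVarComm.isIntegral_of_smooth_connected (K := S.residueField s)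
      ((Over.pullback g).obj A).hom
  haveI : IsIntegral ((Over.pullback g).obj B).left :=
    Groth.Agent.Lib.Helper14.AbVarComm.isIntegral_of_smooth_connected (K := S.residueField s)
      ((Over.pullback g).obj B).hom
  have hdim' : topologicalKrullDim ((Over.pullback g).obj A).left =
      topologicalKrullDim ((Over.pullback g).obj B).left := hdim
  haveI : IsProper (((Over.pullback g).map f).left ≫ ((Over.pullback g).obj B).hom) := by
    rw [Over.w ((Over.pullback g).map f)]; infer_instance
  haveI : IsProper ((Over.pullback g).map f).left :=
    IsProper.of_comp ((Over.pullback g).map f).left ((Over.pullback g).obj B).hom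
  constructor
  · intro hq
    haveI : IsFinite ((Over.pullback g).map f).left :=
      IsFinite.of_isProper_of_locallyQuasiFinite _
    obtain ⟨n, hn⟩ := exists_nat_dim (S.residueField s) ((Over.pullback g).obj B).hom
    exact ⟨surjective_of_dim_eq ((Over.pullback g).map f).left.continuous
      ((Over.pullback g).map f).left.isClosedMap.isClosed_range
      (fun y => ((Over.pullback g).map f).left.isDiscrete_preimage_singleton y) n
      (hdim'.trans hn) hn⟩
  · intro hs
    exact locallyQuasiFinite_of_dim_eq (S.residueField s) ((Over.pullback g).obj A)
      ((Over.pullback g).obj B) ((Over.pullback g).map f) hdim'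

/-- homomorphisms of abelian schemes with fibres of equal dimension: locally quasi-finite iff
surjective -/
theorem lqf_iff_surjective
    (hdim : ∀ s : S, topologicalKrullDim ↥(A.hom.fiber s) = topologicalKrullDim ↥(B.hom.fiber s)) :
    LocallyQuasiFinite f.left ↔ Surjective f.left := by
  haveI : LocallyOfFinitePresentation f.left := lfp_left' f
  haveI : LocallyOfFiniteType f.left := inferInstance
  constructor
  · intro hq
    refine ⟨fun b => ?_⟩
    have sq := isPullback_pullback_map (S.fromSpecResidueField (B.hom b)) f
    haveI : LocallyQuasiFinite ((Over.pullback (S.fromSpecResidueField (B.hom b))).map f).left :=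
      MorphismProperty.of_isPullback (P := @LocallyQuasiFinite) sq hq
    have hs := (fibre_lqf_iff_surjective A B f (B.hom b) (hdim _)).mp inferInstance
    have hb : b ∈ Set.range (pullback.fst B.hom (S.fromSpecResidueField (B.hom b))) := by
      rw [range_pullback_fst_fromSpecResidueField]; rfl
    obtain ⟨b', hb'⟩ := hb
    obtain ⟨a', rfl⟩ := hs.surj b'
    refine ⟨pullback.fst A.hom (S.fromSpecResidueField _) a', ?_⟩
    rw [← Scheme.Hom.comp_apply, sq.w, Scheme.Hom.comp_apply]
    exact hb'
  · intro hs
    rw [← Scheme.Hom.quasiFiniteLocus_eq_top_iff]
    ext x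
    simp only [TopologicalSpace.Opens.coe_top, Set.mem_univ, iff_true]
    have sq := isPullback_pullback_map (S.fromSpecResidueField (A.hom x)) f
    haveI : Surjective ((Over.pullback (S.fromSpecResidueField (A.hom x))).map f).left :=
      MorphismProperty.of_isPullback (P := @Surjective) sq hs
    haveI := (fibre_lqf_iff_surjective A B f (A.hom x) (hdim _)).mpr inferInstance
    have hx : x ∈ Set.range (pullback.fst A.hom (S.fromSpecResidueField (A.hom x))) := by
      rw [range_pullback_fst_fromSpecResidueField]; rfl
    obtain ⟨x', hx'⟩ := hx
    have h1 := (quasiFiniteAt_iff_of_isPullback sq x').mp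
      (((Over.pullback (S.fromSpecResidueField (A.hom x))).map f).left.quasiFiniteAt x')
    rw [hx'] at h1
    exact h1

end Groth.Agent.Lib.Helper14.IsogDim
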