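import Mathlib
import Groth.Agent.Lib.Helper14.IsogDim2
import Groth.Agent.Lib.Helper3.FibreDimChar
import Groth.Agent.Lib.Helper3.IrredDim
import Groth.Agent.S0402

/-!
# helper14: a morphism from a proper irreducible `k`-scheme with a zero-dimensional fibre onto a
target of no larger dimension is surjective, and the dimensions agree
-/

set_option autoImplicit false
universe u
open CategoryTheory AlgebraicGeometry Limits

namespace Groth.Agent.Lib.Helper14.IsogDim

open Groth.Agent.Lib.helper3.DimIneq Groth.Agent.Lib.helper3.FTField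
  Groth.Agent.Lib.helper3.IrredDim

theorem dim_eq_of_closure_eq_univ {T : Type u} [TopologicalSpace T] (t : T)
    (h : closure ({t} : Set T) = Set.univ) :
    topologicalKrullDim ↥(closure ({t} : Set T)) = topologicalKrullDim T := by
  rw [h]
  exact (Homeomorph.Set.univ T).isHomeomorph.topologicalKrullDim_eq

/-- a point of an irreducible sober space whose closure has the full (finite) dimension is the
generic point -/
theorem closure_eq_univ_of_dim_eq {T : Type u} [TopologicalSpace T] [QuasiSober T] [T0Space T]
    [IrreducibleSpace T] (t : T) (n : ℕ) (h1 : topologicalKrullDim ↥(closure ({t} : Set T)) = n)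
    (h2 : topologicalKrullDim T = n) : closure ({t} : Set T) = Set.univ := by
  haveI : QuasiSober ↥(closure ({t} : Set T)) :=
    isClosed_closure.isClosedEmbedding_subtypeVal.quasiSober
  have hsurj : Function.Surjective (Subtype.val : ↥(closure ({t} : Set T)) → T) := by
    refine surjective_of_dim_eq continuous_subtype_val ?_ ?_ n h1 h2
    · rw [Subtype.range_coe]; exact isClosed_closure
    · intro y
      rw [isDiscrete_iff_discreteTopology]
      haveI : Subsingleton ↥((Subtype.val : ↥(closure ({t} : Set T)) → T) ⁻¹' {y}) := by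
        constructor
        rintro ⟨a, ha⟩ ⟨b, hb⟩
        apply Subtype.ext
        apply Subtype.ext
        exact (ha : a.1 = y).trans (hb : b.1 = y).symm
      infer_instance
  ext z
  simp only [Set.mem_univ, iff_true]
  obtain ⟨w, rfl⟩ := hsurj z
  exact w.2

theorem surjective_and_dim_eq (k : Type u) [Field k] {X Y : Scheme.{u}}
    (p : X ⟶ Spec (CommRingCat.of k)) (q : Y ⟶ Spec (CommRingCat.of k)) [IsProper p]
    [IsSeparated q] [LocallyOfFiniteType q] [QuasiCompact q]
    [IrreducibleSpace X] [IrreducibleSpace Y]
    (hdim : topologicalKrullDim Y ≤ topologicalKrullDim X)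
    (f : X ⟶ Y) (hf : f ≫ q = p) (y : Y) (hy : topologicalKrullDim ↥(f.fiber y) = 0) :
    Surjective f ∧ topologicalKrullDim X = topologicalKrullDim Y := by
  haveI : IsProper (f ≫ q) := by rw [hf]; infer_instance
  haveI : IsProper f := IsProper.of_comp f q
  haveI : LocallyOfFiniteType f := inferInstance
  -- a point of the zero-dimensional fibre
  haveI hne : Nonempty ↥(f.fiber y) := by
    by_contra hcon
    rw [not_nonempty_iff] at hcon
    rw [Groth.Agent.Lib.helper3.DimIneq.topologicalKrullDim_eq_bot_of_isEmpty] at hy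
    exact absurd hy (by simp)
  obtain ⟨x'⟩ := hne
  have hfx : f (f.fiberι y x') = y := Groth.Agent.Lib.helper3.QFinTop.fiberι_mem f y x'
  set x := f.fiberι y x' with hx
  clear_value x
  subst hfx
  have hx0 : FlatMor.fibreDimAt f x ≤ ((0 : ℕ) : WithBot ℕ∞) := by
    have h1 : FlatMor.fibreDimAt f x ≤ topologicalKrullDim ↥(f.fiber (f x)) :=
      Groth.Agent.Lib.helper3.TopDim.localDim_le_dim _
    rw [hy] at h1
    exact_mod_cast h1
  -- the generic point has fibre dimension zero
  have hopen := Groth.Agent.S0402.result f 0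
  have hξ : FlatMor.fibreDimAt f (genericPoint X) ≤ ((0 : ℕ) : WithBot ℕ∞) :=
    (genericPoint_specializes x).mem_open hopen hx0
  have htd : td (f.residueFieldMap (genericPoint X)).hom ≤ ((0 : ℕ) : Cardinal.{u}) :=
    (Groth.Agent.Lib.helper3.DimFibre.fibreDimAt_le_iff f (genericPoint X) 0).mp hξ
      (genericPoint X) specializes_rfl rfl
  have htd0 : td (f.residueFieldMap (genericPoint X)).hom = 0 := by
    rw [Nat.cast_zero] at htd
    exact le_antisymm htd zero_le
  letI : Y.Over (Spec (CommRingCat.of k)) := ⟨q⟩
  letI : X.Over (Spec (CommRingCat.of k)) := ⟨p⟩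
  haveI : LocallyOfFiniteType (Y ↘ Spec (CommRingCat.of k)) := ‹LocallyOfFiniteType q›
  haveI : LocallyOfFiniteType (X ↘ Spec (CommRingCat.of k)) :=
    (inferInstance : LocallyOfFiniteType p)
  obtain ⟨m, hm⟩ := exists_nat_trdeg_residueField k Y (f (genericPoint X))
  have hadd := trdeg_residueField_add k p q f hf (genericPoint X)
  have hmX : @Algebra.trdeg k (X.residueField (genericPoint X)) _ _
      (Curv2.resAlgebra k X (genericPoint X)) = (m : Cardinal.{u}) := by
    have h2 : td (@Curv2.resMap k _ Y ⟨q⟩ (f (genericPoint X))) = m := hm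
    rw [h2, htd0, add_zero] at hadd
    exact hadd
  have h3 := dim_closure_eq_trdeg k X (genericPoint X) m hmX
  have h4 := dim_closure_eq_trdeg k Y (f (genericPoint X)) m hm
  have hX : topologicalKrullDim X = m := by
    rw [← dim_eq_of_closure_eq_univ (genericPoint X) (genericPoint_spec X)]
    exact h3
  have h5 : topologicalKrullDim ↥(closure ({f (genericPoint X)} : Set Y)) ≤ topologicalKrullDim Y :=
    topologicalKrullDim_subspace_le Y _
  rw [h4] at h5
  have hY : topologicalKrullDim Y = m := le_antisymm (hX ▸ hdim) h5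
  have hcl := closure_eq_univ_of_dim_eq (f (genericPoint X)) m h4 hY
  refine ⟨⟨fun b => ?_⟩, hX.trans hY.symm⟩
  have hrange : IsClosed (Set.range f) := f.isClosedMap.isClosed_range
  have hsub : closure ({f (genericPoint X)} : Set Y) ⊆ Set.range f :=
    hrange.closure_subset_iff.mpr (Set.singleton_subset_iff.mpr ⟨_, rfl⟩)
  rw [hcl] at hsub
  exact hsub (Set.mem_univ b)

end Groth.Agent.Lib.Helper14.IsogDim
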