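import Mathlib

/-!
# helper14: a finite reduced algebra over an algebraically closed field has dimension equal to the
number of its prime ideals
-/

set_option autoImplicit false
universe u

namespace Groth.Agent.Lib.Helper14.IsogGal

theorem finrank_quotient_eq_one (k C : Type*) [Field k] [IsAlgClosed k] [CommRing C] [Algebra k C]
    [Module.Finite k C] (p : Ideal C) [p.IsMaximal] : Module.finrank k (C ⧸ p) = 1 := by
  letI : Field (C ⧸ p) := Ideal.Quotient.field p
  haveI : Algebra.IsIntegral k (C ⧸ p) := Algebra.IsIntegral.of_finite k (C ⧸ p)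
  have hb : Function.Bijective (algebraMap k (C ⧸ p)) :=
    IsAlgClosed.algebraMap_bijective_of_isIntegral
  let e : k ≃ₗ[k] (C ⧸ p) := LinearEquiv.ofBijective (Algebra.linearMap k (C ⧸ p)) hb
  rw [← e.finrank_eq, Module.finrank_self]

theorem finrank_eq_card_primeSpectrum (k C : Type*) [Field k] [IsAlgClosed k] [CommRing C]
    [Algebra k C] [Module.Finite k C] [IsReduced C] :
    Module.finrank k C = Nat.card (PrimeSpectrum C) := by
  haveI : IsArtinianRing C := IsArtinianRing.of_finite k C
  haveI : Finite (PrimeSpectrum C) := inferInstance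
  letI : Fintype (PrimeSpectrum C) := Fintype.ofFinite _
  let I : PrimeSpectrum C → Ideal C := fun p => p.asIdeal
  have hmax : ∀ p : PrimeSpectrum C, (I p).IsMaximal := fun p =>
    (IsArtinianRing.isPrime_iff_isMaximal _).mp p.2
  have hI : Pairwise (Function.onFun IsCoprime I) := by
    intro p q hpq
    rw [Function.onFun, Ideal.isCoprime_iff_sup_eq]
    exact Ideal.IsMaximal.coprime_of_ne (hmax p) (hmax q) (fun h => hpq (PrimeSpectrum.ext h))
  have hsurj := Ideal.pi_mkQ_surjective hI
  let f : C →ₗ[k] (∀ p : PrimeSpectrum C, C ⧸ I p) :=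
    (LinearMap.pi fun i ↦ (I i).mkQ).restrictScalars k
  have hf : Function.Surjective f := hsurj
  have hinj : Function.Injective f := by
    rw [← LinearMap.ker_eq_bot, LinearMap.ker_eq_bot']
    intro c hc
    have h1 : ∀ p : PrimeSpectrum C, c ∈ p.asIdeal := by
      intro p
      have := congrFun hc p
      exact (Submodule.Quotient.mk_eq_zero _).mp this
    have h2 : c ∈ nilradical C := by
      rw [nilradical_eq_sInf, Ideal.mem_sInf]
      intro J hJ
      exact h1 ⟨J, hJ⟩
    rw [nilradical_eq_zero] at h2
    exact h2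
  let e : C ≃ₗ[k] (∀ p : PrimeSpectrum C, C ⧸ I p) := LinearEquiv.ofBijective f ⟨hinj, hf⟩
  rw [e.finrank_eq, Module.finrank_pi_fintype, Nat.card_eq_fintype_card, Fintype.card_eq_sum_ones]
  apply Finset.sum_congr rfl
  intro p _
  haveI := hmax p
  exact finrank_quotient_eq_one k C (I p)

end Groth.Agent.Lib.Helper14.IsogGal
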