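import Mathlib

/-!
# helper14: the rank of a finite flat extension of domains is the degree of the extension of
fraction fields
-/

set_option autoImplicit false
universe u

namespace Groth.Agent.Lib.Helper14.IsogGal

theorem rankAtStalk_eq_finrank_fractionRing (B A K L : Type u) [CommRing B] [CommRing A]
    [Field K] [Field L] [IsDomain B] [IsDomain A] [IsNoetherianRing B]
    [Algebra B A] [Algebra B K] [Algebra A L] [Algebra K L] [Algebra B L]
    [IsScalarTower B A L] [IsScalarTower B K L] [IsFractionRing B K] [IsFractionRing A L]
    [Module.Finite B A] [Module.Flat B A] [FaithfulSMul B A] (p : PrimeSpectrum B) :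
    Module.rankAtStalk A p = Module.finrank K L := by
  haveI : Algebra.IsIntegral B A := Algebra.IsIntegral.of_finite B A
  haveI : Algebra.IsAlgebraic B A := inferInstance
  haveI : Algebra.IsPushout B A K L := inferInstance
  let x : PrimeSpectrum K := ⊥
  have h1 := Algebra.rankAtStalk_eq_of_isPushout B A K L x
  have h2 : Module.rankAtStalk (R := K) L x = Module.finrank K L := by
    rw [Module.rankAtStalk_eq_finrank_of_free]
    rfl
  haveI : Module.FinitePresentation B A := Module.finitePresentation_of_finite B A
  have hlc : IsLocallyConstant (Module.rankAtStalk (R := B) A) :=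
    Module.isLocallyConstant_rankAtStalk
  have h3 := hlc.apply_eq_of_preconnectedSpace p (PrimeSpectrum.comap (algebraMap B K) x)
  rw [h3, ← h1, h2]

end Groth.Agent.Lib.Helper14.IsogGal
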