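import Groth.Agent.Lib.Helper14.IsogGal2

/-!
# helper14: the rank of a finite flat morphism of integral schemes is the degree of the extension
of function fields
-/

set_option autoImplicit false
universe u
open CategoryTheory CategoryTheory.Limits AlgebraicGeometry

namespace Groth.Agent.Lib.Helper14.IsogGal

/-- the rank of a finite flat morphism at a point of an affine open (after helper12) -/
theorem finrank_eq_rankAtStalk {X Y : Scheme.{u}} (π : X ⟶ Y) [IsFinite π] [Flat π]
    {W : Y.Opens} (hW : IsAffineOpen W) (y : Y) (hy : y ∈ W) :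
    letI := (π.app W).hom.toAlgebra
    π.finrank y = Module.rankAtStalk (R := Γ(Y, W)) Γ(X, π ⁻¹ᵁ W) (hW.primeIdealOf ⟨y, hy⟩) := by
  have hπW : IsAffineOpen (π ⁻¹ᵁ W) := hW.preimage π
  have hfin : (π.app W).hom.Finite := IsFinite.finite_app π W hW
  have hflat : (π.app W).hom.Flat := by
    have := π.flat_appLE hW hπW le_rfl
    rwa [← Scheme.Hom.app_eq_appLE] at this
  have hsq : hπW.fromSpec ≫ π = Spec.map (π.app W) ≫ hW.fromSpec := by
    have := IsAffineOpen.SpecMap_appLE_fromSpec π hW hπW le_rfl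
    rw [← Scheme.Hom.app_eq_appLE] at this
    exact this.symm
  have hpb : IsPullback (Spec.map (π.app W)) hπW.fromSpec hW.fromSpec π := by
    refine IsOpenImmersion.isPullback _ _ _ _ hsq ?_
    rw [hW.opensRange_fromSpec, hπW.opensRange_fromSpec]
  have h1 := Scheme.Hom.finrank_of_isPullback _ _ _ _ hpb.flip (hW.primeIdealOf ⟨y, hy⟩)
  rw [hW.fromSpec_primeIdealOf] at h1
  rw [← h1, Scheme.Hom.finrank_SpecMap_eq_finrank hfin hflat]
  rfl

theorem finrank_eq_finrank_functionField {X Y : Scheme.{u}} [IsIntegral X] [IsIntegral Y]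
    [IsLocallyNoetherian Y] (π : X ⟶ Y) [IsFinite π] [Flat π]
    (e : π (genericPoint X) = genericPoint Y) (y : Y) :
    letI := ((Y.presheaf.stalkSpecializes (specializes_of_eq e) ≫
      π.stalkMap (genericPoint X)).hom).toAlgebra
    π.finrank y = Module.finrank Y.functionField X.functionField := by
  letI alg : Algebra Y.functionField X.functionField :=
    ((Y.presheaf.stalkSpecializes (specializes_of_eq e) ≫
      π.stalkMap (genericPoint X)).hom).toAlgebra
  obtain ⟨W, hW, hyW, -⟩ := exists_isAffineOpen_mem_and_subset (x := y) (U := ⊤) trivial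
  haveI : Nonempty W := ⟨⟨y, hyW⟩⟩
  have hξW : genericPoint Y ∈ W :=
    ((genericPoint_spec Y).mem_open_set_iff W.isOpen).mpr ⟨y, trivial, hyW⟩
  have hξU : genericPoint X ∈ π ⁻¹ᵁ W := by
    show π (genericPoint X) ∈ W
    rw [e]; exact hξW
  haveI : Nonempty (π ⁻¹ᵁ W : X.Opens) := ⟨⟨genericPoint X, hξU⟩⟩
  have hπW : IsAffineOpen (π ⁻¹ᵁ W) := hW.preimage π
  rw [finrank_eq_rankAtStalk π hW y hyW]
  letI algBA : Algebra Γ(Y, W) Γ(X, π ⁻¹ᵁ W) := (π.app W).hom.toAlgebra
  letI algBL : Algebra Γ(Y, W) X.functionField :=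
    ((algebraMap Y.functionField X.functionField).comp
      (algebraMap Γ(Y, W) Y.functionField)).toAlgebra
  haveI : IsScalarTower Γ(Y, W) Y.functionField X.functionField :=
    IsScalarTower.of_algebraMap_eq (fun _ => rfl)
  haveI : IsScalarTower Γ(Y, W) Γ(X, π ⁻¹ᵁ W) X.functionField := by
    refine IsScalarTower.of_algebraMap_eq (fun b => ?_)
    show (Y.presheaf.stalkSpecializes (specializes_of_eq e) ≫
      π.stalkMap (genericPoint X)).hom ((Y.germToFunctionField W).hom b) =
      (X.germToFunctionField (π ⁻¹ᵁ W)).hom ((π.app W).hom b)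
    have h1 : Y.germToFunctionField W ≫ Y.presheaf.stalkSpecializes (specializes_of_eq e) ≫
        π.stalkMap (genericPoint X) = π.app W ≫ X.germToFunctionField (π ⁻¹ᵁ W) := by
      unfold Scheme.germToFunctionField
      rw [← Category.assoc, TopCat.Presheaf.germ_stalkSpecializes, Scheme.Hom.germ_stalkMap]
    exact congr($(h1).hom b)
  haveI : IsFractionRing Γ(Y, W) Y.functionField :=
    functionField_isFractionRing_of_isAffineOpen Y W hW
  haveI : IsFractionRing Γ(X, π ⁻¹ᵁ W) X.functionField :=
    functionField_isFractionRing_of_isAffineOpen X _ hπW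
  haveI : Module.Finite Γ(Y, W) Γ(X, π ⁻¹ᵁ W) := IsFinite.finite_app π W hW
  haveI : Module.Flat Γ(Y, W) Γ(X, π ⁻¹ᵁ W) := by
    have := π.flat_appLE hW hπW le_rfl
    rwa [← Scheme.Hom.app_eq_appLE] at this
  haveI : IsNoetherianRing Γ(Y, W) := IsLocallyNoetherian.component_noetherian ⟨W, hW⟩
  haveI : FaithfulSMul Γ(Y, W) Γ(X, π ⁻¹ᵁ W) := by
    rw [faithfulSMul_iff_algebraMap_injective]
    have hinj : Function.Injective (algebraMap Γ(Y, W) X.functionField) := by
      show Function.Injective ((algebraMap Y.functionField X.functionField).comp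
        (algebraMap Γ(Y, W) Y.functionField))
      exact (algebraMap Y.functionField X.functionField).injective.comp
        (IsFractionRing.injective Γ(Y, W) Y.functionField)
    rw [IsScalarTower.algebraMap_eq Γ(Y, W) Γ(X, π ⁻¹ᵁ W) X.functionField] at hinj
    exact Function.Injective.of_comp hinj
  exact rankAtStalk_eq_finrank_fractionRing Γ(Y, W) Γ(X, π ⁻¹ᵁ W) Y.functionField
    X.functionField _

end Groth.Agent.Lib.Helper14.IsogGal
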