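import Groth.Agent.Lib.Helper14.IsogGal1
import Groth.Agent.Lib.Helper14.LangSerre1
import Groth.Agent.Lib.Helper14.AbSchFib4
import Groth.Agent.Lib.Helper5.OverField2

/-!
# helper14: the rank of a finite étale isogeny at the unit point is the number of rational points
of its kernel (algebraically closed base field)
-/

set_option autoImplicit false
universe u
open CategoryTheory CategoryTheory.Limits MonoidalCategory CartesianMonoidalCategory MonObj GrpObj
  AlgebraicGeometry

namespace Groth.Agent.Lib.Helper14.IsogGal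

theorem finrank_eq_card_of_etale (k : Type u) [Field k] [IsAlgClosed k] {Z : Scheme.{u}}
    (c : Z ⟶ Spec (CommRingCat.of k)) [IsFinite c] [Etale c] (s : ↥(Spec (CommRingCat.of k))) :
    c.finrank s = Nat.card Z := by
  haveI : IsAffine Z := isAffine_of_isAffineHom c
  obtain ⟨ψ, hψ⟩ := Groth.Agent.Lib.helper5.OverField.exists_ringHom_of_affine c
  have hfin : ψ.hom.Finite :=
    (Groth.Agent.Lib.helper5.OverField.isFinite_iff_of_eq c ψ hψ).mp inferInstance
  rw [Groth.Agent.Lib.helper5.OverField.finrank_eq_finrank c ψ hψ hfin s]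
  letI : Algebra k Γ(Z, ⊤) := ψ.hom.toAlgebra
  haveI : Module.Finite k Γ(Z, ⊤) := hfin
  haveI : Smooth c := inferInstance
  haveI : GeometricallyReduced c :=
    Groth.Agent.Lib.Helper14.AbSchFib.geometricallyReduced_of_smooth c
  haveI : IsReduced Z := GeometricallyReduced.isReduced_of_flat_of_isLocallyNoetherian c
  haveI : IsReduced Γ(Z, ⊤) := inferInstance
  rw [finrank_eq_card_primeSpectrum k Γ(Z, ⊤)]
  exact Nat.card_congr (Scheme.homeoOfIso Z.isoSpec).toEquiv.symm

variable {k : Type u} [Field k] [IsAlgClosed k] {Y A : Over (Spec (CommRingCat.of k))}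
  [GrpObj Y] [GrpObj A] (φ : Y ⟶ A) [IsMonHom φ]

theorem finrank_unit_eq_card_kerPts [IsFinite φ.left] [Etale φ.left] :
    φ.left.finrank (η[A].left (IsLocalRing.closedPoint k)) =
      Nat.card (Groth.Agent.Lib.Helper14.LangSerre.kerPts φ) := by
  haveI : LocallyOfFiniteType φ.left := inferInstance
  haveI : LocallyQuasiFinite φ.left := inferInstance
  rw [Groth.Agent.Lib.Helper14.LangSerre.card_kerPts φ,
    ← finrank_eq_card_of_etale k (pullback.snd φ.left η[A].left) (IsLocalRing.closedPoint k),
    Scheme.Hom.finrank_pullback_snd]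

end Groth.Agent.Lib.Helper14.IsogGal
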