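import Groth.Agent.Lib.Helper14.IsogGal3
import Groth.Agent.Lib.Helper14.IsogGal4
import Groth.Agent.Lib.Helper14.FibreTrans4

/-!
# helper14: the function field extension of a finite étale isogeny over an algebraically closed
field is Galois, with group the rational points of the kernel (S11094)
-/

set_option autoImplicit false
universe u
open CategoryTheory CategoryTheory.Limits MonoidalCategory CartesianMonoidalCategory MonObj GrpObj
  AlgebraicGeometry

namespace Groth.Agent.Lib.Helper14.IsogGal

theorem stalkSpecializes_comp_eq_id {Y : Scheme.{u}} (a b : Y) (h1 : a ⤳ b) (h2 : b ⤳ a) :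
    Y.presheaf.stalkSpecializes h1 ≫ Y.presheaf.stalkSpecializes h2 = 𝟙 _ := by
  rw [TopCat.Presheaf.stalkSpecializes_comp]
  exact TopCat.Presheaf.stalkSpecializes_refl _ _

theorem stalkMap_comp_self {X Y : Scheme.{u}} (t : X ⟶ X) (φ : X ⟶ Y) (h : t ≫ φ = φ) (x : X)
    (ht : t x = x) :
    φ.stalkMap x ≫ X.presheaf.stalkSpecializes (specializes_of_eq ht) ≫ t.stalkMap x =
      φ.stalkMap x := by
  have e1 := Scheme.Hom.stalkMap_comp t φ x
  have e2 := Scheme.Hom.stalkMap_congr_hom (t ≫ φ) φ h x
  have e3 := Scheme.Hom.stalkSpecializes_stalkMap φ (t x) x (specializes_of_eq ht)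
  have e12 : φ.stalkMap (t x) ≫ t.stalkMap x =
      Y.presheaf.stalkSpecializes (specializes_of_eq (congrArg φ ht).symm) ≫ φ.stalkMap x :=
    e1.symm.trans e2
  calc φ.stalkMap x ≫ X.presheaf.stalkSpecializes (specializes_of_eq ht) ≫ t.stalkMap x
      = (φ.stalkMap x ≫ X.presheaf.stalkSpecializes (specializes_of_eq ht)) ≫ t.stalkMap x :=
        (Category.assoc _ _ _).symm
    _ = (Y.presheaf.stalkSpecializes (φ.base.hom.map_specializes (specializes_of_eq ht)) ≫
          φ.stalkMap (t x)) ≫ t.stalkMap x := by rw [e3]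
    _ = Y.presheaf.stalkSpecializes (φ.base.hom.map_specializes (specializes_of_eq ht)) ≫
          (φ.stalkMap (t x) ≫ t.stalkMap x) := Category.assoc _ _ _
    _ = Y.presheaf.stalkSpecializes (φ.base.hom.map_specializes (specializes_of_eq ht)) ≫
          (Y.presheaf.stalkSpecializes (specializes_of_eq (congrArg φ ht).symm) ≫
            φ.stalkMap x) := by rw [e12]
    _ = (Y.presheaf.stalkSpecializes (φ.base.hom.map_specializes (specializes_of_eq ht)) ≫
          Y.presheaf.stalkSpecializes (specializes_of_eq (congrArg φ ht).symm)) ≫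
            φ.stalkMap x := (Category.assoc _ _ _).symm
    _ = φ.stalkMap x := by rw [stalkSpecializes_comp_eq_id, Category.id_comp]

/-- the endomorphism of the function field induced by an endomorphism fixing the generic point -/
noncomputable def ffMap {X : Scheme.{u}} [IrreducibleSpace X] (t : X ⟶ X)
    (ht : t (genericPoint X) = genericPoint X) : X.functionField ⟶ X.functionField :=
  X.presheaf.stalkSpecializes (specializes_of_eq ht) ≫ t.stalkMap (genericPoint X)

theorem fromSpecStalk_comp {X : Scheme.{u}} [IrreducibleSpace X] (t : X ⟶ X)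
    (ht : t (genericPoint X) = genericPoint X) :
    X.fromSpecStalk (genericPoint X) ≫ t =
      Spec.map (ffMap t ht) ≫ X.fromSpecStalk (genericPoint X) := by
  unfold ffMap
  rw [Spec.map_comp, Category.assoc, Scheme.SpecMap_stalkSpecializes_fromSpecStalk,
    Scheme.SpecMap_stalkMap_fromSpecStalk]

instance isDominant_fromSpecStalk_genericPoint {X : Scheme.{u}} [IrreducibleSpace X] :
    IsDominant (X.fromSpecStalk (genericPoint X)) := by
  constructor
  have h1 : genericPoint X ∈ Set.range (X.fromSpecStalk (genericPoint X)) :=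
    ⟨IsLocalRing.closedPoint _, Scheme.fromSpecStalk_closedPoint⟩
  have h2 : Dense ({genericPoint X} : Set X) := by
    rw [dense_iff_closure_eq]
    exact (genericPoint_spec X).def
  exact h2.mono (Set.singleton_subset_iff.mpr h1)

theorem ffMap_comm {X Y : Scheme.{u}} [IrreducibleSpace X] [IrreducibleSpace Y] (t : X ⟶ X)
    (φ : X ⟶ Y) (h : t ≫ φ = φ) (ht : t (genericPoint X) = genericPoint X)
    (e : φ (genericPoint X) = genericPoint Y) :
    (Y.presheaf.stalkSpecializes (specializes_of_eq e) ≫ φ.stalkMap (genericPoint X)) ≫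
      ffMap t ht =
    Y.presheaf.stalkSpecializes (specializes_of_eq e) ≫ φ.stalkMap (genericPoint X) := by
  unfold ffMap
  rw [Category.assoc, stalkMap_comp_self t φ h (genericPoint X) ht]

variable {k : Type u} [Field k] {E E' : Over (Spec (CommRingCat.of k))} [GrpObj E] [GrpObj E']
  (φ : E ⟶ E') [IsMonHom φ]

theorem tr_comp_eq (P : 𝟙_ (Over (Spec (CommRingCat.of k))) ⟶ E) (hP : P ≫ φ = η[E']) :
    Groth.Agent.Lib.Helper14.FibreTrans.tr E P ≫ φ = φ := by
  unfold Groth.Agent.Lib.Helper14.FibreTrans.tr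
  rw [MonObj.mul_comp, Category.id_comp, Category.assoc, hP,
    Groth.Agent.Lib.Helper14.LangSerre.unit_eq_one', MonObj.comp_one, _root_.one_mul]

theorem tr_genericPoint [IrreducibleSpace E.left]
    (P : 𝟙_ (Over (Spec (CommRingCat.of k))) ⟶ E) :
    (Groth.Agent.Lib.Helper14.FibreTrans.tr E P).left (genericPoint E.left) =
      genericPoint E.left := by
  haveI : IsIso (Groth.Agent.Lib.Helper14.FibreTrans.tr E P).left :=
    (Over.forget _).map_isIso (Groth.Agent.Lib.Helper14.FibreTrans.tr E P)
  exact genericPoint_eq_of_isOpenImmersion _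

theorem eq_of_ffMap_eq [IsIntegral E.left] [IsSeparated E.hom]
    (P Q : 𝟙_ (Over (Spec (CommRingCat.of k))) ⟶ E)
    (h : ffMap (Groth.Agent.Lib.Helper14.FibreTrans.tr E P).left (tr_genericPoint P) =
      ffMap (Groth.Agent.Lib.Helper14.FibreTrans.tr E Q).left (tr_genericPoint Q)) : P = Q := by
  have h1 : E.left.fromSpecStalk (genericPoint E.left) ≫
      (Groth.Agent.Lib.Helper14.FibreTrans.tr E P).left =
      E.left.fromSpecStalk (genericPoint E.left) ≫
      (Groth.Agent.Lib.Helper14.FibreTrans.tr E Q).left := by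
    rw [fromSpecStalk_comp _ (tr_genericPoint P), fromSpecStalk_comp _ (tr_genericPoint Q), h]
  have h2 : (Groth.Agent.Lib.Helper14.FibreTrans.tr E P).left =
      (Groth.Agent.Lib.Helper14.FibreTrans.tr E Q).left :=
    ext_of_isDominant_of_isSeparated E.hom (by rw [Over.w, Over.w]) _ h1
  have h3 : Groth.Agent.Lib.Helper14.FibreTrans.tr E P =
      Groth.Agent.Lib.Helper14.FibreTrans.tr E Q := Over.OverMorphism.ext h2
  have h4 : ∀ R : 𝟙_ (Over (Spec (CommRingCat.of k))) ⟶ E,
      η[E] ≫ Groth.Agent.Lib.Helper14.FibreTrans.tr E R = R := by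
    intro R
    rw [Groth.Agent.Lib.Helper14.FibreTrans.comp_tr, toUnit_unique (toUnit _) (𝟙 _),
      Category.id_comp, Groth.Agent.Lib.Helper14.LangSerre.unit_eq_one', _root_.mul_one]
  rw [← h4 P, ← h4 Q, h3]

end Groth.Agent.Lib.Helper14.IsogGal
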