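import Groth.Agent.Lib.Helper14.IsogGal5

/-!
# helper14: S11094
-/

set_option autoImplicit false
universe u
open CategoryTheory CategoryTheory.Limits MonoidalCategory CartesianMonoidalCategory MonObj GrpObj
  AlgebraicGeometry

namespace Groth.Agent.Lib.Helper14.IsogGal

theorem isGalois_functionField (k : Type u) [Field k] [IsAlgClosed k]
    (E E' : Over (Spec (CommRingCat.of k)))
    [GrpObj E] [IsProper E.hom] [IsIntegral E.left]
    [GrpObj E'] [IsProper E'.hom] [IsIntegral E'.left]
    (φ : E ⟶ E') [IsMonHom φ] [IsFinite φ.left] [Etale φ.left]
    (e : φ.left (genericPoint E.left) = genericPoint E'.left) :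
    letI := ((E'.left.presheaf.stalkSpecializes (specializes_of_eq e) ≫
      φ.left.stalkMap (genericPoint E.left)).hom).toAlgebra
    IsGalois E'.left.functionField E.left.functionField ∧
      Nat.card (E.left.functionField ≃ₐ[E'.left.functionField] E.left.functionField) =
        Nat.card {P : 𝟙_ (Over (Spec (CommRingCat.of k))) ⟶ E // P ≫ φ = η[E']} := by
  letI alg : Algebra E'.left.functionField E.left.functionField :=
    ((E'.left.presheaf.stalkSpecializes (specializes_of_eq e) ≫
      φ.left.stalkMap (genericPoint E.left)).hom).toAlgebra
  haveI : LocallyOfFiniteType E'.hom := inferInstance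
  haveI : IsLocallyNoetherian E'.left := LocallyOfFiniteType.isLocallyNoetherian E'.hom
  -- the degree
  have hdeg : Module.finrank E'.left.functionField E.left.functionField =
      Nat.card (Groth.Agent.Lib.Helper14.LangSerre.kerPts φ) := by
    rw [← finrank_unit_eq_card_kerPts φ]
    exact (finrank_eq_finrank_functionField φ.left e _).symm
  have hpos : 0 < Module.finrank E'.left.functionField E.left.functionField := by
    by_contra h0
    have h1 : Module.finrank E'.left.functionField E.left.functionField = 0 := by omega
    have h2 := finrank_eq_finrank_functionField φ.left e (φ.left (genericPoint E.left))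
    have h3 := Scheme.Hom.one_le_finrank_map φ.left (genericPoint E.left)
    rw [h2] at h3
    omega
  haveI : FiniteDimensional E'.left.functionField E.left.functionField :=
    Module.finite_of_finrank_pos hpos
  -- the injection of the kernel into the Galois group
  let σ : Groth.Agent.Lib.Helper14.LangSerre.kerPts φ →
      (E.left.functionField →ₐ[E'.left.functionField] E.left.functionField) := fun P =>
    { toRingHom := (ffMap (Groth.Agent.Lib.Helper14.FibreTrans.tr E P.1).left
        (tr_genericPoint P.1)).hom
      commutes' := fun r => by
        have key := ffMap_comm (Groth.Agent.Lib.Helper14.FibreTrans.tr E P.1).left φ.left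
          (by rw [← Over.comp_left, tr_comp_eq φ P.1 P.2]) (tr_genericPoint P.1) e
        exact congr($(key).hom r) }
  have hσ : Function.Injective σ := by
    intro P Q hPQ
    apply Subtype.ext
    apply eq_of_ffMap_eq P.1 Q.1
    apply CommRingCat.hom_ext
    exact congrArg (fun f : E.left.functionField →ₐ[E'.left.functionField] E.left.functionField =>
      f.toRingHom) hPQ
  haveI : Finite (E.left.functionField →ₐ[E'.left.functionField] E.left.functionField) :=
    inferInstance
  have h1 : Nat.card (Groth.Agent.Lib.Helper14.LangSerre.kerPts φ) ≤
      Nat.card (E.left.functionField →ₐ[E'.left.functionField] E.left.functionField) :=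
    Nat.card_le_card_of_injective σ hσ
  have h2 : Nat.card (E.left.functionField →ₐ[E'.left.functionField] E.left.functionField) =
      Nat.card (E.left.functionField ≃ₐ[E'.left.functionField] E.left.functionField) :=
    Nat.card_congr (algEquivEquivAlgHom _ _).toEquiv.symm
  have h3 : Nat.card (E.left.functionField ≃ₐ[E'.left.functionField] E.left.functionField) ≤
      Module.finrank E'.left.functionField E.left.functionField := by
    rw [Nat.card_eq_fintype_card]
    exact AlgEquiv.card_le
  have h4 : Nat.card (E.left.functionField ≃ₐ[E'.left.functionField] E.left.functionField) =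
      Module.finrank E'.left.functionField E.left.functionField := by
    apply le_antisymm h3
    rw [hdeg, ← h2]
    exact h1
  refine ⟨IsGalois.of_card_aut_eq_finrank _ _ h4, ?_⟩
  rw [h4, hdeg]
  rfl

end Groth.Agent.Lib.Helper14.IsogGal
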