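import Mathlib
import Groth.Prelude.Def_ThetaK
import Groth.Prelude.Def_ThetaGrp
import Groth.Agent.Lib.Helper14.PicCls

/-!
# helper14: the Mumford-triviality predicate `ThetaGrp.IsMumfordTriv` in terms of translations,
and the subgroup property of the points of `K(L)`
-/

set_option autoImplicit false
universe u
open CategoryTheory MonoidalCategory CartesianMonoidalCategory MonObj GrpObj AlgebraicGeometry

namespace Groth.Agent.Lib.Helper14.KLCls

open Groth.Agent.Lib.Helper14.PicCls

variable {k : Type u} [Field k] {X : Over (Spec (CommRingCat.of k))} [GrpObj X]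
  {L : X.left.Modules}

theorem whiskerLeft_mul_eq {T : Over (Spec (CommRingCat.of k))} (x : T ⟶ X) :
    (X ◁ x) ≫ μ[X] = ThetaGrp.transl X x ≫ fst X T := by
  rw [ThetaGrp.transl_fst, Hom.mul_def]
  congr 1

/-- `t_x^* L_T ≅ L_T ⊗ pr^* M` on classes -/
def IsTranslTriv (L : X.left.Modules) {T : Over (Spec (CommRingCat.of k))} (x : T ⟶ X) : Prop :=
  ∃ M : T.left.Modules, PicF.IsInvertible M ∧
    pull (fst X T).left (cls L) * pull (snd X T).left (cls M) =
      pull (ThetaGrp.transl X x ≫ fst X T).left (cls L)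

theorem isMumfordTriv_iff (hL : PicF.IsInvertible L) {T : Over (Spec (CommRingCat.of k))}
    (x : T ⟶ X) : ThetaGrp.IsMumfordTriv X L x ↔ IsTranslTriv L x := by
  have hm := whiskerLeft_mul_eq x
  have hx : pull (snd X T).left (pull x.left (cls L)) = pull (snd X T ≫ x).left (cls L) :=
    pull_left_comp _ _ _
  constructor
  · rintro ⟨M, hM, hlam⟩
    rw [isLambdaSheaf_iff, hm] at hlam
    refine ⟨CohB1.tensorMod M ((Scheme.Modules.pullback x.left).obj L),
      Groth.Agent.Lib.helper12.TensorInv.isInvertible_tensorMod hM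
        (Groth.Agent.Lib.helper11.InvMod.isInvertible_pullback _ hL), ?_⟩
    rw [cls_tensor, map_mul, ← pull_cls x.left, hx, ← hlam, ← pull_cls]
    ac_rfl
  · rintro ⟨M, hM, hiso⟩
    obtain ⟨L', hL', hLL'⟩ := exists_inverse_cls
      (Groth.Agent.Lib.helper11.InvMod.isInvertible_pullback x.left hL)
    refine ⟨CohB1.tensorMod M L',
      Groth.Agent.Lib.helper12.TensorInv.isInvertible_tensorMod hM hL', ?_⟩
    rw [isLambdaSheaf_iff, hm]
    rw [← hiso, ← pull_cls, cls_tensor, map_mul, ← hx]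
    rw [← pull_cls] at hLL'
    calc pull (snd X T).left (cls M) * pull (snd X T).left (cls L') * pull (fst X T).left (cls L) *
          pull (snd X T).left (pull x.left (cls L))
        = pull (fst X T).left (cls L) * pull (snd X T).left (cls M) *
            (pull (snd X T).left (pull x.left (cls L)) * pull (snd X T).left (cls L')) := by
          ac_rfl
      _ = pull (fst X T).left (cls L) * pull (snd X T).left (cls M) := by
          rw [← map_mul, hLL', map_one, _root_.mul_one]

variable {T : Over (Spec (CommRingCat.of k))}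

theorem isTranslTriv_one (L : X.left.Modules) : IsTranslTriv L (1 : T ⟶ X) := by
  refine ⟨Coh.structureModule T.left,
    Groth.Agent.Lib.helper11.InvMod.isInvertible_structureModule _, ?_⟩
  rw [cls_unit, map_one, _root_.mul_one, ThetaGrp.transl_one, Category.id_comp]

theorem isTranslTriv_mul {x y : T ⟶ X} (hx : IsTranslTriv L x) (hy : IsTranslTriv L y) :
    IsTranslTriv L (x * y) := by
  obtain ⟨M₁, hM₁, h₁⟩ := hx
  obtain ⟨M₂, hM₂, h₂⟩ := hy
  refine ⟨CohB1.tensorMod M₁ M₂,
    Groth.Agent.Lib.helper12.TensorInv.isInvertible_tensorMod hM₁ hM₂, ?_⟩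
  rw [ThetaGrp.transl_mul, Category.assoc, ← pull_left_comp (ThetaGrp.transl X x), ← h₂, map_mul,
    pull_left_comp, pull_left_comp, ThetaGrp.transl_snd, ← h₁, cls_tensor, map_mul]
  ac_rfl

theorem isTranslTriv_inv {x : T ⟶ X} (hx : IsTranslTriv L x) : IsTranslTriv L x⁻¹ := by
  obtain ⟨M, hM, h⟩ := hx
  obtain ⟨M', hM', hMM'⟩ := exists_inverse_cls hM
  refine ⟨M', hM', ?_⟩
  have h1 := congrArg (pull (ThetaGrp.transl X x⁻¹).left) h
  rw [map_mul, pull_left_comp, pull_left_comp, pull_left_comp, ThetaGrp.transl_snd,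
    ← Category.assoc, ← ThetaGrp.transl_mul, inv_mul_cancel, ThetaGrp.transl_one,
    Category.id_comp] at h1
  rw [← h1, _root_.mul_assoc, ← map_mul, hMM', map_one, _root_.mul_one]

/-- the module `M` on `T` in `IsMumfordTriv` is trivial (restrict along the unit section) -/
theorem cls_eq_one_of_isLambdaSheaf (hL : PicF.IsInvertible L) (z : T ⟶ X) (M : T.left.Modules)
    (hlam : AgPol.IsLambdaSheaf ((X ◁ z) ≫ μ[X]).left (fst X T).left (snd X T ≫ z).left L
      ((Scheme.Modules.pullback (snd X T).left).obj M)) : cls M = 1 := by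
  rw [isLambdaSheaf_iff] at hlam
  have hσ1 : lift (toUnit T ≫ η[X]) (𝟙 T) ≫ snd X T = 𝟙 T := lift_snd _ _
  have hσ2 : lift (toUnit T ≫ η[X]) (𝟙 T) ≫ fst X T = toUnit T ≫ η[X] := lift_fst _ _
  have hσ3 : lift (toUnit T ≫ η[X]) (𝟙 T) ≫ snd X T ≫ z = z := by
    rw [lift_snd_assoc, Category.id_comp]
  have hσ4 : lift (toUnit T ≫ η[X]) (𝟙 T) ≫ (X ◁ z) ≫ μ[X] = z := by
    rw [lift_whiskerLeft_assoc, Category.id_comp, ← Hom.mul_def, ← Hom.one_def, _root_.one_mul]
  have h1 := congrArg (pull (lift (toUnit T ≫ η[X]) (𝟙 T)).left) hlam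
  simp only [map_mul, ← pull_cls, pull_left_comp] at h1
  rw [hσ1, hσ2, hσ3, hσ4, pull_left_id, pull_const hL η[X], _root_.mul_one] at h1
  have hu : IsUnit (pull z.left (cls L)) := by
    rw [pull_cls]
    exact isUnit_cls (Groth.Agent.Lib.helper11.InvMod.isInvertible_pullback _ hL)
  exact hu.mul_left_inj.mp (h1.trans (_root_.one_mul _).symm)

end Groth.Agent.Lib.Helper14.KLCls
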