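import Mathlib
import Groth.Prelude.Def_AlgGrp
import Groth.Prelude.Def_ChGrp
import Groth.Prelude.Def_W4c6nonredquotmfGoodQuot
import Groth.Agent.Lib.Helper22.ActPts

/-!
# helper14: invariance of orbit closures (light version of `OrbitLC1`), rational points are closed
and determined by their image, good quotients separate orbit closures
-/

set_option autoImplicit false
universe u
open CategoryTheory MonoidalCategory CartesianMonoidalCategory MonObj GrpObj AlgebraicGeometry
  CategoryTheory.Limits TopologicalSpace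

namespace Groth.Agent.Lib.Helper14.OrbitInv

open Groth.Agent.Lib.helper22

/-- points of a cartesian square of schemes -/
theorem exists_preimage_of_isPullback {P X Y Z : Scheme.{u}} {fst : P ⟶ X} {snd : P ⟶ Y}
    {f : X ⟶ Z} {g : Y ⟶ Z} (h : IsPullback fst snd f g) (x : X) (y : Y) (hxy : f x = g y) :
    ∃ p : P, fst p = x ∧ snd p = y := by
  obtain ⟨z, hz1, hz2⟩ := Scheme.Pullback.exists_preimage_pullback x y hxy
  refine ⟨h.isoPullback.inv z, ?_, ?_⟩
  · rw [← Scheme.Hom.comp_apply, h.isoPullback_inv_fst, hz1]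
  · rw [← Scheme.Hom.comp_apply, h.isoPullback_inv_snd, hz2]

variable {S : Scheme.{u}}

/-- `A ⊗ B` is the pullback of `A ⊗ C ⟶ C` along `g : B ⟶ C` -/
theorem isPullback_whiskerLeft (A : Over S) {B C : Over S} (g : B ⟶ C) :
    IsPullback (A ◁ g) (snd A B) (snd A C) g := by
  apply isPullback_of_points
  · rw [whiskerLeft_snd]
  · intro T s t hst
    refine ⟨lift (s ≫ fst A C) t, ?_, lift_snd _ _⟩
    apply CartesianMonoidalCategory.hom_ext
    · rw [Category.assoc, whiskerLeft_fst, lift_fst]
    · rw [Category.assoc, whiskerLeft_snd, ← Category.assoc, lift_snd, hst]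
  · intro T l l' h1 h2
    apply CartesianMonoidalCategory.hom_ext
    · have := congrArg (fun f => f ≫ fst A C) h1
      simpa only [Category.assoc, whiskerLeft_fst] using this
    · exact h2

/-- points of `A ⊗ C` whose second coordinate is in the range of `g : B ⟶ C` lift to `A ⊗ B` -/
theorem exists_preimage_whiskerLeft (A : Over S) {B C : Over S} (g : B ⟶ C) (q : (A ⊗ C).left)
    (z : B.left) (hq : (snd A C).left q = g.left z) :
    ∃ w : (A ⊗ B).left, (A ◁ g).left w = q ∧ (snd A B).left w = z :=
  exists_preimage_of_isPullback ((isPullback_whiskerLeft A g).map (Over.forget S)) q z hq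

theorem left_apply_comp {A B C : Over S} (f : A ⟶ B) (g : B ⟶ C) (p : A.left) :
    g.left (f.left p) = (f ≫ g).left p := by
  rw [Over.comp_left, Scheme.Hom.comp_apply]

variable {G X : Over S} [GrpObj G] (a : AlgGrp.Action G X) (x : 𝟙_ (Over S) ⟶ X)

/-- the orbit map is equivariant -/
theorem orbitMap_equivariant : (G ◁ a.orbitMap x) ≫ a.act = μ[G] ≫ a.orbitMap x := by
  apply AlgGrp.Action.hom_ext_lift₂
  intro T p q
  rw [lift_whiskerLeft_assoc, AlgGrp.Action.comp_orbitMap, ← Category.assoc (lift p q),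
    ← Hom.mul_def, AlgGrp.Action.comp_orbitMap, AlgGrp.Action.lift_mul_act]

/-- the unit point maps to the base point under the orbit map -/
theorem unit_orbitMap : η[G] ≫ a.orbitMap x = x := by
  rw [AlgGrp.Action.comp_orbitMap, toUnit_unique (toUnit (𝟙_ (Over S))) (𝟙 _), Category.id_comp]
  exact AlgGrp.Action.lift_one_act a x

/-- the orbit is stable under the action, on the level of points of `G ⊗ X` -/
theorem act_mem_orbit (q : (G ⊗ X).left)
    (hq : (snd G X).left q ∈ Set.range (a.orbitMap x).left) :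
    a.act.left q ∈ Set.range (a.orbitMap x).left := by
  obtain ⟨z, hz⟩ := hq
  obtain ⟨w, hw, -⟩ := exists_preimage_whiskerLeft G (a.orbitMap x) q z hz.symm
  refine ⟨μ[G].left w, ?_⟩
  rw [← hw, ← Scheme.Hom.comp_apply, ← Scheme.Hom.comp_apply, ← Over.comp_left, ← Over.comp_left,
    orbitMap_equivariant]

/-- the projection `G ⊗ X ⟶ X` is open if `G` is flat and locally of finite presentation -/
theorem isOpenMap_snd [Flat G.hom] [LocallyOfFinitePresentation G.hom] :
    IsOpenMap (snd G X).left := by
  haveI : UniversallyOpen (snd G X).left := by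
    change UniversallyOpen (pullback.snd G.hom X.hom); infer_instance
  exact (snd G X).left.isOpenMap

/-- the closure of the orbit is stable under the action -/
theorem act_mem_closure_orbit [Flat G.hom] [LocallyOfFinitePresentation G.hom] (q : (G ⊗ X).left)
    (hq : (snd G X).left q ∈ closure (Set.range (a.orbitMap x).left)) :
    a.act.left q ∈ closure (Set.range (a.orbitMap x).left) := by
  have h1 : q ∈ closure ((snd G X).left ⁻¹' Set.range (a.orbitMap x).left) := by
    rw [← (isOpenMap_snd (G := G) (X := X)).preimage_closure_eq_closure_preimage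
      (snd G X).left.continuous]
    exact hq
  have h2 := image_closure_subset_closure_image a.act.left.continuous ⟨q, h1, rfl⟩
  refine closure_mono ?_ h2
  rintro _ ⟨q', hq', rfl⟩
  exact act_mem_orbit a x q' hq'

/-- the closure of an orbit is an invariant set -/
theorem isInvariantSet_closure_orbit [Flat G.hom] [LocallyOfFinitePresentation G.hom] :
    NRQuot.IsInvariantSet a (closure (Set.range (a.orbitMap x).left.base)) :=
  fun q hq => act_mem_closure_orbit a x q hq

section Rational

variable {k : Type u} [Field k] {Y : Scheme.{u}} (f : Y ⟶ Spec (CommRingCat.of k))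

/-- two sections of `Y ⟶ Spec k` with the same image are equal -/
theorem section_ext (p q : Spec (CommRingCat.of k) ⟶ Y) (hp : p ≫ f = 𝟙 _) (hq : q ≫ f = 𝟙 _)
    (h : p (IsLocalRing.closedPoint k) = q (IsLocalRing.closedPoint k)) : p = q := by
  have hpa : Spec.map (Y.descResidueField (Scheme.stalkClosedPointTo p)) ≫
      Y.fromSpecResidueField (p (IsLocalRing.closedPoint k)) = p :=
    Scheme.descResidueField_stalkClosedPointTo_fromSpecResidueField k Y p
  have hqb : Spec.map (Y.descResidueField (Scheme.stalkClosedPointTo q)) ≫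
      Y.fromSpecResidueField (q (IsLocalRing.closedPoint k)) = q :=
    Scheme.descResidueField_stalkClosedPointTo_fromSpecResidueField k Y q
  set a := Y.descResidueField (Scheme.stalkClosedPointTo p) with ha
  set b := Y.descResidueField (Scheme.stalkClosedPointTo q) with hb
  let c := Y.residueFieldCongr h
  have hF : Spec.map c.hom ≫ Y.fromSpecResidueField (p (IsLocalRing.closedPoint k)) =
      Y.fromSpecResidueField (q (IsLocalRing.closedPoint k)) :=
    Scheme.residueFieldCongr_fromSpecResidueField h
  have hq' : Spec.map (c.hom ≫ b) ≫ Y.fromSpecResidueField (p (IsLocalRing.closedPoint k)) = q := by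
    rw [Spec.map_comp, Category.assoc, hF, hqb]
  obtain ⟨ρ, hρ⟩ := Spec.map_surjective (Y.fromSpecResidueField (p (IsLocalRing.closedPoint k)) ≫ f)
  have h1 : ρ ≫ a = 𝟙 _ := by
    apply Spec.map_injective
    rw [Spec.map_comp, hρ, ← Category.assoc, hpa, hp, Spec.map_id]
  have h2 : ρ ≫ (c.hom ≫ b) = 𝟙 _ := by
    apply Spec.map_injective
    rw [Spec.map_comp, hρ, ← Category.assoc, hq', hq, Spec.map_id]
  have hab : a = c.hom ≫ b := by
    have hinj : Function.Injective (c.hom ≫ b).hom := (c.hom ≫ b).hom.injective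
    apply CommRingCat.hom_ext
    apply RingHom.ext
    intro z
    have h3 : ρ.hom ((c.hom ≫ b).hom z) = z := by
      apply hinj
      exact congr($h2 ((c.hom ≫ b).hom z))
    have h4 : a.hom (ρ.hom ((c.hom ≫ b).hom z)) = (c.hom ≫ b).hom z := congr($h1 _)
    rw [h3] at h4
    exact h4
  rw [← hpa, ← hq', hab]

/-- a rational point of a scheme over a field is closed -/
theorem isClosed_rational_point (p : Spec (CommRingCat.of k) ⟶ Y) (hp : p ≫ f = 𝟙 _) :
    IsClosed ({p (IsLocalRing.closedPoint k)} : Set Y) := by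
  set y := p (IsLocalRing.closedPoint k) with hy
  rw [← closure_subset_iff_isClosed]
  intro y' hy'
  have hspec : y ⤳ y' := specializes_iff_mem_closure.mpr hy'
  obtain ⟨V, hV, hy'V, -⟩ := exists_isAffineOpen_mem_and_subset (x := y') (U := ⊤) trivial
  have hyV : y ∈ V := hspec.mem_open V.isOpen hy'V
  have hle : (⊤ : (Spec (CommRingCat.of k)).Opens) ≤ p ⁻¹ᵁ V := by
    intro z _
    show p z ∈ V
    rw [show z = IsLocalRing.closedPoint k from Subsingleton.elim _ _]
    exact hyV
  let σ := p.appLE V ⊤ hle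
  have hfac : Spec.map σ ≫ hV.fromSpec = (isAffineOpen_top _).fromSpec ≫ p :=
    hV.SpecMap_appLE_fromSpec p (isAffineOpen_top _) hle
  let τ := f.appLE ⊤ V le_top
  have hτσ : τ ≫ σ = 𝟙 _ := by
    have key : ∀ (g : Spec (CommRingCat.of k) ⟶ Spec (CommRingCat.of k)) (_ : g = 𝟙 _)
        (e : (⊤ : (Spec (CommRingCat.of k)).Opens) ≤ g ⁻¹ᵁ ⊤), g.appLE ⊤ ⊤ e = 𝟙 _ := by
      intro g hg e
      subst hg
      simp [Scheme.Hom.appLE]
    rw [Scheme.Hom.appLE_comp_appLE]
    exact key _ hp _
  let σ' := σ ≫ (Scheme.ΓSpecIso (CommRingCat.of k)).hom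
  have hsurj : Function.Surjective σ'.hom := by
    intro z
    refine ⟨τ.hom ((Scheme.ΓSpecIso (CommRingCat.of k)).inv.hom z), ?_⟩
    show (Scheme.ΓSpecIso (CommRingCat.of k)).hom.hom (σ.hom (τ.hom _)) = z
    have h1 : σ.hom (τ.hom ((Scheme.ΓSpecIso (CommRingCat.of k)).inv.hom z)) =
        (Scheme.ΓSpecIso (CommRingCat.of k)).inv.hom z := congr($hτσ _)
    rw [h1]
    exact Iso.inv_hom_id_apply (C := CommRingCat) _ _
  set z₀ := Spec.map σ' (IsLocalRing.closedPoint k) with hz₀
  have hz₀cl : IsClosed ({z₀} : Set (Spec Γ(Y, V))) := by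
    refine (PrimeSpectrum.isClosed_singleton_iff_isMaximal (R := Γ(Y, V)) z₀).mpr ?_
    exact Ideal.comap_isMaximal_of_surjective σ'.hom hsurj
  have hz₀y : hV.fromSpec z₀ = y := by
    rw [hz₀, ← Scheme.Hom.comp_apply, Spec.map_comp, Category.assoc, hfac, Scheme.Hom.comp_apply,
      Scheme.Hom.comp_apply]
    exact congrArg _ (Subsingleton.elim _ _)
  obtain ⟨z', hz'⟩ : y' ∈ Set.range hV.fromSpec := by rw [hV.range_fromSpec]; exact hy'V
  have hsp : z₀ ⤳ z' := by
    rw [← hV.fromSpec.isOpenEmbedding.toIsInducing.specializes_iff, hz₀y, hz']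
    exact hspec
  have : z' ∈ closure ({z₀} : Set (Spec Γ(Y, V))) := specializes_iff_mem_closure.mp hsp
  rw [hz₀cl.closure_eq] at this
  rw [Set.mem_singleton_iff, ← hz', this, hz₀y]

end Rational

section GoodQuot

/-- **good quotients separate orbit closures of rational points** -/
theorem goodQuot_orbit_closures (k : Type u) [Field k]
    (G X Y : Over (Spec (CommRingCat.of k))) [GrpObj G] [LocallyOfFiniteType G.hom]
    (a : AlgGrp.Action G X) (φ : X ⟶ Y) (h : NRQuot.IsGoodQuot a φ)
    (x₁ x₂ : 𝟙_ (Over (Spec (CommRingCat.of k))) ⟶ X) :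
    (closure (Set.range (a.orbitMap x₁).left.base) ∩
        closure (Set.range (a.orbitMap x₂).left.base)).Nonempty ↔
      x₁ ≫ φ = x₂ ≫ φ := by
  haveI : Flat G.hom := inferInstance
  haveI : LocallyOfFinitePresentation G.hom := inferInstance
  let pt : (𝟙_ (Over (Spec (CommRingCat.of k)))).left := IsLocalRing.closedPoint k
  haveI : Subsingleton (𝟙_ (Over (Spec (CommRingCat.of k)))).left :=
    inferInstanceAs (Subsingleton (PrimeSpectrum k))
  have horb : ∀ (x : 𝟙_ (Over (Spec (CommRingCat.of k))) ⟶ X) (g : G.left),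
      φ.left ((a.orbitMap x).left g) = (x ≫ φ).left pt := by
    intro x g
    rw [left_apply_comp]
    have h1 : a.orbitMap x ≫ φ = toUnit G ≫ x ≫ φ := by
      unfold AlgGrp.Action.orbitMap
      have hinv : a.act ≫ φ = snd G X ≫ φ := h.inv
      rw [Category.assoc, hinv, ← Category.assoc, lift_snd, Category.assoc]
    rw [h1, ← left_apply_comp]
    exact congrArg _ (Subsingleton.elim _ _)
  have hclosed : ∀ x : 𝟙_ (Over (Spec (CommRingCat.of k))) ⟶ X,
      IsClosed ({(x ≫ φ).left pt} : Set Y.left) := by
    intro x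
    exact isClosed_rational_point Y.hom (x ≫ φ).left (Over.w (x ≫ φ))
  have himg : ∀ x : 𝟙_ (Over (Spec (CommRingCat.of k))) ⟶ X,
      φ.left '' closure (Set.range (a.orbitMap x).left) ⊆ {(x ≫ φ).left pt} := by
    intro x
    refine (image_closure_subset_closure_image φ.left.continuous).trans ?_
    apply closure_minimal _ (hclosed x)
    rintro _ ⟨_, ⟨g, rfl⟩, rfl⟩
    exact horb x g
  constructor
  · rintro ⟨z, hz1, hz2⟩
    have e1 := himg x₁ ⟨z, hz1, rfl⟩
    have e2 := himg x₂ ⟨z, hz2, rfl⟩
    rw [Set.mem_singleton_iff] at e1 e2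
    apply Over.OverMorphism.ext
    exact section_ext Y.hom _ _ (Over.w (x₁ ≫ φ)) (Over.w (x₂ ≫ φ)) (e1.symm.trans e2)
  · intro hx
    have hmem : ∀ x : 𝟙_ (Over (Spec (CommRingCat.of k))) ⟶ X,
        x.left pt ∈ closure (Set.range (a.orbitMap x).left) := by
      intro x
      apply subset_closure
      refine ⟨η[G].left pt, ?_⟩
      rw [left_apply_comp, unit_orbitMap]
    have hint := h.inter (ULift.{u} Bool)
      (fun j => if j.down then closure (Set.range (a.orbitMap x₁).left.base)
        else closure (Set.range (a.orbitMap x₂).left.base))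
      (fun j => by dsimp only; split_ifs <;> exact isClosed_closure)
      (fun j => by dsimp only; split_ifs <;> exact isInvariantSet_closure_orbit a _)
    have hy : (x₁ ≫ φ).left pt ∈ ⋂ j : ULift.{u} Bool, φ.left.base ''
        (if j.down then closure (Set.range (a.orbitMap x₁).left.base)
          else closure (Set.range (a.orbitMap x₂).left.base)) := by
      rw [Set.mem_iInter]
      rintro ⟨j⟩
      cases j
      · exact ⟨x₂.left pt, hmem x₂, by rw [hx]; exact left_apply_comp x₂ φ pt⟩
      · exact ⟨x₁.left pt, hmem x₁, left_apply_comp x₁ φ pt⟩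
    rw [← hint] at hy
    obtain ⟨z, hz, -⟩ := hy
    rw [Set.mem_iInter] at hz
    exact ⟨z, hz ⟨true⟩, hz ⟨false⟩⟩

end GoodQuot

end Groth.Agent.Lib.Helper14.OrbitInv
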