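import Mathlib
import Groth.Prelude.Def_AlgGrp
import Groth.Agent.Lib.Helper15.NatGrp
import Groth.Agent.Lib.Helper14.DualNumUnram1
import Groth.Agent.Lib.Helper14.OrbitInv1
import Groth.Agent.Lib.Helper14.KerPullback

/-!
# helper14: a pointed scheme locally of finite type over a field all of whose geometric points and
dual number points are trivial is the point; a homomorphism of group schemes injective on geometric
points and on tangent vectors at the unit is a monomorphism
-/

set_option autoImplicit false
universe u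
open CategoryTheory MonoidalCategory CartesianMonoidalCategory MonObj GrpObj AlgebraicGeometry
  CategoryTheory.Limits
open Groth.Agent.Lib.helper15.NatGrp

namespace Groth.Agent.Lib.Helper14.KerTriv

/-- ring level: a finite type algebra over a field with one prime, a rational point and only the
trivial dual number point is the field -/
theorem bijective_algebraMap_of_dualNumber (k B : Type u) [Field k] [CommRing B] [Algebra k B]
    [Algebra.FiniteType k B] (hsub : Subsingleton (PrimeSpectrum B)) (ε : B →ₐ[k] k)
    (H : ∀ g : B →ₐ[k] DualNumber k, g = (Algebra.ofId k (DualNumber k)).comp ε) :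
    Function.Bijective (algebraMap k B) := by
  have hker : ∀ p : Ideal B, p.IsPrime → p = RingHom.ker (ε : B →+* k) := by
    intro p hp
    have h1 : (⟨p, hp⟩ : PrimeSpectrum B) = ⟨RingHom.ker (ε : B →+* k), RingHom.ker_isPrime _⟩ :=
      Subsingleton.elim _ _
    exact congrArg PrimeSpectrum.asIdeal h1
  haveI : Algebra.FormallyUnramified k B := by
    apply Groth.Agent.Lib.Helper14.DualNumUnram.formallyUnramified_of_dualNumber' k B
    · intro m hm
      refine ⟨ε, fun a => ?_⟩
      rw [hker m hm.isPrime, RingHom.mem_ker, map_sub]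
      show ε a - ε (algebraMap k B (ε a)) = 0
      rw [AlgHom.commutes]
      exact sub_self _
    · intro f g _
      rw [H f, H g]
  haveI : IsReduced B := Algebra.FormallyUnramified.isReduced_of_field k B
  haveI : Nontrivial B := (ε : B →+* k).domain_nontrivial
  have hinj : Function.Injective ε := by
    rw [injective_iff_map_eq_zero]
    intro a ha
    have h1 : a ∈ nilradical B := by
      rw [nilradical_eq_sInf, Ideal.mem_sInf]
      intro p hp
      rw [hker p hp]
      exact ha
    rw [nilradical_eq_zero, Ideal.zero_eq_bot, Ideal.mem_bot] at h1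
    exact h1
  constructor
  · exact (algebraMap k B).injective
  · intro b
    refine ⟨ε b, hinj ?_⟩
    rw [AlgHom.commutes]
    rfl

variable {k : Type u} [Field k]

/-- all points of `N` are the base point if all geometric points are trivial -/
theorem subsingleton_of_geomPoints (N : Over (Spec (CommRingCat.of k)))
    (e : 𝟙_ (Over (Spec (CommRingCat.of k))) ⟶ N)
    (P1 : ∀ (K : Type u) [Field K] [IsAlgClosed K] [Algebra k K] (z : Z k K ⟶ N),
      z = toUnit _ ≫ e) : Subsingleton N.left := by
  haveI : Subsingleton (𝟙_ (Over (Spec (CommRingCat.of k)))).left :=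
    inferInstanceAs (Subsingleton (PrimeSpectrum k))
  suffices h : ∀ z : N.left, z = e.left (IsLocalRing.closedPoint k) from
    ⟨fun a b => (h a).trans (h b).symm⟩
  intro z
  let K := AlgebraicClosure (N.left.residueField z)
  let zK : Spec (CommRingCat.of K) ⟶ N.left :=
    Spec.map (CommRingCat.ofHom (algebraMap (N.left.residueField z) K)) ≫
      N.left.fromSpecResidueField z
  obtain ⟨ψ, hψ⟩ := Spec.map_surjective (zK ≫ N.hom)
  letI : Algebra k K := ψ.hom.toAlgebra
  let z' : Z k K ⟶ N := Over.homMk zK hψ.symm
  have h1 := P1 K z'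
  have h3 : z'.left (IsLocalRing.closedPoint K) = z := by
    show (Spec.map _ ≫ N.left.fromSpecResidueField z) _ = z
    rw [Scheme.Hom.comp_apply]
    exact Scheme.fromSpecResidueField_apply _ _
  rw [← h3, h1, ← Groth.Agent.Lib.Helper14.OrbitInv.left_apply_comp]
  exact congrArg _ (Subsingleton.elim _ _)

/-- the case of an affine test object -/
theorem isIso_hom_Z (B : Type u) [CommRing B] [Algebra k B] [LocallyOfFiniteType (Z k B).hom]
    (hsub : Subsingleton (Z k B).left)
    (e : 𝟙_ (Over (Spec (CommRingCat.of k))) ⟶ Z k B)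
    (P2 : ∀ v : Z k (DualNumber k) ⟶ Z k B, v = toUnit _ ≫ e) : IsIso (Z k B).hom := by
  obtain ⟨ψ, hψ⟩ := Spec.map_surjective
    (e.left : Spec (CommRingCat.of k) ⟶ Spec (CommRingCat.of B))
  have hψ1 : CommRingCat.ofHom (algebraMap k B) ≫ ψ = 𝟙 _ := by
    apply Spec.map_injective
    rw [Spec.map_comp, hψ, Spec.map_id]
    exact Over.w e
  let ε : B →ₐ[k] k := { ψ.hom with commutes' := fun c => congr($hψ1 c) }
  haveI : Algebra.FiniteType k B := by
    have h1 : LocallyOfFiniteType (Spec.map (CommRingCat.ofHom (algebraMap k B))) :=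
      ‹LocallyOfFiniteType (Z k B).hom›
    have h2 := (HasRingHomProperty.Spec_iff (P := @LocallyOfFiniteType)).mp h1
    exact RingHom.finiteType_algebraMap.mp h2
  have hbij := bijective_algebraMap_of_dualNumber k B hsub ε ?_
  · show IsIso (Spec.map (CommRingCat.ofHom (algebraMap k B)))
    haveI : IsIso (CommRingCat.ofHom (algebraMap k B)) :=
      (ConcreteCategory.isIso_iff_bijective _).mpr hbij
    infer_instance
  · intro g
    have h1 := P2 (Zmap k g)
    have h2 : (Zmap k g).left = (toUnit (Z k (DualNumber k)) ≫ e).left :=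
      congrArg (fun t => t.left) h1
    have h3 : Spec.map (CommRingCat.ofHom (g : B →+* DualNumber k)) =
        Spec.map (ψ ≫ CommRingCat.ofHom (algebraMap k (DualNumber k))) := by
      rw [Spec.map_comp, hψ]
      exact h2
    have h4 := Spec.map_injective h3
    apply AlgHom.ext
    intro b
    exact congr($h4 b)

/-- **a pointed `k`-scheme locally of finite type all of whose geometric points and dual number
points are trivial is `Spec k`** -/
theorem isIso_hom_of_points (N : Over (Spec (CommRingCat.of k))) [LocallyOfFiniteType N.hom]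
    (e : 𝟙_ (Over (Spec (CommRingCat.of k))) ⟶ N)
    (P1 : ∀ (K : Type u) [Field K] [IsAlgClosed K] [Algebra k K] (z : Z k K ⟶ N),
      z = toUnit _ ≫ e)
    (P2 : ∀ v : Z k (DualNumber k) ⟶ N, v = toUnit _ ≫ e) : IsIso N.hom := by
  haveI hsub : Subsingleton N.left := subsingleton_of_geomPoints N e P1
  haveI : IsAffine N.left := by
    let e₀ : N.left := e.left (IsLocalRing.closedPoint k)
    obtain ⟨U, hU, he₀U, -⟩ := exists_isAffineOpen_mem_and_subset (x := e₀) (U := ⊤) trivial
    have hUtop : U = ⊤ := by
      apply le_antisymm le_top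
      intro z _
      rw [Subsingleton.elim z e₀]
      exact he₀U
    rw [hUtop] at hU
    haveI : IsAffine (⊤ : N.left.Opens).toScheme := hU
    exact IsAffine.of_isIso (Scheme.topIso N.left).inv
  obtain ⟨B, _, _, ⟨j⟩⟩ := exists_iso_Z k N
  haveI : IsIso j.hom.left := inferInstanceAs (IsIso ((Over.forget _).map j.hom))
  haveI : IsIso j.inv.left := inferInstanceAs (IsIso ((Over.forget _).map j.inv))
  haveI : LocallyOfFiniteType (Z k B).hom := by
    have h1 : (Z k B).hom = j.inv.left ≫ N.hom := (Over.w j.inv).symm
    rw [h1]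
    infer_instance
  haveI : IsIso (Z k B).hom := by
    refine isIso_hom_Z B ⟨fun a b => ?_⟩ (e ≫ j.hom) (fun v => ?_)
    · have ha : j.hom.left (j.inv.left a) = a := by
        rw [Groth.Agent.Lib.Helper14.OrbitInv.left_apply_comp, Iso.inv_hom_id]
        rfl
      have hb : j.hom.left (j.inv.left b) = b := by
        rw [Groth.Agent.Lib.Helper14.OrbitInv.left_apply_comp, Iso.inv_hom_id]
        rfl
      rw [← ha, ← hb, Subsingleton.elim (j.inv.left a) (j.inv.left b)]
    · have h1 := P2 (v ≫ j.inv)
      rw [← cancel_mono j.inv, Category.assoc, Category.assoc, Iso.hom_inv_id, Category.comp_id]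
      exact h1
  have h1 : N.hom = j.hom.left ≫ (Z k B).hom := (Over.w j.hom).symm
  rw [h1]
  infer_instance

/-- **a homomorphism of group schemes locally of finite type over a field which is injective on
geometric points and on tangent vectors at the unit is a monomorphism** -/
theorem mono_of_geomPoints_of_tangent
    (G G' : Over (Spec (CommRingCat.of k))) [GrpObj G] [GrpObj G'] [LocallyOfFiniteType G.hom]
    [LocallyOfFiniteType G'.hom] (f : G ⟶ G') [IsMonHom f]
    (hgeom : ∀ (K : Type u) [Field K] [IsAlgClosed K] [Algebra k K],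
      Function.Injective (fun g : Z k K ⟶ G => g ≫ f))
    (htan : ∀ g : Z k (DualNumber k) ⟶ G,
      (∀ x : 𝟙_ (Over (Spec (CommRingCat.of k))) ⟶ Z k (DualNumber k), x ≫ g = η[G]) →
        g ≫ f = toUnit _ ≫ η[G'] → g = toUnit _ ≫ η[G]) :
    Mono f := by
  let N := Limits.pullback f η[G']
  let n : N ⟶ G := pullback.fst f η[G']
  have hk : AlgGrp.IsKernel n f := by
    have h0 := IsPullback.of_hasPullback f η[G']
    rwa [show pullback.snd f η[G'] = toUnit N from toUnit_unique _ _] at h0
  haveI : Mono n := Groth.Agent.Lib.Helper14.KerPullback.mono_of_isKernel n f hk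
  have hη : η[G] ≫ f = toUnit (𝟙_ (Over (Spec (CommRingCat.of k)))) ≫ η[G'] := by
    rw [IsMonHom.one_hom, toUnit_unique (toUnit (𝟙_ (Over (Spec (CommRingCat.of k))))) (𝟙 _),
      Category.id_comp]
  let e : 𝟙_ (Over (Spec (CommRingCat.of k))) ⟶ N := hk.lift η[G] (toUnit _) hη
  have he : e ≫ n = η[G] := hk.lift_fst _ _ _
  have hnf : ∀ {T : Over (Spec (CommRingCat.of k))} (t : T ⟶ N),
      (t ≫ n) ≫ f = toUnit T ≫ η[G'] := by
    intro T t
    rw [Category.assoc, hk.w, ← Category.assoc, toUnit_unique (t ≫ toUnit N) (toUnit T)]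
  have hef : ∀ T : Over (Spec (CommRingCat.of k)), (toUnit T ≫ η[G]) ≫ f = toUnit T ≫ η[G'] := by
    intro T
    rw [Category.assoc, IsMonHom.one_hom]
  haveI : LocallyOfFiniteType N.hom := by
    haveI h1 : LocallyOfFiniteType (η[G'].left ≫ G'.hom) := by
      rw [Over.w]
      exact inferInstanceAs (LocallyOfFiniteType (𝟙 (Spec (CommRingCat.of k))))
    haveI h2 : LocallyOfFiniteType η[G'].left := locallyOfFiniteType_of_comp η[G'].left G'.hom
    haveI h3 : LocallyOfFiniteType n.left :=
      MorphismProperty.of_isPullback (P := @LocallyOfFiniteType) (hk.flip.map (Over.forget _)) h2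
    have h4 : N.hom = n.left ≫ G.hom := (Over.w n).symm
    rw [h4]
    infer_instance
  have P1 : ∀ (K : Type u) [Field K] [IsAlgClosed K] [Algebra k K] (z : Z k K ⟶ N),
      z = toUnit _ ≫ e := by
    intro K _ _ _ z
    rw [← cancel_mono n, Category.assoc, he]
    apply hgeom K
    show (z ≫ n) ≫ f = (toUnit _ ≫ η[G]) ≫ f
    rw [hnf, hef]
  haveI hsub : Subsingleton N.left := subsingleton_of_geomPoints N e P1
  have P2 : ∀ v : Z k (DualNumber k) ⟶ N, v = toUnit _ ≫ e := by
    intro v
    rw [← cancel_mono n, Category.assoc, he]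
    apply htan (v ≫ n) ?_ (hnf v)
    intro x
    have hxe : x ≫ v = e := by
      apply Over.OverMorphism.ext
      exact Groth.Agent.Lib.Helper14.OrbitInv.section_ext N.hom _ _ (Over.w (x ≫ v)) (Over.w e)
        (Subsingleton.elim _ _)
    rw [← Category.assoc, hxe, he]
  haveI : IsIso N.hom := isIso_hom_of_points N e P1 P2
  constructor
  intro T a b hab
  have h1 : (a * b⁻¹) ≫ f = 1 := by
    rw [MonObj.mul_comp, GrpObj.inv_comp, hab, mul_inv_cancel]
  obtain ⟨x, hx⟩ := Groth.Agent.Lib.Helper14.KerPullback.exists_lift_of_comp_eq_one n f hk _ h1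
  have hx' : x = toUnit T ≫ e := by
    apply Over.OverMorphism.ext
    rw [← cancel_mono N.hom, Over.w, Over.w]
  have h2 : a * b⁻¹ = 1 := by
    rw [← hx, hx', Category.assoc, he, Hom.one_def]
  exact mul_inv_eq_one.mp h2

end Groth.Agent.Lib.Helper14.KerTriv
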