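import Mathlib

set_option autoImplicit false
open CategoryTheory CategoryTheory.Limits
universe u

namespace Groth.Agent.Lib.Helper14.Lan

variable {C : Type u} [SmallCategory C] {C' : Type u} [SmallCategory C'] (u : C ⥤ C')

/-- the left extension -/
noncomputable abbrev ext (H : Cᵒᵖ ⥤ Type u) : Functor.LeftExtension u.op H :=
  Functor.LeftExtension.mk (u.op.lan.obj H) (u.op.lanUnit.app H)

noncomputable def isPW (H : Cᵒᵖ ⥤ Type u) : (ext u H).IsPointwiseLeftKanExtension :=
  Functor.isPointwiseLeftKanExtensionOfIsLeftKanExtension _ _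

variable [u.Faithful]
  (hu : ∀ X : C, (Over.post (X := X) u).Full)

include hu in
theorem exists_lift_iff (X : C) {g₁ g₂ : CostructuredArrow u.op (Opposite.op (u.obj X))}
    (φ : g₁ ⟶ g₂) :
    (∃ f : X ⟶ g₂.left.unop, u.map f = g₂.hom.unop) ↔
      (∃ f : X ⟶ g₁.left.unop, u.map f = g₁.hom.unop) := by
  have hw : g₂.hom.unop ≫ u.map φ.left.unop = g₁.hom.unop := by
    have := CostructuredArrow.w φ
    exact congrArg Quiver.Hom.unop this
  constructor
  · rintro ⟨f, hf⟩
    exact ⟨f ≫ φ.left.unop, by rw [u.map_comp, hf, hw]⟩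
  · rintro ⟨f, hf⟩
    haveI := hu g₁.left.unop
    let A : Over g₁.left.unop := Over.mk f
    let B : Over g₁.left.unop := Over.mk φ.left.unop
    let ψ : (Over.post u).obj A ⟶ (Over.post u).obj B :=
      Over.homMk (g₂.hom.unop) (by
        change g₂.hom.unop ≫ u.map φ.left.unop = u.map f
        rw [hw, hf])
    obtain ⟨m, hm⟩ := (Over.post u).map_surjective ψ
    refine ⟨m.left, ?_⟩
    have := congrArg CommaMorphism.left hm
    exact this


open Classical in
/-- the invariant cocone -/
noncomputable def invCocone (X : C) (H : Cᵒᵖ ⥤ Type u) :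
    Cocone (CostructuredArrow.proj u.op (Opposite.op (u.obj X)) ⋙ H) where
  pt := ULift.{u} (Option (H.obj (Opposite.op X)))
  ι :=
    { app := fun g => TypeCat.ofHom fun k =>
        ULift.up (if h : ∃ f : X ⟶ g.left.unop, u.map f = g.hom.unop then
          some (H.map h.choose.op k) else none)
      naturality := fun g₁ g₂ φ => by
        ext k
        have hw : g₂.hom.unop ≫ u.map φ.left.unop = g₁.hom.unop := by
          have := CostructuredArrow.w φ
          exact congrArg Quiver.Hom.unop this
        have hiff := exists_lift_iff u hu X φ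
        by_cases h2 : ∃ f : X ⟶ g₂.left.unop, u.map f = g₂.hom.unop
        · have h1 := hiff.mp h2
          have hcomp : h2.choose ≫ φ.left.unop = h1.choose := by
            apply u.map_injective
            rw [u.map_comp, h2.choose_spec, hw, h1.choose_spec]
          simp only [Functor.comp_obj, CostructuredArrow.proj_obj, Functor.comp_map,
            CostructuredArrow.proj_map, Functor.const_obj_obj, Functor.const_obj_map,
            Category.comp_id]
          change ULift.up (if h : ∃ f : X ⟶ g₂.left.unop, u.map f = g₂.hom.unop then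
              some (H.map h.choose.op (H.map φ.left k)) else none) =
            ULift.up (if h : ∃ f : X ⟶ g₁.left.unop, u.map f = g₁.hom.unop then
              some (H.map h.choose.op k) else none)
          rw [dif_pos h2, dif_pos h1]
          congr 2
          rw [← hcomp]
          have : (h2.choose ≫ φ.left.unop).op = φ.left ≫ h2.choose.op := rfl
          rw [this, H.map_comp]
          rfl
        · have h1 : ¬ ∃ f : X ⟶ g₁.left.unop, u.map f = g₁.hom.unop := fun h => h2 (hiff.mpr h)
          change ULift.up (if h : ∃ f : X ⟶ g₂.left.unop, u.map f = g₂.hom.unop then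
              some (H.map h.choose.op (H.map φ.left k)) else none) =
            ULift.up (if h : ∃ f : X ⟶ g₁.left.unop, u.map f = g₁.hom.unop then
              some (H.map h.choose.op k) else none)
          rw [dif_neg h2, dif_neg h1] }


/-- the invariant map -/
noncomputable def inv (X : C) (H : Cᵒᵖ ⥤ Type u) :
    (u.op.lan.obj H).obj (Opposite.op (u.obj X)) ⟶ ULift.{u} (Option (H.obj (Opposite.op X))) :=
  (isPW u H (Opposite.op (u.obj X))).desc (invCocone u hu X H)

theorem inv_ι (X : C) (H : Cᵒᵖ ⥤ Type u)
    (g : CostructuredArrow u.op (Opposite.op (u.obj X))) (k : H.obj g.left) :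
    inv u hu X H (((ext u H).coconeAt (Opposite.op (u.obj X))).ι.app g k) =
      (invCocone u hu X H).ι.app g k :=
  ConcreteCategory.congr_hom ((isPW u H (Opposite.op (u.obj X))).fac (invCocone u hu X H) g) k

open Classical in
theorem invCocone_ι_apply (X : C) (H : Cᵒᵖ ⥤ Type u)
    (g : CostructuredArrow u.op (Opposite.op (u.obj X))) (k : H.obj g.left) :
    (invCocone u hu X H).ι.app g k =
      ULift.up (if h : ∃ f : X ⟶ g.left.unop, u.map f = g.hom.unop then
          some (H.map h.choose.op k) else none) := rfl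

theorem ι_mk_id (X : C) (H : Cᵒᵖ ⥤ Type u) (h : H.obj (Opposite.op X)) :
    ((ext u H).coconeAt (Opposite.op (u.obj X))).ι.app
      (CostructuredArrow.mk (Y := Opposite.op X) (𝟙 (u.op.obj (Opposite.op X)))) h =
      (u.op.lanUnit.app H).app (Opposite.op X) h := by
  change (u.op.lan.obj H).map (𝟙 _) ((u.op.lanUnit.app H).app (Opposite.op X) h) = _
  rw [CategoryTheory.Functor.map_id]
  rfl

theorem inv_unit (X : C) (H : Cᵒᵖ ⥤ Type u) (h : H.obj (Opposite.op X)) :
    inv u hu X H ((u.op.lanUnit.app H).app (Opposite.op X) h) = ULift.up (some h) := by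
  classical
  rw [← ι_mk_id, inv_ι, invCocone_ι_apply]
  have hex : ∃ f : X ⟶ X, u.map f = 𝟙 (u.obj X) := ⟨𝟙 X, u.map_id X⟩
  have hex' : ∃ f : X ⟶ (CostructuredArrow.mk (Y := Opposite.op X)
      (𝟙 (u.op.obj (Opposite.op X)))).left.unop,
      u.map f = (CostructuredArrow.mk (Y := Opposite.op X)
        (𝟙 (u.op.obj (Opposite.op X)))).hom.unop := hex
  rw [dif_pos hex']
  have : hex'.choose = 𝟙 X := by
    apply u.map_injective
    rw [hex'.choose_spec, u.map_id]
    rfl
  rw [this]
  simp

include hu in
theorem unit_injective (X : C) (H : Cᵒᵖ ⥤ Type u) :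
    Function.Injective ((u.op.lanUnit.app H).app (Opposite.op X)) := by
  intro h h' hh
  have := congrArg (inv u hu X H) hh
  rw [inv_unit, inv_unit] at this
  simpa using this


omit [u.Faithful] in
theorem lan_map_ι {H K : Cᵒᵖ ⥤ Type u} (α : H ⟶ K) (Y : C'ᵒᵖ)
    (g : CostructuredArrow u.op Y) (k : H.obj g.left) :
    (u.op.lan.map α).app Y (((ext u H).coconeAt Y).ι.app g k) =
      ((ext u K).coconeAt Y).ι.app g (α.app g.left k) := by
  change (u.op.lan.map α).app Y ((u.op.lan.obj H).map g.hom ((u.op.lanUnit.app H).app g.left k)) =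
    (u.op.lan.obj K).map g.hom ((u.op.lanUnit.app K).app g.left (α.app g.left k))
  have h1 := ConcreteCategory.congr_hom ((u.op.lan.map α).naturality g.hom)
    ((u.op.lanUnit.app H).app g.left k)
  have h2 := ConcreteCategory.congr_hom (NatTrans.congr_app (u.op.lanUnit.naturality α) g.left) k
  simp only [Functor.id_obj, Functor.comp_obj, Functor.id_map, Functor.comp_map,
    NatTrans.comp_app] at h2
  change (u.op.lanUnit.app K).app g.left (α.app g.left k) = (u.op.lan.map α).app (u.op.obj g.left)
    ((u.op.lanUnit.app H).app g.left k) at h2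
  rw [h2]
  exact h1

include hu in
theorem exists_of_lan_map_eq (X : C) {H K : Cᵒᵖ ⥤ Type u} (α : H ⟶ K)
    (c : (u.op.lan.obj H).obj (Opposite.op (u.obj X))) (k : K.obj (Opposite.op X))
    (hc : (u.op.lan.map α).app (Opposite.op (u.obj X)) c =
      (u.op.lanUnit.app K).app (Opposite.op X) k) :
    ∃ h, (u.op.lanUnit.app H).app (Opposite.op X) h = c ∧ α.app (Opposite.op X) h = k := by
  classical
  obtain ⟨g, h', rfl⟩ := Types.jointly_surjective _ (isPW u H (Opposite.op (u.obj X))) c
  rw [lan_map_ι] at hc
  have h3 := congrArg (inv u hu X K) hc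
  rw [inv_unit, inv_ι, invCocone_ι_apply] at h3
  by_cases hex : ∃ f : X ⟶ g.left.unop, u.map f = g.hom.unop
  · rw [dif_pos hex] at h3
    have h4 : K.map hex.choose.op (α.app g.left h') = k := by simpa using h3
    obtain ⟨f, hf⟩ : ∃ f, f = hex.choose := ⟨_, rfl⟩
    have hf' : u.map f = g.hom.unop := hf ▸ hex.choose_spec
    rw [← hf] at h4
    refine ⟨H.map f.op h', ?_, ?_⟩
    · rw [← ι_mk_id]
      let φ : g ⟶ CostructuredArrow.mk (Y := Opposite.op X) (𝟙 (u.op.obj (Opposite.op X))) :=
        CostructuredArrow.homMk f.op (by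
          change (u.map f).op ≫ 𝟙 _ = g.hom
          rw [Category.comp_id, hf']
          rfl)
      have := ConcreteCategory.congr_hom
        (((ext u H).coconeAt (Opposite.op (u.obj X))).w φ) h'
      exact this
    · rw [← h4]
      exact ConcreteCategory.congr_hom (α.naturality f.op) h'
  · rw [dif_neg hex] at h3
    simp at h3

end Groth.Agent.Lib.Helper14.Lan
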