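import Mathlib

set_option autoImplicit false
open CategoryTheory CategoryTheory.Limits
universe u

namespace Groth.Agent.Lib.Helper14.Lan

variable {C : Type u} [SmallCategory C] {C' : Type u} [SmallCategory C'] (u : C ⥤ C')

/-- `u_!` of a representable is representable. -/
noncomputable def eY (X : C) : yoneda.obj (u.obj X) ≅ u.op.lan.obj (yoneda.obj X) :=
  Functor.leftKanExtensionUnique (yoneda.obj (u.obj X)) (yonedaMap u X)
    (u.op.lan.obj (yoneda.obj X)) (u.op.lanUnit.app (yoneda.obj X))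

theorem eY_fac (X : C) :
    yonedaMap u X ≫ Functor.whiskerLeft u.op (eY u X).hom = u.op.lanUnit.app (yoneda.obj X) := by
  unfold eY
  rw [Functor.leftKanExtensionUnique_hom]
  exact Functor.descOfIsLeftKanExtension_fac _ _ _ _

theorem unit_apply {X X' : C} (f : X ⟶ X') :
    (u.op.lanUnit.app (yoneda.obj X')).app (Opposite.op X) f =
      (eY u X').hom.app (Opposite.op (u.obj X)) (u.map f) := by
  rw [← eY_fac]
  rfl

theorem lan_map_eq_iff {F G : Cᵒᵖ ⥤ Type u} (φ φ' : F ⟶ G) :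
    (u.op.lan : (Cᵒᵖ ⥤ Type u) ⥤ (C'ᵒᵖ ⥤ Type u)).map φ = u.op.lan.map φ' ↔
      φ ≫ u.op.lanUnit.app G = φ' ≫ u.op.lanUnit.app G := by
  have key : ∀ ψ : F ⟶ G, ((u.op.lanAdjunction (Type u)).homEquiv F (u.op.lan.obj G))
      (u.op.lan.map ψ) = ψ ≫ u.op.lanUnit.app G := by
    intro ψ
    rw [Adjunction.homEquiv_unit, Functor.lanAdjunction_unit]
    exact (u.op.lanUnit.naturality ψ).symm
  constructor
  · intro h
    rw [← key, ← key, h]
  · intro h
    apply ((u.op.lanAdjunction (Type u)).homEquiv F (u.op.lan.obj G)).injective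
    rw [key, key, h]

theorem map_eq_of_lan_map_yoneda_eq {X X' : C} (f f' : X ⟶ X')
    (h : (u.op.lan : (Cᵒᵖ ⥤ Type u) ⥤ (C'ᵒᵖ ⥤ Type u)).map (yoneda.map f) =
      u.op.lan.map (yoneda.map f')) : u.map f = u.map f' := by
  rw [lan_map_eq_iff] at h
  have h1 := ConcreteCategory.congr_hom (NatTrans.congr_app h (Opposite.op X)) (𝟙 X)
  have h2 : (u.op.lanUnit.app (yoneda.obj X')).app (Opposite.op X) (𝟙 X ≫ f) =
      (u.op.lanUnit.app (yoneda.obj X')).app (Opposite.op X) (𝟙 X ≫ f') := h1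
  rw [Category.id_comp, Category.id_comp, unit_apply, unit_apply] at h2
  have hinj : Function.Injective ((eY u X').hom.app (Opposite.op (u.obj X))) := by
    rw [← mono_iff_injective]
    infer_instance
  exact hinj h2

theorem lan_map_yoneda_eq_of_map_eq {X X' : C} (f f' : X ⟶ X') (h : u.map f = u.map f') :
    (u.op.lan : (Cᵒᵖ ⥤ Type u) ⥤ (C'ᵒᵖ ⥤ Type u)).map (yoneda.map f) =
      u.op.lan.map (yoneda.map f') := by
  rw [lan_map_eq_iff]
  apply yonedaEquiv.injective
  change (u.op.lanUnit.app (yoneda.obj X')).app (Opposite.op X) (𝟙 X ≫ f) =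
      (u.op.lanUnit.app (yoneda.obj X')).app (Opposite.op X) (𝟙 X ≫ f')
  rw [Category.id_comp, Category.id_comp, unit_apply, unit_apply, h]

/-- fullness from surjectivity -/
theorem exists_map_eq_of_surjective {X X' : C}
    (hs : Function.Surjective (fun φ : yoneda.obj X ⟶ yoneda.obj X' =>
      (u.op.lan : (Cᵒᵖ ⥤ Type u) ⥤ (C'ᵒᵖ ⥤ Type u)).map φ)) (g : u.obj X ⟶ u.obj X') :
    ∃ f : X ⟶ X', u.map f = g := by
  obtain ⟨φ, hφ⟩ := hs ((eY u X).inv ≫ yoneda.map g ≫ (eY u X').hom)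
  refine ⟨yonedaEquiv φ, ?_⟩
  have h1 := u.op.lanUnit.naturality φ
  have h2 := ConcreteCategory.congr_hom (NatTrans.congr_app h1 (Opposite.op X)) (𝟙 X)
  simp only [Functor.id_obj, Functor.comp_obj, Functor.id_map, Functor.comp_map] at h2
  have h3 : (u.op.lanUnit.app (yoneda.obj X')).app (Opposite.op X) (φ.app (Opposite.op X) (𝟙 X)) =
      (u.op.lan.map φ).app (Opposite.op (u.obj X))
        ((u.op.lanUnit.app (yoneda.obj X)).app (Opposite.op X) (𝟙 X)) := h2
  rw [unit_apply, unit_apply] at h3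
  dsimp only at hφ
  rw [hφ, u.map_id] at h3
  have h4 : ((eY u X).inv ≫ yoneda.map g ≫ (eY u X').hom).app (Opposite.op (u.obj X))
      ((eY u X).hom.app (Opposite.op (u.obj X)) (𝟙 (u.obj X))) =
      (eY u X').hom.app (Opposite.op (u.obj X)) (𝟙 (u.obj X) ≫ g) := by
    have := ConcreteCategory.congr_hom (NatTrans.congr_app (eY u X).hom_inv_id
      (Opposite.op (u.obj X))) (𝟙 (u.obj X))
    simp only [NatTrans.comp_app, NatTrans.id_app] at this ⊢
    change (eY u X').hom.app _ ((yoneda.map g).app _ ((eY u X).inv.app _ ((eY u X).hom.app _ (𝟙 (u.obj X))))) = _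
    have t : (eY u X).inv.app (Opposite.op (u.obj X))
        ((eY u X).hom.app (Opposite.op (u.obj X)) (𝟙 (u.obj X))) = 𝟙 (u.obj X) := this
    rw [t]
    rfl
  rw [h4, Category.id_comp] at h3
  have hinj : Function.Injective ((eY u X').hom.app (Opposite.op (u.obj X))) := by
    rw [← mono_iff_injective]
    infer_instance
  exact hinj h3

end Groth.Agent.Lib.Helper14.Lan
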