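import Groth.Agent.Lib.Helper14.Lan2

set_option autoImplicit false
open CategoryTheory CategoryTheory.Limits
universe u

namespace Groth.Agent.Lib.Helper14.Lan

variable {C : Type u} [SmallCategory C] {C' : Type u} [SmallCategory C'] (u : C ⥤ C')

theorem unit_injective_of_faithful [u.Faithful] {G : Cᵒᵖ ⥤ Type u} (hG : IsIndObject G)
    (X : Cᵒᵖ) : Function.Injective ((u.op.lanUnit.app G).app X) := by
  obtain ⟨P⟩ := hG.nonempty_presentation
  intro a b hab
  -- evaluate the presentation at X
  have hc1 : IsColimit (((evaluation Cᵒᵖ (Type u)).obj X).mapCocone P.cocone) :=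
    isColimitOfPreserves _ P.coconeIsColimit
  obtain ⟨i, f, f', rfl, rfl⟩ := Types.FilteredColimit.jointly_surjective_of_isColimit₂ hc1 a b
  -- the colimit after lan and evaluation
  haveI : PreservesColimitsOfSize.{u, u} (u.op.lan : (Cᵒᵖ ⥤ Type u) ⥤ (C'ᵒᵖ ⥤ Type u)) :=
    (u.op.lanAdjunction (Type u)).leftAdjoint_preservesColimits
  have hc2 : IsColimit (((evaluation C'ᵒᵖ (Type u)).obj (Opposite.op (u.obj X.unop))).mapCocone
      (u.op.lan.mapCocone P.cocone)) :=
    isColimitOfPreserves _ (isColimitOfPreserves _ P.coconeIsColimit)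
  -- naturality of the unit
  have hnat : ∀ (j : P.I) (g : X.unop ⟶ P.F.obj j),
      (u.op.lanUnit.app G).app X ((P.ι.app j).app X g) =
        (u.op.lan.map (P.ι.app j)).app (Opposite.op (u.obj X.unop))
          ((u.op.lanUnit.app (yoneda.obj (P.F.obj j))).app X g) := by
    intro j g
    exact ConcreteCategory.congr_hom (NatTrans.congr_app (u.op.lanUnit.naturality (P.ι.app j)) X) g
  have hab' : (u.op.lan.map (P.ι.app i)).app (Opposite.op (u.obj X.unop))
        ((u.op.lanUnit.app (yoneda.obj (P.F.obj i))).app X f) =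
      (u.op.lan.map (P.ι.app i)).app (Opposite.op (u.obj X.unop))
        ((u.op.lanUnit.app (yoneda.obj (P.F.obj i))).app X f') := by
    rw [← hnat, ← hnat]
    exact hab
  obtain ⟨k, t, ht⟩ := (Types.FilteredColimit.isColimit_eq_iff' hc2 _ _).mp hab'
  -- ht : D.map t (unit f) = D.map t (unit f')
  have hnat2 : ∀ (g : X.unop ⟶ P.F.obj i),
      (u.op.lan.map (yoneda.map (P.F.map t))).app (Opposite.op (u.obj X.unop))
        ((u.op.lanUnit.app (yoneda.obj (P.F.obj i))).app X g) =
      (u.op.lanUnit.app (yoneda.obj (P.F.obj k))).app X (g ≫ P.F.map t) := by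
    intro g
    exact (ConcreteCategory.congr_hom (NatTrans.congr_app
      (u.op.lanUnit.naturality (yoneda.map (P.F.map t))) X) g).symm
  have ht' : (u.op.lanUnit.app (yoneda.obj (P.F.obj k))).app X (f ≫ P.F.map t) =
      (u.op.lanUnit.app (yoneda.obj (P.F.obj k))).app X (f' ≫ P.F.map t) := by
    rw [← hnat2, ← hnat2]
    exact ht
  obtain ⟨X⟩ := X
  rw [unit_apply, unit_apply] at ht'
  have hinj : Function.Injective ((eY u (P.F.obj k)).hom.app (Opposite.op (u.obj X))) := by
    rw [← mono_iff_injective]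
    infer_instance
  have h5 : f ≫ P.F.map t = f' ≫ P.F.map t := u.map_injective (hinj ht')
  -- conclude
  have hw : ∀ g : X ⟶ P.F.obj i, (P.ι.app i).app (Opposite.op X) g =
      (P.ι.app k).app (Opposite.op X) (g ≫ P.F.map t) := by
    intro g
    have := ConcreteCategory.congr_hom (NatTrans.congr_app (P.cocone.w t) (Opposite.op X)) g
    exact this.symm
  change (P.ι.app i).app (Opposite.op X) f = (P.ι.app i).app (Opposite.op X) f'
  rw [hw, hw, h5]

end Groth.Agent.Lib.Helper14.Lan
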