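import Groth.Agent.Lib.Helper14.Lan2

set_option autoImplicit false
open CategoryTheory CategoryTheory.Limits
universe u

namespace Groth.Agent.Lib.Helper14.Lan

variable {C : Type u} [SmallCategory C] {C' : Type u} [SmallCategory C'] (u : C ⥤ C')

/-- the element of an object of the category of elements -/
def elt {A' : C'ᵒᵖ ⥤ Type u} (g : CostructuredArrow yoneda (u.op ⋙ A')) :
    A'.obj (Opposite.op (u.obj g.left)) :=
  yonedaEquiv (F := u.op ⋙ A') g.hom

theorem elt_map {A' : C'ᵒᵖ ⥤ Type u} {g g' : CostructuredArrow yoneda (u.op ⋙ A')}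
    (f : g.left ⟶ g'.left) :
    yoneda.map f ≫ g'.hom = g.hom ↔ A'.map (u.map f).op (elt u g') = elt u g := by
  have h1 : A'.map (u.map f).op (elt u g') = yonedaEquiv (F := u.op ⋙ A') (yoneda.map f ≫ g'.hom) :=
    yonedaEquiv_naturality (F := u.op ⋙ A') g'.hom f
  rw [h1]
  constructor
  · intro h
    rw [h]
    rfl
  · intro h
    exact yonedaEquiv.injective h

theorem symm_comp_iff {D : Type u} [SmallCategory D] {A : Dᵒᵖ ⥤ Type u} {X Y : D} (f : X ⟶ Y)
    (a : A.obj (Opposite.op X)) (b : A.obj (Opposite.op Y)) :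
    yoneda.map f ≫ yonedaEquiv.symm b = yonedaEquiv.symm a ↔ A.map f.op b = a := by
  constructor
  · intro h
    have := congrArg yonedaEquiv h
    rw [← yonedaEquiv_naturality, Equiv.apply_symm_apply, Equiv.apply_symm_apply] at this
    exact this
  · intro h
    apply yonedaEquiv.injective
    rw [← yonedaEquiv_naturality, Equiv.apply_symm_apply, Equiv.apply_symm_apply]
    exact h

/-- comparison of categories of elements -/
def elFun (A' : C'ᵒᵖ ⥤ Type u) :
    CostructuredArrow yoneda (u.op ⋙ A') ⥤ CostructuredArrow yoneda A' where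
  obj g := CostructuredArrow.mk (Y := u.obj g.left) (yonedaEquiv.symm (elt u g))
  map {g g'} φ := CostructuredArrow.homMk (u.map φ.left) (by
    apply yonedaEquiv.injective
    dsimp only [CostructuredArrow.mk_hom_eq_self]
    rw [← yonedaEquiv_naturality, Equiv.apply_symm_apply, Equiv.apply_symm_apply]
    exact (elt_map u φ.left).mp (CostructuredArrow.w φ))
  map_id g := by
    apply CostructuredArrow.hom_ext
    simp
  map_comp φ ψ := by
    apply CostructuredArrow.hom_ext
    simp

instance [u.Faithful] (A' : C'ᵒᵖ ⥤ Type u) : (elFun u A').Faithful where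
  map_injective {g g'} φ ψ h := by
    apply CostructuredArrow.hom_ext
    apply u.map_injective
    exact congrArg CommaMorphism.left h

instance [u.Full] (A' : C'ᵒᵖ ⥤ Type u) : (elFun u A').Full where
  map_surjective {g g'} χ := by
    obtain ⟨f, hf⟩ := u.map_surjective χ.left
    refine ⟨CostructuredArrow.homMk f ?_, ?_⟩
    · rw [elt_map, hf]
      exact (symm_comp_iff χ.left (elt u g) (elt u g')).mp (CostructuredArrow.w χ)
    · apply CostructuredArrow.hom_ext
      exact hf

theorem elFun_exists (A' : C'ᵒᵖ ⥤ Type u)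
    (hr : ∀ X' : C', ∃ (X : C) (i : X' ⟶ u.obj X) (r : u.obj X ⟶ X'), i ≫ r = 𝟙 X')
    (d : CostructuredArrow yoneda A') : ∃ c, Nonempty (d ⟶ (elFun u A').obj c) := by
  obtain ⟨X, i, r, hir⟩ := hr d.left
  let a : (u.op ⋙ A').obj (Opposite.op X) := A'.map r.op (yonedaEquiv d.hom)
  let c : CostructuredArrow yoneda (u.op ⋙ A') :=
    CostructuredArrow.mk (Y := X) (yonedaEquiv.symm a)
  have hc : elt u c = A'.map r.op (yonedaEquiv d.hom) := by
    change yonedaEquiv (F := u.op ⋙ A') (yonedaEquiv.symm a) = _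
    rw [Equiv.apply_symm_apply]
  refine ⟨c, ⟨?_⟩⟩
  refine CostructuredArrow.homMk i ?_
  have key : yoneda.map i ≫ yonedaEquiv.symm (elt u c) = yonedaEquiv.symm (yonedaEquiv d.hom) := by
    rw [symm_comp_iff, hc, ← FunctorToTypes.map_comp_apply, ← op_comp, hir]
    simp
  rw [Equiv.symm_apply_apply] at key
  exact key

theorem isIndObject_restrict [u.Full] [u.Faithful] {A' : C'ᵒᵖ ⥤ Type u} (hA : IsIndObject A')
    (hr : ∀ X' : C', ∃ (X : C) (i : X' ⟶ u.obj X) (r : u.obj X ⟶ X'), i ≫ r = 𝟙 X') :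
    IsIndObject (u.op ⋙ A') := by
  rw [isIndObject_iff]
  haveI := hA.isFiltered
  exact ⟨IsFiltered.of_exists_of_isFiltered_of_fullyFaithful (elFun u A') (elFun_exists u A' hr),
    finallySmall_of_essentiallySmall _⟩


theorem isIso_counit [u.Full] [u.Faithful]
    (hr : ∀ X' : C', ∃ (X : C) (i : X' ⟶ u.obj X) (r : u.obj X ⟶ X'), i ≫ r = 𝟙 X')
    (G' : C'ᵒᵖ ⥤ Type u) : IsIso ((u.op.lanAdjunction (Type u)).counit.app G') := by
  set adj := u.op.lanAdjunction (Type u) with hadj
  set ε := adj.counit.app G' with hε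
  haveI : IsIso adj.unit := inferInstance
  -- restriction of ε is iso
  have h1 : IsIso (((Functor.whiskeringLeft Cᵒᵖ C'ᵒᵖ (Type u)).obj u.op).map ε) := by
    have htri := adj.right_triangle_components G'
    haveI : IsIso (adj.unit.app (((Functor.whiskeringLeft Cᵒᵖ C'ᵒᵖ (Type u)).obj u.op).obj G')) :=
      inferInstance
    exact IsIso.of_isIso_fac_left htri
  have h2 : ∀ X : C, Function.Bijective (ε.app (Opposite.op (u.obj X))) := by
    intro X
    rw [← isIso_iff_bijective]
    have : IsIso ((((Functor.whiskeringLeft Cᵒᵖ C'ᵒᵖ (Type u)).obj u.op).map ε).app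
        (Opposite.op X)) := inferInstance
    exact this
  haveI : ∀ Y : C'ᵒᵖ, IsIso (ε.app Y) := by
    intro Y
    obtain ⟨X, i, r, hir⟩ := hr Y.unop
    rw [isIso_iff_bijective]
    have hP : ∀ (P : C'ᵒᵖ ⥤ Type u) (x : P.obj Y), P.map i.op (P.map r.op x) = x := by
      intro P x
      rw [← FunctorToTypes.map_comp_apply, ← op_comp, hir]
      simp
    constructor
    · intro x y hxy
      have h3 : ε.app (Opposite.op (u.obj X)) ((u.op.lan.obj (u.op ⋙ G')).map r.op x) =
          ε.app (Opposite.op (u.obj X)) ((u.op.lan.obj (u.op ⋙ G')).map r.op y) := by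
        have e1 : ε.app (Opposite.op (u.obj X)) ((u.op.lan.obj (u.op ⋙ G')).map r.op x) =
            G'.map r.op (ε.app Y x) := ConcreteCategory.congr_hom (ε.naturality r.op) x
        have e2 : ε.app (Opposite.op (u.obj X)) ((u.op.lan.obj (u.op ⋙ G')).map r.op y) =
            G'.map r.op (ε.app Y y) := ConcreteCategory.congr_hom (ε.naturality r.op) y
        rw [e1, e2, hxy]
      have h4 := (h2 X).1 h3
      have hx := hP (u.op.lan.obj (u.op ⋙ G')) x
      have hy := hP (u.op.lan.obj (u.op ⋙ G')) y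
      rw [← hx, ← hy, h4]
    · intro z
      obtain ⟨w, hw⟩ := (h2 X).2 (G'.map r.op z)
      refine ⟨(u.op.lan.obj (u.op ⋙ G')).map i.op w, ?_⟩
      have e1 : ε.app Y ((u.op.lan.obj (u.op ⋙ G')).map i.op w) =
          G'.map i.op (ε.app (Opposite.op (u.obj X)) w) :=
        ConcreteCategory.congr_hom (ε.naturality i.op) w
      rw [e1, hw]
      exact hP G' z
  exact NatIso.isIso_of_isIso_app ε

theorem exists_retract_of_iso {F : Cᵒᵖ ⥤ Type u} (hF : IsIndObject F) (X' : C')
    (e : (u.op.lan : (Cᵒᵖ ⥤ Type u) ⥤ (C'ᵒᵖ ⥤ Type u)).obj F ≅ yoneda.obj X') :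
    ∃ (X : C) (i : X' ⟶ u.obj X) (r : u.obj X ⟶ X'), i ≫ r = 𝟙 X' := by
  obtain ⟨P⟩ := hF.nonempty_presentation
  haveI : PreservesColimitsOfSize.{u, u} (u.op.lan : (Cᵒᵖ ⥤ Type u) ⥤ (C'ᵒᵖ ⥤ Type u)) :=
    (u.op.lanAdjunction (Type u)).leftAdjoint_preservesColimits
  have hc2 : IsColimit (((evaluation C'ᵒᵖ (Type u)).obj (Opposite.op X')).mapCocone
      (u.op.lan.mapCocone P.cocone)) :=
    isColimitOfPreserves _ (isColimitOfPreserves _ P.coconeIsColimit)
  obtain ⟨j, cj, hcj⟩ := Types.jointly_surjective_of_isColimit hc2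
    (e.inv.app (Opposite.op X') (𝟙 X'))
  have hcj' : (u.op.lan.map (P.ι.app j)).app (Opposite.op X') cj =
      e.inv.app (Opposite.op X') (𝟙 X') := hcj
  let s : X' ⟶ u.obj (P.F.obj j) := (eY u (P.F.obj j)).inv.app (Opposite.op X') cj
  let θ : yoneda.obj (u.obj (P.F.obj j)) ⟶ yoneda.obj X' :=
    (eY u (P.F.obj j)).hom ≫ u.op.lan.map (P.ι.app j) ≫ e.hom
  refine ⟨P.F.obj j, s, Yoneda.fullyFaithful.preimage θ, ?_⟩
  have h1 : (yoneda.map (Yoneda.fullyFaithful.preimage θ)).app (Opposite.op X') s =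
      s ≫ Yoneda.fullyFaithful.preimage θ := rfl
  rw [← h1, Functor.FullyFaithful.map_preimage]
  change e.hom.app _ ((u.op.lan.map (P.ι.app j)).app _ ((eY u (P.F.obj j)).hom.app _
    ((eY u (P.F.obj j)).inv.app (Opposite.op X') cj))) = 𝟙 X'
  have h2 : (eY u (P.F.obj j)).hom.app (Opposite.op X')
      ((eY u (P.F.obj j)).inv.app (Opposite.op X') cj) = cj := by
    have := ConcreteCategory.congr_hom (NatTrans.congr_app (eY u (P.F.obj j)).inv_hom_id
      (Opposite.op X')) cj
    exact this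
  rw [h2, hcj']
  have := ConcreteCategory.congr_hom (NatTrans.congr_app e.inv_hom_id (Opposite.op X')) (𝟙 X')
  exact this

end Groth.Agent.Lib.Helper14.Lan
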