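import Mathlib.CategoryTheory.Sites.Canonical
import Mathlib.CategoryTheory.Adjunction.Reflective
import Mathlib.CategoryTheory.Limits.Preserves.Finite
import Mathlib.CategoryTheory.Limits.Types.Pullbacks
import Mathlib.CategoryTheory.ObjectProperty.FullSubcategory
import Mathlib.CategoryTheory.ObjectProperty.ClosedUnderIsomorphisms

/-!
# Left exact reflective subcategories of presheaves define topologies (helper14)
-/

set_option autoImplicit false

universe u

open CategoryTheory CategoryTheory.Limits Opposite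

namespace Groth.Agent.Lib.Helper14.LexRefl

variable {C : Type u} [SmallCategory C] (P : ObjectProperty (Cᵒᵖ ⥤ Type u))
  [Reflective P.ι]

/-- Objects of `P` are local with respect to the morphisms inverted by the reflector. -/
theorem bijective_comp_of_isIso_map {A B : Cᵒᵖ ⥤ Type u} (g : A ⟶ B)
    [IsIso ((reflector P.ι).map g)] (F : Cᵒᵖ ⥤ Type u) (hF : P F) :
    Function.Bijective (fun ψ : B ⟶ F => g ≫ ψ) := by
  let F' : P.FullSubcategory := ⟨F, hF⟩
  let adj := reflectorAdjunction P.ι
  have key : ∀ ψ : B ⟶ P.ι.obj F', g ≫ ψ =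
      adj.homEquiv A F' ((reflector P.ι).map g ≫ (adj.homEquiv B F').symm ψ) := by
    intro ψ
    rw [Adjunction.homEquiv_naturality_left, Equiv.apply_symm_apply]
  constructor
  · intro ψ₁ ψ₂ h
    have h' : g ≫ (ψ₁ : B ⟶ P.ι.obj F') = g ≫ ψ₂ := h
    rw [key, key] at h'
    have h2 := (adj.homEquiv A F').injective h'
    have h3 := (cancel_epi _).1 h2
    exact (adj.homEquiv B F').symm.injective h3
  · intro φ
    refine ⟨adj.homEquiv B F' (inv ((reflector P.ι).map g) ≫ (adj.homEquiv A F').symm φ), ?_⟩
    change g ≫ (_ : B ⟶ P.ι.obj F') = φ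
    rw [key, Equiv.symm_apply_apply, IsIso.hom_inv_id_assoc, Equiv.apply_symm_apply]

/-- Conversely, a morphism to which every object of `P` is local is inverted. -/
theorem isIso_map_of_bijective_comp {A B : Cᵒᵖ ⥤ Type u} (g : A ⟶ B)
    (h : ∀ F : Cᵒᵖ ⥤ Type u, P F → Function.Bijective (fun ψ : B ⟶ F => g ≫ ψ)) :
    IsIso ((reflector P.ι).map g) := by
  let adj := reflectorAdjunction P.ι
  rw [isIso_iff_coyoneda_map_bijective]
  intro F'
  have hb := h F'.obj F'.property
  have key : ∀ χ : (reflector P.ι).obj B ⟶ F', (reflector P.ι).map g ≫ χ =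
      (adj.homEquiv A F').symm (g ≫ adj.homEquiv B F' χ) := by
    intro χ
    rw [Adjunction.homEquiv_naturality_left_symm, Equiv.symm_apply_apply]
  constructor
  · intro χ₁ χ₂ e
    simp only [key] at e
    exact (adj.homEquiv B F').injective (hb.1 ((adj.homEquiv A F').symm.injective e))
  · intro χ
    obtain ⟨ψ, hψ⟩ := hb.2 (adj.homEquiv A F' χ)
    refine ⟨(adj.homEquiv B F').symm ψ, ?_⟩
    simp only [key, Equiv.apply_symm_apply]
    have : g ≫ ψ = adj.homEquiv A F' χ := hψ
    rw [this, Equiv.symm_apply_apply]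

/-- The topology: the finest one for which all objects of `P` are sheaves. -/
def topology : GrothendieckTopology C := Sheaf.finestTopology {F | P F}

theorem mem_topology_iff {X : C} (S : Sieve X) :
    S ∈ topology P X ↔ ∀ F : Cᵒᵖ ⥤ Type u, P F → ∀ ⦃Y : C⦄ (f : Y ⟶ X),
      Presieve.IsSheafFor F (S.pullback f).arrows := by
  constructor
  · intro h F hF Y f
    have := Sheaf.sheaf_for_finestTopology {F | P F} (P := F) hF
    exact this _ ((topology P).pullback_stable f h)
  · intro h
    exact Sheaf.mem_finestTopology_of_forall_isSheafFor (fun F hF Y f => h F hF f)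

theorem isSheaf_of_mem (F : Cᵒᵖ ⥤ Type u) (hF : P F) : Presieve.IsSheaf (topology P) F :=
  Sheaf.sheaf_for_finestTopology {F | P F} hF

theorem isSheafFor_iff_bijective (F : Cᵒᵖ ⥤ Type u) {X : C} (S : Sieve X) :
    Presieve.IsSheafFor F S.arrows ↔
      Function.Bijective (fun ψ : yoneda.obj X ⟶ F => S.functorInclusion ≫ ψ) := by
  rw [Presieve.isSheafFor_iff_yonedaSheafCondition, Presieve.YonedaSheafCondition,
    Function.bijective_iff_existsUnique]

theorem isIso_map_functorInclusion_of_mem {X : C} (S : Sieve X) (h : S ∈ topology P X) :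
    IsIso ((reflector P.ι).map S.functorInclusion) := by
  apply isIso_map_of_bijective_comp
  intro F hF
  rw [← isSheafFor_iff_bijective]
  have := (mem_topology_iff P S).1 h F hF (𝟙 X)
  rwa [Sieve.pullback_id] at this

end Groth.Agent.Lib.Helper14.LexRefl
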