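import Groth.Agent.Lib.Helper14.LexRefl1
import Mathlib.CategoryTheory.Sites.LocallySurjective

/-!
# Left exact reflective subcategories of presheaves: dense monomorphisms (helper14)
-/

set_option autoImplicit false

universe u

open CategoryTheory CategoryTheory.Limits Opposite

namespace Groth.Agent.Lib.Helper14.LexRefl

variable {C : Type u} [SmallCategory C]

section PB

variable {I B : Cᵒᵖ ⥤ Type u} (m : I ⟶ B)
  (hm : ∀ Y : Cᵒᵖ, Function.Injective (m.app Y)) {X : C} (x : B.obj (op X))

/-- The top map of the pullback square. -/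
noncomputable def imageSieveLift : (Presheaf.imageSieve m x).functor ⟶ I where
  app Y := TypeCat.ofHom (fun f => f.2.choose)
  naturality Y Z k := by
    ext ⟨f, hf⟩
    apply hm
    have h1 := (Presheaf.imageSieve m x).downward_closed hf k.unop
    change m.app Z h1.choose = m.app Z (I.map k hf.choose)
    rw [h1.choose_spec, NatTrans.naturality_apply, hf.choose_spec, op_comp,
      Functor.map_comp_apply]
    rfl

theorem imageSieveLift_spec (Y : Cᵒᵖ) (f : (Presheaf.imageSieve m x).functor.obj Y) :
    m.app Y ((imageSieveLift m hm x).app Y f) = B.map f.1.op x :=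
  f.2.choose_spec

theorem isPullback_imageSieve :
    IsPullback (imageSieveLift m hm x) (Presheaf.imageSieve m x).functorInclusion m
      (yonedaEquiv.symm x) := by
  apply IsPullback.of_forall_isPullback_app
  intro Y
  rw [Types.isPullback_iff]
  refine ⟨?_, ?_, ?_⟩
  · ext f
    exact imageSieveLift_spec m hm x Y f
  · rintro ⟨f, hf⟩ ⟨f', hf'⟩ ⟨-, h2⟩
    exact Subtype.ext h2
  · intro i f hif
    have hf : (Presheaf.imageSieve m x) f := ⟨i, hif⟩
    refine ⟨⟨f, hf⟩, ?_, rfl⟩
    apply hm
    exact (imageSieveLift_spec m hm x Y ⟨f, hf⟩).trans hif.symm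

end PB

variable (P : ObjectProperty (Cᵒᵖ ⥤ Type u)) [Reflective P.ι]
  [PreservesFiniteLimits (reflector P.ι)]

theorem isIso_map_functorInclusion_imageSieve {I B : Cᵒᵖ ⥤ Type u} (m : I ⟶ B)
    (hm : ∀ Y : Cᵒᵖ, Function.Injective (m.app Y)) [IsIso ((reflector P.ι).map m)]
    {X : C} (x : B.obj (op X)) :
    IsIso ((reflector P.ι).map (Presheaf.imageSieve m x).functorInclusion) :=
  ((isPullback_imageSieve m hm x).map (reflector P.ι)).isIso_snd_of_isIso

theorem mem_topology_of_isIso_map_functorInclusion {X : C} (S : Sieve X)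
    (h : ∀ ⦃Y : C⦄ (f : Y ⟶ X), IsIso ((reflector P.ι).map (S.pullback f).functorInclusion)) :
    S ∈ topology P X := by
  rw [mem_topology_iff]
  intro F hF Y f
  rw [isSheafFor_iff_bijective]
  have := h f
  exact bijective_comp_of_isIso_map P _ F hF

theorem imageSieve_mem_topology {I B : Cᵒᵖ ⥤ Type u} (m : I ⟶ B)
    (hm : ∀ Y : Cᵒᵖ, Function.Injective (m.app Y)) [IsIso ((reflector P.ι).map m)]
    {X : C} (x : B.obj (op X)) :
    Presheaf.imageSieve m x ∈ topology P X := by
  apply mem_topology_of_isIso_map_functorInclusion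
  intro Y f
  rw [Presheaf.pullback_imageSieve]
  exact isIso_map_functorInclusion_imageSieve P m hm _

end Groth.Agent.Lib.Helper14.LexRefl
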