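import Groth.Agent.Lib.Helper14.LexRefl2
import Mathlib.CategoryTheory.Sites.LocallyBijective
import Mathlib.CategoryTheory.Sites.LocallyInjective
import Mathlib.CategoryTheory.Limits.Types.Equalizers
import Mathlib.CategoryTheory.Limits.Preserves.Shapes.Equalizers

/-!
# Left exact reflective subcategories of presheaves: sheaves lie in the subcategory (helper14)
-/

set_option autoImplicit false

universe u

open CategoryTheory CategoryTheory.Limits Opposite

namespace Groth.Agent.Lib.Helper14.LexRefl

variable {C : Type u} [SmallCategory C]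

section Eq

variable {F : Cᵒᵖ ⥤ Type u} {X : C} (a a' : F.obj (op X))

/-- The equalizer sieve of two sections, as a sieve on `X`. -/
abbrev eqSieve : Sieve X := Presheaf.equalizerSieve (F := F) (X := op X) a a'

theorem equalizerSieve_w :
    (eqSieve a a').functorInclusion ≫ yonedaEquiv.symm a =
      (eqSieve a a').functorInclusion ≫ yonedaEquiv.symm a' := by
  ext Y ⟨f, hf⟩
  exact hf

/-- The equalizer sieve is the equalizer of the two maps from the representable presheaf. -/
noncomputable def equalizerSieveIsLimit :
    IsLimit (Fork.ofι (eqSieve a a').functorInclusion (equalizerSieve_w a a')) := by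
  apply evaluationJointlyReflectsLimits
  intro Y
  refine (isLimitMapConeForkEquiv ((evaluation _ _).obj Y) (equalizerSieve_w a a')).symm ?_
  apply Nonempty.some
  rw [Types.type_equalizer_iff_unique]
  intro f hf
  refine ⟨⟨f, hf⟩, rfl, ?_⟩
  rintro ⟨f', hf'⟩ h
  exact Subtype.ext h

end Eq

variable (P : ObjectProperty (Cᵒᵖ ⥤ Type u)) [Reflective P.ι]
  [PreservesFiniteLimits (reflector P.ι)]

/-- If `g` is inverted by the reflector and `g a = g a'`, the reflector inverts the inclusion of
the equalizer sieve of `a` and `a'`. -/
theorem isIso_map_functorInclusion_eqSieve {F G : Cᵒᵖ ⥤ Type u} (g : F ⟶ G)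
    [IsIso ((reflector P.ι).map g)] {X : C} (a a' : F.obj (op X))
    (h : g.app (op X) a = g.app (op X) a') :
    IsIso ((reflector P.ι).map (eqSieve a a').functorInclusion) := by
  have h1 : yonedaEquiv.symm a ≫ g = yonedaEquiv.symm a' ≫ g := by
    apply yonedaEquiv.injective
    simpa [yonedaEquiv_comp] using h
  have h2 : (reflector P.ι).map (yonedaEquiv.symm a) =
      (reflector P.ι).map (yonedaEquiv.symm a') := by
    rw [← cancel_mono ((reflector P.ι).map g), ← Functor.map_comp, ← Functor.map_comp, h1]
  have hl := isLimitForkMapOfIsLimit (reflector P.ι) (equalizerSieve_w a a')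
    (equalizerSieveIsLimit a a')
  exact isIso_limit_cone_parallelPair_of_eq h2 hl

theorem eqSieve_mem_topology {F G : Cᵒᵖ ⥤ Type u} (g : F ⟶ G)
    [IsIso ((reflector P.ι).map g)] {X : C} (a a' : F.obj (op X))
    (h : g.app (op X) a = g.app (op X) a') :
    eqSieve a a' ∈ topology P X := by
  apply mem_topology_of_isIso_map_functorInclusion
  intro Y f
  have e : (eqSieve a a').pullback f = eqSieve (F.map f.op a) (F.map f.op a') := by
    ext Z k
    change F.map (k ≫ f).op a = F.map (k ≫ f).op a' ↔
      F.map k.op (F.map f.op a) = F.map k.op (F.map f.op a')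
    rw [op_comp, Functor.map_comp_apply, Functor.map_comp_apply]
  rw [e]
  apply isIso_map_functorInclusion_eqSieve P g
  rw [NatTrans.naturality_apply, NatTrans.naturality_apply, h]

end Groth.Agent.Lib.Helper14.LexRefl
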