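import Groth.Agent.Lib.Helper14.LexRefl3
import Mathlib.CategoryTheory.Sites.Whiskering
import Mathlib.CategoryTheory.Limits.ConcreteCategory.Basic

/-!
# Left exact reflective subcategories of presheaves: the main theorem (helper14)
-/

set_option autoImplicit false

universe u

open CategoryTheory CategoryTheory.Limits Opposite

namespace Groth.Agent.Lib.Helper14.LexRefl

variable {C : Type u} [SmallCategory C]

theorem imageSieve_functorInclusion_id {X : C} (S : Sieve X) :
    Presheaf.imageSieve S.functorInclusion (𝟙 X : (yoneda.obj X).obj (op X)) = S := by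
  ext Y f
  constructor
  · rintro ⟨⟨g, hg⟩, h⟩
    have h' : g = f ≫ 𝟙 X := h
    rw [Category.comp_id] at h'
    subst h'
    exact hg
  · intro hf
    refine ⟨⟨f, hf⟩, ?_⟩
    change f = f ≫ 𝟙 X
    rw [Category.comp_id]

variable (P : ObjectProperty (Cᵒᵖ ⥤ Type u)) [Reflective P.ι]
  [PreservesFiniteLimits (reflector P.ι)]

theorem mem_topology_of_isIso {X : C} (S : Sieve X)
    (h : IsIso ((reflector P.ι).map S.functorInclusion)) : S ∈ topology P X := by
  rw [← imageSieve_functorInclusion_id S]
  apply imageSieve_mem_topology P S.functorInclusion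
  rintro Y ⟨f, hf⟩ ⟨f', hf'⟩ h
  exact Subtype.ext h

theorem mem_topology_iff_isIso {X : C} (S : Sieve X) :
    S ∈ topology P X ↔ IsIso ((reflector P.ι).map S.functorInclusion) :=
  ⟨isIso_map_functorInclusion_of_mem P S, mem_topology_of_isIso P S⟩

instance isIso_map_unit (F : Cᵒᵖ ⥤ Type u) :
    IsIso ((reflector P.ι).map ((reflectorAdjunction P.ι).unit.app F)) := by
  have h := (reflectorAdjunction P.ι).left_triangle_components F
  have : IsIso ((reflector P.ι).map ((reflectorAdjunction P.ι).unit.app F) ≫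
      (reflectorAdjunction P.ι).counit.app ((reflector P.ι).obj F)) := by
    rw [h]; exact IsIso.id _
  exact IsIso.of_isIso_comp_right _ ((reflectorAdjunction P.ι).counit.app ((reflector P.ι).obj F))

theorem isIso_unit_of_isSheaf (F : Cᵒᵖ ⥤ Type u) (hF : Presieve.IsSheaf (topology P) F) :
    IsIso ((reflectorAdjunction P.ι).unit.app F) := by
  set η := (reflectorAdjunction P.ι).unit.app F with hη
  have hG : Presieve.IsSheaf (topology P) (P.ι.obj ((reflector P.ι).obj F)) :=
    isSheaf_of_mem P _ ((reflector P.ι).obj F).property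
  let F₀ : Sheaf (topology P) (Type u) := ⟨F, (isSheaf_iff_isSheaf_of_type _ _).2 hF⟩
  let F₁ : Sheaf (topology P) (Type u) :=
    ⟨P.ι.obj ((reflector P.ι).obj F), (isSheaf_iff_isSheaf_of_type _ _).2 hG⟩
  let φ : F₀ ⟶ F₁ := ObjectProperty.homMk η
  have h1 : Presheaf.IsLocallyInjective (topology P) η :=
    ⟨fun {X} a a' h => eqSieve_mem_topology P η (X := X.unop) a a' h⟩
  have h2 : Presheaf.IsLocallySurjective (topology P) η := by
    have hinj := (Presheaf.isLocallyInjective_iff_injective_of_separated (topology P) η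
      (by exact hF.isSeparated)).1 h1
    exact ⟨fun {X} s => imageSieve_mem_topology P η hinj s⟩
  have h3 : IsIso φ := (Sheaf.isLocallyBijective_iff_isIso (A := Type u) φ).1 ⟨h1, h2⟩
  have h4 : IsIso ((sheafToPresheaf _ _).map φ) := inferInstance
  exact h4

theorem mem_of_isSheaf [P.IsClosedUnderIsomorphisms] (F : Cᵒᵖ ⥤ Type u)
    (hF : Presieve.IsSheaf (topology P) F) : P F := by
  have := isIso_unit_of_isSheaf P F hF
  exact P.prop_of_iso (asIso ((reflectorAdjunction P.ι).unit.app F)).symm
    ((reflector P.ι).obj F).property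

theorem main [P.IsClosedUnderIsomorphisms] :
    ∃ J : GrothendieckTopology C,
      (∀ (X : C) (S : Sieve X), S ∈ J X ↔ IsIso ((reflector P.ι).map S.functorInclusion)) ∧
      ∀ F : Cᵒᵖ ⥤ Type u, P F ↔ Presieve.IsSheaf J F :=
  ⟨topology P, fun _ S => mem_topology_iff_isIso P S,
    fun F => ⟨isSheaf_of_mem P F, mem_of_isSheaf P F⟩⟩

end Groth.Agent.Lib.Helper14.LexRefl
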