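import Groth.Agent.Lib.Helper14.LexRefl4
import Groth.Prelude.Def_SGA4a
import Mathlib.CategoryTheory.EssentialImage
import Mathlib.CategoryTheory.Limits.Preserves.FunctorCategory
import Mathlib.CategoryTheory.Functor.Currying
import Mathlib.CategoryTheory.Sites.Sheafification
import Mathlib.CategoryTheory.Sites.LeftExact
import Mathlib.CategoryTheory.Adjunction.Limits
import Mathlib.CategoryTheory.Adjunction.Whiskering

/-!
# Left exact reflective subcategories of presheaf categories are topoi (helper14)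
-/

set_option autoImplicit false

universe v u

open CategoryTheory CategoryTheory.Limits Opposite

namespace Groth.Agent.Lib.Helper14.LexRefl

theorem isTopos_of_equivalence {E : Type v} [Category.{u} E] {E' : Type*} [Category.{u} E']
    (e : E ≌ E') (h : SGA4.IsTopos E') : SGA4.IsTopos E := by
  obtain ⟨C, _, J, ⟨e'⟩⟩ := h
  exact ⟨C, _, J, ⟨e.trans e'⟩⟩

section A

variable {C : Type u} [SmallCategory C] (P : ObjectProperty (Cᵒᵖ ⥤ Type u))
  [P.IsClosedUnderIsomorphisms] [Reflective P.ι] [PreservesFiniteLimits (reflector P.ι)]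

theorem isTopos_fullSubcategory : SGA4.IsTopos P.FullSubcategory := by
  obtain ⟨J, -, hJ⟩ := main P
  have hP : P = Presheaf.IsSheaf J (A := Type u) := by
    ext F
    rw [hJ F, isSheaf_iff_isSheaf_of_type]
  refine ⟨C, inferInstance, J, ?_⟩
  clear hJ
  subst hP
  exact ⟨CategoryTheory.Equivalence.refl⟩

end A

section B

variable {C : Type u} [SmallCategory C] {A : Type v} [Category.{u} A]
  (Φ : A ⥤ (Cᵒᵖ ⥤ Type u)) [Φ.Full] [Φ.Faithful]
  (L : (Cᵒᵖ ⥤ Type u) ⥤ A) (adj : L ⊣ Φ) [PreservesFiniteLimits L]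

include adj in
theorem isTopos_of_fullyFaithful_of_lex_adjoint : SGA4.IsTopos A := by
  let P := Φ.essImage
  let e : A ≌ P.FullSubcategory := Φ.toEssImage.asEquivalence
  have adj1 : L ⋙ Φ.toEssImage ⊣ e.inverse ⋙ Φ := adj.comp e.toAdjunction
  have iso : e.inverse ⋙ Φ ≅ P.ι :=
    Functor.isoWhiskerLeft e.inverse Φ.toEssImageCompι.symm ≪≫
      (Functor.associator _ _ _).symm ≪≫
      Functor.isoWhiskerRight e.counitIso P.ι ≪≫ Functor.leftUnitor _
  have adj2 : L ⋙ Φ.toEssImage ⊣ P.ι := adj1.ofNatIsoRight iso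
  let _ : Reflective P.ι := { L := L ⋙ Φ.toEssImage, adj := adj2 }
  have : PreservesFiniteLimits (reflector P.ι) := by
    change PreservesFiniteLimits (L ⋙ Φ.toEssImage)
    have : PreservesLimitsOfSize.{0, 0} Φ.toEssImage := inferInstance
    have : PreservesFiniteLimits Φ.toEssImage := PreservesLimitsOfSize.preservesFiniteLimits _
    exact comp_preservesFiniteLimits _ _
  exact isTopos_of_equivalence e (isTopos_fullSubcategory P)

end B

end Groth.Agent.Lib.Helper14.LexRefl

namespace Groth.Agent.Lib.Helper14.LexRefl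

section B'

variable {C : Type u} [SmallCategory C] {A : Type v} [Category.{u} A]
  {B : Type*} [Category.{u} B] (eB : B ≌ (Cᵒᵖ ⥤ Type u))
  (Φ : A ⥤ B) [Φ.Full] [Φ.Faithful] (L : B ⥤ A) (adj : L ⊣ Φ) [PreservesFiniteLimits L]

include adj eB in
theorem isTopos_of_fullyFaithful_of_lex_adjoint' : SGA4.IsTopos A := by
  have : PreservesLimitsOfSize.{0, 0} eB.inverse := inferInstance
  have : PreservesFiniteLimits eB.inverse := PreservesLimitsOfSize.preservesFiniteLimits _
  have : PreservesFiniteLimits (eB.inverse ⋙ L) := comp_preservesFiniteLimits _ _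
  exact isTopos_of_fullyFaithful_of_lex_adjoint (Φ ⋙ eB.functor) (eB.inverse ⋙ L)
    (eB.symm.toAdjunction.comp adj)

end B'

section Fun

variable {C : Type u} [SmallCategory C] (J : GrothendieckTopology C) (D : Type u) [SmallCategory D]

theorem isTopos_functor_sheaf : SGA4.IsTopos (D ⥤ Sheaf J (Type u)) := by
  let eB : (D ⥤ Cᵒᵖ ⥤ Type u) ≌ (((D × Cᵒᵖ)ᵒᵖ)ᵒᵖ ⥤ Type u) :=
    (Functor.currying (C := D) (D := Cᵒᵖ) (E := Type u)).trans
      ((opOpEquivalence (D × Cᵒᵖ)).congrLeft (E := Type u)).symm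
  have : PreservesFiniteLimits
      ((Functor.whiskeringRight D _ _).obj (presheafToSheaf J (Type u))) :=
    ⟨fun I _ _ => inferInstance⟩
  exact isTopos_of_fullyFaithful_of_lex_adjoint' eB
    ((Functor.whiskeringRight D _ _).obj (sheafToPresheaf J (Type u)))
    ((Functor.whiskeringRight D _ _).obj (presheafToSheaf J (Type u)))
    ((sheafificationAdjunction J (Type u)).whiskerRight D)

theorem isTopos_functor {E : Type v} [Category.{u} E] (hE : SGA4.IsTopos E) :
    SGA4.IsTopos (D ⥤ E) := by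
  obtain ⟨C, _, J, ⟨e⟩⟩ := hE
  exact isTopos_of_equivalence (e.congrRight (E := D)) (isTopos_functor_sheaf J D)

end Fun

end Groth.Agent.Lib.Helper14.LexRefl
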