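import Mathlib
import Groth.Prelude.Def_AlgGrp
import Groth.Agent.Lib.Helper14.ActPts

/-!
# helper14: trivial torsor square and local fpqc descent of a morphism property
-/

set_option autoImplicit false
universe u
open CategoryTheory CategoryTheory.Limits AlgebraicGeometry MorphismProperty
open MonoidalCategory CartesianMonoidalCategory MonObj GrpObj

namespace Groth.Agent.Lib.Helper14.LocIsotriv

section Cart

variable {C : Type*} [Category C] [CartesianMonoidalCategory C] (G : C) [GrpObj G] (U : C)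

/-- the action of `G` on the trivial bundle `U ⊗ G`: `(g, (u, h)) ↦ (u, g h)` -/
noncomputable def mT : G ⊗ (U ⊗ G) ⟶ U ⊗ G :=
  lift (snd G (U ⊗ G) ≫ fst U G) (lift (fst G (U ⊗ G)) (snd G (U ⊗ G) ≫ snd U G) ≫ μ[G])

theorem mT_fst : mT G U ≫ fst U G = snd G (U ⊗ G) ≫ fst U G := lift_fst _ _

theorem mT_snd : mT G U ≫ snd U G =
    lift (fst G (U ⊗ G)) (snd G (U ⊗ G) ≫ snd U G) ≫ μ[G] := lift_snd _ _

theorem comp_mT {W : C} (l : W ⟶ G ⊗ (U ⊗ G)) :
    l ≫ mT G U = lift (l ≫ snd _ _ ≫ fst U G) ((l ≫ fst _ _) * (l ≫ snd _ _ ≫ snd U G)) := by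
  apply CartesianMonoidalCategory.hom_ext
  · rw [Category.assoc, mT_fst, lift_fst]
  · rw [Category.assoc, mT_snd, lift_snd, Hom.mul_def, ← Category.assoc, comp_lift]

/-- the trivial bundle is a torsor -/
theorem isPullback_mT : IsPullback (mT G U) (snd G (U ⊗ G)) (fst U G) (fst U G) := by
  refine ⟨⟨mT_fst G U⟩, ⟨PullbackCone.IsLimit.mk _
    (fun s => lift ((s.fst ≫ snd U G) * (s.snd ≫ snd U G)⁻¹) s.snd)
    (fun s => ?_) (fun s => ?_) (fun s m hm1 hm2 => ?_)⟩⟩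
  · rw [comp_mT]
    apply CartesianMonoidalCategory.hom_ext
    · rw [lift_fst, lift_snd_assoc]
      exact s.condition.symm
    · rw [lift_snd, lift_fst, lift_snd_assoc, inv_mul_cancel_right]
  · exact lift_snd _ _
  · apply CartesianMonoidalCategory.hom_ext
    · rw [lift_fst]
      have h : (m ≫ mT G U) ≫ snd U G = s.fst ≫ snd U G := by rw [hm1]
      rw [comp_mT, lift_snd, ← Category.assoc m, hm2] at h
      rw [← h, mul_inv_cancel_right]
    · rw [lift_snd]; exact hm2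

end Cart

section Over

variable {S : Scheme.{u}} {G P : Over S} [GrpObj G] (a : AlgGrp.Action G P)

/-- the trivialization map `(u, h) ↦ h · s(u)` -/
noncomputable def rho {Uo : Over S} (s : Uo ⟶ P) : Uo ⊗ G ⟶ P :=
  lift (snd Uo G) (fst Uo G ≫ s) ≫ a.act

theorem mT_rho {Uo : Over S} (s : Uo ⟶ P) :
    mT G Uo ≫ rho a s = (G ◁ rho a s) ≫ a.act := by
  have h1 : mT G Uo ≫ rho a s =
      lift ((fst G (Uo ⊗ G)) * (snd G (Uo ⊗ G) ≫ snd Uo G))
        (snd G (Uo ⊗ G) ≫ fst Uo G ≫ s) ≫ a.act := by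
    rw [rho, ← Category.assoc, comp_lift, ← Category.assoc, mT_fst, mT_snd, Hom.mul_def,
      Category.assoc]
  have h2 : (G ◁ rho a s) = lift (fst G (Uo ⊗ G))
      (lift (snd G (Uo ⊗ G) ≫ snd Uo G) (snd G (Uo ⊗ G) ≫ fst Uo G ≫ s) ≫ a.act) := by
    apply CartesianMonoidalCategory.hom_ext
    · simp
    · rw [whiskerLeft_snd, lift_snd, rho, ← Category.assoc, comp_lift]
  rw [h1, h2, Groth.Agent.Lib.Helper14.ActPts.act_mul_pt]

end Over

/-- preimage points in an arbitrary pullback square -/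
theorem exists_preimage_of_isPullback {W X Y Z : Scheme.{u}} {p₁ : W ⟶ X} {p₂ : W ⟶ Y}
    {f : X ⟶ Z} {g : Y ⟶ Z} (h : IsPullback p₁ p₂ f g) (x : X) (y : Y) (hxy : f x = g y) :
    ∃ w : W, p₁ w = x ∧ p₂ w = y := by
  obtain ⟨z, hz1, hz2⟩ := Scheme.Pullback.exists_preimage_pullback (f := f) (g := g) x y hxy
  refine ⟨h.isoPullback.inv z, ?_, ?_⟩
  · rw [← Scheme.Hom.comp_apply, h.isoPullback_inv_fst, hz1]
  · rw [← Scheme.Hom.comp_apply, h.isoPullback_inv_snd, hz2]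

/-- local fpqc descent of a Zariski-local property -/
theorem descend_local (P : MorphismProperty Scheme.{u}) [IsZariskiLocalAtTarget P]
    [P.DescendsAlong (@Surjective ⊓ @Flat ⊓ @QuasiCompact)]
    {A B : Scheme.{u}} (f : A ⟶ B)
    (H : ∀ b : B, ∃ (V : B.Opens) (_ : b ∈ V) (A' B' : Scheme.{u}) (a' : A' ⟶ A) (f' : A' ⟶ B')
      (b'₀ : B' ⟶ B), IsPullback a' f' f b'₀ ∧ Flat b'₀ ∧ QuasiCompact b'₀ ∧
        Set.range b'₀ = (V : Set B) ∧ P f') : P f := by
  refine IsZariskiLocalAtTarget.of_forall_exists_morphismRestrict (P := P) fun b => ?_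
  obtain ⟨V, hbV, A', B', a', f', b'₀, hsq, hfl, hqc, hrange, hP⟩ := H b
  refine ⟨V, hbV, ?_⟩
  have hsub : Set.range b'₀ ⊆ Set.range V.ι := by
    rw [Scheme.Opens.range_ι, hrange]
  let b' : B' ⟶ V := IsOpenImmersion.lift V.ι b'₀ hsub
  have hb' : b' ≫ V.ι = b'₀ := IsOpenImmersion.lift_fac _ _ _
  have hsub' : Set.range a' ⊆ Set.range (f ⁻¹ᵁ V).ι := by
    rintro _ ⟨z, rfl⟩
    rw [Scheme.Opens.range_ι]
    show f (a' z) ∈ V
    rw [← Scheme.Hom.comp_apply, hsq.w, Scheme.Hom.comp_apply]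
    have : b'₀ (f' z) ∈ Set.range b'₀ := ⟨_, rfl⟩
    rw [hrange] at this
    exact this
  let a'' : A' ⟶ f ⁻¹ᵁ V := IsOpenImmersion.lift (f ⁻¹ᵁ V).ι a' hsub'
  have ha'' : a'' ≫ (f ⁻¹ᵁ V).ι = a' := IsOpenImmersion.lift_fac _ _ _
  have hcomm : a'' ≫ (f ∣_ V) = f' ≫ b' := by
    rw [← cancel_mono V.ι, Category.assoc, Category.assoc, hb',
      (isPullback_morphismRestrict f V).w, reassoc_of% ha'', hsq.w]
  have hsq' : IsPullback a'' f' (f ∣_ V) b' := by
    refine IsPullback.of_right ?_ hcomm (isPullback_morphismRestrict f V).flip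
    rw [ha'', hb']
    exact hsq
  have hQ : (@Surjective ⊓ @Flat ⊓ @QuasiCompact : MorphismProperty Scheme.{u}) b' := by
    refine ⟨⟨⟨fun v => ?_⟩, ?_⟩, ?_⟩
    · have : V.ι v ∈ Set.range b'₀ := by
        rw [hrange, ← Scheme.Opens.range_ι]; exact ⟨v, rfl⟩
      obtain ⟨z, hz⟩ := this
      refine ⟨z, ?_⟩
      apply V.ι.injective
      rw [← Scheme.Hom.comp_apply, hb', hz]
    · exact MorphismProperty.of_postcomp (W := @Flat) (W' := @IsOpenImmersion) b' V.ι
        inferInstance (by rw [hb']; exact hfl)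
    · exact MorphismProperty.of_postcomp (W := @QuasiCompact) (W' := @IsOpenImmersion) b' V.ι
        inferInstance (by rw [hb']; exact hqc)
  exact MorphismProperty.of_isPullback_of_descendsAlong (P := P)
    (Q := (@Surjective ⊓ @Flat ⊓ @QuasiCompact : MorphismProperty Scheme.{u})) hsq'.flip hQ hP

end Groth.Agent.Lib.Helper14.LocIsotriv
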