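import Mathlib

/-!
# Restriction maps `Hom_S(Z, N) → Hom_U(Z|U, N|U)` in terms of `pullback.fst`
-/

set_option autoImplicit false

namespace Groth.Agent.Lib.Helper14.Neron

open CategoryTheory Limits

universe v u

variable {C : Type u} [Category.{v} C] {S U : C} (j : U ⟶ S) [HasPullbacksAlong j]

theorem pullback_map_left_fst {Z N : Over S} (g : Z ⟶ N) :
    ((Over.pullback j).map g).left ≫ pullback.fst N.hom j = pullback.fst Z.hom j ≫ g.left := by
  simp only [Over.pullback_map_left]
  rw [pullback.lift_fst]

theorem pullback_map_left_snd {Z N : Over S} (g : Z ⟶ N) :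
    ((Over.pullback j).map g).left ≫ pullback.snd N.hom j = pullback.snd Z.hom j := by
  simp only [Over.pullback_map_left]
  rw [pullback.lift_snd]

theorem pullback_map_eq_iff (Z N : Over S) (g g' : Z ⟶ N) :
    (Over.pullback j).map g = (Over.pullback j).map g' ↔
      pullback.fst Z.hom j ≫ g.left = pullback.fst Z.hom j ≫ g'.left := by
  constructor
  · intro h
    rw [← pullback_map_left_fst, ← pullback_map_left_fst, h]
  · intro h
    ext
    apply pullback.hom_ext
    · rw [pullback_map_left_fst, pullback_map_left_fst, h]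
    · rw [pullback_map_left_snd, pullback_map_left_snd]

theorem injective_iff (Z N : Over S) :
    Function.Injective (fun g : Z ⟶ N => (Over.pullback j).map g) ↔
      ∀ g g' : Z ⟶ N, pullback.fst Z.hom j ≫ g.left = pullback.fst Z.hom j ≫ g'.left → g = g' := by
  constructor
  · intro h g g' e
    exact h ((pullback_map_eq_iff j Z N g g').2 e)
  · intro h g g' e
    exact h g g' ((pullback_map_eq_iff j Z N g g').1 e)

theorem surjective_iff (Z N : Over S) :
    Function.Surjective (fun g : Z ⟶ N => (Over.pullback j).map g) ↔
      ∀ h : pullback Z.hom j ⟶ N.left, h ≫ N.hom = pullback.fst Z.hom j ≫ Z.hom →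
        ∃ g : Z ⟶ N, pullback.fst Z.hom j ≫ g.left = h := by
  constructor
  · intro hs h hh
    have hc : h ≫ N.hom = pullback.snd Z.hom j ≫ j := by rw [hh, pullback.condition]
    obtain ⟨g, hg⟩ := hs (Over.homMk (pullback.lift h (pullback.snd Z.hom j) hc) (by
      simp only [Over.pullback_obj_hom, Over.pullback_obj_left]
      rw [pullback.lift_snd]))
    refine ⟨g, ?_⟩
    have h1 := congrArg (fun t => t.left ≫ pullback.fst N.hom j) hg
    simp only [Over.homMk_left] at h1
    rw [pullback_map_left_fst, pullback.lift_fst] at h1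
    exact h1
  · intro hs h'
    have hw : h'.left ≫ pullback.snd N.hom j = pullback.snd Z.hom j := by
      simpa using Over.w h'
    obtain ⟨g, hg⟩ := hs (h'.left ≫ pullback.fst N.hom j) (by
      rw [Category.assoc, pullback.condition, ← Category.assoc, hw, pullback.condition])
    refine ⟨g, ?_⟩
    ext
    apply pullback.hom_ext
    · rw [pullback_map_left_fst, hg]
    · rw [pullback_map_left_snd, hw]

theorem bijective_iff (Z N : Over S) :
    Function.Bijective (fun g : Z ⟶ N => (Over.pullback j).map g) ↔
      (∀ g g' : Z ⟶ N, pullback.fst Z.hom j ≫ g.left = pullback.fst Z.hom j ≫ g'.left → g = g') ∧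
      (∀ h : pullback Z.hom j ⟶ N.left, h ≫ N.hom = pullback.fst Z.hom j ≫ Z.hom →
        ∃ g : Z ⟶ N, pullback.fst Z.hom j ≫ g.left = h) := by
  rw [Function.Bijective, injective_iff, surjective_iff]

end Groth.Agent.Lib.Helper14.Neron
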