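import Mathlib
import Groth.Agent.Lib.Helper14.Neron1

/-!
# Comparing restrictions to nested opens
-/

set_option autoImplicit false

namespace Groth.Agent.Lib.Helper14.Neron

open CategoryTheory Limits AlgebraicGeometry

universe u

variable {S : Scheme.{u}} (S₀ S₁ : S.Opens) (Z : Over S)

theorem range_fst_fst (h01 : S₀ ≤ S₁) :
    Set.range (pullback.fst (pullback.snd Z.hom S₁.ι) (S₁.ι ⁻¹ᵁ S₀).ι ≫ pullback.fst Z.hom S₁.ι) =
      Set.range (pullback.fst Z.hom S₀.ι) := by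
  rw [Scheme.Pullback.range_fst, Scheme.Opens.range_ι]
  have hc : ∀ w, Z.hom (pullback.fst Z.hom S₁.ι w) = S₁.ι (pullback.snd Z.hom S₁.ι w) := by
    intro w
    rw [← Scheme.Hom.comp_apply, ← Scheme.Hom.comp_apply, pullback.condition]
  ext x
  constructor
  · rintro ⟨w', rfl⟩
    have hw : pullback.fst (pullback.snd Z.hom S₁.ι) (S₁.ι ⁻¹ᵁ S₀).ι w' ∈
        Set.range (pullback.fst (pullback.snd Z.hom S₁.ι) (S₁.ι ⁻¹ᵁ S₀).ι) := ⟨w', rfl⟩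
    rw [Scheme.Pullback.range_fst, Scheme.Opens.range_ι] at hw
    change Z.hom _ ∈ S₀
    rw [Scheme.Hom.comp_apply, hc]
    exact hw
  · intro hx
    have hx' : Z.hom x ∈ S₀ := hx
    have h1 : x ∈ Set.range (pullback.fst Z.hom S₁.ι) := by
      rw [Scheme.Pullback.range_fst, Scheme.Opens.range_ι]
      exact h01 hx'
    obtain ⟨w, rfl⟩ := h1
    have h2 : w ∈ Set.range (pullback.fst (pullback.snd Z.hom S₁.ι) (S₁.ι ⁻¹ᵁ S₀).ι) := by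
      rw [Scheme.Pullback.range_fst, Scheme.Opens.range_ι]
      change S₁.ι (pullback.snd Z.hom S₁.ι w) ∈ S₀
      rw [← hc]
      exact hx'
    obtain ⟨w', rfl⟩ := h2
    exact ⟨w', by rw [Scheme.Hom.comp_apply]⟩

/-- comparison iso `(Z|S₁)|S₀' ≅ Z|S₀` -/
noncomputable def theta (h01 : S₀ ≤ S₁) :
    pullback (pullback.snd Z.hom S₁.ι) (S₁.ι ⁻¹ᵁ S₀).ι ≅ pullback Z.hom S₀.ι :=
  IsOpenImmersion.isoOfRangeEq _ _ (range_fst_fst S₀ S₁ Z h01)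

@[reassoc]
theorem theta_hom_fst (h01 : S₀ ≤ S₁) :
    (theta S₀ S₁ Z h01).hom ≫ pullback.fst Z.hom S₀.ι =
      pullback.fst (pullback.snd Z.hom S₁.ι) (S₁.ι ⁻¹ᵁ S₀).ι ≫ pullback.fst Z.hom S₁.ι :=
  IsOpenImmersion.isoOfRangeEq_hom_fac _ _ _

@[reassoc]
theorem theta_inv_fst (h01 : S₀ ≤ S₁) :
    (theta S₀ S₁ Z h01).inv ≫ pullback.fst (pullback.snd Z.hom S₁.ι) (S₁.ι ⁻¹ᵁ S₀).ι ≫
      pullback.fst Z.hom S₁.ι = pullback.fst Z.hom S₀.ι :=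
  IsOpenImmersion.isoOfRangeEq_inv_fac _ _ _

theorem range_fst_le (h01 : S₀ ≤ S₁) :
    Set.range (pullback.fst Z.hom S₀.ι) ⊆ Set.range (pullback.fst Z.hom S₁.ι) := by
  rw [Scheme.Pullback.range_fst, Scheme.Pullback.range_fst, Scheme.Opens.range_ι,
    Scheme.Opens.range_ι]
  intro x hx
  exact h01 hx

/-- `Z|S₀ ⟶ Z|S₁` -/
noncomputable def psi (h01 : S₀ ≤ S₁) : pullback Z.hom S₀.ι ⟶ pullback Z.hom S₁.ι :=
  IsOpenImmersion.lift _ _ (range_fst_le S₀ S₁ Z h01)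

@[reassoc]
theorem psi_fst (h01 : S₀ ≤ S₁) :
    psi S₀ S₁ Z h01 ≫ pullback.fst Z.hom S₁.ι = pullback.fst Z.hom S₀.ι :=
  IsOpenImmersion.lift_fac _ _ _

theorem fst_eq_theta_psi (h01 : S₀ ≤ S₁) :
    pullback.fst (pullback.snd Z.hom S₁.ι) (S₁.ι ⁻¹ᵁ S₀).ι =
      (theta S₀ S₁ Z h01).hom ≫ psi S₀ S₁ Z h01 := by
  rw [← cancel_mono (pullback.fst Z.hom S₁.ι), Category.assoc, psi_fst, theta_hom_fst]

end Groth.Agent.Lib.Helper14.Neron
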