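import Mathlib
import Groth.Agent.Lib.Helper14.Neron1

/-!
# Restriction to an open and change of base along `f : S ⟶ T`
-/

set_option autoImplicit false

namespace Groth.Agent.Lib.Helper14.Neron

open CategoryTheory Limits AlgebraicGeometry

universe u

theorem smooth_of_comp_etale {X Y Z : Scheme.{u}} (f : X ⟶ Y) (g : Y ⟶ Z) [Etale g]
    [Smooth (f ≫ g)] : Smooth f := by
  have hm : MorphismProperty.IsMultiplicative @Smooth :=
    { id_mem := fun X => inferInstanceAs (Smooth (𝟙 X))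
      comp_mem := fun f g hf hg => by
        have : Smooth f := hf
        have : Smooth g := hg
        exact inferInstanceAs (Smooth (f ≫ g)) }
  have : MorphismProperty.HasOfPostcompProperty @Smooth
      (@LocallyOfFiniteType ⊓ @FormallyUnramified) := by
    rw [MorphismProperty.hasOfPostcompProperty_iff_le_diagonal]
    intro X Y f ⟨hft, hfu⟩
    exact inferInstanceAs <| Smooth (pullback.diagonal f)
  exact MorphismProperty.of_postcomp (W := @Smooth)
    (W' := @LocallyOfFiniteType ⊓ @FormallyUnramified) f g ⟨inferInstance, inferInstance⟩ ‹_›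

variable {T S Z : Scheme.{u}} (T₀ : T.Opens) (f : S ⟶ T) (a : Z ⟶ S) (z : Z ⟶ T)

theorem range_fst_preimage (haz : a ≫ f = z) :
    Set.range (pullback.fst a (f ⁻¹ᵁ T₀).ι) = Set.range (pullback.fst z T₀.ι) := by
  rw [Scheme.Pullback.range_fst, Scheme.Pullback.range_fst, Scheme.Opens.range_ι,
    Scheme.Opens.range_ι]
  ext x
  change f (a x) ∈ T₀ ↔ z x ∈ T₀
  rw [← haz, Scheme.Hom.comp_apply]

/-- comparison iso `a⁻¹(f⁻¹ T₀) ≅ z⁻¹(T₀)` -/
noncomputable def theta' (haz : a ≫ f = z) :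
    pullback a (f ⁻¹ᵁ T₀).ι ≅ pullback z T₀.ι :=
  IsOpenImmersion.isoOfRangeEq _ _ (range_fst_preimage T₀ f a z haz)

@[reassoc]
theorem theta'_hom_fst (haz : a ≫ f = z) :
    (theta' T₀ f a z haz).hom ≫ pullback.fst z T₀.ι = pullback.fst a (f ⁻¹ᵁ T₀).ι :=
  IsOpenImmersion.isoOfRangeEq_hom_fac _ _ _

@[reassoc]
theorem theta'_inv_fst (haz : a ≫ f = z) :
    (theta' T₀ f a z haz).inv ≫ pullback.fst a (f ⁻¹ᵁ T₀).ι = pullback.fst z T₀.ι :=
  IsOpenImmersion.isoOfRangeEq_inv_fac _ _ _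

end Groth.Agent.Lib.Helper14.Neron
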