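import Mathlib
import Groth.Prelude.Def_AlgGrp
import Groth.Prelude.Def_Red
import Groth.Agent.Lib.Helper14.BCAct
import Groth.Agent.Lib.Helper14.RatPtGeomConn

/-!
# helper14: open subgroup schemes of group schemes over a field are closed; a connected open
subgroup is characteristic (stable under endomorphisms of every base change)

* `exists_lift_of_range_subset`: lifting through an open immersion in `Over S`.
* `range_subset_of_mul`, `mem_of_mem_of_div_mem`: points of an open subgroup are stable under
  multiplication.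
* `isClosed_range_of_isOpenImmersion`: an open subgroup scheme of a group scheme over a field is
  closed (no finiteness hypotheses).
* `exists_lift_of_hom`: a connected open subgroup of a group scheme over a field is stable under
  every group endomorphism of every base change.
-/

set_option autoImplicit false
set_option linter.style.haveILetI false
universe u
open CategoryTheory MonoidalCategory CartesianMonoidalCategory MonObj GrpObj AlgebraicGeometry
  CategoryTheory.Limits

namespace Groth.Agent.Lib.Helper14.NeutralChar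

open Groth.Agent.Lib.Helper14.BCAct

section general

variable {S : Scheme.{u}}

/-- lifting through an open immersion in `Over S` -/
theorem exists_lift_of_range_subset {G₀ G Q : Over S} (i₀ : G₀ ⟶ G) [IsOpenImmersion i₀.left]
    (a : Q ⟶ G) (h : Set.range a.left.base ⊆ Set.range i₀.left.base) :
    ∃ a' : Q ⟶ G₀, a' ≫ i₀ = a := by
  refine ⟨Over.homMk (IsOpenImmersion.lift i₀.left a.left h) ?_, ?_⟩
  · rw [← Over.w i₀, IsOpenImmersion.lift_fac_assoc, Over.w a]
  · ext
    simp [IsOpenImmersion.lift_fac]

variable {G₀ G : Over S} [GrpObj G] [GrpObj G₀] (i₀ : G₀ ⟶ G) [IsMonHom i₀]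
  [IsOpenImmersion i₀.left]

theorem range_subset_of_mul {Q : Over S} (a b : Q ⟶ G)
    (ha : Set.range a.left.base ⊆ Set.range i₀.left.base)
    (hab : Set.range (a⁻¹ * b).left.base ⊆ Set.range i₀.left.base) :
    Set.range b.left.base ⊆ Set.range i₀.left.base := by
  obtain ⟨a', rfl⟩ := exists_lift_of_range_subset i₀ a ha
  obtain ⟨c', hc'⟩ := exists_lift_of_range_subset i₀ _ hab
  have : b = (a' * c') ≫ i₀ := by
    rw [MonObj.mul_comp, hc', mul_inv_cancel_left]
  rw [this, Over.comp_left]
  rintro _ ⟨q, rfl⟩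
  exact ⟨(a' * c').left.base q, rfl⟩

theorem mem_of_mem_of_div_mem {P : Over S} (a b : P ⟶ G) (p : P.left)
    (h1 : a.left.base p ∈ Set.range i₀.left.base)
    (h2 : (a⁻¹ * b).left.base p ∈ Set.range i₀.left.base) :
    b.left.base p ∈ Set.range i₀.left.base := by
  let Q : Over S := Over.mk (P.left.fromSpecResidueField p ≫ P.hom)
  let ζ : Q ⟶ P := Over.homMk (P.left.fromSpecResidueField p) rfl
  have hζ : ∀ q : Q.left, ζ.left.base q = p := fun q =>
    Scheme.fromSpecResidueField_apply p q
  have key := range_subset_of_mul i₀ (ζ ≫ a) (ζ ≫ b) ?_ ?_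
  · have := key ⟨IsLocalRing.closedPoint _, rfl⟩
    rwa [Over.comp_left, Scheme.Hom.comp_apply, hζ] at this
  · rintro _ ⟨q, rfl⟩
    rw [Over.comp_left, Scheme.Hom.comp_apply, hζ]
    exact h1
  · rintro _ ⟨q, rfl⟩
    rw [← GrpObj.comp_inv, ← MonObj.comp_mul, Over.comp_left, Scheme.Hom.comp_apply, hζ]
    exact h2

end general

section field

variable (k : Type u) [Field k]

/-- an open subgroup scheme of a group scheme over a field is closed -/
theorem isClosed_range_of_isOpenImmersion (G₀ G : Over (Spec (CommRingCat.of k))) [GrpObj G]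
    [GrpObj G₀] (i₀ : G₀ ⟶ G) [IsMonHom i₀] [IsOpenImmersion i₀.left] :
    IsClosed (Set.range i₀.left.base) := by
  rw [← closure_subset_iff_isClosed]
  intro x hx
  have hUo : IsOpen (Set.range i₀.left.base) := i₀.left.isOpenEmbedding.isOpen_range
  let ξ : Spec (G.left.residueField x) ⟶ Spec (CommRingCat.of k) :=
    G.left.fromSpecResidueField x ≫ G.hom
  let P : Over (Spec (CommRingCat.of k)) := Over.mk (pullback.fst G.hom ξ ≫ G.hom)
  let a : P ⟶ G := Over.homMk (pullback.fst G.hom ξ) rfl
  let b : P ⟶ G := Over.homMk (pullback.snd G.hom ξ ≫ G.left.fromSpecResidueField x)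
    (by simp [P, ξ, pullback.condition])
  let c : P ⟶ G := a⁻¹ * b
  let D' : Set P.left := c.left.base ⁻¹' Set.range i₀.left.base
  have hD'o : IsOpen D' := hUo.preimage c.left.continuous
  -- the diagonal point
  let X' : Over (Spec (CommRingCat.of k)) := Over.mk ξ
  let σ : X' ⟶ P := Over.homMk
    (pullback.lift (G.left.fromSpecResidueField x) (𝟙 _) (by simp [ξ]))
    (by
      show pullback.lift _ _ _ ≫ pullback.fst G.hom ξ ≫ G.hom = ξ
      rw [pullback.lift_fst_assoc])
  have hσa1 : (σ ≫ a).left = G.left.fromSpecResidueField x := by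
    show pullback.lift _ _ _ ≫ pullback.fst G.hom ξ = _
    rw [pullback.lift_fst]
  have hσa : σ ≫ a = σ ≫ b := by
    ext1
    rw [hσa1]
    show _ = pullback.lift _ _ _ ≫ pullback.snd G.hom ξ ≫ G.left.fromSpecResidueField x
    rw [pullback.lift_snd_assoc]
    exact (Category.id_comp _).symm
  have hσc : σ ≫ c = 1 := by
    rw [MonObj.comp_mul, GrpObj.comp_inv, hσa, inv_mul_cancel]
  let p₀ : P.left := σ.left.base (IsLocalRing.closedPoint _)
  have hp₀ : p₀ ∈ D' := by
    show c.left.base (σ.left.base _) ∈ Set.range i₀.left.base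
    rw [← Scheme.Hom.comp_apply, ← Over.comp_left, hσc]
    have : (1 : X' ⟶ G) = (1 : X' ⟶ G₀) ≫ i₀ := (MonObj.one_comp i₀).symm
    rw [this, Over.comp_left]
    exact ⟨_, rfl⟩
  have hap₀ : a.left.base p₀ = x := by
    show a.left.base (σ.left.base _) = x
    rw [← Scheme.Hom.comp_apply, ← Over.comp_left]
    rw [hσa1]
    exact Scheme.fromSpecResidueField_apply x _
  have hopen : IsOpenMap a.left.base := (pullback.fst G.hom ξ).isOpenMap
  have hnb : a.left.base '' D' ∈ nhds x :=
    (hopen _ hD'o).mem_nhds ⟨p₀, hp₀, hap₀⟩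
  obtain ⟨_, ⟨p, hpD, rfl⟩, hpU⟩ := mem_closure_iff_nhds.mp hx _ hnb
  have hb := mem_of_mem_of_div_mem i₀ a b p hpU hpD
  have hbx : b.left.base p = x := by
    show (pullback.snd G.hom ξ ≫ G.left.fromSpecResidueField x).base p = x
    rw [Scheme.Hom.comp_apply]
    exact Scheme.fromSpecResidueField_apply x _
  rw [hbx] at hb
  exact hb

/-- a connected open subgroup of a group scheme over a field is stable under all group
endomorphisms of all base changes -/
theorem exists_lift_of_hom (G G₀ : Over (Spec (CommRingCat.of k))) [GrpObj G] [GrpObj G₀]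
    (i₀ : G₀ ⟶ G) [IsMonHom i₀] [IsOpenImmersion i₀.left] [ConnectedSpace G₀.left]
    {T : Scheme.{u}} (f : T ⟶ Spec (CommRingCat.of k))
    (α : Red.bc f G ⟶ Red.bc f G) [IsMonHom α] :
    ∃ β : Red.bc f G₀ ⟶ Red.bc f G₀,
      β ≫ (Over.pullback f).map i₀ = (Over.pullback f).map i₀ ≫ α := by
  set j : Red.bc f G₀ ⟶ Red.bc f G := (Over.pullback f).map i₀ with hj
  haveI : IsOpenImmersion j.left :=
    MorphismProperty.of_isPullback (P := @IsOpenImmersion) (isPullback_map_left f i₀) inferInstance
  apply exists_lift_of_range_subset j (j ≫ α)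
  have hZ : Set.range j.left.base = (prL f G).base ⁻¹' Set.range i₀.left.base := by
    have := Scheme.image_preimage_eq_of_isPullback (isPullback_map_left f i₀) Set.univ
    rw [Set.preimage_univ, Set.image_univ, Set.image_univ] at this
    exact this
  have hZclopen : IsClopen (Set.range j.left.base) := by
    rw [hZ]
    exact ⟨(isClosed_range_of_isOpenImmersion k G₀ G i₀).preimage (prL f G).continuous,
      i₀.left.isOpenEmbedding.isOpen_range.preimage (prL f G).continuous⟩
  rintro _ ⟨y, rfl⟩
  haveI : GeometricallyConnected G₀.hom :=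
    Groth.Agent.Lib.Helper14.RatPtGeomConn.geometricallyConnected_of_section G₀ η[G₀]
  haveI : GeometricallyConnected (Red.bc f G₀).hom :=
    inferInstanceAs (GeometricallyConnected (pullback.snd G₀.hom f))
  set t := (Red.bc f G₀).hom.base y with ht
  have hF : _root_.IsConnected ((Red.bc f G₀).hom.base ⁻¹' {t}) :=
    (Red.bc f G₀).hom.isConnected_preimage_singleton t
  have himg : _root_.IsPreconnected ((j ≫ α).left.base '' ((Red.bc f G₀).hom.base ⁻¹' {t})) :=
    hF.isPreconnected.image _ (j ≫ α).left.continuous.continuousOn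
  refine himg.subset_isClopen hZclopen ?_ ⟨y, rfl, rfl⟩
  let e₀ : 𝟙_ (Over T) ⟶ Red.bc f G₀ := η[Red.bc f G₀]
  have he₀ : (Red.bc f G₀).hom.base (e₀.left.base t) = t := by
    rw [← Scheme.Hom.comp_apply, Over.w e₀]
    rfl
  refine ⟨(j ≫ α).left.base (e₀.left.base t), ⟨e₀.left.base t, he₀, rfl⟩, ?_⟩
  have h1 : e₀ ≫ j ≫ α = e₀ ≫ j := by
    rw [IsMonHom.one_hom_assoc, IsMonHom.one_hom, IsMonHom.one_hom]
  rw [← Scheme.Hom.comp_apply, ← Over.comp_left, h1, Over.comp_left, Scheme.Hom.comp_apply]
  exact ⟨_, rfl⟩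

end field

end Groth.Agent.Lib.Helper14.NeutralChar
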