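import Mathlib
import Groth.Prelude.Def_AGF
import Groth.Agent.Lib.Helper14.QuotUniq
import Groth.Agent.Lib.Helper14.MonoImm
import Groth.Agent.Lib.Helper5.ImmQCDescent

/-!
# helper14: the map from a quotient `G/G_o` to the ambient scheme `X` is a monomorphism, and an
immersion (over a field, by homogeneity)
-/

set_option autoImplicit false
set_option linter.style.haveILetI false
universe u
open CategoryTheory MonoidalCategory CartesianMonoidalCategory MonObj GrpObj AlgebraicGeometry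
  CategoryTheory.Limits TopologicalSpace

namespace Groth.Agent.Lib.Helper14.QuotOrbit

open Groth.Agent.Lib.helper22 Groth.Agent.Lib.Helper14.OrbitLC
  Groth.Agent.Lib.Helper14.OrbitClosure

variable {S : Scheme.{u}} {G X Y : Over S} [GrpObj G] (a : AlgGrp.Action G X)
  (b : AlgGrp.Action G Y)

/-- an equivariant map, on points -/
theorem smul_comp (ψ : Y ⟶ X) (hψ : (G ◁ ψ) ≫ a.act = b.act ≫ ψ) {T : Over S} (g : T ⟶ G)
    (t : T ⟶ Y) : smul b g t ≫ ψ = smul a g (t ≫ ψ) := by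
  unfold smul
  rw [Category.assoc, ← hψ, lift_whiskerLeft_assoc]

/-- the action square of an equivariant map is cartesian -/
theorem isPullback_act_of_equivariant (ψ : Y ⟶ X) (hψ : (G ◁ ψ) ≫ a.act = b.act ≫ ψ) :
    IsPullback b.act (G ◁ ψ) ψ a.act := by
  have hcomm : (shear b).hom ≫ (G ◁ ψ) = (G ◁ ψ) ≫ (shear a).hom := by
    apply CartesianMonoidalCategory.hom_ext
    · simp [shear]
    · simp [shear, hψ]
  have h1 : IsPullback (shear b).hom (G ◁ ψ) (G ◁ ψ) (shear a).hom :=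
    IsPullback.of_horiz_isIso ⟨hcomm⟩
  have h2 : IsPullback (snd G Y) (G ◁ ψ) ψ (snd G X) := (isPullback_whiskerLeft G ψ).flip
  have h3 := h1.paste_horiz h2
  rwa [shear_hom_snd, shear_hom_snd] at h3

/-- the map induced on the quotient by the orbit map is equivariant -/
theorem equivariant_of_orbitMap (y : 𝟙_ (Over S) ⟶ Y) (o : 𝟙_ (Over S) ⟶ X) (ψ : Y ⟶ X)
    (h : b.orbitMap y ≫ ψ = a.orbitMap o) [Epi (G ◁ b.orbitMap y)] :
    (G ◁ ψ) ≫ a.act = b.act ≫ ψ := by
  rw [← cancel_epi (G ◁ b.orbitMap y), ← MonoidalCategory.whiskerLeft_comp_assoc, h,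
    Groth.Agent.Lib.Helper14.OrbitSmooth.orbitMap_equivariant, ← Category.assoc,
    Groth.Agent.Lib.Helper14.OrbitSmooth.orbitMap_equivariant, Category.assoc, h]


/-- the map induced on the quotient `G/H` by a map `π` with the same fibre square is a
monomorphism -/
theorem mono_left_of_squares {H : Over S} [GrpObj H] (i : H ⟶ G) (q : G ⟶ Y) (π : G ⟶ X)
    (ψ : Y ⟶ X) (hqψ : q ≫ ψ = π)
    (hY : IsPullback (fst G H) ((G ◁ i) ≫ μ[G]) q q)
    (hX : IsPullback (fst G H) ((G ◁ i) ≫ μ[G]) π π)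
    [Flat q.left] [Surjective q.left] [LocallyOfFinitePresentation q.left] : Mono ψ.left := by
  constructor
  intro T t₁ t₂ h
  have hw : t₁ ≫ Y.hom = t₂ ≫ Y.hom := by
    rw [← Over.w ψ, ← Category.assoc, h, Category.assoc]
  let p₁ : pullback t₁ q.left ⟶ T := pullback.fst t₁ q.left
  let p₂ : pullback (p₁ ≫ t₂) q.left ⟶ pullback t₁ q.left := pullback.fst (p₁ ≫ t₂) q.left
  haveI : EffectiveEpi p₁ := inferInstance
  haveI : EffectiveEpi p₂ := inferInstance
  haveI : Epi (p₂ ≫ p₁) := epi_comp _ _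
  let g₁ : pullback (p₁ ≫ t₂) q.left ⟶ G.left := p₂ ≫ pullback.snd t₁ q.left
  let g₂ : pullback (p₁ ≫ t₂) q.left ⟶ G.left := pullback.snd (p₁ ≫ t₂) q.left
  have hg₁ : g₁ ≫ q.left = (p₂ ≫ p₁) ≫ t₁ := by
    simp only [g₁, p₁, Category.assoc, pullback.condition]
  have hg₂ : g₂ ≫ q.left = (p₂ ≫ p₁) ≫ t₂ := by
    simp only [g₂, p₂, Category.assoc]
    exact pullback.condition.symm
  have hG : g₂ ≫ G.hom = g₁ ≫ G.hom := by
    rw [← Over.w q, ← Category.assoc, hg₂, ← Category.assoc, hg₁]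
    simp only [Category.assoc, hw]
  let T' : Over S := Over.mk (g₁ ≫ G.hom)
  let a₁ : T' ⟶ G := Over.homMk g₁ rfl
  let a₂ : T' ⟶ G := Over.homMk g₂ hG
  have h1 : a₁ ≫ π = a₂ ≫ π := by
    ext
    rw [Over.comp_left, Over.comp_left, ← hqψ, Over.comp_left]
    change g₁ ≫ q.left ≫ ψ.left = g₂ ≫ q.left ≫ ψ.left
    rw [← Category.assoc, hg₁, ← Category.assoc g₂, hg₂]
    simp only [Category.assoc, h]
  rw [Groth.Agent.Lib.Helper14.QuotUniq.eq_iff_of_square i π hX] at h1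
  rw [← Groth.Agent.Lib.Helper14.QuotUniq.eq_iff_of_square i q hY] at h1
  have h2 : g₁ ≫ q.left = g₂ ≫ q.left := congrArg CommaMorphism.left h1
  rw [← cancel_epi (p₂ ≫ p₁), ← hg₁, ← hg₂, h2]


/-- restriction of a cartesian square of schemes to opens -/
theorem isPullback_resLE {P Q Y' X' : Scheme.{u}} {t : P ⟶ Y'} {Φ : P ⟶ Q} {φ : Y' ⟶ X'}
    {s : Q ⟶ X'} (h : IsPullback t Φ φ s) (A : X'.Opens) (W : Q.Opens) (e : W ≤ s ⁻¹ᵁ A)
    (e' : Φ ⁻¹ᵁ W ≤ t ⁻¹ᵁ (φ ⁻¹ᵁ A)) :
    IsPullback (t.resLE (φ ⁻¹ᵁ A) (Φ ⁻¹ᵁ W) e') (Φ ∣_ W) (φ ∣_ A) (s.resLE A W e) := by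
  have hright : IsPullback (φ ⁻¹ᵁ A).ι (φ ∣_ A) φ A.ι := (isPullback_morphismRestrict φ A).flip
  have hleft : IsPullback (Φ ⁻¹ᵁ W).ι (Φ ∣_ W) Φ W.ι := (isPullback_morphismRestrict Φ W).flip
  have hcomp : IsPullback ((Φ ⁻¹ᵁ W).ι ≫ t) (Φ ∣_ W) φ (W.ι ≫ s) := hleft.paste_horiz h
  rw [← Scheme.Hom.resLE_comp_ι s e, ← Scheme.Hom.resLE_comp_ι t e'] at hcomp
  refine IsPullback.of_right hcomp ?_ hright
  rw [← cancel_mono A.ι, Category.assoc, Category.assoc, morphismRestrict_ι,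
    Scheme.Hom.resLE_comp_ι, Scheme.Hom.resLE_comp_ι_assoc, morphismRestrict_ι_assoc, h.w]


/-- **Homogeneity**: an equivariant monomorphism from a homogeneous space (a scheme of finite type
over a field `k` with a surjective orbit map) is an immersion. -/
theorem isImmersion_of_mono_equivariant {k : Type u} [Field k]
    {G X Y : Over (Spec (CommRingCat.of k))} [GrpObj G]
    [LocallyOfFiniteType G.hom] [QuasiCompact G.hom]
    [LocallyOfFiniteType X.hom] [QuasiCompact X.hom] [LocallyOfFiniteType Y.hom]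
    [QuasiCompact Y.hom]
    (a : AlgGrp.Action G X) (b : AlgGrp.Action G Y) (ψ : Y ⟶ X)
    (hψ : (G ◁ ψ) ≫ a.act = b.act ≫ ψ) [Mono ψ.left]
    (y : 𝟙_ (Over (Spec (CommRingCat.of k))) ⟶ Y) [Surjective (b.orbitMap y).left] :
    IsImmersion ψ.left := by
  haveI : Flat G.hom := inferInstance
  haveI : IsLocallyNoetherian G.left := LocallyOfFiniteType.isLocallyNoetherian G.hom
  haveI : LocallyOfFinitePresentation G.hom := inferInstance
  haveI : LocallyOfFiniteType ψ.left := by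
    haveI : LocallyOfFiniteType (ψ.left ≫ X.hom) := by rw [Over.w ψ]; infer_instance
    exact locallyOfFiniteType_of_comp ψ.left X.hom
  haveI : IsLocallyNoetherian Y.left := LocallyOfFiniteType.isLocallyNoetherian Y.hom
  haveI : CompactSpace Y.left := QuasiCompact.compactSpace_of_compactSpace Y.hom
  haveI : IsNoetherian Y.left := ⟨⟩
  haveI : QuasiCompact ψ.left := inferInstance
  haveI : Nonempty Y.left := ⟨y.left (Classical.choice (inferInstance : Nonempty
    (Spec (CommRingCat.of k))))⟩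
  obtain ⟨N, ⟨⟨y₀, hy₀⟩⟩, hcl⟩ :=
    Groth.Agent.Lib.Helper14.MonoImm.exists_open_isClosedImmersion_of_mono ψ.left
  -- the open `W₁ = G × N` and its image `A` under the action
  let W₁ : (G ⊗ X).left.Opens := (snd G X).left ⁻¹ᵁ N
  let A : X.left.Opens := ⟨a.act.left '' (W₁ : Set (G ⊗ X).left), isOpenMap_act a _ W₁.isOpen⟩
  have hWA : W₁ ≤ a.act.left ⁻¹ᵁ A := fun w hw => ⟨w, hw, rfl⟩
  -- transitivity: the image of `ψ` lies in `A`
  have htrans : ∀ y₁ : Y.left, ψ.left y₁ ∈ A := by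
    intro y₁
    obtain ⟨g₀, hg₀⟩ := (b.orbitMap y).left.surjective y₀
    obtain ⟨g₁, hg₁⟩ := (b.orbitMap y).left.surjective y₁
    obtain ⟨w, hw₁, hw₀⟩ := exists_point_tensor G G g₁ g₀ (Subsingleton.elim _ _)
    let ζ : (G ⊗ Y).left := (diffMap b y).left w
    have hζ₀ : (snd G Y).left ζ = y₀ := by
      rw [← Scheme.Hom.comp_apply, ← Over.comp_left, diffMap_snd, Over.comp_left,
        Scheme.Hom.comp_apply, hw₀, hg₀]
    have hζ₁ : b.act.left ζ = y₁ := by
      rw [← Scheme.Hom.comp_apply, ← Over.comp_left, diffMap_act, Over.comp_left,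
        Scheme.Hom.comp_apply, hw₁, hg₁]
    refine ⟨(G ◁ ψ).left ζ, ?_, ?_⟩
    · change (snd G X).left ((G ◁ ψ).left ζ) ∈ N
      rw [← Scheme.Hom.comp_apply, ← Over.comp_left, whiskerLeft_snd, Over.comp_left,
        Scheme.Hom.comp_apply, hζ₀]
      exact hy₀
    · rw [← Scheme.Hom.comp_apply, ← Over.comp_left, hψ, Over.comp_left,
        Scheme.Hom.comp_apply, hζ₁]
  -- the two cartesian squares
  have hsq₁ : IsPullback (snd G Y).left (G ◁ ψ).left ψ.left (snd G X).left :=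
    ((isPullback_whiskerLeft G ψ).flip).map (Over.forget _)
  have hsq₂ : IsPullback b.act.left (G ◁ ψ).left ψ.left a.act.left :=
    (isPullback_act_of_equivariant a b ψ hψ).map (Over.forget _)
  -- `(G ◁ ψ)` is a closed immersion over `W₁`
  have hcl₁ : IsClosedImmersion ((G ◁ ψ).left ∣_ W₁) := by
    have h1 := isPullback_resLE hsq₁ N W₁ le_rfl (by
      intro p hp
      change ψ.left ((snd G Y).left p) ∈ N
      rw [← Scheme.Hom.comp_apply, hsq₁.w, Scheme.Hom.comp_apply]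
      exact hp)
    exact MorphismProperty.of_isPullback h1 hcl
  -- descent along `W₁ ⟶ A`
  have h2 := isPullback_resLE hsq₂ A W₁ hWA (by
    intro p hp
    change ψ.left (b.act.left p) ∈ A
    rw [← Scheme.Hom.comp_apply, hsq₂.w, Scheme.Hom.comp_apply]
    exact hWA hp)
  -- `G ⊗ X` is noetherian
  haveI : IsNoetherian (G ⊗ X).left := by
    have h1 : (G ⊗ X).hom = (snd G X).left ≫ X.hom := (Over.w (snd G X)).symm
    haveI : QuasiCompact (snd G X).left := by
      change QuasiCompact (pullback.snd G.hom X.hom); infer_instance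
    haveI : LocallyOfFiniteType (snd G X).left := by
      change LocallyOfFiniteType (pullback.snd G.hom X.hom); infer_instance
    haveI : QuasiCompact (G ⊗ X).hom := by rw [h1]; infer_instance
    haveI : LocallyOfFiniteType (G ⊗ X).hom := by rw [h1]; infer_instance
    haveI : IsLocallyNoetherian (G ⊗ X).left :=
      LocallyOfFiniteType.isLocallyNoetherian (G ⊗ X).hom
    haveI : CompactSpace (G ⊗ X).left := QuasiCompact.compactSpace_of_compactSpace (G ⊗ X).hom
    exact {}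
  haveI : Flat a.act.left := Groth.Agent.Lib.Helper14.HomFlat.flat_act a
  have hQ : (@Surjective ⊓ @Flat ⊓ @QuasiCompact : MorphismProperty Scheme.{u})
      (a.act.left.resLE A W₁ hWA) := by
    refine ⟨⟨⟨?_⟩, ?_⟩, ?_⟩
    · rintro ⟨p, w, hw, rfl⟩
      refine ⟨⟨w, hw⟩, ?_⟩
      apply Subtype.ext
      rw [Scheme.Hom.coe_resLE_apply]
    · delta Scheme.Hom.resLE
      infer_instance
    · haveI : NoetherianSpace ↥W₁.toScheme := NoetherianSpace.set (W₁ : Set (G ⊗ X).left)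
      infer_instance
  have hP : (@IsImmersion ⊓ @QuasiCompact : MorphismProperty Scheme.{u})
      ((G ◁ ψ).left ∣_ W₁) := ⟨inferInstance, inferInstance⟩
  have himm : IsImmersion (ψ.left ∣_ A) :=
    (MorphismProperty.of_isPullback_of_descendsAlong h2.flip hQ hP).1
  -- conclusion
  have htop : ψ.left ⁻¹ᵁ A = ⊤ := by
    ext p
    exact ⟨fun _ => trivial, fun _ => htrans p⟩
  haveI : IsIso (ψ.left ⁻¹ᵁ A).ι := by
    rw [isIso_iff_isOpenImmersion_and_surjective]
    refine ⟨inferInstance, ⟨fun p => ⟨⟨p, htrans p⟩, rfl⟩⟩⟩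
  have hfac : ψ.left = inv (ψ.left ⁻¹ᵁ A).ι ≫ ψ.left ∣_ A ≫ A.ι := by
    rw [morphismRestrict_ι, IsIso.inv_hom_id_assoc]
  rw [hfac]
  infer_instance

end Groth.Agent.Lib.Helper14.QuotOrbit
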