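import Mathlib

/-!
# helper14: pure algebra for "the n-th power map is étale at the unit" (S8395)

* `gradedIso_of_crux`: an endomorphism `ψ` of a local ring with `ψ ≡ id` mod `m` and
  `ψ ≡ n` on `m/m²` (`n` a unit) induces isomorphisms on all `B/m^(N+1)`.
* `exists_dualNumber_hom`: a local `k`-algebra with a `k`-point: elements of `m ∖ m²` are detected by
  dual number points.
* `crux_of_dualNumber`.
* `R2 k = k ⊕ (k × k)ε`: the ring of functions on the union of two tangent vectors.
-/

set_option autoImplicit false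
universe u
open IsLocalRing

namespace Groth.Agent.Lib.Helper14.NthPow

section graded

variable {B : Type u} [CommRing B] [IsLocalRing B]

theorem map_mem_of_mem (ψ : B →+* B) (n : ℕ)
    (hψ : ∀ b ∈ maximalIdeal B, ψ b - n * b ∈ maximalIdeal B ^ 2) (b : B)
    (hb : b ∈ maximalIdeal B) : ψ b ∈ maximalIdeal B := by
  have h1 : ψ b - n * b ∈ maximalIdeal B := Ideal.pow_le_self two_ne_zero (hψ b hb)
  have h2 : (n : B) * b ∈ maximalIdeal B := Ideal.mul_mem_left _ _ hb
  have := Ideal.add_mem _ h1 h2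
  rwa [sub_add_cancel] at this

/-- `ψ ≡ n^j` on `m^j / m^{j+1}` -/
theorem sub_pow_mul_mem (ψ : B →+* B) (n : ℕ)
    (h0 : ∀ b, ψ b - b ∈ maximalIdeal B)
    (hψ : ∀ b ∈ maximalIdeal B, ψ b - n * b ∈ maximalIdeal B ^ 2) :
    ∀ (j : ℕ) (b : B), b ∈ maximalIdeal B ^ j →
      ψ b - (n : B) ^ j * b ∈ maximalIdeal B ^ (j + 1) := by
  intro j
  induction j with
  | zero =>
    intro b _
    simpa using h0 b
  | succ j ih =>
    intro b hb
    rw [pow_succ, ← Ideal.smul_eq_mul] at hb
    refine Submodule.smul_induction_on hb ?_ ?_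
    · intro c hc d hd
      rw [smul_eq_mul]
      have e : ψ (c * d) - (n : B) ^ (j + 1) * (c * d) =
          (ψ c - (n : B) ^ j * c) * ψ d + ((n : B) ^ j * c) * (ψ d - n * d) := by
        rw [map_mul]; ring
      rw [e]
      apply Ideal.add_mem
      · have := Ideal.mul_mem_mul (ih c hc) (map_mem_of_mem ψ n hψ d hd)
        rwa [← pow_succ] at this
      · have h1 : (n : B) ^ j * c ∈ maximalIdeal B ^ j := Ideal.mul_mem_left _ _ hc
        have := Ideal.mul_mem_mul h1 (hψ d hd)
        rwa [← pow_add] at this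
    · intro x y hx hy
      have e : ψ (x + y) - (n : B) ^ (j + 1) * (x + y) =
          (ψ x - (n : B) ^ (j + 1) * x) + (ψ y - (n : B) ^ (j + 1) * y) := by
        rw [map_add]; ring
      rw [e]
      exact Ideal.add_mem _ hx hy

theorem gradedIso_of_crux (ψ : B →+* B) (n : ℕ) (hn : IsUnit (n : B))
    (h0 : ∀ b, ψ b - b ∈ maximalIdeal B)
    (hψ : ∀ b ∈ maximalIdeal B, ψ b - n * b ∈ maximalIdeal B ^ 2) (N : ℕ) :
    Function.Surjective ((Ideal.Quotient.mk (maximalIdeal B ^ (N + 1))).comp ψ) ∧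
      ∀ a : B, ψ a ∈ maximalIdeal B ^ (N + 1) ↔ a ∈ maximalIdeal B ^ (N + 1) := by
  have key := sub_pow_mul_mem ψ n h0 hψ
  have hback : ∀ (j : ℕ) (a : B), a ∈ maximalIdeal B ^ j → ψ a ∈ maximalIdeal B ^ j := by
    intro j a ha
    have h1 := Ideal.pow_le_pow_right (Nat.le_succ j) (key j a ha)
    have h2 : (n : B) ^ j * a ∈ maximalIdeal B ^ j := Ideal.mul_mem_left _ _ ha
    have := Ideal.add_mem _ h1 h2
    rwa [sub_add_cancel] at this
  constructor
  · -- surjectivity
    have hs : ∀ (M : ℕ) (b : B), ∃ a, b - ψ a ∈ maximalIdeal B ^ (M + 1) := by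
      intro M
      induction M with
      | zero =>
        intro b
        refine ⟨b, ?_⟩
        have := h0 b
        rw [zero_add, pow_one]
        have h2 := Ideal.neg_mem_iff (maximalIdeal B) |>.mpr this
        rwa [neg_sub] at h2
      | succ M ih =>
        intro b
        obtain ⟨a, ha⟩ := ih b
        obtain ⟨v, hv⟩ := (hn.pow (M + 1)).exists_left_inv
        -- v * n^(M+1) = 1
        have hψv : ψ v = v := by
          have h1 : ψ v * (n : B) ^ (M + 1) = 1 := by
            have := congrArg ψ hv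
            rwa [map_mul, map_pow, map_natCast, map_one] at this
          calc ψ v = ψ v * (v * (n : B) ^ (M + 1)) := by rw [hv, mul_one]
            _ = (ψ v * (n : B) ^ (M + 1)) * v := by ring
            _ = v := by rw [h1, one_mul]
        refine ⟨a + v * (b - ψ a), ?_⟩
        have hc := key (M + 1) (b - ψ a) ha
        have e : b - ψ (a + v * (b - ψ a)) =
            -(v * (ψ (b - ψ a) - (n : B) ^ (M + 1) * (b - ψ a))) +
              (1 - v * (n : B) ^ (M + 1)) * (b - ψ a) := by
          rw [map_add, map_mul, hψv]; ring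
        rw [e, hv, sub_self, zero_mul, add_zero]
        exact Ideal.neg_mem_iff _ |>.mpr (Ideal.mul_mem_left _ _ hc)
    intro q
    obtain ⟨b, rfl⟩ := Ideal.Quotient.mk_surjective q
    obtain ⟨a, ha⟩ := hs N b
    refine ⟨a, ?_⟩
    rw [RingHom.comp_apply]
    symm
    exact Ideal.Quotient.eq.mpr ha
  · intro a
    constructor
    · intro ha
      have hj : ∀ j, j ≤ N + 1 → a ∈ maximalIdeal B ^ j := by
        intro j
        induction j with
        | zero => intro _; simp
        | succ j ih =>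
          intro hj
          have haj := ih (Nat.le_of_succ_le hj)
          have h1 := key j a haj
          have h2 : ψ a ∈ maximalIdeal B ^ (j + 1) := Ideal.pow_le_pow_right hj ha
          have h3 : (n : B) ^ j * a ∈ maximalIdeal B ^ (j + 1) := by
            have := Ideal.sub_mem _ h2 h1
            rwa [sub_sub_cancel] at this
          obtain ⟨v, hv⟩ := (hn.pow j).exists_left_inv
          have := Ideal.mul_mem_left _ v h3
          rwa [← mul_assoc, hv, one_mul] at this
      exact hj (N + 1) le_rfl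
    · exact hback (N + 1) a

end graded

section dual

variable (k : Type u) [Field k] {B : Type u} [CommRing B] [Algebra k B] [IsLocalRing B]

theorem ker_eq_maximalIdeal (ρ : B →ₐ[k] k) :
    RingHom.ker (ρ : B →+* k) = maximalIdeal B := by
  have hsurj : Function.Surjective (ρ : B →+* k) := fun c => ⟨algebraMap k B c, by simp⟩
  haveI : (RingHom.ker (ρ : B →+* k)).IsMaximal := RingHom.ker_isMaximal_of_surjective _ hsurj
  exact IsLocalRing.eq_maximalIdeal this

theorem sub_algebraMap_mem (ρ : B →ₐ[k] k) (b : B) :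
    b - algebraMap k B (ρ b) ∈ maximalIdeal B := by
  rw [← ker_eq_maximalIdeal k ρ, RingHom.mem_ker, map_sub]
  show ρ b - ρ (algebraMap k B (ρ b)) = 0
  rw [AlgHom.commutes]
  exact sub_self _

theorem mem_maximalIdeal_iff (ρ : B →ₐ[k] k) (b : B) : b ∈ maximalIdeal B ↔ ρ b = 0 := by
  rw [← ker_eq_maximalIdeal k ρ, RingHom.mem_ker]
  rfl

/-- a local `k`-algebra has at most one `k`-point -/
theorem algHom_unique (ρ σ : B →ₐ[k] k) : σ = ρ := by
  ext b
  have h1 := sub_algebraMap_mem k ρ b
  rw [mem_maximalIdeal_iff k σ, map_sub, AlgHom.commutes] at h1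
  rw [sub_eq_zero] at h1
  exact h1

theorem algHom_comp_eq (ρ : B →ₐ[k] k) {R : Type u} [CommRing R] [Algebra k R] (α : R →ₐ[k] k)
    (s : B →ₐ[k] R) (b : B) : α (s b) = ρ b :=
  DFunLike.congr_fun (algHom_unique k ρ (α.comp s)) b

/-- elements of `m ∖ m²` are detected by dual number points -/
theorem exists_dualNumber_hom (ρ : B →ₐ[k] k) (z : B) (hz : z ∈ maximalIdeal B)
    (hz2 : z ∉ maximalIdeal B ^ 2) : ∃ s : B →ₐ[k] DualNumber k, s z ≠ 0 := by
  set W : Submodule k B := (maximalIdeal B ^ 2).restrictScalars k with hW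
  have hq : W.mkQ z ≠ 0 := by
    rw [Submodule.mkQ_apply, Ne, Submodule.Quotient.mk_eq_zero]
    exact hz2
  obtain ⟨ℓ, hℓ⟩ := Module.Projective.exists_dual_ne_zero k hq
  let P : B →ₗ[k] B := LinearMap.id - (Algebra.linearMap k B).comp ρ.toLinearMap
  have hP : ∀ b, P b = b - algebraMap k B (ρ b) := fun _ => rfl
  let d : B →ₗ[k] k := ℓ.comp (W.mkQ.comp P)
  have hd : ∀ b, d b = ℓ (W.mkQ (b - algebraMap k B (ρ b))) := fun _ => rfl
  have hd_one : d 1 = 0 := by
    rw [hd, map_one, map_one, sub_self, map_zero, map_zero]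
  have hd_mul : ∀ a b, d (a * b) = ρ a * d b + ρ b * d a := by
    intro a b
    have e : a * b - algebraMap k B (ρ (a * b)) =
        (ρ a) • (b - algebraMap k B (ρ b)) + (ρ b) • (a - algebraMap k B (ρ a)) +
          (a - algebraMap k B (ρ a)) * (b - algebraMap k B (ρ b)) := by
      rw [Algebra.smul_def, Algebra.smul_def, map_mul, map_mul]; ring
    have h2 : W.mkQ ((a - algebraMap k B (ρ a)) * (b - algebraMap k B (ρ b))) = 0 := by
      rw [Submodule.mkQ_apply, Submodule.Quotient.mk_eq_zero]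
      show _ ∈ maximalIdeal B ^ 2
      rw [pow_two]
      exact Ideal.mul_mem_mul (sub_algebraMap_mem k ρ a) (sub_algebraMap_mem k ρ b)
    rw [hd, e, hd, hd]
    simp only [map_add, map_smul, h2, add_zero, smul_eq_mul]
  let s : B →ₐ[k] DualNumber k := AlgHom.ofLinearMap
    ((Algebra.linearMap k (DualNumber k)).comp ρ.toLinearMap + (TrivSqZeroExt.inrHom k k).comp d)
    (by
      ext
      · simp [TrivSqZeroExt.algebraMap_eq_inl]
      · simp [hd_one, TrivSqZeroExt.algebraMap_eq_inl])
    (by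
      intro a b
      ext
      · simp [TrivSqZeroExt.algebraMap_eq_inl]
      · simp [hd_mul, TrivSqZeroExt.algebraMap_eq_inl]; ring)
  refine ⟨s, fun hs => hℓ ?_⟩
  have h1 : TrivSqZeroExt.snd (s z) = d z := by
    simp [s, TrivSqZeroExt.algebraMap_eq_inl]
  rw [hs, TrivSqZeroExt.snd_zero] at h1
  have h2 : ρ z = 0 := (mem_maximalIdeal_iff k ρ z).mp hz
  rw [hd, h2, map_zero, sub_zero] at h1
  exact h1.symm

/-- a `k`-algebra endomorphism is the identity modulo `m` -/
theorem sub_mem_of_algHom (ρ : B →ₐ[k] k) (ψ : B →ₐ[k] B) (b : B) :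
    ψ b - b ∈ maximalIdeal B := by
  rw [mem_maximalIdeal_iff k ρ, map_sub, algHom_comp_eq k ρ ρ ψ b, sub_self]

theorem crux_of_dualNumber (ρ : B →ₐ[k] k) (ψ : B →ₐ[k] B) (n : ℕ)
    (H : ∀ (s : B →ₐ[k] DualNumber k) (b : B), b ∈ maximalIdeal B →
      s (ψ b) = (n : DualNumber k) * s b) (b : B) (hb : b ∈ maximalIdeal B) :
    ψ b - n * b ∈ maximalIdeal B ^ 2 := by
  by_contra hne
  have hψb : ψ b ∈ maximalIdeal B := by
    have := Ideal.add_mem _ (sub_mem_of_algHom k ρ ψ b) hb
    rwa [sub_add_cancel] at this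
  have hz : ψ b - n * b ∈ maximalIdeal B :=
    Ideal.sub_mem _ hψb (Ideal.mul_mem_left _ _ hb)
  obtain ⟨s, hs⟩ := exists_dualNumber_hom k ρ _ hz hne
  apply hs
  rw [map_sub, map_mul, map_natCast, H s b hb, sub_self]

end dual

section R2

variable (k : Type u) [Field k]

/-- `k ⊕ (k × k)ε`: functions on the union of two tangent vectors -/
abbrev R2 : Type u := TrivSqZeroExt k (k × k)

instance : IsLocalRing (R2 k) := IsLocalRing.of_nonunits_add (by
  intro a b ha hb
  rw [mem_nonunits_iff, TrivSqZeroExt.isUnit_iff_isUnit_fst, isUnit_iff_ne_zero, not_not] at *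
  rw [TrivSqZeroExt.fst_add, ha, hb, add_zero])

noncomputable def i1 : DualNumber k →ₐ[k] R2 k := TrivSqZeroExt.map (LinearMap.inl k k k)
noncomputable def i2 : DualNumber k →ₐ[k] R2 k := TrivSqZeroExt.map (LinearMap.inr k k k)
noncomputable def p1 : R2 k →ₐ[k] DualNumber k := TrivSqZeroExt.map (LinearMap.fst k k k)
noncomputable def p2 : R2 k →ₐ[k] DualNumber k := TrivSqZeroExt.map (LinearMap.snd k k k)
noncomputable def dl : R2 k →ₐ[k] DualNumber k :=
  TrivSqZeroExt.map (LinearMap.coprod LinearMap.id LinearMap.id)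
/-- the constant endomorphism `a + bε ↦ a` of the dual numbers -/
noncomputable def cst : DualNumber k →ₐ[k] DualNumber k :=
  (Algebra.ofId k (DualNumber k)).comp (TrivSqZeroExt.fstHom k k k)

theorem p1_i1 : (p1 k).comp (i1 k) = AlgHom.id k _ := by
  unfold p1 i1
  rw [← TrivSqZeroExt.map_comp_map, LinearMap.fst_comp_inl, TrivSqZeroExt.map_id]

theorem p2_i2 : (p2 k).comp (i2 k) = AlgHom.id k _ := by
  unfold p2 i2
  rw [← TrivSqZeroExt.map_comp_map, LinearMap.snd_comp_inr, TrivSqZeroExt.map_id]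

theorem dl_i1 : (dl k).comp (i1 k) = AlgHom.id k _ := by
  unfold dl i1
  rw [← TrivSqZeroExt.map_comp_map, LinearMap.coprod_inl, TrivSqZeroExt.map_id]

theorem dl_i2 : (dl k).comp (i2 k) = AlgHom.id k _ := by
  unfold dl i2
  rw [← TrivSqZeroExt.map_comp_map, LinearMap.coprod_inr, TrivSqZeroExt.map_id]

theorem p1_i2 : (p1 k).comp (i2 k) = cst k := by
  apply AlgHom.ext
  intro x
  apply TrivSqZeroExt.ext
  · simp [p1, i2, cst, TrivSqZeroExt.algebraMap_eq_inl]
  · simp [p1, i2, cst, TrivSqZeroExt.algebraMap_eq_inl]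

theorem p2_i1 : (p2 k).comp (i1 k) = cst k := by
  apply AlgHom.ext
  intro x
  apply TrivSqZeroExt.ext
  · simp [p2, i1, cst, TrivSqZeroExt.algebraMap_eq_inl]
  · simp [p2, i1, cst, TrivSqZeroExt.algebraMap_eq_inl]

/-- the additive relation -/
theorem dl_eq (r : R2 k) (hr : TrivSqZeroExt.fst r = 0) : dl k r = p1 k r + p2 k r := by
  apply TrivSqZeroExt.ext
  · simp [dl, p1, p2, hr]
  · simp [dl, p1, p2]

end R2

end Groth.Agent.Lib.Helper14.NthPow
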