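import Mathlib
import Groth.Agent.Lib.Helper15.NatGrp
import Groth.Agent.Lib.Helper14.NthPow1

/-!
# helper14: points of a group scheme over a field located at the unit (for S8395)
-/

set_option autoImplicit false
universe u
open CategoryTheory MonoidalCategory CartesianMonoidalCategory MonObj GrpObj AlgebraicGeometry
  IsLocalRing
open Groth.Agent.Lib.helper15.NatGrp

namespace Groth.Agent.Lib.Helper14.NthPow

variable {k : Type u} [Field k] (G : Over (Spec (CommRingCat.of k)))

section pointed

variable (e : 𝟙_ (Over (Spec (CommRingCat.of k))) ⟶ G)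

/-- the point as a morphism from `Spec k` -/
noncomputable def e0 : Spec (CommRingCat.of k) ⟶ G.left := e.left

/-- the image point -/
noncomputable def x0 : G.left := (e0 G e) (closedPoint (CommRingCat.of k))

/-- the local ring at the point -/
noncomputable abbrev BC : CommRingCat.{u} := G.left.presheaf.stalk (x0 G e)

noncomputable def j : Spec (BC G e) ⟶ G.left := G.left.fromSpecStalk (x0 G e)

instance : Mono (j G e) := by unfold j; infer_instance

noncomputable def iota : CommRingCat.of k ⟶ BC G e := Spec.preimage (j G e ≫ G.hom)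

theorem Spec_iota : Spec.map (iota G e) = j G e ≫ G.hom := Spec.map_preimage _

noncomputable instance algB : Algebra k (BC G e) := (iota G e).hom.toAlgebra

theorem algebraMap_eq : algebraMap k (BC G e) = (iota G e).hom := rfl

noncomputable def jO : Z k (BC G e) ⟶ G :=
  Over.homMk (j G e) (by
    show j G e ≫ G.hom = Spec.map (CommRingCat.ofHom (algebraMap k (BC G e)))
    rw [← Spec_iota]
    rfl)

theorem jO_left : (jO G e).left = j G e := rfl

instance : Mono (jO G e) := by
  constructor
  intro T a b hab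
  apply Over.OverMorphism.ext
  have h := congrArg (fun f => f.left) hab
  exact (cancel_mono (j G e)).mp h

noncomputable def rho0 : BC G e ⟶ CommRingCat.of k := Scheme.stalkClosedPointTo (e0 G e)

theorem Spec_rho0 : Spec.map (rho0 G e) ≫ j G e = e0 G e :=
  Scheme.Spec_stalkClosedPointTo_fromSpecStalk (e0 G e)

theorem iota_rho0 : iota G e ≫ rho0 G e = 𝟙 _ := by
  apply Spec.map_injective
  rw [Spec.map_comp, Spec_iota, ← Category.assoc, Spec_rho0, Spec.map_id]
  exact Over.w e

noncomputable def rho : BC G e →ₐ[k] k :=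
  { (rho0 G e).hom with
    commutes' := fun c => congr($(iota_rho0 G e) c) }

/-- the point of `G` with values in `R` given by a `k`-algebra map from the local ring -/
noncomputable def Th {R : Type u} [CommRing R] [Algebra k R] (s : BC G e →ₐ[k] R) : Z k R ⟶ G :=
  Zmap k s ≫ jO G e

theorem Zmap_comp' {A A' A'' : Type u} [CommRing A] [Algebra k A] [CommRing A'] [Algebra k A']
    [CommRing A''] [Algebra k A''] (f : A →ₐ[k] A') (g : A' →ₐ[k] A'') :
    Zmap k (g.comp f) = Zmap k g ≫ Zmap k f := by
  apply Over.OverMorphism.ext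
  show Spec.map (CommRingCat.ofHom ((g.comp f : A →ₐ[k] A'') : A →+* A'')) =
    Spec.map (CommRingCat.ofHom (g : A' →+* A'')) ≫ Spec.map (CommRingCat.ofHom (f : A →+* A'))
  rw [← Spec.map_comp]
  rfl

theorem Zmap_injective {A A' : Type u} [CommRing A] [Algebra k A] [CommRing A'] [Algebra k A']
    (f g : A →ₐ[k] A') (h : Zmap k f = Zmap k g) : f = g := by
  have h1 := congrArg (fun f => f.left) h
  have h2 : CommRingCat.ofHom (f : A →+* A') = CommRingCat.ofHom (g : A →+* A') :=
    Spec.map_injective h1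
  ext a
  exact congr($h2 a)

theorem Th_injective {R : Type u} [CommRing R] [Algebra k R] (s s' : BC G e →ₐ[k] R)
    (h : Th G e s = Th G e s') : s = s' :=
  Zmap_injective _ _ ((cancel_mono (jO G e)).mp h)

theorem Zmap_Th {R R' : Type u} [CommRing R] [Algebra k R] [CommRing R'] [Algebra k R']
    (r : R →ₐ[k] R') (s : BC G e →ₐ[k] R) : Zmap k r ≫ Th G e s = Th G e (r.comp s) := by
  unfold Th
  rw [Zmap_comp', Category.assoc]

theorem ofHom_comp_rho (R : Type u) [CommRing R] [Algebra k R] :
    CommRingCat.ofHom (((Algebra.ofId k R).comp (rho G e) : BC G e →ₐ[k] R) : BC G e →+* R) =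
      rho0 G e ≫ CommRingCat.ofHom (algebraMap k R) := rfl

theorem Zmap_left {A A' : Type u} [CommRing A] [Algebra k A] [CommRing A'] [Algebra k A']
    (f : A →ₐ[k] A') : (Zmap k f).left = Spec.map (CommRingCat.ofHom (f : A →+* A')) := rfl

theorem Z_hom (R : Type u) [CommRing R] [Algebra k R] :
    (Z k R).hom = Spec.map (CommRingCat.ofHom (algebraMap k R)) := rfl

theorem Th_left {R : Type u} [CommRing R] [Algebra k R] 
    (s : BC G e →ₐ[k] R) :
    (Th G e s).left = Spec.map (CommRingCat.ofHom (s : BC G e →+* R)) ≫ j G e := rfl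


/-- the closed point of a local `k`-algebra with a `k`-point -/
theorem Spec_closedPoint_of_algHom {R : Type u} [CommRing R] [Algebra k R] [IsLocalRing R]
    (α : R →ₐ[k] k) :
    (Spec.map (CommRingCat.ofHom (α : R →+* k))) (closedPoint (CommRingCat.of k)) =
      closedPoint (CommRingCat.of R) := by
  apply PrimeSpectrum.ext
  have hsurj : Function.Surjective (α : R →+* k) := fun c => ⟨algebraMap k R c, by simp⟩
  haveI : (RingHom.ker (α : R →+* k)).IsMaximal := RingHom.ker_isMaximal_of_surjective _ hsurj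
  have h1 : RingHom.ker (α : R →+* k) = maximalIdeal R := IsLocalRing.eq_maximalIdeal this
  show Ideal.comap (α : R →+* k) (maximalIdeal k) = maximalIdeal R
  rw [← h1]
  ext r
  rw [Ideal.mem_comap, RingHom.mem_ker, IsLocalRing.mem_maximalIdeal, mem_nonunits_iff,
    isUnit_iff_ne_zero, not_not]

theorem exists_factor (X : Scheme.{u}) (R : CommRingCat.{u}) [IsLocalRing R] (f : Spec R ⟶ X)
    (x : X) (h : f (closedPoint R) = x) :
    ∃ φ : X.presheaf.stalk x ⟶ R, f = Spec.map φ ≫ X.fromSpecStalk x := by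
  subst h
  exact ⟨_, (Scheme.Spec_stalkClosedPointTo_fromSpecStalk f).symm⟩

/-- a point whose closed point maps to the base point factors through the local ring -/
theorem exists_Th_of_apply {R : Type u} [CommRing R] [Algebra k R] [IsLocalRing R]
    (t : Z k R ⟶ G)
    (ht : (t.left : Spec (CommRingCat.of R) ⟶ G.left) (closedPoint (CommRingCat.of R)) = x0 G e) :
    ∃ s : BC G e →ₐ[k] R, t = Th G e s := by
  obtain ⟨φ, hφ⟩ := exists_factor G.left (CommRingCat.of R) t.left (x0 G e) ht
  have hk : iota G e ≫ φ = CommRingCat.ofHom (algebraMap k R) := by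
    apply Spec.map_injective
    rw [Spec.map_comp, Spec_iota, ← Category.assoc]
    show (Spec.map φ ≫ G.left.fromSpecStalk (x0 G e)) ≫ G.hom = _
    rw [← hφ]
    exact Over.w t
  let s : BC G e →ₐ[k] R := { φ.hom with commutes' := fun c => congr($hk c) }
  refine ⟨s, ?_⟩
  apply Over.OverMorphism.ext
  rw [Th_left]
  exact hφ

end pointed

section group

variable [GrpObj G]

/-- the trivial point -/
theorem Th_one (R : Type u) [CommRing R] [Algebra k R] :
    Th G η[G] ((Algebra.ofId k R).comp (rho G η[G])) = 1 := by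
  rw [Hom.one_def]
  apply Over.OverMorphism.ext
  rw [Th_left, ofHom_comp_rho, Spec.map_comp, Category.assoc, Spec_rho0]
  rfl

theorem Th_eq_one {R : Type u} [CommRing R] [Algebra k R] (α : R →ₐ[k] k)
    (s : BC G η[G] →ₐ[k] R) (hs : ∀ b, s b = algebraMap k R (α (s b))) : Th G η[G] s = 1 := by
  rw [← Th_one G R]
  congr 1
  ext b
  rw [hs b]
  show _ = algebraMap k R (rho G η[G] b)
  rw [algHom_comp_eq k (rho G η[G]) α s b]

/-- points with values in `k` are trivial -/
theorem Th_k (σ : BC G η[G] →ₐ[k] k) : Th G η[G] σ = 1 :=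
  Th_eq_one G (AlgHom.id k k) σ (fun _ => rfl)

/-- located points factor through the local ring at the unit -/
theorem exists_Th_of_located {R : Type u} [CommRing R] [Algebra k R] [IsLocalRing R]
    (α : R →ₐ[k] k) (t : Z k R ⟶ G) (ht : Zmap k α ≫ t = 1) :
    ∃ s : BC G η[G] →ₐ[k] R, t = Th G η[G] s := by
  apply exists_Th_of_apply
  rw [← Spec_closedPoint_of_algHom α]
  have h2 : (t.left : Spec (CommRingCat.of R) ⟶ G.left)
      ((Spec.map (CommRingCat.ofHom (α : R →+* k))) (closedPoint (CommRingCat.of k))) =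
      ((Zmap k α ≫ t).left : Spec (CommRingCat.of k) ⟶ G.left)
        (closedPoint (CommRingCat.of k)) := rfl
  rw [h2, ht, Hom.one_def]
  haveI : Subsingleton (Spec (CommRingCat.of k)) :=
    inferInstanceAs (Subsingleton (PrimeSpectrum k))
  show η[G].left ((Z k k).hom (closedPoint (CommRingCat.of k))) = _
  exact congrArg _ (Subsingleton.elim _ _)

theorem located_Th {R : Type u} [CommRing R] [Algebra k R] (α : R →ₐ[k] k)
    (s : BC G η[G] →ₐ[k] R) : Zmap k α ≫ Th G η[G] s = 1 := by
  rw [Zmap_Th, Th_k]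

/-- **the group law on tangent vectors at the unit is addition** -/
theorem Th_mul_apply (s₁ s₂ s₃ : BC G η[G] →ₐ[k] DualNumber k)
    (h : Th G η[G] s₁ * Th G η[G] s₂ = Th G η[G] s₃) (b : BC G η[G])
    (hb : b ∈ maximalIdeal (BC G η[G])) : s₃ b = s₁ b + s₂ b := by
  let α₂ : R2 k →ₐ[k] k := TrivSqZeroExt.fstHom k k (k × k)
  obtain ⟨p, hp⟩ := exists_Th_of_located G α₂
    (Th G η[G] ((i1 k).comp s₁) * Th G η[G] ((i2 k).comp s₂)) (by
      rw [MonObj.comp_mul, located_Th, located_Th, _root_.mul_one])
  have hcst : ∀ s : BC G η[G] →ₐ[k] DualNumber k, Th G η[G] ((cst k).comp s) = 1 := by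
    intro s
    apply Th_eq_one G (TrivSqZeroExt.fstHom k k k)
    intro b
    rfl
  have hd : (dl k).comp p = s₃ := by
    apply Th_injective G η[G]
    rw [← Zmap_Th, ← hp, MonObj.comp_mul, Zmap_Th, Zmap_Th, ← AlgHom.comp_assoc,
      ← AlgHom.comp_assoc, dl_i1, dl_i2, AlgHom.id_comp, AlgHom.id_comp, h]
  have h1 : (p1 k).comp p = s₁ := by
    apply Th_injective G η[G]
    rw [← Zmap_Th, ← hp, MonObj.comp_mul, Zmap_Th, Zmap_Th, ← AlgHom.comp_assoc,
      ← AlgHom.comp_assoc, p1_i1, p1_i2, AlgHom.id_comp, hcst, _root_.mul_one]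
  have h2 : (p2 k).comp p = s₂ := by
    apply Th_injective G η[G]
    rw [← Zmap_Th, ← hp, MonObj.comp_mul, Zmap_Th, Zmap_Th, ← AlgHom.comp_assoc,
      ← AlgHom.comp_assoc, p2_i1, p2_i2, AlgHom.id_comp, hcst, _root_.one_mul]
  have hfst : TrivSqZeroExt.fst (p b) = 0 := by
    have := algHom_comp_eq k (rho G η[G]) α₂ p b
    rw [(mem_maximalIdeal_iff k (rho G η[G]) b).mp hb] at this
    exact this
  rw [← hd, ← h1, ← h2]
  exact dl_eq k (p b) hfst

theorem Th_pow_apply (n : ℕ) : ∀ (s s' : BC G η[G] →ₐ[k] DualNumber k),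
    Th G η[G] s ^ n = Th G η[G] s' → ∀ b ∈ maximalIdeal (BC G η[G]),
      s' b = (n : DualNumber k) * s b := by
  induction n with
  | zero =>
    intro s s' h b hb
    rw [pow_zero, ← Th_one G (DualNumber k)] at h
    rw [← Th_injective G η[G] _ _ h, Nat.cast_zero, zero_mul]
    show algebraMap k (DualNumber k) (rho G η[G] b) = 0
    rw [(mem_maximalIdeal_iff k (rho G η[G]) b).mp hb, map_zero]
  | succ n ih =>
    intro s s' h b hb
    obtain ⟨s'', hs''⟩ := exists_Th_of_located G (TrivSqZeroExt.fstHom k k k)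
      (Th G η[G] s ^ n) (by
        rw [MonObj.comp_pow, located_Th, one_pow])
    rw [pow_succ, hs''] at h
    rw [Th_mul_apply G s'' s s' h b hb, ih s s'' hs'' b hb, Nat.cast_succ, add_mul, _root_.one_mul]

end group

end Groth.Agent.Lib.Helper14.NthPow
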