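import Mathlib
import Groth.Agent.Lib.Helper14.NthPow2
import Groth.Agent.Lib.Helper14.ComplFlat
import Groth.Agent.Lib.Helper18.StalkEtale2

/-!
# helper14: the n-th power map of a group scheme locally of finite type over a field is étale near
the unit when `n` is invertible in `k` (for S8395)
-/

set_option autoImplicit false
universe u
open CategoryTheory MonoidalCategory CartesianMonoidalCategory MonObj GrpObj AlgebraicGeometry
  IsLocalRing
open Groth.Agent.Lib.helper15.NatGrp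

namespace Groth.Agent.Lib.Helper14.NthPow

variable {k : Type u} [Field k] (G : Over (Spec (CommRingCat.of k))) [GrpObj G]

/-- the endomorphism of the local ring at the unit induced by the n-th power map -/
theorem exists_psi (n : ℕ) : ∃ ψ : BC G η[G] →ₐ[k] BC G η[G],
    jO G η[G] ≫ (𝟙 G : G ⟶ G) ^ n = Th G η[G] ψ := by
  apply exists_Th_of_located G (rho G η[G])
  have h1 : Zmap k (rho G η[G]) ≫ jO G η[G] = 1 := Th_k G (rho G η[G])
  rw [← Category.assoc, h1, MonObj.comp_pow, Category.comp_id, one_pow]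

theorem psi_apply (n : ℕ) (ψ : BC G η[G] →ₐ[k] BC G η[G])
    (hψ : jO G η[G] ≫ (𝟙 G : G ⟶ G) ^ n = Th G η[G] ψ)
    (s : BC G η[G] →ₐ[k] DualNumber k) (b : BC G η[G]) (hb : b ∈ maximalIdeal (BC G η[G])) :
    s (ψ b) = (n : DualNumber k) * s b := by
  refine Th_pow_apply G n s (s.comp ψ) ?_ b hb
  rw [← Zmap_Th, ← hψ]
  show _ = Zmap k s ≫ jO G η[G] ≫ (𝟙 G : G ⟶ G) ^ n
  rw [← Category.assoc, MonObj.comp_pow, Category.comp_id]
  rfl

theorem psi_graded (n : ℕ) (hn : (n : k) ≠ 0) (ψ : BC G η[G] →ₐ[k] BC G η[G])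
    (hψ : jO G η[G] ≫ (𝟙 G : G ⟶ G) ^ n = Th G η[G] ψ) (N : ℕ) :
    Function.Surjective ((Ideal.Quotient.mk (maximalIdeal (BC G η[G]) ^ (N + 1))).comp
        (ψ : BC G η[G] →+* BC G η[G])) ∧
      ∀ a : BC G η[G], ψ a ∈ maximalIdeal (BC G η[G]) ^ (N + 1) ↔
        a ∈ maximalIdeal (BC G η[G]) ^ (N + 1) := by
  have hunit : IsUnit ((n : ℕ) : BC G η[G]) := by
    have h1 : ((n : ℕ) : BC G η[G]) = algebraMap k (BC G η[G]) (n : k) := by
      rw [map_natCast]
    rw [h1]
    exact (isUnit_iff_ne_zero.mpr hn).map _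
  exact gradedIso_of_crux (ψ : BC G η[G] →+* BC G η[G]) n hunit
    (fun b => sub_mem_of_algHom k (rho G η[G]) ψ b)
    (crux_of_dualNumber k (rho G η[G]) ψ n (psi_apply G n ψ hψ)) N

theorem exists_iso_of_eq (X : Scheme.{u}) (x y : X) (h : y = x) :
    ∃ θ : X.presheaf.stalk x ≅ X.presheaf.stalk y,
      X.fromSpecStalk y = Spec.map θ.hom ≫ X.fromSpecStalk x := by
  subst h
  exact ⟨Iso.refl _, by simp⟩

theorem pow_x0 (n : ℕ) :
    ((𝟙 G : G ⟶ G) ^ n).left (x0 G η[G]) = x0 G η[G] := by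
  have h1 : (η[G] : 𝟙_ _ ⟶ G) = 1 := by
    rw [Hom.one_def, toUnit_unique (toUnit _) (𝟙 _), Category.id_comp]
  have h2 : η[G] ≫ (𝟙 G : G ⟶ G) ^ n = η[G] := by
    rw [MonObj.comp_pow, Category.comp_id, h1, one_pow]
  have h3 := congrArg (fun f => f.left) h2
  exact congr($h3 (closedPoint (CommRingCat.of k)))

theorem mem_pow_iff_of_equiv {A B : Type u} [CommRing A] [CommRing B] [IsLocalRing A]
    [IsLocalRing B] (e : B ≃+* A) (N : ℕ) (b : B) :
    e b ∈ maximalIdeal A ^ N ↔ b ∈ maximalIdeal B ^ N := by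
  have hmap : (maximalIdeal B).map (e : B →+* A) = maximalIdeal A := by
    apply le_antisymm
    · rw [Ideal.map_le_iff_le_comap]
      intro x hx
      rw [Ideal.mem_comap, mem_maximalIdeal, mem_nonunits_iff] at *
      intro h
      apply hx
      have := h.map (e.symm : A →+* B)
      simpa using this
    · intro y hy
      have h1 : e.symm y ∈ maximalIdeal B := by
        rw [mem_maximalIdeal, mem_nonunits_iff] at *
        intro h
        apply hy
        have := h.map (e : B →+* A)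
        simpa using this
      have := Ideal.mem_map_of_mem (e : B →+* A) h1
      simpa using this
  rw [← hmap, ← Ideal.map_pow]
  constructor
  · intro h
    obtain ⟨x, hx, hxy⟩ := (Ideal.mem_map_of_equiv e _).mp h
    rwa [← e.injective hxy]
  · intro h
    exact Ideal.mem_map_of_mem _ h

/-- the stalk map of the n-th power map at the unit, up to the identification of the stalks -/
theorem exists_stalkMap_eq (n : ℕ) (ψ : BC G η[G] →ₐ[k] BC G η[G])
    (hψ : jO G η[G] ≫ (𝟙 G : G ⟶ G) ^ n = Th G η[G] ψ) :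
    ∃ θ : BC G η[G] ≅ G.left.presheaf.stalk (((𝟙 G : G ⟶ G) ^ n).left (x0 G η[G])),
      θ.hom ≫ ((𝟙 G : G ⟶ G) ^ n).left.stalkMap (x0 G η[G]) =
        CommRingCat.ofHom (ψ : BC G η[G] →+* BC G η[G]) := by
  obtain ⟨θ, hθ⟩ := exists_iso_of_eq G.left (x0 G η[G]) _ (pow_x0 G n)
  refine ⟨θ, ?_⟩
  apply Spec.map_injective
  rw [← cancel_mono (j G η[G]), Spec.map_comp, Category.assoc]
  have h1 : Spec.map θ.hom ≫ j G η[G] = G.left.fromSpecStalk _ := hθ.symm
  rw [h1, Scheme.SpecMap_stalkMap_fromSpecStalk]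
  have h2 := congrArg (fun f => f.left) hψ
  exact h2

theorem stalkMap_flat_unramified (n : ℕ) (hn : (n : k) ≠ 0) [LocallyOfFiniteType G.hom] :
    (((𝟙 G : G ⟶ G) ^ n).left.stalkMap (x0 G η[G])).hom.Flat ∧
      (((𝟙 G : G ⟶ G) ^ n).left.stalkMap (x0 G η[G])).hom.FormallyUnramified := by
  haveI : IsLocallyNoetherian G.left := LocallyOfFiniteType.isLocallyNoetherian G.hom
  haveI : LocallyOfFiniteType ((𝟙 G : G ⟶ G) ^ n).left := by
    haveI : LocallyOfFiniteType (((𝟙 G : G ⟶ G) ^ n).left ≫ G.hom) := by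
      rw [Over.w]; infer_instance
    exact locallyOfFiniteType_of_comp _ G.hom
  obtain ⟨ψ, hψ⟩ := exists_psi G n
  obtain ⟨θ, hθ⟩ := exists_stalkMap_eq G n ψ hψ
  set φ := ((𝟙 G : G ⟶ G) ^ n).left.stalkMap (x0 G η[G]) with hφ
  have hφψ : ∀ b : BC G η[G], φ.hom (θ.hom.hom b) = ψ b := fun b => congr($hθ b)
  let eθ : BC G η[G] ≃+* G.left.presheaf.stalk (((𝟙 G : G ⟶ G) ^ n).left (x0 G η[G])) :=
    θ.commRingCatIsoToRingEquiv
  have heθ : ∀ b, eθ b = θ.hom.hom b := fun _ => rfl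
  have hgr : ∀ N : ℕ,
      Function.Surjective ((Ideal.Quotient.mk (maximalIdeal (BC G η[G]) ^ (N + 1))).comp φ.hom) ∧
      ∀ a, φ.hom a ∈ maximalIdeal (BC G η[G]) ^ (N + 1) ↔
        a ∈ maximalIdeal (G.left.presheaf.stalk
          (((𝟙 G : G ⟶ G) ^ n).left (x0 G η[G]))) ^ (N + 1) := by
    intro N
    obtain ⟨h1, h2⟩ := psi_graded G n hn ψ hψ N
    constructor
    · intro q
      obtain ⟨b, hb⟩ := h1 q
      refine ⟨θ.hom.hom b, ?_⟩
      rw [RingHom.comp_apply, hφψ]
      exact hb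
    · intro a
      obtain ⟨b, rfl⟩ := eθ.surjective a
      rw [heθ, hφψ, h2, ← heθ, mem_pow_iff_of_equiv eθ]
  constructor
  · exact Groth.Agent.Lib.Helper14.ComplFlat.flat_of_graded_iso φ.hom hgr
  · rw [hφ, H18Stalk.stalk_unram_iff]
    refine ⟨Groth.Agent.Lib.Helper14.ComplFlat.map_maximalIdeal_eq φ.hom hgr, ?_⟩
    have hsurj : Function.Surjective
        (((𝟙 G : G ⟶ G) ^ n).left.residueFieldMap (x0 G η[G])).hom := by
      intro c
      obtain ⟨b, rfl⟩ := IsLocalRing.residue_surjective c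
      refine ⟨IsLocalRing.residue _ (θ.hom.hom (algebraMap k (BC G η[G]) (rho G η[G] b))), ?_⟩
      show IsLocalRing.ResidueField.map φ.hom (IsLocalRing.residue _ _) = _
      rw [IsLocalRing.ResidueField.map_residue, hφψ, AlgHom.commutes]
      symm
      rw [← sub_eq_zero, ← map_sub, IsLocalRing.residue_eq_zero_iff]
      exact sub_algebraMap_mem k (rho G η[G]) b
    letI := (((𝟙 G : G ⟶ G) ^ n).left.residueFieldMap (x0 G η[G])).hom.toAlgebra
    constructor
    · exact Module.Finite.of_surjective (Algebra.linearMap _ _) hsurj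
    · rw [Algebra.isSeparable_def]
      intro y
      obtain ⟨x, rfl⟩ := hsurj y
      exact isSeparable_algebraMap x

/-- **the n-th power map is étale near the unit** -/
theorem exists_etale_nhd_unit (n : ℕ) (hn : (n : k) ≠ 0) [LocallyOfFiniteType G.hom] :
    ∃ V : G.left.Opens, x0 G η[G] ∈ V ∧ Etale (V.ι ≫ ((𝟙 G : G ⟶ G) ^ n).left) := by
  haveI : IsLocallyNoetherian G.left := LocallyOfFiniteType.isLocallyNoetherian G.hom
  haveI : LocallyOfFiniteType ((𝟙 G : G ⟶ G) ^ n).left := by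
    haveI : LocallyOfFiniteType (((𝟙 G : G ⟶ G) ^ n).left ≫ G.hom) := by
      rw [Over.w]; infer_instance
    exact locallyOfFiniteType_of_comp _ G.hom
  exact (H18Stalk.exists_etale_nhd_iff _ _).mpr (stalkMap_flat_unramified G n hn)

end Groth.Agent.Lib.Helper14.NthPow
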