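import Mathlib
import Groth.Agent.Lib.Helper14.NthPow3

/-!
# helper14: the n-th power map of a group scheme locally of finite type over a field is étale near
every central rational point when `n` is invertible in `k` (S8395)
-/

set_option autoImplicit false
universe u
open CategoryTheory MonoidalCategory CartesianMonoidalCategory MonObj GrpObj AlgebraicGeometry
  IsLocalRing

namespace Groth.Agent.Lib.Helper14.NthPow

variable {k : Type u} [Field k] (G : Over (Spec (CommRingCat.of k))) [GrpObj G]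

/-- left translation by a rational point -/
noncomputable def tr (g : 𝟙_ (Over (Spec (CommRingCat.of k))) ⟶ G) : G ⟶ G :=
  (toUnit G ≫ g) * 𝟙 G

theorem tr_comp_tr (g h : 𝟙_ (Over (Spec (CommRingCat.of k))) ⟶ G) :
    tr G g ≫ tr G h = tr G (h * g) := by
  unfold tr
  rw [MonObj.comp_mul, Category.comp_id, ← Category.assoc,
    toUnit_unique (((toUnit G ≫ g) * 𝟙 G) ≫ toUnit G) (toUnit G), ← _root_.mul_assoc,
    MonObj.comp_mul]

theorem tr_one : tr G (1 : 𝟙_ (Over (Spec (CommRingCat.of k))) ⟶ G) = 𝟙 G := by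
  unfold tr
  rw [MonObj.comp_one, _root_.one_mul]

theorem comp_tr {T : Over (Spec (CommRingCat.of k))} (x : T ⟶ G)
    (g : 𝟙_ (Over (Spec (CommRingCat.of k))) ⟶ G) : x ≫ tr G g = (toUnit T ≫ g) * x := by
  unfold tr
  rw [MonObj.comp_mul, Category.comp_id, ← Category.assoc, toUnit_unique (x ≫ toUnit G) (toUnit T)]

theorem tr_comp_pow (n : ℕ) (g : 𝟙_ (Over (Spec (CommRingCat.of k))) ⟶ G)
    (hg : (toUnit G ≫ g) * 𝟙 G = 𝟙 G * (toUnit G ≫ g)) :
    tr G g ≫ (𝟙 G : G ⟶ G) ^ n = ((𝟙 G : G ⟶ G) ^ n) ≫ tr G (g ^ n) := by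
  rw [comp_tr, MonObj.comp_pow, Category.comp_id, MonObj.comp_pow]
  unfold tr
  have hc : Commute (toUnit G ≫ g) (𝟙 G) := hg
  exact hc.mul_pow n

/-- **the n-th power map is étale near a central rational point** -/
theorem exists_etale_nhd_central [LocallyOfFiniteType G.hom] (n : ℕ) (hn : (n : k) ≠ 0)
    (g : 𝟙_ (Over (Spec (CommRingCat.of k))) ⟶ G)
    (hg : (toUnit G ≫ g) * 𝟙 G = 𝟙 G * (toUnit G ≫ g)) :
    ∃ U : G.left.Opens, Set.range g.left.base ⊆ (U : Set ↥G.left) ∧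
      Etale (U.ι ≫ ((𝟙 G : G ⟶ G) ^ n).left) := by
  obtain ⟨V, hxV, hV⟩ := exists_etale_nhd_unit G n hn
  have h1 : tr G g⁻¹ ≫ tr G g = 𝟙 G := by rw [tr_comp_tr, mul_inv_cancel, tr_one]
  have h2 : tr G g ≫ tr G g⁻¹ = 𝟙 G := by rw [tr_comp_tr, inv_mul_cancel, tr_one]
  haveI : IsIso (tr G g⁻¹) := ⟨tr G g, h1, h2⟩
  haveI : IsIso (tr G g⁻¹).left := inferInstanceAs (IsIso ((Over.forget _).map (tr G g⁻¹)))
  have h3 : tr G (g ^ n)⁻¹ ≫ tr G (g ^ n) = 𝟙 G := by rw [tr_comp_tr, mul_inv_cancel, tr_one]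
  have h4 : tr G (g ^ n) ≫ tr G (g ^ n)⁻¹ = 𝟙 G := by rw [tr_comp_tr, inv_mul_cancel, tr_one]
  haveI : IsIso (tr G (g ^ n)) := ⟨tr G (g ^ n)⁻¹, h4, h3⟩
  haveI : IsIso (tr G (g ^ n)).left :=
    inferInstanceAs (IsIso ((Over.forget _).map (tr G (g ^ n))))
  have hu : (𝟙 G : G ⟶ G) ^ n = tr G g⁻¹ ≫ ((𝟙 G : G ⟶ G) ^ n) ≫ tr G (g ^ n) := by
    rw [← tr_comp_pow G n g hg, ← Category.assoc, h1, Category.id_comp]
  refine ⟨(tr G g⁻¹).left ⁻¹ᵁ V, ?_, ?_⟩
  · rintro _ ⟨pt, rfl⟩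
    show (tr G g⁻¹).left (g.left pt) ∈ V
    have h5 : g ≫ tr G g⁻¹ = η[G] := by
      rw [comp_tr, toUnit_unique (toUnit _) (𝟙 _), Category.id_comp, inv_mul_cancel, Hom.one_def,
        toUnit_unique (toUnit _) (𝟙 _), Category.id_comp]
    have h6 : (tr G g⁻¹).left (g.left pt) = (g ≫ tr G g⁻¹).left pt := rfl
    rw [h6, h5]
    haveI : Subsingleton ↥(𝟙_ (Over (Spec (CommRingCat.of k)))).left :=
      inferInstanceAs (Subsingleton (PrimeSpectrum k))
    have h7 : η[G].left pt = x0 G η[G] := by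
      show η[G].left pt = η[G].left (closedPoint (CommRingCat.of k))
      exact congrArg _ (Subsingleton.elim _ _)
    rw [h7]
    exact hxV
  · have h8 : ((tr G g⁻¹).left ⁻¹ᵁ V).ι ≫ ((𝟙 G : G ⟶ G) ^ n).left =
        ((tr G g⁻¹).left ∣_ V) ≫ (V.ι ≫ ((𝟙 G : G ⟶ G) ^ n).left) ≫ (tr G (g ^ n)).left := by
      conv_lhs => rw [hu]
      rw [Over.comp_left, Over.comp_left, ← Category.assoc, ← morphismRestrict_ι]
      simp only [Category.assoc]
    rw [h8]
    infer_instance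

end Groth.Agent.Lib.Helper14.NthPow
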