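import Groth.Agent.Lib.Helper14.NthPow5
import Groth.Agent.Lib.Helper14.GrpSmooth1

/-!
# helper14: if `n = 0` in `k` and `dim G > 0`, the `n`-th power map of `G` is not étale;
multiplication by `d` on an abelian variety of positive dimension is étale iff `d ≠ 0` in `k`
(for S0382)
-/

set_option autoImplicit false
universe u
open CategoryTheory MonoidalCategory CartesianMonoidalCategory MonObj GrpObj AlgebraicGeometry
  IsLocalRing
open Groth.Agent.Lib.helper15.NatGrp

namespace Groth.Agent.Lib.Helper14.NthPow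

variable {k : Type u} [Field k] (G : Over (Spec (CommRingCat.of k))) [GrpObj G]

/-- if `n = 0` in `k`, the endomorphism of `O_{G,e}` induced by the `n`-th power map sends `m`
into `m²` -/
theorem psi_mem_sq (n : ℕ) (hn : (n : k) = 0) (ψ : BC G η[G] →ₐ[k] BC G η[G])
    (hψ : jO G η[G] ≫ (𝟙 G : G ⟶ G) ^ n = Th G η[G] ψ) (b : BC G η[G])
    (hb : b ∈ maximalIdeal (BC G η[G])) : ψ b ∈ maximalIdeal (BC G η[G]) ^ 2 := by
  have h := crux_of_dualNumber k (rho G η[G]) ψ n (psi_apply G n ψ hψ) b hb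
  have hnB : ((n : ℕ) : BC G η[G]) = 0 := by
    rw [← map_natCast (algebraMap k (BC G η[G])), hn, map_zero]
  rwa [hnB, zero_mul, sub_zero] at h

theorem not_etale_pow_of_cast_eq_zero [LocallyOfFiniteType G.hom] (n : ℕ) (hn : (n : k) = 0)
    (hdim : 0 < topologicalKrullDim G.left) : ¬ Etale ((𝟙 G : G ⟶ G) ^ n).left := by
  intro het
  haveI : IsLocallyNoetherian G.left := LocallyOfFiniteType.isLocallyNoetherian G.hom
  obtain ⟨ψ, hψ⟩ := exists_psi G n
  obtain ⟨θ, hθ⟩ := exists_stalkMap_eq G n ψ hψ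
  set φ := ((𝟙 G : G ⟶ G) ^ n).left.stalkMap (x0 G η[G]) with hφ
  have hφψ : ∀ b : BC G η[G], φ.hom (θ.hom.hom b) = ψ b := fun b => congr($hθ b)
  let eθ : BC G η[G] ≃+* G.left.presheaf.stalk (((𝟙 G : G ⟶ G) ^ n).left (x0 G η[G])) :=
    θ.commRingCatIsoToRingEquiv
  have heθ : ∀ b, eθ b = θ.hom.hom b := fun _ => rfl
  have hunr : φ.hom.FormallyUnramified :=
    FormallyUnramified.stalkMap ((𝟙 G : G ⟶ G) ^ n).left (x0 G η[G])
  rw [hφ, H18Stalk.stalk_unram_iff] at hunr
  obtain ⟨hmap, -⟩ := hunr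
  have hle : maximalIdeal (BC G η[G]) ≤ maximalIdeal (BC G η[G]) ^ 2 := by
    refine hmap.symm.le.trans ?_
    rw [Ideal.map_le_iff_le_comap]
    intro a ha
    obtain ⟨b, rfl⟩ := eθ.surjective a
    rw [Ideal.mem_comap, heθ]
    have hb : b ∈ maximalIdeal (BC G η[G]) := by
      have := (mem_pow_iff_of_equiv eθ 1 b).mp (by rwa [pow_one])
      rwa [pow_one] at this
    exact (hφψ b).symm ▸ psi_mem_sq G n hn ψ hψ b hb
  have hbot : maximalIdeal (BC G η[G]) = ⊥ := by
    refine Submodule.eq_bot_of_le_smul_of_le_jacobson_bot (maximalIdeal (BC G η[G])) _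
      (IsNoetherian.noetherian _) ?_ (IsLocalRing.maximalIdeal_le_jacobson _)
    rw [smul_eq_mul, ← pow_two]
    exact hle
  have hfield : IsField (BC G η[G]) := IsLocalRing.isField_iff_maximalIdeal_eq.mpr hbot
  have h0 : ringKrullDim (BC G η[G]) = 0 := ringKrullDim_eq_zero_of_isField hfield
  have hd := Groth.Agent.Lib.Helper14.GrpSmooth.dim_eq_ringKrullDim_stalk_unit G
  have hd' : topologicalKrullDim G.left = ringKrullDim (BC G η[G]) := hd
  rw [hd', h0] at hdim
  exact lt_irrefl _ hdim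

/-- **multiplication by `d` on an abelian variety of positive dimension is étale iff `d ≠ 0` in
`k`** -/
theorem etale_zpow_iff [IsProper G.hom] [GeometricallyIntegral G.hom]
    (hA : 0 < topologicalKrullDim G.left) (d : ℤ) :
    Etale ((𝟙 G : G ⟶ G) ^ d).left ↔ (d : k) ≠ 0 := by
  haveI : IsCommMonObj G := isCommMonObj_of_isProper_of_geometricallyIntegral G
  have hnat : ∀ n : ℕ, Etale ((𝟙 G : G ⟶ G) ^ n).left ↔ (n : k) ≠ 0 := fun n =>
    ⟨fun h hn => not_etale_pow_of_cast_eq_zero G n hn hA h, fun hn => etale_pow_of_comm n hn⟩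
  obtain ⟨n, rfl | rfl⟩ := Int.eq_nat_or_neg d
  · rw [zpow_natCast, Int.cast_natCast]
    exact hnat n
  · rw [zpow_neg, zpow_natCast, Int.cast_neg, Int.cast_natCast, neg_ne_zero, ← hnat n,
      Hom.inv_def, Over.comp_left]
    haveI : IsIso (ι[G]).left := inferInstanceAs (IsIso ((Over.forget _).map ι[G]))
    exact MorphismProperty.cancel_right_of_respectsIso (P := @Etale) _ _

end Groth.Agent.Lib.Helper14.NthPow
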