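import Mathlib
import Groth.Agent.Lib.Helper14.OmegaPts2

/-!
# helper14: closed points and Galois orbits of points with values in an algebraic closure

* `isClosed_of_algebraic_point`: the image of a `K`-point, `K/k` algebraic, of a scheme locally of
  finite type over `k` is a closed point.
* `exists_algEquiv_comp_eq`: two `k`-embeddings of a field into an algebraic closure of `k` differ by
  a `k`-automorphism.
* `closedPoints_and_orbits` (= S10828).
-/

set_option autoImplicit false
set_option linter.style.haveILetI false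
universe u
open CategoryTheory AlgebraicGeometry

namespace Groth.Agent.Lib.Helper14.OmegaPts

theorem isClosed_of_algebraic_point {k K : Type u} [Field k] [Field K] [Algebra k K]
    [Algebra.IsAlgebraic k K] {X : Scheme.{u}} (f : X ⟶ Spec (CommRingCat.of k))
    [LocallyOfFiniteType f] (p : Spec (CommRingCat.of K) ⟶ X)
    (hp : p ≫ f = Spec.map (CommRingCat.ofHom (algebraMap k K))) :
    IsClosed ({p (IsLocalRing.closedPoint K)} : Set X) := by
  haveI : JacobsonSpace X := LocallyOfFiniteType.jacobsonSpace f
  apply isClosed_singleton_of_isLocallyClosed_singleton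
  set x := p (IsLocalRing.closedPoint K) with hx
  obtain ⟨U, hU, hxU, -⟩ := exists_isAffineOpen_mem_and_subset (x := x) (U := ⊤) trivial
  have hall : ∀ z : Spec (CommRingCat.of K), p z = x := fun z => by
    rw [hx]; exact congrArg _ (Subsingleton.elim _ _)
  have H : Set.range p ⊆ Set.range U.ι := by
    rintro _ ⟨z, rfl⟩
    rw [hall z, Scheme.Opens.range_ι]
    exact hxU
  let p' : Spec (CommRingCat.of K) ⟶ U.toScheme := IsOpenImmersion.lift U.ι p H
  have hp' : p' ≫ U.ι = p := IsOpenImmersion.lift_fac _ _ _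
  haveI : IsAffine U.toScheme := hU
  haveI : IsSeparated (U.ι ≫ f) := inferInstance
  have hint : IsIntegralHom (p' ≫ (U.ι ≫ f)) := by
    rw [← Category.assoc, hp', hp, IsIntegralHom.SpecMap_iff]
    exact algebraMap_isIntegral_iff.mpr inferInstance
  haveI : IsIntegralHom p' :=
    MorphismProperty.of_postcomp (W := @IsIntegralHom) (W' := @IsSeparated) p' (U.ι ≫ f)
      inferInstance hint
  have hcl : IsClosed (Set.range p') := p'.isClosedMap.isClosed_range
  have himg : ({x} : Set X) = U.ι '' Set.range p' := by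
    ext y
    constructor
    · rintro rfl
      exact ⟨p' (IsLocalRing.closedPoint K), ⟨_, rfl⟩, by
        rw [← Scheme.Hom.comp_apply, hp']⟩
    · rintro ⟨_, ⟨z, rfl⟩, rfl⟩
      rw [← Scheme.Hom.comp_apply, hp']
      exact hall z
  rw [himg]
  exact hcl.isLocallyClosed.image U.ι.isOpenEmbedding.isInducing
    U.ι.isOpenEmbedding.isOpen_range.isLocallyClosed

theorem exists_algEquiv_comp_eq (k κ K : Type u) [Field k] [Field κ] [Field K] [Algebra k K]
    [IsAlgClosure k K] (ρ : k →+* κ) (a b : κ →+* K) (ha : a.comp ρ = algebraMap k K)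
    (hb : b.comp ρ = algebraMap k K) : ∃ σ : K ≃ₐ[k] K, b = σ.toRingHom.comp a := by
  letI : Algebra k κ := ρ.toAlgebra
  haveI : IsAlgClosed K := IsAlgClosure.isAlgClosed k
  haveI : Algebra.IsAlgebraic k K := IsAlgClosure.isAlgebraic
  let a' : κ →ₐ[k] K := { a with commutes' := fun c => congrArg (fun t => t c) ha }
  let b' : κ →ₐ[k] K := { b with commutes' := fun c => congrArg (fun t => t c) hb }
  let L : IntermediateField k K := a'.fieldRange
  let e : κ ≃ₐ[k] L := AlgEquiv.ofInjectiveField a'
  let g : L →ₐ[k] K := b'.comp e.symm.toAlgHom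
  have hK' : ∀ s : K, IsIntegral k s ∧ ((minpoly k s).map (algebraMap k K)).Splits := fun s =>
    ⟨Algebra.IsIntegral.isIntegral s, IsAlgClosed.splits _⟩
  obtain ⟨φ, hφ⟩ := IntermediateField.exists_algHom_of_splits hK' g
  have hbij : Function.Bijective φ := Algebra.IsAlgebraic.algHom_bijective φ
  refine ⟨AlgEquiv.ofBijective φ hbij, ?_⟩
  ext c
  have h1 := congrArg (fun t => t (e c)) hφ
  simp only [AlgHom.comp_apply, g] at h1
  have h2 : e.symm (e c) = c := e.symm_apply_apply c
  show b c = φ (a c)
  have h3 : (L.val (e c) : K) = a c := rfl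
  rw [← h3]
  rw [h1]
  show b c = b' (e.symm.toAlgHom (e c))
  show b c = b (e.symm (e c))
  rw [h2]

/-- a `K`-point over `k` written through the residue field of its image -/
theorem point_eq {k K : Type u} [Field k] [Field K] [Algebra k K] {X : Scheme.{u}}
    (f : X ⟶ Spec (CommRingCat.of k)) (p : Spec (CommRingCat.of K) ⟶ X)
    (hp : p ≫ f = Spec.map (CommRingCat.ofHom (algebraMap k K))) :
    ∃ a : X.residueField (p (IsLocalRing.closedPoint K)) ⟶ CommRingCat.of K,
      Spec.map a ≫ X.fromSpecResidueField (p (IsLocalRing.closedPoint K)) = p ∧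
        resHom f (p (IsLocalRing.closedPoint K)) ≫ a = CommRingCat.ofHom (algebraMap k K) := by
  refine ⟨X.descResidueField (Scheme.stalkClosedPointTo p),
    Scheme.descResidueField_stalkClosedPointTo_fromSpecResidueField K X p, ?_⟩
  apply Spec.map_injective
  rw [Spec.map_comp, SpecMap_resHom, ← Category.assoc,
    Scheme.descResidueField_stalkClosedPointTo_fromSpecResidueField K X p, hp]

theorem closedPoints_and_orbits (k K : Type u) [Field k] [Field K]
    [Algebra k K] [IsAlgClosure k K] {X : Scheme.{u}} (f : X ⟶ Spec (CommRingCat.of k))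
    [LocallyOfFiniteType f] :
    (∀ x : X, IsClosed ({x} : Set X) ↔
        ∃ p : Spec (CommRingCat.of K) ⟶ X, p ≫ f = Spec.map (CommRingCat.ofHom (algebraMap k K)) ∧
          p.base (IsLocalRing.closedPoint K) = x) ∧
      ∀ p q : Spec (CommRingCat.of K) ⟶ X,
        p ≫ f = Spec.map (CommRingCat.ofHom (algebraMap k K)) →
        q ≫ f = Spec.map (CommRingCat.ofHom (algebraMap k K)) →
          (p.base (IsLocalRing.closedPoint K) = q.base (IsLocalRing.closedPoint K) ↔
            ∃ σ : K ≃ₐ[k] K, q = Spec.map (CommRingCat.ofHom σ.toRingHom) ≫ p) := by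
  haveI : IsAlgClosed K := IsAlgClosure.isAlgClosed k
  haveI : Algebra.IsAlgebraic k K := IsAlgClosure.isAlgebraic
  refine ⟨fun x => ⟨fun hx => ?_, ?_⟩, fun p q hp hq => ⟨fun h => ?_, ?_⟩⟩
  · haveI : LocallyOfFiniteType (Over.mk f).hom := inferInstanceAs (LocallyOfFiniteType f)
    obtain ⟨w, hw⟩ := Groth.Agent.Lib.Helper14.KPtsDense.exists_kpt_of_isClosed_singleton (K := K)
      (Over.mk f) x hx
    exact ⟨w.left, Over.w w, hw⟩
  · rintro ⟨p, hp, rfl⟩
    exact isClosed_of_algebraic_point f p hp
  · obtain ⟨a, ha1, ha2⟩ := point_eq f p hp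
    obtain ⟨b, hb1, hb2⟩ := point_eq f q hq
    have h' : p (IsLocalRing.closedPoint K) = q (IsLocalRing.closedPoint K) := h
    let c := X.residueFieldCongr h'
    have hF : Spec.map c.hom ≫ X.fromSpecResidueField (p (IsLocalRing.closedPoint K)) =
        X.fromSpecResidueField (q (IsLocalRing.closedPoint K)) :=
      Scheme.residueFieldCongr_fromSpecResidueField h'
    have hq' : Spec.map (c.hom ≫ b) ≫ X.fromSpecResidueField (p (IsLocalRing.closedPoint K)) = q := by
      rw [Spec.map_comp, Category.assoc, hF, hb1]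
    have hb2' : resHom f (p (IsLocalRing.closedPoint K)) ≫ (c.hom ≫ b) =
        CommRingCat.ofHom (algebraMap k K) := by
      apply Spec.map_injective
      rw [Spec.map_comp, SpecMap_resHom, ← Category.assoc, hq', hq]
    obtain ⟨σ, hσ⟩ := exists_algEquiv_comp_eq k (X.residueField (p (IsLocalRing.closedPoint K))) K
      (resHom f (p (IsLocalRing.closedPoint K))).hom a.hom (c.hom ≫ b).hom
      (congrArg (fun t => t.hom) ha2) (congrArg (fun t => t.hom) hb2')
    refine ⟨σ, ?_⟩
    have hcb : c.hom ≫ b = a ≫ CommRingCat.ofHom σ.toRingHom := by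
      ext1
      exact hσ
    rw [← hq', hcb, Spec.map_comp, Category.assoc, ha1]
  · rintro ⟨σ, rfl⟩
    show p (IsLocalRing.closedPoint K) = (Spec.map (CommRingCat.ofHom σ.toRingHom) ≫ p) _
    rw [Scheme.Hom.comp_apply]
    exact congrArg _ (Subsingleton.elim _ _)

end Groth.Agent.Lib.Helper14.OmegaPts
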