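import Mathlib
import Groth.Agent.Lib.Helper14.OrbitSmooth

/-!
# helper14: the reduced image of a homomorphism from a smooth group scheme over a field is smooth
-/

set_option autoImplicit false
universe u
open CategoryTheory MonoidalCategory CartesianMonoidalCategory MonObj GrpObj AlgebraicGeometry
  CategoryTheory.Limits TopologicalSpace

namespace Groth.Agent.Lib.Helper14.OrbitSmooth

variable {S : Scheme.{u}}

/-- the action of a group object on itself by left multiplication -/
noncomputable def leftMul (G : Over S) [GrpObj G] : AlgGrp.Action G G where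
  act := μ[G]
  one_act := MonObj.one_mul G
  mul_act := MonObj.mul_assoc G

/-- the orbit map of the unit under `g • g' = f g * g'` is `f` -/
theorem orbitMap_restrict_leftMul {G G' : Over S} [GrpObj G] [GrpObj G'] (f : G ⟶ G')
    [IsMonHom f] : ((leftMul G').restrict f).orbitMap η[G'] = f := by
  rw [AlgGrp.Action.orbitMap, AlgGrp.Action.lift_restrict_act, Category.id_comp]
  change lift f (toUnit G ≫ η[G']) ≫ μ[G'] = f
  rw [← Hom.mul_def, ← Hom.one_def, _root_.mul_one]

/-- **The reduced image of a homomorphism from a smooth group scheme over a field is smooth.** -/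
theorem smooth_image_hom {k : Type u} [Field k] {G G' : Over (Spec (CommRingCat.of k))} [GrpObj G]
    [GrpObj G'] [Smooth G.hom] [LocallyOfFiniteType G'.hom] (f : G ⟶ G') [IsMonHom f]
    {H : Scheme.{u}} (i : H ⟶ G'.left) [IsImmersion i] [IsReduced H]
    (hH : Set.range i = Set.range f.left) : Smooth (i ≫ G'.hom) := by
  apply smooth_orbit ((leftMul G').restrict f) η[G'] i
  rw [orbitMap_restrict_leftMul]
  exact hH

end Groth.Agent.Lib.Helper14.OrbitSmooth
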