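import Mathlib
import Groth.Prelude.Def_W4c5nonratstablectREq
import Groth.Agent.Lib.Helper18.ProjChart
import Groth.Agent.Lib.Helper12.HProjAffine

/-!
# helper14: affine lines in the Prelude's projective line and direct R-links through affine space

* `R1 K`, `tt K`, `ev K c`: the coordinate ring of the chart `T₀ ≠ 0` of `P^1_K` (a `K`-algebra through
  `cHom 1 K 0`), its coordinate `t = T₁/T₀`, and the evaluation `t ↦ c`.
* `chart K : Spec (R1 K) ⟶ REq.P1K K`: the open immersion of that chart, with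
  `chart_toSpec : chart K ≫ P1K.toSpec K = Spec.map (cHom 1 K 0)`.
* `elemLink_of_affine`: if two `K`-points `A`, `B` of a `k`-scheme `X` are the images under
  `b : V ⟶ X` (over `k`) of `K`-points of an open `V` of an affine space `Spec k[x_i, i ∈ σ]`, then
  `A` and `B` are directly R-linked (through the line joining the two points of affine space).
-/

set_option autoImplicit false
universe u
open CategoryTheory CategoryTheory.Limits AlgebraicGeometry MvPolynomial

namespace Groth.Agent.Lib.Helper14.P1Line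

open Groth.Agent.Lib.Helper18.ProjChart Groth.Agent.Lib.helper12.HProjAffine
  Groth.Agent.Lib.helper12.PnLocal

variable (K : Type u) [Field K]

/-- the coordinate ring of the chart `T₀ ≠ 0` of `P^1_K` -/
abbrev R1 : Type u :=
  HomogeneousLocalization.Away (CohB1.polyGrading 1 K) (X 0 : MvPolynomial (Fin (1 + 1)) K)

/-- the coordinate `t = T₁ / T₀` -/
noncomputable def tt : R1 K := ratio 1 K 0 1

/-- evaluation at `t = c` -/
noncomputable def ev (c : K) : R1 K →+* K :=
  (eval₂Hom (RingHom.id K) (fun _ => c)).comp (chartEquiv 1 K 0).symm.toRingHom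

theorem chartEquiv_C (r : K) : chartEquiv 1 K 0 (C r) = cHom 1 K 0 r := by
  change Φ 1 K 0 (C r) = _
  simp [Φ]

theorem chartEquiv_X (j : Idx 1 0) : chartEquiv 1 K 0 (X j) = ratio 1 K 0 j.1 := by
  change Φ 1 K 0 (X j) = _
  simp [Φ]

theorem ev_cHom (c r : K) : ev K c (cHom 1 K 0 r) = r := by
  unfold ev
  rw [← chartEquiv_C]
  simp

theorem ev_tt (c : K) : ev K c (tt K) = c := by
  unfold ev tt
  have : ratio 1 K 0 1 = chartEquiv 1 K 0 (X ⟨1, by decide⟩) := (chartEquiv_X K ⟨1, by decide⟩).symm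
  rw [this]
  simp

/-- the chart `T₀ ≠ 0` of the Prelude's projective line over `K` -/
noncomputable def chart : Spec (CommRingCat.of (R1 K)) ⟶ REq.P1K K :=
  Proj.awayι (CohB1.polyGrading 1 K) (X 0 : MvPolynomial (Fin (1 + 1)) K) (X_mem 1 K 0) one_pos ≫
    (kappa 1 K).hom

instance : IsOpenImmersion (chart K) := by
  unfold chart
  infer_instance

theorem chart_toSpec :
    chart K ≫ REq.P1K.toSpec K = Spec.map (CommRingCat.ofHom (cHom 1 K 0)) := by
  unfold chart
  rw [Category.assoc]
  have h1 : (kappa 1 K).hom ≫ REq.P1K.toSpec K = toSpecP 1 K := kappa_hom_toBase 1 K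
  rw [h1, toSpecP_eq, Proj.awayι_toSpecZero_assoc, ← Spec.map_comp]
  rfl


section Link

variable {K}
variable {k : Type u} [Field k] [Algebra k K] {σ : Type}

/-- the line `t ↦ a + t (b - a)` -/
noncomputable def lineHom (φA φB : MvPolynomial σ k →+* K) : MvPolynomial σ k →+* R1 K :=
  eval₂Hom ((cHom 1 K 0).comp (algebraMap k K))
    (fun i => cHom 1 K 0 (φA (X i)) + tt K * cHom 1 K 0 (φB (X i) - φA (X i)))

theorem lineHom_C (φA φB : MvPolynomial σ k →+* K) (r : k) :
    lineHom φA φB (C r) = cHom 1 K 0 (algebraMap k K r) := by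
  simp [lineHom]

theorem ev_zero_lineHom (φA φB : MvPolynomial σ k →+* K)
    (hA : φA.comp (C : k →+* MvPolynomial σ k) = algebraMap k K) :
    (ev K 0).comp (lineHom φA φB) = φA := by
  apply MvPolynomial.ringHom_ext
  · intro r
    have := congrArg (fun g => g r) hA
    simp only [RingHom.comp_apply] at this
    simp only [RingHom.comp_apply, lineHom_C, ev_cHom, this]
  · intro i
    simp only [RingHom.comp_apply, lineHom, eval₂Hom_X', map_add, map_mul, ev_cHom, ev_tt]
    ring

theorem ev_one_lineHom (φA φB : MvPolynomial σ k →+* K)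
    (hA : φA.comp (C : k →+* MvPolynomial σ k) = algebraMap k K)
    (hB : φB.comp (C : k →+* MvPolynomial σ k) = algebraMap k K) :
    (ev K 1).comp (lineHom φA φB) = φB := by
  apply MvPolynomial.ringHom_ext
  · intro r
    have := congrArg (fun g => g r) hB
    simp only [RingHom.comp_apply] at this
    simp only [RingHom.comp_apply, lineHom_C, ev_cHom, this]
  · intro i
    simp only [RingHom.comp_apply, lineHom, eval₂Hom_X', map_add, map_mul, ev_cHom, ev_tt]
    ring


/-- Two `K`-points of `X` that come from `K`-points of an open `V` of an affine space over `k`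
through a `k`-morphism `b : V ⟶ X` are directly R-linked. -/
theorem elemLink_of_affine {X : Scheme.{u}} (f : X ⟶ Spec (CommRingCat.of k))
    (V : (Spec (CommRingCat.of (MvPolynomial σ k))).Opens) (b : (V : Scheme.{u}) ⟶ X)
    (hb : b ≫ f = V.ι ≫ Spec.map (CommRingCat.ofHom (algebraMap k (MvPolynomial σ k))))
    (A B : REq.Pts f K)
    (A' B' : Spec (CommRingCat.of K) ⟶ (V : Scheme.{u})) (hA : A' ≫ b = A.1) (hB : B' ≫ b = B.1) :
    REq.ElemLink f K A B := by
  obtain ⟨φA, hφA⟩ := Spec.map_surjective (A' ≫ V.ι)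
  obtain ⟨φB, hφB⟩ := Spec.map_surjective (B' ≫ V.ι)
  have hAk : φA.hom.comp (C : k →+* MvPolynomial σ k) = algebraMap k K := by
    have h1 : Spec.map (CommRingCat.ofHom (algebraMap k (MvPolynomial σ k)) ≫ φA) =
        Spec.map (CommRingCat.ofHom (algebraMap k K)) := by
      rw [Spec.map_comp, hφA, Category.assoc, ← hb, ← Category.assoc, hA]
      exact A.2
    have h2 := Spec.map_injective h1
    have h3 := congrArg (fun g => g.hom) h2
    exact h3
  have hBk : φB.hom.comp (C : k →+* MvPolynomial σ k) = algebraMap k K := by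
    have h1 : Spec.map (CommRingCat.ofHom (algebraMap k (MvPolynomial σ k)) ≫ φB) =
        Spec.map (CommRingCat.ofHom (algebraMap k K)) := by
      rw [Spec.map_comp, hφB, Category.assoc, ← hb, ← Category.assoc, hB]
      exact B.2
    have h2 := Spec.map_injective h1
    have h3 := congrArg (fun g => g.hom) h2
    exact h3
  set ψ : MvPolynomial σ k →+* R1 K := lineHom φA.hom φB.hom with hψ
  set m : Spec (CommRingCat.of (R1 K)) ⟶ Spec (CommRingCat.of (MvPolynomial σ k)) :=
    Spec.map (CommRingCat.ofHom ψ) with hm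
  have hm0 : Spec.map (CommRingCat.ofHom (ev K 0)) ≫ m = A' ≫ V.ι := by
    rw [hm, ← Spec.map_comp, ← hφA, ← CommRingCat.ofHom_comp, ev_zero_lineHom _ _ hAk]
    rfl
  have hm1 : Spec.map (CommRingCat.ofHom (ev K 1)) ≫ m = B' ≫ V.ι := by
    rw [hm, ← Spec.map_comp, ← hφB, ← CommRingCat.ofHom_comp, ev_one_lineHom _ _ hAk hBk]
    rfl
  have hmk : m ≫ Spec.map (CommRingCat.ofHom (algebraMap k (MvPolynomial σ k))) =
      Spec.map (CommRingCat.ofHom (cHom 1 K 0)) ≫ REq.specMap k K := by
    rw [hm, ← Spec.map_comp, ← Spec.map_comp, ← CommRingCat.ofHom_comp, ← CommRingCat.ofHom_comp]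
    have : ψ.comp (algebraMap k (MvPolynomial σ k)) = (cHom 1 K 0).comp (algebraMap k K) := by
      apply RingHom.ext
      intro r
      exact lineHom_C φA.hom φB.hom r
    rw [this]
  -- the open
  let L' : (Spec (CommRingCat.of (R1 K))).Opens := m ⁻¹ᵁ V
  let L : (REq.P1K K).Opens := (chart K) ''ᵁ L'
  let iso : (L' : Scheme.{u}) ≅ (L : Scheme.{u}) := (chart K).isoImage L'
  have hiso : iso.inv ≫ L'.ι ≫ chart K = L.ι := (chart K).isoImage_inv_ι L'
  have hr0 : Set.range (Spec.map (CommRingCat.ofHom (ev K 0))) ⊆ Set.range L'.ι := by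
    rintro _ ⟨p, rfl⟩
    rw [Scheme.Opens.range_ι]
    change m (Spec.map (CommRingCat.ofHom (ev K 0)) p) ∈ V
    rw [← Scheme.Hom.comp_apply, hm0, Scheme.Hom.comp_apply]
    exact (A' p).2
  have hr1 : Set.range (Spec.map (CommRingCat.ofHom (ev K 1))) ⊆ Set.range L'.ι := by
    rintro _ ⟨p, rfl⟩
    rw [Scheme.Opens.range_ι]
    change m (Spec.map (CommRingCat.ofHom (ev K 1)) p) ∈ V
    rw [← Scheme.Hom.comp_apply, hm1, Scheme.Hom.comp_apply]
    exact (B' p).2
  let α' : Spec (CommRingCat.of K) ⟶ (L' : Scheme.{u}) := IsOpenImmersion.lift L'.ι _ hr0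
  let β' : Spec (CommRingCat.of K) ⟶ (L' : Scheme.{u}) := IsOpenImmersion.lift L'.ι _ hr1
  have hα' : α' ≫ L'.ι = Spec.map (CommRingCat.ofHom (ev K 0)) := IsOpenImmersion.lift_fac _ _ _
  have hβ' : β' ≫ L'.ι = Spec.map (CommRingCat.ofHom (ev K 1)) := IsOpenImmersion.lift_fac _ _ _
  have hevC : ∀ c : K, Spec.map (CommRingCat.ofHom (ev K c)) ≫
      Spec.map (CommRingCat.ofHom (cHom 1 K 0)) = 𝟙 _ := by
    intro c
    rw [← Spec.map_comp, ← CommRingCat.ofHom_comp]
    have : (ev K c).comp (cHom 1 K 0) = RingHom.id K := by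
      ext r
      exact ev_cHom K c r
    rw [this]
    exact Spec.map_id _
  refine ⟨L, iso.inv ≫ (m ∣_ V) ≫ b, α' ≫ iso.hom, β' ≫ iso.hom, ?_, ?_, ?_, ?_, ?_⟩
  · rw [Category.assoc, Category.assoc, hb, morphismRestrict_ι_assoc, hmk, ← hiso, ← chart_toSpec]
    simp only [Category.assoc]
    rfl
  · rw [← hiso]
    simp only [Category.assoc, Iso.hom_inv_id_assoc]
    rw [← Category.assoc, hα', chart_toSpec, hevC]
  · rw [← hiso]
    simp only [Category.assoc, Iso.hom_inv_id_assoc]
    rw [← Category.assoc, hβ', chart_toSpec, hevC]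
  · rw [Category.assoc, Iso.hom_inv_id_assoc, ← hA, ← Category.assoc]
    congr 1
    rw [← cancel_mono V.ι, Category.assoc, morphismRestrict_ι, ← Category.assoc, hα', hm0]
  · rw [Category.assoc, Iso.hom_inv_id_assoc, ← hB, ← Category.assoc]
    congr 1
    rw [← cancel_mono V.ι, Category.assoc, morphismRestrict_ι, ← Category.assoc, hβ', hm1]

end Link

end Groth.Agent.Lib.Helper14.P1Line
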