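import Mathlib
import Groth.Prelude.Def_FEt
import Groth.Agent.Lib.Helper14.FEtGlue5
import Groth.Agent.Lib.Helper14.GalDesc2

/-!
# helper14: finite étale covers are insensitive to purely inseparable extensions of the base field
-/

set_option autoImplicit false
set_option linter.style.haveILetI false

namespace Groth.Agent.Lib.helper14.PerfDesc

open AlgebraicGeometry CategoryTheory CategoryTheory.Limits
open Groth.Agent.Lib.helper14.FibIso Groth.Agent.Lib.helper14.Frob
open Groth.Agent.Lib.helper14.FEtGlue

universe u

variable (k K : Type u) [Field k] [Field K] [Algebra k K] [IsPurelyInseparable k K]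
  {X : Scheme.{u}} (f : X ⟶ Spec (CommRingCat.of k))

/-- the quasi-compact quasi-separated case -/
theorem essImage_of_qcqs [CompactSpace X] [QuasiSeparatedSpace X]
    (V : FEt.Cat (pullback f (Spec.map (CommRingCat.ofHom (algebraMap k K))))) :
    (FEt.restrict (pullback.fst f (Spec.map (CommRingCat.ofHom (algebraMap k K))))).essImage V := by
  obtain ⟨v, hvdef⟩ : ∃ v : V.left ⟶ _, v = V.hom := ⟨_, rfl⟩
  haveI : IsFinite v := hvdef ▸ V.prop.1
  haveI : Etale v := hvdef ▸ V.prop.2
  haveI : Algebra.IsAlgebraic k K := inferInstance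
  obtain ⟨L, hL, YL, gL, hgL1, hgL2, c, hc1, hc2, e, hpb⟩ :=
    FinLevelAlg.exists_finite_level_cover k K f v
  subst hvdef
  have hV : (FEt.restrict c).essImage V := essImage_of_isPullback c V gL e hpb
  haveI : IsPurelyInseparable k L := IsPurelyInseparable.tower_bot k L K
  haveI : IsPurelyInseparable.HasExponent k L :=
    IsPurelyInseparable.hasExponent_of_finiteDimensional
  exact essImage_comp_of_essSurj c (pullback.fst f _) (pullback.fst f _) hc1.symm
    (fun W => exists_descent k L f W) hV

theorem univHomeo_fst :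
    IsIntegralHom (pullback.fst f (Spec.map (CommRingCat.ofHom (algebraMap k K)))) ∧
    UniversallyInjective (pullback.fst f (Spec.map (CommRingCat.ofHom (algebraMap k K)))) ∧
    Surjective (pullback.fst f (Spec.map (CommRingCat.ofHom (algebraMap k K)))) := by
  obtain ⟨h1, h2, h3⟩ := Groth.Agent.Lib.Helper14.GalDesc.univHomeo_of_isPurelyInseparable k K
  exact ⟨MorphismProperty.pullback_fst (P := @IsIntegralHom) _ _ h1,
    MorphismProperty.pullback_fst (P := @UniversallyInjective) _ _ h2,
    MorphismProperty.pullback_fst (P := @Surjective) _ _ h3⟩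

/-- the general case, by gluing -/
theorem essImage_restrict
    (V : FEt.Cat (pullback f (Spec.map (CommRingCat.ofHom (algebraMap k K))))) :
    (FEt.restrict (pullback.fst f (Spec.map (CommRingCat.ofHom (algebraMap k K))))).essImage V := by
  obtain ⟨h1, h2, h3⟩ := univHomeo_fst k K f
  apply essImage_of_affineOpens (pullback.fst f (Spec.map (CommRingCat.ofHom (algebraMap k K)))) V
  intro U
  let θ : pullback (pullback.fst f (Spec.map (CommRingCat.ofHom (algebraMap k K)))) U.1.ι ≅
      pullback (U.1.ι ≫ f) (Spec.map (CommRingCat.ofHom (algebraMap k K))) :=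
    pullbackSymmetry _ _ ≪≫ pullbackRightPullbackFstIso f _ U.1.ι
  have hθ : θ.hom ≫ pullback.fst (U.1.ι ≫ f) (Spec.map (CommRingCat.ofHom (algebraMap k K))) =
      pullback.snd (pullback.fst f (Spec.map (CommRingCat.ofHom (algebraMap k K)))) U.1.ι := by
    simp [θ]
  haveI : IsAffine (U.1 : Scheme.{u}) := U.2
  exact essImage_comp_of_essSurj θ.hom (pullback.fst (U.1.ι ≫ f) _) _ hθ.symm
    (fun W => essImage_of_qcqs k K (U.1.ι ≫ f) W) (essImage_restrict_of_isIso θ.hom _)

/-- **finite étale covers of `X` and of `X ×_k K` agree for `K/k` purely inseparable** -/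
theorem isEquivalence_restrict :
    (FEt.restrict (pullback.fst f (Spec.map (CommRingCat.ofHom (algebraMap k K))))).IsEquivalence := by
  obtain ⟨h1, h2, h3⟩ := univHomeo_fst k K f
  haveI : (FEt.restrict (pullback.fst f
      (Spec.map (CommRingCat.ofHom (algebraMap k K))))).Faithful :=
    Groth.Agent.Lib.helper9.ThickLift.faithful_pullback FEt.prop (fun _ _ _ h => h.2) _
  haveI : (FEt.restrict (pullback.fst f
      (Spec.map (CommRingCat.ofHom (algebraMap k K))))).Full :=
    Groth.Agent.Lib.helper9.ThickLift.full_pullback FEt.prop (fun _ _ _ h => h.2) _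
  haveI : (FEt.restrict (pullback.fst f
      (Spec.map (CommRingCat.ofHom (algebraMap k K))))).EssSurj :=
    ⟨fun V => essImage_restrict k K f V⟩
  exact { }

end Groth.Agent.Lib.helper14.PerfDesc
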