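import Mathlib
import Groth.Agent.Lib.Helper9.SpectralConn

/-!
# helper14: `π₀` of spectral spaces and maps inducing a bijection on clopen subsets
-/

set_option autoImplicit false
universe u

namespace Groth.Agent.Lib.Helper14.Pi0Spectral

open Topology TopologicalSpace Set Groth.Agent.Lib.helper9

variable {X Y : Type u} [TopologicalSpace X] [TopologicalSpace Y]

theorem exists_isClopen_of_not_mem_connectedComponent [CompactSpace X] [PrespectralSpace X]
    [QuasiSeparatedSpace X] {x x' : X} (h : x' ∉ connectedComponent x) :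
    ∃ Z : Set X, IsClopen Z ∧ x ∈ Z ∧ x' ∉ Z := by
  rw [connectedComponent_eq_iInter_isClopen_of_spectral x, mem_iInter] at h
  push_neg at h
  obtain ⟨⟨Z, hZ, hxZ⟩, hx'⟩ := h
  exact ⟨Z, hZ, hxZ, hx'⟩

theorem t2Space_connectedComponents [CompactSpace X] [PrespectralSpace X]
    [QuasiSeparatedSpace X] : T2Space (ConnectedComponents X) := by
  refine ⟨ConnectedComponents.surjective_coe.forall₂.2 fun a b ne => ?_⟩
  rw [ConnectedComponents.coe_ne_coe] at ne
  have hb : b ∉ connectedComponent a := by
    intro hb
    exact ne (connectedComponent_eq hb)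
  obtain ⟨Z, hZ, haZ, hbZ⟩ := exists_isClopen_of_not_mem_connectedComponent hb
  have hpre : ((↑) : X → ConnectedComponents X) ⁻¹' (((↑) : X → ConnectedComponents X) '' Z) = Z :=
    (connectedComponents_preimage_image Z).symm ▸ hZ.biUnion_connectedComponent_eq
  have hV : IsClopen (((↑) : X → ConnectedComponents X) '' Z) := by
    rw [← ConnectedComponents.isQuotientMap_coe.isClopen_preimage, hpre]
    exact hZ
  refine ⟨_, _, hV.isOpen, hV.compl.isOpen, ⟨a, haZ, rfl⟩, ?_, disjoint_compl_right⟩
  intro hbV
  have : b ∈ ((↑) : X → ConnectedComponents X) ⁻¹' (((↑) : X → ConnectedComponents X) '' Z) := hbV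
  rw [hpre] at this
  exact hbZ this

theorem isHomeomorph_connectedComponentsMap [CompactSpace X] [PrespectralSpace X]
    [QuasiSeparatedSpace X] [CompactSpace Y] [PrespectralSpace Y] [QuasiSeparatedSpace Y]
    {f : X → Y} (hf : Continuous f)
    (h1 : ∀ W : Set Y, IsClopen W → f ⁻¹' W = ∅ → W = ∅)
    (h2 : ∀ Z : Set X, IsClopen Z → ∃ W : Set Y, IsClopen W ∧ f ⁻¹' W = Z) :
    IsHomeomorph hf.connectedComponentsMap := by
  haveI : T2Space (ConnectedComponents Y) := t2Space_connectedComponents
  rw [isHomeomorph_iff_continuous_bijective]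
  refine ⟨hf.connectedComponentsMap_continuous, ?_, ?_⟩
  · -- injective
    refine ConnectedComponents.surjective_coe.forall₂.2 fun x x' hxx' => ?_
    rw [hf.connectedComponentsMap_mk, hf.connectedComponentsMap_mk,
      ConnectedComponents.coe_eq_coe] at hxx'
    by_contra hne
    rw [ConnectedComponents.coe_eq_coe] at hne
    have hx' : x' ∉ connectedComponent x := by
      intro hx'
      exact hne (connectedComponent_eq hx')
    obtain ⟨Z, hZ, hxZ, hx'Z⟩ := exists_isClopen_of_not_mem_connectedComponent hx'
    obtain ⟨W, hW, rfl⟩ := h2 Z hZ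
    have h3 : connectedComponent (f x) ⊆ W := hW.connectedComponent_subset hxZ
    apply hx'Z
    show f x' ∈ W
    apply h3
    rw [hxx']
    exact mem_connectedComponent
  · -- surjective
    refine ConnectedComponents.surjective_coe.forall.2 fun y => ?_
    by_contra hcon
    push_neg at hcon
    have hpre : f ⁻¹' connectedComponent y = ∅ := by
      rw [eq_empty_iff_forall_notMem]
      intro x hx
      apply hcon (x : ConnectedComponents X)
      rw [hf.connectedComponentsMap_mk, ConnectedComponents.coe_eq_coe]
      exact (connectedComponent_eq hx).symm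
    rw [connectedComponent_eq_iInter_isClopen_of_spectral y, preimage_iInter] at hpre
    have hpre' : (univ : Set X) ∩ ⋂ s : { s : Set Y // IsClopen s ∧ y ∈ s }, f ⁻¹' s.1 = ∅ := by
      rw [univ_inter]; exact hpre
    obtain ⟨t, ht⟩ := isCompact_univ.elim_finite_subfamily_closed
      (fun s : { s : Set Y // IsClopen s ∧ y ∈ s } => f ⁻¹' s.1)
      (fun s => s.2.1.1.preimage hf) hpre'
    rw [univ_inter] at ht
    let W : Set Y := ⋂ (i : { s : Set Y // IsClopen s ∧ y ∈ s }) (_ : i ∈ t), i.1
    have hW : IsClopen W := isClopen_biInter_finset fun i _ => i.2.1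
    have hyW : y ∈ W := mem_iInter₂.2 fun s _ => s.2.2
    have hfW : f ⁻¹' W = ∅ := by
      rw [← ht]
      simp only [W, preimage_iInter]
    have := h1 W hW hfW
    rw [this] at hyW
    exact hyW

end Groth.Agent.Lib.Helper14.Pi0Spectral
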