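import Mathlib
import Groth.Agent.Lib.Helper14.FreeAct2

/-!
# helper14: fullness of restriction of finite étale covers from `π₀`-bijectivity (SGA1 V / IX)

* `isOpen_connectedComponent_of_noetherianSpace'`: components of a Noetherian space are open
  (copy of helper2's lemma, to avoid heavy imports).
* `exists_clopen_preimage`: if `π : A → B` is continuous, injective on `π₀`, with `A`, `B`
  Noetherian spaces, every clopen of `A` is the preimage of a clopen of `B`.
* `exists_hom_of_restrict`: a morphism between the restrictions of two finite étale covers to a
  closed subscheme lifts to a morphism of covers, under the `π₀` hypotheses.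
-/

set_option autoImplicit false
set_option linter.style.haveILetI false

namespace Groth.Agent.Lib.helper14.PiZeroFull

open AlgebraicGeometry CategoryTheory CategoryTheory.Limits TopologicalSpace
open Groth.Agent.Lib.helper14.FEtGal Groth.Agent.Lib.helper14.FibIso
open Groth.Agent.Lib.helper14.SplitCov

universe u

section Topology

/-- in a Noetherian space connected components are open -/
theorem isOpen_connectedComponent_of_noetherianSpace' {α : Type*} [TopologicalSpace α]
    [NoetherianSpace α] (x : α) : IsOpen (connectedComponent x) := by
  have hfin := NoetherianSpace.finite_irreducibleComponents (α := α)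
  have hcl : IsClosed (⋃₀ {Z ∈ irreducibleComponents α | Disjoint Z (connectedComponent x)}) := by
    rw [Set.sUnion_eq_biUnion]
    exact (hfin.subset (fun Z hZ => hZ.1)).isClosed_biUnion
      (fun Z hZ => isClosed_of_mem_irreducibleComponents Z hZ.1)
  have heq : (connectedComponent x)ᶜ =
      ⋃₀ {Z ∈ irreducibleComponents α | Disjoint Z (connectedComponent x)} := by
    ext y
    constructor
    · intro hy
      have hy' : y ∈ ⋃₀ irreducibleComponents α := by
        rw [sUnion_irreducibleComponents]; trivial
      obtain ⟨Z, hZ, hyZ⟩ := hy'
      refine ⟨Z, ⟨hZ, ?_⟩, hyZ⟩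
      rw [Set.disjoint_left]
      intro w hwZ hwC
      apply hy
      have hpre : IsPreconnected Z := hZ.1.2.isPreconnected
      have hsub := hpre.subset_connectedComponent hwZ
      rw [← connectedComponent_eq hwC] at hsub
      exact hsub hyZ
    · rintro ⟨Z, ⟨_, hd⟩, hyZ⟩ hyC
      exact Set.disjoint_left.1 hd hyZ hyC
  rw [← isClosed_compl_iff, heq]
  exact hcl

/-- clopen sets descend along a map injective on connected components -/
theorem exists_clopen_preimage {A B : Type*} [TopologicalSpace A] [TopologicalSpace B]
    [NoetherianSpace B] {π : A → B} (hπ : Continuous π)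
    (hinj : Function.Injective hπ.connectedComponentsMap) (C₀ : Set A) (hC₀ : IsClopen C₀) :
    ∃ C : Set B, IsClopen C ∧ π ⁻¹' C = C₀ := by
  refine ⟨{b | ∃ a ∈ C₀, connectedComponent (π a) = connectedComponent b}, ⟨?_, ?_⟩, ?_⟩
  · rw [← isOpen_compl_iff, isOpen_iff_forall_mem_open]
    intro b hb
    refine ⟨connectedComponent b, ?_, isOpen_connectedComponent_of_noetherianSpace' b,
      mem_connectedComponent⟩
    rintro b' hb' ⟨a, ha, hab⟩
    exact hb ⟨a, ha, hab.trans (connectedComponent_eq hb').symm⟩
  · rw [isOpen_iff_forall_mem_open]
    rintro b ⟨a, ha, hab⟩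
    refine ⟨connectedComponent b, ?_, isOpen_connectedComponent_of_noetherianSpace' b,
      mem_connectedComponent⟩
    intro b' hb'
    exact ⟨a, ha, hab.trans (connectedComponent_eq hb')⟩
  · ext a'
    constructor
    · rintro ⟨a, ha, hab⟩
      have h1 : hπ.connectedComponentsMap (a : ConnectedComponents A) =
          hπ.connectedComponentsMap (a' : ConnectedComponents A) := by
        show ((π a : B) : ConnectedComponents B) = ((π a' : B) : ConnectedComponents B)
        exact ConnectedComponents.coe_eq_coe.2 hab
      have h2 := ConnectedComponents.coe_eq_coe.1 (hinj h1)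
      have h3 : a' ∈ connectedComponent a := by
        rw [h2]; exact mem_connectedComponent
      exact hC₀.connectedComponent_subset ha h3
    · intro ha'
      exact ⟨a', ha', rfl⟩

end Topology

end Groth.Agent.Lib.helper14.PiZeroFull
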