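import Mathlib
import Groth.Agent.Lib.Helper14.PiZeroFull1

/-!
# helper14: fullness of restriction of finite étale covers from `π₀`-bijectivity, scheme part
-/

set_option autoImplicit false
set_option linter.style.haveILetI false

namespace Groth.Agent.Lib.helper14.PiZeroFull

open AlgebraicGeometry CategoryTheory CategoryTheory.Limits TopologicalSpace
open Groth.Agent.Lib.helper14.FEtGal Groth.Agent.Lib.helper14.FibIso
open Groth.Agent.Lib.helper14.SplitCov

universe u

lemma noetherianSpace_of_finite {P X : Scheme.{u}} (g : P ⟶ X) [IsFinite g] [IsNoetherian X] :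
    NoetherianSpace P := by
  haveI : IsLocallyNoetherian P := LocallyOfFiniteType.isLocallyNoetherian g
  haveI : CompactSpace P := QuasiCompact.compactSpace_of_compactSpace g
  haveI : IsNoetherian P := {}
  infer_instance

/-- a finite étale morphism whose rank is `1` on a set meeting all connected components is an
isomorphism -/
lemma isIso_of_finrank_eq_one_of_meets {Q Y : Scheme.{u}} (q : Q ⟶ Y) [IsFinite q] [Etale q]
    (S : Set Y) (hS : ∀ y : Y, (connectedComponent y ∩ S).Nonempty)
    (h1 : ∀ y ∈ S, q.finrank y = 1) : IsIso q := by
  rw [Scheme.Hom.isIso_iff_finrank_eq]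
  funext y
  obtain ⟨y', hy', hy'S⟩ := hS y
  have := (Scheme.Hom.isLocallyConstant_finrank q).apply_eq_of_isPreconnected
    isPreconnected_connectedComponent hy' (mem_connectedComponent (x := y))
  rw [Pi.one_apply, ← this]
  exact h1 y' hy'S

end Groth.Agent.Lib.helper14.PiZeroFull
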