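import Mathlib
import Groth.Agent.Lib.Helper14.PiZeroFull2

set_option autoImplicit false
set_option linter.style.haveILetI false

namespace Groth.Agent.Lib.helper14.PiZeroFull

open AlgebraicGeometry CategoryTheory CategoryTheory.Limits TopologicalSpace
open Groth.Agent.Lib.helper14.FEtGal Groth.Agent.Lib.helper14.FibIso
open Groth.Agent.Lib.helper14.SplitCov

universe u

variable {X X₀ Y Z : Scheme.{u}} (i : X₀ ⟶ X) (y : Y ⟶ X) (z : Z ⟶ X)
  [IsFinite y] [Etale y] [IsFinite z] [Etale z]

/-- lifting a morphism between restricted covers -/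
theorem exists_hom_of_restrict [IsNoetherian X] [IsClosedImmersion i]
    (hinj : Function.Injective
      (pullback.fst (pullback.fst y z ≫ y) i).continuous.connectedComponentsMap)
    (hsurj : Function.Surjective (pullback.fst y i).continuous.connectedComponentsMap)
    (m₀ : pullback y i ⟶ pullback z i) (hm₀ : m₀ ≫ pullback.snd z i = pullback.snd y i) :
    ∃ φ : Y ⟶ Z, φ ≫ z = y ∧ pullback.fst y i ≫ φ = m₀ ≫ pullback.fst z i := by
  let W := pullback y z
  let w : W ⟶ X := pullback.fst y z ≫ y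
  let W₀ := pullback w i
  let Y₀ := pullback y i
  let π : W₀ ⟶ W := pullback.fst w i
  have hcond : pullback.fst y i ≫ y = (m₀ ≫ pullback.fst z i) ≫ z := by
    rw [Category.assoc, pullback.condition (f := z), ← Category.assoc, hm₀, pullback.condition]
  let γ : Y₀ ⟶ W := pullback.lift (pullback.fst y i) (m₀ ≫ pullback.fst z i) hcond
  have hγ1 : γ ≫ pullback.fst y z = pullback.fst y i := pullback.lift_fst _ _ _
  have hγ2 : γ ≫ pullback.snd y z = m₀ ≫ pullback.fst z i := pullback.lift_snd _ _ _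
  have hγw : γ ≫ w = pullback.snd y i ≫ i := by
    show γ ≫ pullback.fst y z ≫ y = _
    rw [← Category.assoc, hγ1, pullback.condition]
  let γ₀ : Y₀ ⟶ W₀ := pullback.lift γ (pullback.snd y i) hγw
  have hγ₀π : γ₀ ≫ π = γ := pullback.lift_fst _ _ _
  let p₀ : W₀ ⟶ Y₀ := pullback.lift (π ≫ pullback.fst y z) (pullback.snd w i) (by
    rw [Category.assoc]; exact pullback.condition)
  have hp₀1 : p₀ ≫ pullback.fst y i = π ≫ pullback.fst y z := pullback.lift_fst _ _ _
  have hp₀2 : p₀ ≫ pullback.snd y i = pullback.snd w i := pullback.lift_snd _ _ _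
  have hγp : γ₀ ≫ p₀ = 𝟙 Y₀ := by
    apply pullback.hom_ext
    · rw [Category.assoc, hp₀1, ← Category.assoc, hγ₀π, hγ1, Category.id_comp]
    · rw [Category.assoc, hp₀2, Category.id_comp]
      exact pullback.lift_snd _ _ _
  have hp₀ : FEt.prop.{u} p₀ := by
    have h1 : FEt.prop.{u} (p₀ ≫ pullback.snd y i) := by
      rw [hp₀2]
      exact ⟨inferInstance, inferInstance⟩
    exact MorphismProperty.of_postcomp (W := FEt.prop.{u}) (W' := FEt.prop.{u}) p₀
      (pullback.snd y i) ⟨inferInstance, inferInstance⟩ h1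
  haveI : IsFinite p₀ := hp₀.1
  haveI : Etale p₀ := hp₀.2
  haveI : IsOpenImmersion γ₀ := isOpenImmersion_of_section p₀ γ₀ hγp
  have hγ₀fin : FEt.prop.{u} γ₀ := by
    have h1 : FEt.prop.{u} (γ₀ ≫ p₀) := by
      rw [hγp]
      exact ⟨inferInstance, inferInstance⟩
    exact MorphismProperty.of_postcomp (W := FEt.prop.{u}) (W' := FEt.prop.{u}) γ₀ p₀ hp₀ h1
  haveI : IsFinite γ₀ := hγ₀fin.1
  have hclopen : IsClopen (Set.range γ₀) :=
    ⟨γ₀.isClosedMap.isClosed_range, γ₀.isOpenEmbedding.isOpen_range⟩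
  haveI : NoetherianSpace W := noetherianSpace_of_finite w
  obtain ⟨C, hC, hCpre⟩ := exists_clopen_preimage π.continuous hinj _ hclopen
  let U : W.Opens := ⟨C, hC.isOpen⟩
  haveI : IsClosedImmersion U.ι := by
    apply IsClosedImmersion.of_isPreimmersion
    rw [Scheme.Opens.range_ι]
    exact hC.isClosed
  let q : U.toScheme ⟶ Y := U.ι ≫ pullback.fst y z
  -- the graph factors through `U`
  have hγU : Set.range γ ⊆ Set.range U.ι := by
    rw [Scheme.Opens.range_ι]
    rintro _ ⟨a, rfl⟩
    have : γ₀ a ∈ π ⁻¹' C := by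
      rw [hCpre]; exact ⟨a, rfl⟩
    rw [Set.mem_preimage, ← Scheme.Hom.comp_apply, hγ₀π] at this
    exact this
  let t : Y₀ ⟶ U.toScheme := IsOpenImmersion.lift U.ι γ hγU
  have ht : t ≫ U.ι = γ := IsOpenImmersion.lift_fac _ _ _
  have htq : t ≫ q = pullback.fst y i := by
    show t ≫ U.ι ≫ pullback.fst y z = _
    rw [← Category.assoc, ht, hγ1]
  haveI : IsFinite q := inferInstance
  haveI : Etale q := inferInstance
  have hrank : ∀ b ∈ Set.range (pullback.fst y i), q.finrank b = 1 := by
    rintro _ ⟨a, rfl⟩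
    obtain ⟨Ω, _, _, ab, hab⟩ := exists_geomPoint a
    let yb : Spec (CommRingCat.of Ω) ⟶ Y := ab ≫ pullback.fst y i
    let Q : FEt.Cat Y := mkObj q
    obtain ⟨hfin, hcard⟩ := card_fiberObj yb Q
    have hyb : yb default = pullback.fst y i a := by
      rw [Scheme.Hom.comp_apply, hab]
    rw [← hyb]
    show Q.hom.finrank _ = 1
    rw [← hcard, Nat.card_eq_one_iff_unique]
    have key : ∀ s : FEt.fiberObj yb Q, s.1 ≫ U.ι = ab ≫ γ := by
      intro s
      have hs : s.1 ≫ U.ι ≫ pullback.fst y z = ab ≫ pullback.fst y i := s.2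
      let s₀ : Spec (CommRingCat.of Ω) ⟶ W₀ :=
        pullback.lift (s.1 ≫ U.ι) (ab ≫ pullback.snd y i) (by
          show (s.1 ≫ U.ι) ≫ pullback.fst y z ≫ y = _
          rw [Category.assoc, reassoc_of% hs, pullback.condition, Category.assoc])
      have hs₀π : s₀ ≫ π = s.1 ≫ U.ι := pullback.lift_fst _ _ _
      have hs₀range : Set.range s₀ ⊆ Set.range γ₀ := by
        rintro _ ⟨x, rfl⟩
        rw [← hCpre, Set.mem_preimage, ← Scheme.Hom.comp_apply, hs₀π, Scheme.Hom.comp_apply]
        have : U.ι (s.1 x) ∈ Set.range U.ι := ⟨_, rfl⟩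
        rw [Scheme.Opens.range_ι] at this
        exact this
      let u := IsOpenImmersion.lift γ₀ s₀ hs₀range
      have hu : u ≫ γ₀ = s₀ := IsOpenImmersion.lift_fac _ _ _
      have hu' : u = ab := by
        have : u = s₀ ≫ p₀ := by rw [← hu, Category.assoc, hγp, Category.comp_id]
        rw [this]
        apply pullback.hom_ext
        · rw [Category.assoc, hp₀1, ← Category.assoc, hs₀π, Category.assoc, hs]
        · rw [Category.assoc, hp₀2]; exact pullback.lift_snd _ _ _
      rw [← hs₀π, ← hu, hu', Category.assoc, hγ₀π]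
    constructor
    · constructor
      intro s s'
      apply Subtype.ext
      show (s.1 : Spec (CommRingCat.of Ω) ⟶ U.toScheme) = s'.1
      exact (cancel_mono U.ι).1 ((key s).trans (key s').symm)
    · exact ⟨⟨ab ≫ t, by
        show (ab ≫ t) ≫ q = yb
        rw [Category.assoc, htq]⟩⟩
  have hmeets : ∀ b : Y, (connectedComponent b ∩ Set.range (pullback.fst y i)).Nonempty := by
    intro b
    obtain ⟨c, hc⟩ := hsurj (b : _root_.ConnectedComponents Y)
    obtain ⟨a, rfl⟩ := ConnectedComponents.surjective_coe c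
    have h2 : ((pullback.fst y i a : Y) : _root_.ConnectedComponents Y) = b := hc
    refine ⟨pullback.fst y i a, ?_, ⟨a, rfl⟩⟩
    rw [← ConnectedComponents.coe_eq_coe.1 h2]
    exact mem_connectedComponent
  haveI : IsIso q := isIso_of_finrank_eq_one_of_meets q _ hmeets hrank
  refine ⟨inv q ≫ U.ι ≫ pullback.snd y z, ?_, ?_⟩
  · rw [Category.assoc, IsIso.inv_comp_eq]
    show _ = (U.ι ≫ pullback.fst y z) ≫ y
    simp only [Category.assoc, pullback.condition]
  · rw [← htq, Category.assoc, IsIso.hom_inv_id_assoc, ← Category.assoc, ht, hγ2]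

end Groth.Agent.Lib.helper14.PiZeroFull
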