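import Mathlib
import Groth.Prelude.Def_CohB1
import Groth.Agent.Lib.Helper18.ProjChart
import Groth.Agent.Lib.Helper28.TwistPn

/-!
# helper14: the Prelude projective spaces have geometrically irreducible (in particular connected)
fibres
-/

set_option autoImplicit false
set_option linter.style.haveILetI false
universe u
open CategoryTheory CategoryTheory.Limits AlgebraicGeometry MvPolynomial

namespace Groth.Agent.Lib.Helper14.PnFibre

open Groth.Agent.Lib.Helper18.ProjChart

variable (n : ℕ) (R : Type u) [CommRing R]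

/-- the standard chart `D_+(X_i) ⟶ Spec R` is geometrically irreducible -/
theorem geomIrr_specMap_C (σ : Type) :
    GeometricallyIrreducible (Spec.map (CommRingCat.ofHom
      (C : R →+* MvPolynomial σ R))) := by
  have hC : GeometricallyIrreducible (Spec.map (CommRingCat.ofHom
      (C : R →+* MvPolynomial (ULift.{u} σ) R))) := by
    rw [← AffineSpace.SpecIso_inv_over (n := ULift.{u} σ) (CommRingCat.of R)]
    exact (MorphismProperty.cancel_left_of_respectsIso (P := @GeometricallyIrreducible) _ _).mpr
      inferInstance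
  let e : MvPolynomial (ULift.{u} σ) R ≃+* MvPolynomial σ R :=
    (MvPolynomial.renameEquiv R Equiv.ulift).toRingEquiv
  have h2 : CommRingCat.ofHom (C : R →+* MvPolynomial σ R) =
      CommRingCat.ofHom (C : R →+* MvPolynomial (ULift.{u} σ) R) ≫
        CommRingCat.ofHom e.toRingHom := by
    ext r
    simp [e]
  rw [h2, Spec.map_comp]
  haveI : IsIso (Spec.map (CommRingCat.ofHom e.toRingHom)) := by
    have : IsIso (CommRingCat.ofHom e.toRingHom) := e.toCommRingCatIso.isIso_hom
    infer_instance
  exact (MorphismProperty.cancel_left_of_respectsIso (P := @GeometricallyIrreducible) _ _).mpr hC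

/-- the standard chart `D_+(X_i) ⟶ Spec R` is geometrically irreducible -/
theorem geomIrr_chart_aux (i : Fin (n + 1)) :
    GeometricallyIrreducible (X := (Proj.basicOpen (CohB1.polyGrading n R)
      (X i : MvPolynomial (Fin (n + 1)) R)).toScheme) (Y := Spec (CommRingCat.of R))
      ((Proj.basicOpen (CohB1.polyGrading n R)
      (X i : MvPolynomial (Fin (n + 1)) R)).ι ≫ (Proj.toSpecZero (CohB1.polyGrading n R) ≫
      Spec.map (CommRingCat.ofHom (algebraMap R (CohB1.polyGrading n R 0))))) := by
  have hC := geomIrr_specMap_C R (Idx n i)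
  have h1 : cHom n R i = ((chartEquiv n R i).toRingHom).comp
      (C : R →+* MvPolynomial (Idx n i) R) := by
    ext r
    simp [chartEquiv, Φ]
  rw [← MorphismProperty.cancel_left_of_respectsIso (P := @GeometricallyIrreducible)
    (Proj.basicOpenIsoSpec (CohB1.polyGrading n R) (X i : MvPolynomial (Fin (n + 1)) R)
      (Groth.Agent.Lib.helper28.TwistPn.X_mem n R i) one_pos).inv, ← Category.assoc, ← Category.assoc,
    ← Proj.awayι, Proj.awayι_toSpecZero, ← Spec.map_comp]
  have h2 : (CommRingCat.ofHom (algebraMap R (CohB1.polyGrading n R 0)) ≫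
      CommRingCat.ofHom (HomogeneousLocalization.fromZeroRingHom (CohB1.polyGrading n R)
        (Submonoid.powers (X i : MvPolynomial (Fin (n + 1)) R)))) =
      CommRingCat.ofHom (C : R →+* MvPolynomial (Idx n i) R) ≫
        CommRingCat.ofHom (chartEquiv n R i).toRingHom := by
    rw [← CommRingCat.ofHom_comp, ← CommRingCat.ofHom_comp, ← h1]
    rfl
  rw [h2, Spec.map_comp]
  haveI : IsIso (Spec.map (CommRingCat.ofHom (chartEquiv n R i).toRingHom)) := by
    have : IsIso (CommRingCat.ofHom (chartEquiv n R i).toRingHom) :=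
      (chartEquiv n R i).toCommRingCatIso.isIso_hom
    infer_instance
  exact (MorphismProperty.cancel_left_of_respectsIso (P := @GeometricallyIrreducible) _ _).mpr hC

theorem geomIrr_chart (i : Fin (n + 1)) :
    GeometricallyIrreducible ((Proj.basicOpen (CohB1.polyGrading n R)
      (X i : MvPolynomial (Fin (n + 1)) R)).ι ≫ CohB1.ProjSpace.toSpec n R) :=
  geomIrr_chart_aux n R i

/-- the ring map `T_i ↦ 1` -/
noncomputable def evalOne :
    MvPolynomial (Fin (n + 1)) R →+* Γ(Spec (CommRingCat.of R), ⊤) :=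
  ((Scheme.ΓSpecIso (CommRingCat.of R)).inv.hom).comp
    (eval₂Hom (RingHom.id R) (fun _ => (1 : R)))

theorem evalOne_X (i : Fin (n + 1)) : evalOne n R (X i) = 1 := by
  simp [evalOne]

theorem evalOne_irrelevant :
    (HomogeneousIdeal.irrelevant (CohB1.polyGrading n R)).toIdeal.map (evalOne n R) = ⊤ := by
  rw [Ideal.eq_top_iff_one]
  have h1 : (X 0 : MvPolynomial (Fin (n + 1)) R) ∈
      (HomogeneousIdeal.irrelevant (CohB1.polyGrading n R)).toIdeal :=
    HomogeneousIdeal.mem_irrelevant_of_mem _ one_pos
      (Groth.Agent.Lib.helper28.TwistPn.X_mem n R 0)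
  have := Ideal.mem_map_of_mem (evalOne n R) h1
  rwa [evalOne_X] at this

/-- the section `[1 : ⋯ : 1]` of `P^n_R ⟶ Spec R` -/
noncomputable def sect : Spec (CommRingCat.of R) ⟶ Proj (CohB1.polyGrading n R) :=
  Proj.fromOfGlobalSections _ (evalOne n R) (evalOne_irrelevant n R)

theorem sect_preimage (i : Fin (n + 1)) :
    sect n R ⁻¹ᵁ Proj.basicOpen (CohB1.polyGrading n R) (X i : MvPolynomial (Fin (n + 1)) R) =
      ⊤ := by
  unfold sect
  rw [Proj.fromOfGlobalSections_preimage_basicOpen _ _ _ one_pos
    (Groth.Agent.Lib.helper28.TwistPn.X_mem n R i), evalOne_X, Scheme.basicOpen_of_isUnit _ isUnit_one]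

theorem sect_toSpec : sect n R ≫ (Proj.toSpecZero (CohB1.polyGrading n R) ≫
      Spec.map (CommRingCat.ofHom (algebraMap R (CohB1.polyGrading n R 0)))) = 𝟙 _ := by
  unfold sect
  rw [Proj.fromOfGlobalSections_toSpecZero_assoc, ← Spec.map_comp]
  have : CommRingCat.ofHom (algebraMap R (CohB1.polyGrading n R 0)) ≫
      CommRingCat.ofHom ((evalOne n R).comp (algebraMap (CohB1.polyGrading n R 0)
        (MvPolynomial (Fin (n + 1)) R))) = (Scheme.ΓSpecIso (CommRingCat.of R)).inv := by
    ext r
    simp [evalOne]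
  rw [this]
  exact toSpecΓ_SpecMap_ΓSpecIso_inv _

/-- a space covered by irreducible open subsets with a common point is irreducible -/
theorem irreducibleSpace_of_cover {T : Type*} [TopologicalSpace T] {ι : Type*} (V : ι → Set T)
    (hVo : ∀ i, IsOpen (V i)) (hVi : ∀ i, IsIrreducible (V i)) (z : T) (hz : ∀ i, z ∈ V i)
    (hcov : ∀ t : T, ∃ i, t ∈ V i) : IrreducibleSpace T := by
  refine { isPreirreducible_univ := ?_, toNonempty := ⟨z⟩ }
  rintro A B hA hB ⟨a, -, haA⟩ ⟨b, -, hbB⟩
  obtain ⟨i, hai⟩ := hcov a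
  obtain ⟨j, hbj⟩ := hcov b
  obtain ⟨c, hci, hcA, hcj⟩ := (hVi i).2 A (V j) hA (hVo j) ⟨a, hai, haA⟩ ⟨z, hz i, hz j⟩
  obtain ⟨d, hdj, hdA, hdB⟩ := (hVi j).2 A B hA hB ⟨c, hcj, hcA⟩ ⟨b, hbj, hbB⟩
  exact ⟨d, trivial, hdA, hdB⟩

theorem irreducibleSpace_of_isPullback {K : Type u} [Field K] {Z : Scheme.{u}}
    (y : Spec (CommRingCat.of K) ⟶ Spec (CommRingCat.of R))
    (fst : Z ⟶ Proj (CohB1.polyGrading n R)) (snd : Z ⟶ Spec (CommRingCat.of K))
    (h : IsPullback fst snd (Proj.toSpecZero (CohB1.polyGrading n R) ≫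
      Spec.map (CommRingCat.ofHom (algebraMap R (CohB1.polyGrading n R 0)))) y) :
    IrreducibleSpace Z := by
  let U : Fin (n + 1) → (Proj (CohB1.polyGrading n R)).Opens := fun i =>
    Proj.basicOpen (CohB1.polyGrading n R) (X i : MvPolynomial (Fin (n + 1)) R)
  let V : Fin (n + 1) → Z.Opens := fun i => fst ⁻¹ᵁ U i
  have hVi : ∀ i, IrreducibleSpace ↥(V i) := by
    intro i
    have hp := (isPullback_morphismRestrict fst (U i)).paste_vert h
    haveI := geomIrr_chart_aux n R i
    exact GeometricallyIrreducible.geometrically_irreducibleSpace _ _ _ hp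
  -- the common point
  let q : ↥(Spec (CommRingCat.of R)) := y.base (IsLocalRing.closedPoint K)
  let x : ↥(Proj (CohB1.polyGrading n R)) := (sect n R).base q
  have hx : (Proj.toSpecZero (CohB1.polyGrading n R) ≫
      Spec.map (CommRingCat.ofHom (algebraMap R (CohB1.polyGrading n R 0)))).base x =
      y.base (IsLocalRing.closedPoint K) := by
    show (Proj.toSpecZero (CohB1.polyGrading n R) ≫
      Spec.map (CommRingCat.ofHom (algebraMap R (CohB1.polyGrading n R 0)))).base
        ((sect n R).base q) = q
    rw [← Scheme.Hom.comp_apply, sect_toSpec]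
    rfl
  obtain ⟨z, hz1, -⟩ := Scheme.exists_preimage_of_isPullback h x _ hx
  have hxU : ∀ i, x ∈ U i := by
    intro i
    have : q ∈ (sect n R ⁻¹ᵁ U i) := by
      rw [sect_preimage]
      trivial
    exact this
  refine irreducibleSpace_of_cover (fun i => ((V i : Z.Opens) : Set ↥Z)) (fun i => (V i).2)
    (fun i => ?_) z (fun i => ?_) (fun t => ?_)
  · have := hVi i
    have h2 : IsIrreducible (Set.univ : Set ↥(V i)) := IrreducibleSpace.isIrreducible_univ _
    have h3 := h2.image (V i).ι.base (V i).ι.continuous.continuousOn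
    rw [Set.image_univ] at h3
    have h4 : Set.range (V i).ι.base = ((V i : Z.Opens) : Set ↥Z) := Scheme.Opens.range_ι _
    convert h3 using 1
    exact h4.symm
  · show fst.base z ∈ U i
    rw [hz1]
    exact hxU i
  · obtain ⟨i, hi⟩ := Groth.Agent.Lib.helper28.TwistPn.exists_X_notMem n R (fst.base t)
    exact ⟨i, (ProjectiveSpectrum.mem_basicOpen (CohB1.polyGrading n R) _ (fst.base t)).mpr hi⟩

/-- `P^n_R ⟶ Spec R` is geometrically irreducible -/
instance geomIrr_toSpec : GeometricallyIrreducible (CohB1.ProjSpace.toSpec n R) :=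
  ⟨fun _ _ y _ fst snd h => irreducibleSpace_of_isPullback n R y fst snd h⟩

/-- `P^n_S ⟶ S` is geometrically irreducible -/
instance geomIrr_toBase (S : Scheme.{u}) :
    GeometricallyIrreducible (CohB1.ProjSpaceOver.toBase n S) := by
  unfold CohB1.ProjSpaceOver.toBase
  exact MorphismProperty.pullback_snd _ _ (geomIrr_toSpec n _)

theorem geometricallyConnected_of_geometricallyIrreducible {X Y : Scheme.{u}} (f : X ⟶ Y)
    [GeometricallyIrreducible f] : GeometricallyConnected f :=
  ⟨fun _ _ y _ fst snd h => by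
    haveI : IrreducibleSpace _ :=
      GeometricallyIrreducible.geometrically_irreducibleSpace y fst snd h
    infer_instance⟩

instance geomConn_toSpec : GeometricallyConnected (CohB1.ProjSpace.toSpec n R) :=
  geometricallyConnected_of_geometricallyIrreducible _

instance geomConn_toBase (S : Scheme.{u}) :
    GeometricallyConnected (CohB1.ProjSpaceOver.toBase n S) :=
  geometricallyConnected_of_geometricallyIrreducible _

theorem isOpenMap_of_subsingleton {A B : Type*} [TopologicalSpace A] [TopologicalSpace B]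
    [Subsingleton B] (φ : A → B) : IsOpenMap φ := by
  intro s _
  by_cases h : φ '' s = ∅
  · rw [h]; exact isOpen_empty
  · obtain ⟨p, hp⟩ := Set.nonempty_iff_ne_empty.mpr h
    have : φ '' s = Set.univ := by
      apply Set.eq_univ_of_forall
      intro q
      rwa [Subsingleton.elim q p]
    rw [this]; exact isOpen_univ

/-- `P^n_K` is irreducible for a field `K` -/
instance irreducibleSpace_projSpaceOver_field (K : Type u) [Field K] :
    IrreducibleSpace ↥(CohB1.ProjSpaceOver n (Spec (CommRingCat.of K))) :=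
  haveI : Subsingleton ↥(Spec (CommRingCat.of K)) :=
    inferInstanceAs (Subsingleton (PrimeSpectrum K))
  GeometricallyIrreducible.irreducibleSpace (CohB1.ProjSpaceOver.toBase n _)
    (isOpenMap_of_subsingleton _)

end Groth.Agent.Lib.Helper14.PnFibre
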