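import Mathlib
import Groth.Agent.Lib.Lead.ProjMapG

/-!
# helper14: points of `Proj 𝒜` with values in a ring, given by a ring homomorphism on `A`

For a graded ring `𝒜` on `A`, a ring `K` and a ring homomorphism `e : A →+* K`:
* `evAway 𝒜 e s hs : Away 𝒜 s →+* K`, `x / s^n ↦ e x / (e s)^n`, when `e s` is a unit
  (`evAway_mk_spec`, `evAway_fromZero`);
* `pt 𝒜 e s … : Spec K ⟶ Proj 𝒜`, the `K`-point "`e`" through the chart `D₊(s)`;
  `pt_eq` (independent of `s`), `pt_map` (functoriality under `Proj.map`), `pt_toSpecZero`.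
-/

set_option autoImplicit false
universe u
open CategoryTheory AlgebraicGeometry HomogeneousLocalization
open scoped HomogeneousIdeal

namespace Groth.Agent.Lib.Helper14.ProjPt

variable {A σ : Type u} [CommRing A] [SetLike σ A] [AddSubgroupClass σ A]
  (𝒜 : ℕ → σ) [GradedRing 𝒜] {K : Type u} [CommRing K] (e : A →+* K)

/-- evaluation `x / s^n ↦ e x / (e s)^n` -/
noncomputable def evAway (s : A) (hs : IsUnit (e s)) : Away 𝒜 s →+* K :=
  (IsLocalization.Away.lift (S := Localization.Away s) s (g := e) hs).comp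
    (algebraMap (Away 𝒜 s) (Localization.Away s))

theorem evAway_mk_spec (s : A) (hs : IsUnit (e s)) {d : ℕ} (hsd : s ∈ 𝒜 d) (n : ℕ) (x : A)
    (hx : x ∈ 𝒜 (n • d)) (v : K) :
    evAway 𝒜 e s hs (Away.mk 𝒜 hsd n x hx) = v ↔ e x = (e s) ^ n * v := by
  unfold evAway
  rw [RingHom.comp_apply, HomogeneousLocalization.algebraMap_apply, Away.val_mk,
    Localization.mk_eq_mk']
  unfold IsLocalization.Away.lift
  rw [IsLocalization.lift_mk'_spec]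
  simp

theorem evAway_mk_mul (s : A) (hs : IsUnit (e s)) {d : ℕ} (hsd : s ∈ 𝒜 d) (n : ℕ) (x : A)
    (hx : x ∈ 𝒜 (n • d)) :
    (e s) ^ n * evAway 𝒜 e s hs (Away.mk 𝒜 hsd n x hx) = e x :=
  ((evAway_mk_spec 𝒜 e s hs hsd n x hx _).mp rfl).symm

theorem evAway_fromZero (s : A) (hs : IsUnit (e s)) (a : 𝒜 0) :
    evAway 𝒜 e s hs (fromZeroRingHom 𝒜 (Submonoid.powers s) a) = e a := by
  unfold evAway
  rw [RingHom.comp_apply, HomogeneousLocalization.algebraMap_apply]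
  have : (fromZeroRingHom 𝒜 (Submonoid.powers s) a).val =
      algebraMap A (Localization.Away s) a := by
    simp only [fromZeroRingHom, RingHom.coe_mk, MonoidHom.coe_mk, OneHom.coe_mk,
      HomogeneousLocalization.val_mk]
    exact Localization.mk_one_eq_algebraMap _
  rw [this, IsLocalization.Away.lift_eq]

/-- extensionality for ring homs out of `Away 𝒜 s` -/
theorem evAway_unique (s : A) (hs : IsUnit (e s)) {d : ℕ} (hsd : s ∈ 𝒜 d)
    (θ : Away 𝒜 s →+* K)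
    (hθ : ∀ (n : ℕ) (x : A) (hx : x ∈ 𝒜 (n • d)), (e s) ^ n * θ (Away.mk 𝒜 hsd n x hx) = e x) :
    θ = evAway 𝒜 e s hs := by
  apply RingHom.ext
  intro y
  obtain ⟨n, x, hx, rfl⟩ := Away.mk_surjective 𝒜 hsd y
  have h1 := hθ n x hx
  have h2 := evAway_mk_mul 𝒜 e s hs hsd n x hx
  exact (hs.pow n).mul_left_cancel (h1.trans h2.symm)

theorem evAway_awayMap {s g : A} {d d' : ℕ} (hsd : s ∈ 𝒜 d) (hg : g ∈ 𝒜 d') {x : A}
    (hx : x = s * g) (hs : IsUnit (e s)) (hxu : IsUnit (e x)) :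
    (evAway 𝒜 e x hxu).comp (awayMap 𝒜 hg hx) = evAway 𝒜 e s hs := by
  apply evAway_unique 𝒜 e s hs hsd
  intro n a ha
  have hxd : x ∈ 𝒜 (d + d') := hx ▸ SetLike.mul_mem_graded hsd hg
  have hmem : a * g ^ n ∈ 𝒜 (n • (d + d')) := by
    have h1 : g ^ n ∈ 𝒜 (n • d') := SetLike.pow_mem_graded n hg
    have := SetLike.mul_mem_graded ha h1
    rwa [← smul_add] at this
  have hval : awayMap 𝒜 hg hx (Away.mk 𝒜 hsd n a ha) = Away.mk 𝒜 hxd n (a * g ^ n) hmem := by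
    apply HomogeneousLocalization.val_injective
    rw [Away.val_mk]
    exact val_awayMap_mk 𝒜 hg hx _ _ _ _
  rw [RingHom.comp_apply, hval]
  have h2 := evAway_mk_mul 𝒜 e x hxu hxd n (a * g ^ n) hmem
  have hgu : IsUnit (e g) := by
    have : e x = e s * e g := by rw [hx, map_mul]
    rw [this] at hxu
    exact isUnit_of_mul_isUnit_right hxu
  apply (hgu.pow n).mul_left_cancel
  rw [← mul_assoc, ← mul_pow, mul_comm (e g), ← map_mul, ← hx, h2, map_mul, map_pow]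
  ring

theorem evAway_map {B τ : Type u} [CommRing B] [SetLike τ B] [AddSubgroupClass τ B]
    (ℬ : ℕ → τ) [GradedRing ℬ] (φ : 𝒜 →+*ᵍ ℬ) (e' : B →+* K) (s : A) {d : ℕ} (hsd : s ∈ 𝒜 d)
    (hs : IsUnit (e' (φ s))) :
    (evAway ℬ e' (φ s) hs).comp (Away.map φ s) =
      evAway 𝒜 (e'.comp (φ : A →+* B)) s hs := by
  apply evAway_unique 𝒜 (e'.comp (φ : A →+* B)) s hs hsd
  intro n x hx
  have h1 : ((evAway ℬ e' (φ s) hs).comp (Away.map φ s)) (Away.mk 𝒜 hsd n x hx) =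
      evAway ℬ e' (φ s) hs (Away.mk ℬ (Graded.map_mem φ hsd) n (φ x) (Graded.map_mem φ hx)) := by
    rw [RingHom.comp_apply, Away.map_mk φ s hsd n x hx]
  rw [h1]
  exact evAway_mk_mul ℬ e' (φ s) hs (Graded.map_mem φ hsd) n (φ x) (Graded.map_mem φ hx)

/-- the `K`-point of `Proj 𝒜` given by `e`, through the chart `D₊(s)` -/
noncomputable def pt (s : A) {d : ℕ} (hd : 0 < d) (hsd : s ∈ 𝒜 d) (hs : IsUnit (e s)) :
    Spec (CommRingCat.of K) ⟶ Proj 𝒜 :=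
  Spec.map (CommRingCat.ofHom (evAway 𝒜 e s hs)) ≫ Proj.awayι 𝒜 s hsd hd

theorem pt_congr {s s' : A} (h : s = s') {d d' : ℕ} (hdd : d = d') (hd : 0 < d) (hd' : 0 < d')
    (hsd : s ∈ 𝒜 d) (hsd' : s' ∈ 𝒜 d') (hs : IsUnit (e s)) (hs' : IsUnit (e s')) :
    pt 𝒜 e s hd hsd hs = pt 𝒜 e s' hd' hsd' hs' := by
  subst h
  subst hdd
  rfl

theorem pt_eq_mul {s g : A} {d d' : ℕ} (hd : 0 < d) (hsd : s ∈ 𝒜 d) (hg : g ∈ 𝒜 d')
    (hs : IsUnit (e s)) (hgu : IsUnit (e g)) :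
    pt 𝒜 e s hd hsd hs = pt 𝒜 e (s * g) (hd.trans_le (Nat.le_add_right d d'))
      (SetLike.mul_mem_graded hsd hg) (by rw [map_mul]; exact hs.mul hgu) := by
  unfold pt
  rw [← Proj.SpecMap_awayMap_awayι 𝒜 hsd hd hg rfl, ← Category.assoc, ← Spec.map_comp,
    ← CommRingCat.ofHom_comp, evAway_awayMap 𝒜 e hsd hg rfl hs]

theorem pt_eq {s s' : A} {d d' : ℕ} (hd : 0 < d) (hd' : 0 < d') (hsd : s ∈ 𝒜 d)
    (hsd' : s' ∈ 𝒜 d') (hs : IsUnit (e s)) (hs' : IsUnit (e s')) :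
    pt 𝒜 e s hd hsd hs = pt 𝒜 e s' hd' hsd' hs' := by
  rw [pt_eq_mul 𝒜 e hd hsd hsd' hs hs', pt_eq_mul 𝒜 e hd' hsd' hsd hs' hs]
  exact pt_congr 𝒜 e (mul_comm s s') (add_comm d d') _ _ _ _ _ _


theorem pt_map {B τ : Type u} [CommRing B] [SetLike τ B] [AddSubgroupClass τ B]
    (ℬ : ℕ → τ) [GradedRing ℬ] (φ : 𝒜 →+*ᵍ ℬ) (hφ : ℬ₊ ≤ (𝒜₊).map φ) (e' : B →+* K) (s : A)
    {d : ℕ} (hd : 0 < d) (hsd : s ∈ 𝒜 d) (hs : IsUnit (e' (φ s))) :
    pt ℬ e' (φ s) hd (Graded.map_mem φ hsd) hs ≫ Proj.map φ hφ =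
      pt 𝒜 (e'.comp (φ : A →+* B)) s hd hsd hs := by
  unfold pt
  rw [Category.assoc, Proj.awayι_comp_map φ hφ hd s hsd, ← Category.assoc, ← Spec.map_comp,
    ← CommRingCat.ofHom_comp, evAway_map 𝒜 ℬ φ e' s hsd hs]

theorem pt_toSpecZero (s : A) {d : ℕ} (hd : 0 < d) (hsd : s ∈ 𝒜 d) (hs : IsUnit (e s)) :
    pt 𝒜 e s hd hsd hs ≫ Proj.toSpecZero 𝒜 =
      Spec.map (CommRingCat.ofHom (e.comp (algebraMap (𝒜 0) A))) := by
  unfold pt
  rw [Category.assoc, Proj.awayι_toSpecZero, ← Spec.map_comp, ← CommRingCat.ofHom_comp]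
  congr 2
  apply RingHom.ext
  intro a
  exact evAway_fromZero 𝒜 e s hs a

end Groth.Agent.Lib.Helper14.ProjPt
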