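import Mathlib
import Groth.Agent.Lib.Helper14.ProjPt
import Groth.Agent.Lib.Helper14.P1Line
import Groth.Agent.Lib.Helper12.ProjProper

/-!
# helper14: field-valued points of the Prelude's projective spaces by homogeneous coordinates,
lines through two points, and direct R-links in opens of projective space
-/

set_option autoImplicit false
universe u
open CategoryTheory CategoryTheory.Limits AlgebraicGeometry MvPolynomial HomogeneousLocalization
open scoped HomogeneousIdeal

namespace Groth.Agent.Lib.Helper14.PnPts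

open Groth.Agent.Lib.Helper18.ProjChart Groth.Agent.Lib.Helper14.ProjPt

section Coord

variable (n : ℕ) (k : Type u) [CommRing k] {K : Type u} [CommRing K]

/-- ring homs out of the chart ring are determined by constants and the coordinates `X_l / X_i` -/
theorem away_hom_ext (i : Fin (n + 1))
    (θ θ' : Away (CohB1.polyGrading n k) (X i : MvPolynomial (Fin (n + 1)) k) →+* K)
    (hc : ∀ r, θ (cHom n k i r) = θ' (cHom n k i r))
    (hr : ∀ l, θ (ratio n k i l) = θ' (ratio n k i l)) : θ = θ' := by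
  have h : θ.comp (chartEquiv n k i).toRingHom = θ'.comp (chartEquiv n k i).toRingHom := by
    apply MvPolynomial.ringHom_ext
    · intro r
      have : (chartEquiv n k i) (C r) = cHom n k i r := by
        change Φ n k i (C r) = _
        simp [Φ]
      simp only [RingHom.comp_apply, RingEquiv.toRingHom_eq_coe, RingHom.coe_coe, this, hc]
    · intro j
      have : (chartEquiv n k i) (X j) = ratio n k i j.1 := by
        change Φ n k i (X j) = _
        simp [Φ]
      simp only [RingHom.comp_apply, RingEquiv.toRingHom_eq_coe, RingHom.coe_coe, this, hr]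
  apply RingHom.ext
  intro y
  obtain ⟨p, rfl⟩ := (chartEquiv n k i).surjective y
  exact congrArg (fun g => g p) h

variable [Algebra k K]

/-- evaluation of polynomials over `k` at a vector with coordinates in `K` -/
noncomputable def E (a : Fin (n + 1) → K) : MvPolynomial (Fin (n + 1)) k →+* K :=
  eval₂Hom (algebraMap k K) a

@[simp] theorem E_X (a : Fin (n + 1) → K) (l : Fin (n + 1)) : E n k a (X l) = a l := by
  simp [E]

@[simp] theorem E_C (a : Fin (n + 1) → K) (r : k) : E n k a (C r) = algebraMap k K r := by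
  simp [E]

theorem evAway_E_cHom (a : Fin (n + 1) → K) (i : Fin (n + 1)) (hi : IsUnit (E n k a (X i)))
    (r : k) :
    evAway (CohB1.polyGrading n k) (E n k a) (X i) hi (cHom n k i r) = algebraMap k K r := by
  unfold cHom
  rw [RingHom.comp_apply, evAway_fromZero]
  exact E_C n k a r

theorem evAway_E_ratio (a : Fin (n + 1) → K) (i : Fin (n + 1)) (hi : IsUnit (E n k a (X i)))
    (l : Fin (n + 1)) (v : K) (hv : a l = a i * v) :
    evAway (CohB1.polyGrading n k) (E n k a) (X i) hi (ratio n k i l) = v := by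
  unfold ratio
  rw [evAway_mk_spec]
  simpa using hv

end Coord


section Field

variable (n : ℕ) (k : Type u) [Field k] {K : Type u} [Field K] [Algebra k K]

open Groth.Agent.Lib.helper12.PnLocal

theorem isUnit_E_X {a : Fin (n + 1) → K} {i : Fin (n + 1)} (hi : a i = 1) :
    IsUnit (E n k a (X i)) := by
  rw [E_X, hi]; exact isUnit_one

/-- the `K`-point of `P^n_k` with homogeneous coordinates `a` (where `a i = 1`) -/
noncomputable def ptE (a : Fin (n + 1) → K) (i : Fin (n + 1)) (hi : a i = 1) :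
    Spec (CommRingCat.of K) ⟶ Proj (CohB1.polyGrading n k) :=
  pt (CohB1.polyGrading n k) (E n k a) (X i) one_pos
    (Groth.Agent.Lib.helper28.TwistPn.X_mem n k i) (isUnit_E_X n k hi)

/-- every `K`-point of `P^n_k` over `k` has homogeneous coordinates -/
theorem exists_coords (x : Spec (CommRingCat.of K) ⟶ Proj (CohB1.polyGrading n k))
    (hx : x ≫ toSpecP n k = Spec.map (CommRingCat.ofHom (algebraMap k K))) :
    ∃ (i : Fin (n + 1)) (a : Fin (n + 1) → K) (hi : a i = 1), x = ptE n k a i hi := by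
  haveI : Subsingleton ↥(Spec (CommRingCat.of K)) :=
    inferInstanceAs (Subsingleton (PrimeSpectrum K))
  let pt0 : ↥(Spec (CommRingCat.of K)) := (⊥ : PrimeSpectrum K)
  have hcov : ⨆ i : Fin (n + 1), Proj.basicOpen (CohB1.polyGrading n k)
      (X i : MvPolynomial (Fin (n + 1)) k) = ⊤ :=
    Proj.iSup_basicOpen_eq_top _ _ (Groth.Agent.Lib.helper28.TwistPn.irrelevant_le n k)
  have hmem : x pt0 ∈ (⨆ i : Fin (n + 1), Proj.basicOpen (CohB1.polyGrading n k)
      (X i : MvPolynomial (Fin (n + 1)) k)) := by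
    rw [hcov]; trivial
  obtain ⟨i, hi⟩ := TopologicalSpace.Opens.mem_iSup.mp hmem
  have hrange : Set.range x ⊆ Set.range (Proj.awayι (CohB1.polyGrading n k)
      (X i : MvPolynomial (Fin (n + 1)) k) (Groth.Agent.Lib.helper28.TwistPn.X_mem n k i)
      one_pos) := by
    rintro _ ⟨q, rfl⟩
    rw [Subsingleton.elim q pt0]
    have := Proj.opensRange_awayι (CohB1.polyGrading n k)
      (X i : MvPolynomial (Fin (n + 1)) k) (Groth.Agent.Lib.helper28.TwistPn.X_mem n k i) one_pos
    have h2 : x pt0 ∈ (Proj.awayι (CohB1.polyGrading n k)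
      (X i : MvPolynomial (Fin (n + 1)) k) (Groth.Agent.Lib.helper28.TwistPn.X_mem n k i)
      one_pos).opensRange := by rw [this]; exact hi
    exact h2
  let x' := IsOpenImmersion.lift (Proj.awayι (CohB1.polyGrading n k)
      (X i : MvPolynomial (Fin (n + 1)) k) (Groth.Agent.Lib.helper28.TwistPn.X_mem n k i)
      one_pos) x hrange
  have hx' : x' ≫ Proj.awayι (CohB1.polyGrading n k)
      (X i : MvPolynomial (Fin (n + 1)) k) (Groth.Agent.Lib.helper28.TwistPn.X_mem n k i)
      one_pos = x := IsOpenImmersion.lift_fac _ _ _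
  obtain ⟨θ, hθ⟩ := Spec.map_surjective x'
  have hθc : θ.hom.comp (cHom n k i) = algebraMap k K := by
    have h1 : Spec.map (CommRingCat.ofHom (cHom n k i) ≫ θ) =
        Spec.map (CommRingCat.ofHom (algebraMap k K)) := by
      rw [Spec.map_comp, hθ, ← hx, ← hx', Category.assoc, toSpecP_eq,
        Proj.awayι_toSpecZero_assoc, ← Spec.map_comp]
      rfl
    have h2 := Spec.map_injective h1
    exact congrArg (fun g => g.hom) h2
  let a : Fin (n + 1) → K := fun l => θ.hom (ratio n k i l)
  have hai : a i = 1 := by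
    change θ.hom (ratio n k i i) = 1
    rw [ratio_self, map_one]
  refine ⟨i, a, hai, ?_⟩
  have hθE : θ.hom = evAway (CohB1.polyGrading n k) (E n k a) (X i) (isUnit_E_X n k hai) := by
    apply away_hom_ext
    · intro r
      rw [evAway_E_cHom]
      exact congrArg (fun g => g r) hθc
    · intro l
      rw [evAway_E_ratio n k a i _ l (a l) (by rw [hai, one_mul])]
  unfold ptE pt
  rw [← hθE, ← hx', ← hθ]
  rfl

/-- proportional coordinates give the same point -/
theorem ptE_eq_of_minors (a b : Fin (n + 1) → K) (i j : Fin (n + 1)) (hi : a i = 1)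
    (hj : b j = 1) (h : ∀ l m, a l * b m = a m * b l) :
    ptE n k a i hi = ptE n k b j hj := by
  have hb : ∀ l, b l = b i * a l := by
    intro l
    have := h i l
    rw [hi, one_mul] at this
    rw [this, mul_comm]
  have hbi : IsUnit (b i) := by
    have h1 : b i * a j = 1 := by rw [← hb j, hj]
    exact IsUnit.of_mul_eq_one _ h1
  have hbiE : IsUnit (E n k b (X i)) := by rw [E_X]; exact hbi
  unfold ptE
  rw [pt_eq (CohB1.polyGrading n k) (E n k b) one_pos one_pos
    (Groth.Agent.Lib.helper28.TwistPn.X_mem n k j) (Groth.Agent.Lib.helper28.TwistPn.X_mem n k i)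
    (isUnit_E_X n k hj) hbiE]
  unfold pt
  congr 3
  apply away_hom_ext
  · intro r
    rw [evAway_E_cHom, evAway_E_cHom]
  · intro l
    rw [evAway_E_ratio n k a i _ l (a l) (by rw [hi, one_mul]),
      evAway_E_ratio n k b i _ l (a l) (hb l)]

end Field


section Line

variable (n : ℕ) (k : Type u) [Field k] {K : Type u} [Field K] [Algebra k K]
  (a b : Fin (n + 1) → K)

open Groth.Agent.Lib.helper12.PnLocal Groth.Agent.Lib.helper12.ProjProper

/-- constants `k → K[T₀,T₁]₀` -/
noncomputable def rho0 : k →+* (CohB1.polyGrading 1 K) 0 :=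
  Groth.Agent.Lib.helper28.AwayBaseChange.zeroHom (CohB1.polyGrading 1 K)
    ((C : K →+* MvPolynomial (Fin (1 + 1)) K).comp (algebraMap k K))
    (fun r => isHomogeneous_C _ _)

/-- the linear forms `a_l T₀ + b_l T₁` -/
noncomputable def tl (l : Fin (n + 1)) : MvPolynomial (Fin (1 + 1)) K :=
  C (a l) * X 0 + C (b l) * X 1

theorem tl_mem (l : Fin (n + 1)) : tl n a b l ∈ CohB1.polyGrading 1 K 1 := by
  unfold tl
  apply Submodule.add_mem
  · have := (isHomogeneous_C (Fin (1 + 1)) (a l)).mul (isHomogeneous_X K (0 : Fin (1 + 1)))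
    simpa using this
  · have := (isHomogeneous_C (Fin (1 + 1)) (b l)).mul (isHomogeneous_X K (1 : Fin (1 + 1)))
    simpa using this

/-- the line through `a` and `b` as a graded ring hom `k[X₀..X_n] → K[T₀,T₁]` -/
noncomputable def lineGr : CohB1.polyGrading n k →+*ᵍ CohB1.polyGrading 1 K :=
  evalGr (rho0 k) (tl n a b) (tl_mem n a b)

theorem lineGr_X (l : Fin (n + 1)) : lineGr n k a b (X l) = tl n a b l :=
  evalGr_X _ _ _ l

theorem lineGr_C (r : k) : lineGr n k a b (C r) = C (algebraMap k K r) :=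
  evalGr_C _ _ _ r

theorem irrelevant_le_lineGr (i j : Fin (n + 1)) (hD : a i * b j - a j * b i ≠ 0) :
    (CohB1.polyGrading 1 K)₊ ≤ ((CohB1.polyGrading n k)₊).map (lineGr n k a b) := by
  change (HomogeneousIdeal.irrelevant (CohB1.polyGrading 1 K)).toIdeal ≤
    Ideal.map (lineGr n k a b) (HomogeneousIdeal.irrelevant (CohB1.polyGrading n k)).toIdeal
  refine le_trans (Groth.Agent.Lib.helper28.TwistPn.irrelevant_le 1 K) ?_
  have hmem : ∀ l, tl n a b l ∈ Ideal.map (lineGr n k a b)
      (HomogeneousIdeal.irrelevant (CohB1.polyGrading n k)).toIdeal := by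
    intro l
    rw [← lineGr_X n k a b l]
    exact Ideal.mem_map_of_mem _ (HomogeneousIdeal.mem_irrelevant_of_mem _ Nat.one_pos
      (Groth.Agent.Lib.helper28.TwistPn.X_mem n k l))
  have hCD : (C (a i * b j - a j * b i)⁻¹ : MvPolynomial (Fin (1 + 1)) K) *
      C (a i * b j - a j * b i) = 1 := by
    rw [← C_mul, inv_mul_cancel₀ hD, C_1]
  have h0 : (X 0 : MvPolynomial (Fin (1 + 1)) K) =
      C (a i * b j - a j * b i)⁻¹ * (C (b j) * tl n a b i - C (b i) * tl n a b j) := by
    have : C (b j) * tl n a b i - C (b i) * tl n a b j =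
        C (a i * b j - a j * b i) * (X 0 : MvPolynomial (Fin (1 + 1)) K) := by
      unfold tl
      simp only [map_sub, map_mul]
      ring
    rw [this, ← mul_assoc, hCD, one_mul]
  have h1 : (X 1 : MvPolynomial (Fin (1 + 1)) K) =
      C (a i * b j - a j * b i)⁻¹ * (C (a i) * tl n a b j - C (a j) * tl n a b i) := by
    have : C (a i) * tl n a b j - C (a j) * tl n a b i =
        C (a i * b j - a j * b i) * (X 1 : MvPolynomial (Fin (1 + 1)) K) := by
      unfold tl
      simp only [map_sub, map_mul]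
      ring
    rw [this, ← mul_assoc, hCD, one_mul]
  rw [Ideal.span_le]
  rintro _ ⟨m, rfl⟩
  fin_cases m
  · change (X 0 : MvPolynomial (Fin (1 + 1)) K) ∈ _
    rw [h0]
    exact Ideal.mul_mem_left _ _ (Ideal.sub_mem _ (Ideal.mul_mem_left _ _ (hmem i))
      (Ideal.mul_mem_left _ _ (hmem j)))
  · change (X 1 : MvPolynomial (Fin (1 + 1)) K) ∈ _
    rw [h1]
    exact Ideal.mul_mem_left _ _ (Ideal.sub_mem _ (Ideal.mul_mem_left _ _ (hmem j))
      (Ideal.mul_mem_left _ _ (hmem i)))

theorem E_comp_lineGr (v : Fin (1 + 1) → K) :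
    (E 1 K v).comp (lineGr n k a b : MvPolynomial (Fin (n + 1)) k →+* MvPolynomial (Fin (1 + 1)) K) =
      E n k (fun l => a l * v 0 + b l * v 1) := by
  apply MvPolynomial.ringHom_ext
  · intro r
    have h1 : (lineGr n k a b : MvPolynomial (Fin (n + 1)) k →+* MvPolynomial (Fin (1 + 1)) K) (C r) =
        C (algebraMap k K r) := lineGr_C n k a b r
    rw [RingHom.comp_apply, h1, E_C, E_C]
    rfl
  · intro l
    have h1 : (lineGr n k a b : MvPolynomial (Fin (n + 1)) k →+* MvPolynomial (Fin (1 + 1)) K) (X l) =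
        tl n a b l := lineGr_X n k a b l
    rw [RingHom.comp_apply, h1, E_X]
    unfold tl
    simp [E]

end Line


section Assemble

variable (n : ℕ) (k : Type u) [Field k] {K : Type u} [Field K] [Algebra k K]

open Groth.Agent.Lib.helper12.PnLocal Groth.Agent.Lib.helper12.ProjProper

theorem pt_congr_hom {A σ : Type u} [CommRing A] [SetLike σ A] [AddSubgroupClass σ A]
    (𝒜 : ℕ → σ) [GradedRing 𝒜] {e e' : A →+* K} (h : e = e') (s : A) {d : ℕ} (hd : 0 < d)
    (hsd : s ∈ 𝒜 d) (hs : IsUnit (e s)) (hs' : IsUnit (e' s)) :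
    pt 𝒜 e s hd hsd hs = pt 𝒜 e' s hd hsd hs' := by
  subst h
  rfl

theorem ptE_toSpecP (a : Fin (n + 1) → K) (i : Fin (n + 1)) (hi : a i = 1) :
    ptE n k a i hi ≫ toSpecP n k = Spec.map (CommRingCat.ofHom (algebraMap k K)) := by
  unfold ptE
  rw [toSpecP_eq, ← Category.assoc, pt_toSpecZero, ← Spec.map_comp, ← CommRingCat.ofHom_comp]
  congr 2
  apply RingHom.ext
  intro r
  exact E_C n k a r

theorem lineGr_toSpecP (a b : Fin (n + 1) → K)
    (hφ : (CohB1.polyGrading 1 K)₊ ≤ ((CohB1.polyGrading n k)₊).map (lineGr n k a b)) :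
    Proj.map (lineGr n k a b) hφ ≫ toSpecP n k =
      toSpecP 1 K ≫ Spec.map (CommRingCat.ofHom (algebraMap k K)) := by
  rw [toSpecP_eq, toSpecP_eq, ← Category.assoc, Groth.Agent.Lib.Lead.ProjMapG.map_toSpecZero,
    Category.assoc, Category.assoc, ← Spec.map_comp, ← Spec.map_comp]
  congr 2
  rw [← CommRingCat.ofHom_comp, ← CommRingCat.ofHom_comp]
  congr 1
  apply RingHom.ext
  intro r
  apply Subtype.ext
  exact lineGr_C n k a b r

theorem ptE_map_lineGr (a b : Fin (n + 1) → K)
    (hφ : (CohB1.polyGrading 1 K)₊ ≤ ((CohB1.polyGrading n k)₊).map (lineGr n k a b))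
    (v : Fin (1 + 1) → K) (m : Fin (1 + 1)) (hm : v m = 1) (i : Fin (n + 1))
    (hi : a i * v 0 + b i * v 1 = 1) :
    ptE 1 K v m hm ≫ Proj.map (lineGr n k a b) hφ =
      ptE n k (fun l => a l * v 0 + b l * v 1) i hi := by
  have hu : IsUnit (E 1 K v (lineGr n k a b (X i))) := by
    have := congrArg (fun g => g (X i)) (E_comp_lineGr n k a b v)
    simp only [RingHom.comp_apply, E_X] at this
    change E 1 K v (lineGr n k a b (X i)) = _ at this
    rw [this, hi]
    exact isUnit_one
  unfold ptE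
  rw [pt_eq (CohB1.polyGrading 1 K) (E 1 K v) one_pos one_pos
    (Groth.Agent.Lib.helper28.TwistPn.X_mem 1 K m)
    (Graded.map_mem (lineGr n k a b) (Groth.Agent.Lib.helper28.TwistPn.X_mem n k i))
    (isUnit_E_X 1 K hm) hu,
    pt_map (CohB1.polyGrading n k) (CohB1.polyGrading 1 K) (lineGr n k a b) hφ (E 1 K v) (X i)
      one_pos (Groth.Agent.Lib.helper28.TwistPn.X_mem n k i) hu]
  exact pt_congr_hom (CohB1.polyGrading n k) (E_comp_lineGr n k a b v) _ _ _ _ _


theorem ptE_congr {a a' : Fin (n + 1) → K} (h : a = a') (i : Fin (n + 1)) (hi : a i = 1)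
    (hi' : a' i = 1) : ptE n k a i hi = ptE n k a' i hi' := by
  subst h
  rfl

open Groth.Agent.Lib.helper12.HProjAffine Groth.Agent.Lib.Helper14.P1Line in
/-- Any two `K`-points of an open `V` of `P^n_k` are directly R-linked in `V`. -/
theorem elemLink_projective (V : (CohB1.ProjSpaceOver n (Spec (CommRingCat.of k))).Opens)
    (A B : REq.Pts (V.ι ≫ CohB1.ProjSpaceOver.toBase n (Spec (CommRingCat.of k))) K) :
    REq.ElemLink (V.ι ≫ CohB1.ProjSpaceOver.toBase n (Spec (CommRingCat.of k))) K A B := by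
  classical
  have hκk : (kappa n k).inv ≫ toSpecP n k =
      CohB1.ProjSpaceOver.toBase n (Spec (CommRingCat.of k)) := by
    rw [Iso.inv_comp_eq, kappa_hom_toBase]
  have hκK : (kappa 1 K).hom ≫ REq.P1K.toSpec K = toSpecP 1 K := kappa_hom_toBase 1 K
  have hA0 : (A.1 ≫ V.ι ≫ (kappa n k).inv) ≫ toSpecP n k =
      Spec.map (CommRingCat.ofHom (algebraMap k K)) := by
    rw [Category.assoc, Category.assoc, hκk]; exact A.2
  have hB0 : (B.1 ≫ V.ι ≫ (kappa n k).inv) ≫ toSpecP n k =
      Spec.map (CommRingCat.ofHom (algebraMap k K)) := by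
    rw [Category.assoc, Category.assoc, hκk]; exact B.2
  obtain ⟨i, a, hi, hAa⟩ := exists_coords n k _ hA0
  obtain ⟨j, b, hj, hBb⟩ := exists_coords n k _ hB0
  by_cases hdeg : ∀ l m, a l * b m = a m * b l
  · -- the two points coincide: constant link
    have hAB : A.1 = B.1 := by
      have h1 : A.1 ≫ V.ι ≫ (kappa n k).inv = B.1 ≫ V.ι ≫ (kappa n k).inv := by
        rw [hAa, hBb]; exact ptE_eq_of_minors n k a b i j hi hj hdeg
      exact (cancel_mono (V.ι ≫ (kappa n k).inv)).mp h1
    let s0 : Spec (CommRingCat.of K) ⟶ REq.P1K K :=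
      Spec.map (CommRingCat.ofHom (ev K 0)) ≫ chart K
    have hs0 : s0 ≫ REq.P1K.toSpec K = 𝟙 _ := by
      rw [Category.assoc, chart_toSpec, ← Spec.map_comp, ← CommRingCat.ofHom_comp]
      have : (ev K 0).comp (cHom 1 K 0) = RingHom.id K := by
        apply RingHom.ext
        intro r
        exact ev_cHom K 0 r
      rw [this]
      exact Spec.map_id _
    let α : Spec (CommRingCat.of K) ⟶ ((⊤ : (REq.P1K K).Opens) : Scheme.{u}) :=
      IsOpenImmersion.lift (⊤ : (REq.P1K K).Opens).ι s0 (by simp)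
    have hα : α ≫ (⊤ : (REq.P1K K).Opens).ι = s0 := IsOpenImmersion.lift_fac _ _ _
    refine ⟨⊤, ((⊤ : (REq.P1K K).Opens).ι ≫ REq.P1K.toSpec K) ≫ A.1, α, α, ?_, ?_, ?_, ?_, ?_⟩
    · rw [Category.assoc, A.2]
      simp only [Category.assoc]
    · rw [← Category.assoc, hα, hs0]
    · rw [← Category.assoc, hα, hs0]
    · rw [← Category.assoc, ← Category.assoc, hα, hs0, Category.id_comp]
    · rw [← Category.assoc, ← Category.assoc, hα, hs0, Category.id_comp, hAB]
  · -- the line through the two points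
    push_neg at hdeg
    obtain ⟨i', j', hD⟩ := hdeg
    have hD' : a i' * b j' - a j' * b i' ≠ 0 := sub_ne_zero.mpr hD
    have hφ := irrelevant_le_lineGr n k a b i' j' hD'
    set M : Proj (CohB1.polyGrading 1 K) ⟶ CohB1.ProjSpaceOver n (Spec (CommRingCat.of k)) :=
      Proj.map (lineGr n k a b) hφ ≫ (kappa n k).hom with hM
    have hMS : M ≫ CohB1.ProjSpaceOver.toBase n (Spec (CommRingCat.of k)) =
        toSpecP 1 K ≫ REq.specMap k K := by
      rw [hM, Category.assoc, kappa_hom_toBase, lineGr_toSpecP]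
    have h10 : ((![1, 0] : Fin (1 + 1) → K)) 0 = 1 := rfl
    have h01 : ((![0, 1] : Fin (1 + 1) → K)) 1 = 1 := rfl
    let q0 : Spec (CommRingCat.of K) ⟶ Proj (CohB1.polyGrading 1 K) := ptE 1 K ![1, 0] 0 h10
    let q1 : Spec (CommRingCat.of K) ⟶ Proj (CohB1.polyGrading 1 K) := ptE 1 K ![0, 1] 1 h01
    have hq0M : q0 ≫ M = A.1 ≫ V.ι := by
      have h1 : q0 ≫ Proj.map (lineGr n k a b) hφ = A.1 ≫ V.ι ≫ (kappa n k).inv := by
        rw [hAa]
        change ptE 1 K ![1, 0] 0 h10 ≫ _ = _
        rw [ptE_map_lineGr n k a b hφ ![1, 0] 0 h10 i (by simp [hi])]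
        exact ptE_congr n k (by funext l; simp) i _ _
      rw [hM, ← Category.assoc, h1]
      simp only [Category.assoc, Iso.inv_hom_id, Category.comp_id]
    have hq1M : q1 ≫ M = B.1 ≫ V.ι := by
      have h1 : q1 ≫ Proj.map (lineGr n k a b) hφ = B.1 ≫ V.ι ≫ (kappa n k).inv := by
        rw [hBb]
        change ptE 1 K ![0, 1] 1 h01 ≫ _ = _
        rw [ptE_map_lineGr n k a b hφ ![0, 1] 1 h01 j (by simp [hj])]
        exact ptE_congr n k (by funext l; simp) j _ _
      rw [hM, ← Category.assoc, h1]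
      simp only [Category.assoc, Iso.inv_hom_id, Category.comp_id]
    have hidK : Spec.map (CommRingCat.ofHom (algebraMap K K)) = 𝟙 (Spec (CommRingCat.of K)) :=
      Spec.map_id _
    have hq0S : q0 ≫ toSpecP 1 K = 𝟙 _ := (ptE_toSpecP 1 K _ _ _).trans hidK
    have hq1S : q1 ≫ toSpecP 1 K = 𝟙 _ := (ptE_toSpecP 1 K _ _ _).trans hidK
    let W : (Proj (CohB1.polyGrading 1 K)).Opens := M ⁻¹ᵁ V
    let L : (REq.P1K K).Opens := (kappa 1 K).hom ''ᵁ W
    let iso : (W : Scheme.{u}) ≅ (L : Scheme.{u}) := (kappa 1 K).hom.isoImage W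
    have hiso : iso.inv ≫ W.ι ≫ (kappa 1 K).hom = L.ι := (kappa 1 K).hom.isoImage_inv_ι W
    have hr0 : Set.range q0 ⊆ Set.range W.ι := by
      rintro _ ⟨p, rfl⟩
      rw [Scheme.Opens.range_ι]
      change M (q0 p) ∈ V
      rw [← Scheme.Hom.comp_apply, hq0M, Scheme.Hom.comp_apply]
      exact (A.1 p).2
    have hr1 : Set.range q1 ⊆ Set.range W.ι := by
      rintro _ ⟨p, rfl⟩
      rw [Scheme.Opens.range_ι]
      change M (q1 p) ∈ V
      rw [← Scheme.Hom.comp_apply, hq1M, Scheme.Hom.comp_apply]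
      exact (B.1 p).2
    let α' : Spec (CommRingCat.of K) ⟶ (W : Scheme.{u}) := IsOpenImmersion.lift W.ι q0 hr0
    let β' : Spec (CommRingCat.of K) ⟶ (W : Scheme.{u}) := IsOpenImmersion.lift W.ι q1 hr1
    have hα' : α' ≫ W.ι = q0 := IsOpenImmersion.lift_fac _ _ _
    have hβ' : β' ≫ W.ι = q1 := IsOpenImmersion.lift_fac _ _ _
    refine ⟨L, iso.inv ≫ (M ∣_ V), α' ≫ iso.hom, β' ≫ iso.hom, ?_, ?_, ?_, ?_, ?_⟩
    · rw [Category.assoc, morphismRestrict_ι_assoc, hMS, ← hiso, ← hκK]
      simp only [Category.assoc]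
      rfl
    · rw [← hiso]
      simp only [Category.assoc, Iso.hom_inv_id_assoc]
      rw [← Category.assoc, hα', hκK, hq0S]
    · rw [← hiso]
      simp only [Category.assoc, Iso.hom_inv_id_assoc]
      rw [← Category.assoc, hβ', hκK, hq1S]
    · rw [Category.assoc, Iso.hom_inv_id_assoc, ← cancel_mono V.ι, Category.assoc,
        morphismRestrict_ι, ← Category.assoc, hα', hq0M]
    · rw [Category.assoc, Iso.hom_inv_id_assoc, ← cancel_mono V.ι, Category.assoc,
        morphismRestrict_ι, ← Category.assoc, hβ', hq1M]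

end Assemble

end Groth.Agent.Lib.Helper14.PnPts
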