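import Mathlib
import Groth.Prelude.Def_W4c1etcurveeff2TopGrp
import Groth.Agent.Lib.Helper14.CharDual

/-!
# helper14: the closed subgroup generated by `n`-th powers and commutators
-/

set_option autoImplicit false
set_option linter.unusedSectionVars false
universe u
open W4c1etcurveeff2

namespace Groth.Agent.Lib.Helper14.PowComm

variable {G : Type u} [Group G] [TopologicalSpace G] [IsTopologicalGroup G] (n : ℕ)

theorem base_le : Subgroup.closure (Set.range fun g : G => g ^ n) ⊔ commutator G ≤
    powCommClosure G n :=
  Subgroup.le_topologicalClosure _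

theorem pow_mem (g : G) : g ^ n ∈ powCommClosure G n :=
  base_le n (Subgroup.mem_sup_left (Subgroup.subset_closure ⟨g, rfl⟩))

theorem commutator_le : commutator G ≤ powCommClosure G n :=
  le_trans le_sup_right (base_le n)

theorem isClosed : IsClosed ((powCommClosure G n : Subgroup G) : Set G) :=
  Subgroup.isClosed_topologicalClosure _

theorem le_of_isClosed (H : Subgroup G) (hH : IsClosed (H : Set G)) (hpow : ∀ g : G, g ^ n ∈ H)
    (hcomm : commutator G ≤ H) : powCommClosure G n ≤ H := by
  apply Subgroup.topologicalClosure_minimal _ _ hH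
  apply sup_le _ hcomm
  rw [Subgroup.closure_le]
  rintro _ ⟨g, rfl⟩
  exact hpow g

/-- a subgroup containing the commutator subgroup is normal -/
theorem normal_of_commutator_le (H : Subgroup G) (h : commutator G ≤ H) : H.Normal where
  conj_mem g hg k := by
    have h1 : k * g * k⁻¹ * g⁻¹ ∈ H := h (Subgroup.commutator_mem_commutator
      (Subgroup.mem_top k) (Subgroup.mem_top g))
    have := H.mul_mem h1 hg
    rwa [inv_mul_cancel_right] at this

instance normal : (powCommClosure G n).Normal :=
  normal_of_commutator_le _ (commutator_le n)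

/-- the quotient by a subgroup containing the commutator subgroup is commutative -/
@[reducible] def commGroupQuot (H : Subgroup G) [H.Normal] (h : commutator G ≤ H) :
    CommGroup (G ⧸ H) :=
  { (inferInstance : Group (G ⧸ H)) with
    mul_comm := by
      intro a b
      obtain ⟨x, rfl⟩ := QuotientGroup.mk_surjective a
      obtain ⟨y, rfl⟩ := QuotientGroup.mk_surjective b
      rw [← QuotientGroup.mk_mul, ← QuotientGroup.mk_mul, QuotientGroup.eq]
      have h1 : (x * y)⁻¹ * (y * x) = y⁻¹ * x⁻¹ * y⁻¹⁻¹ * x⁻¹⁻¹ := by group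
      rw [h1]
      exact h (Subgroup.commutator_mem_commutator (Subgroup.mem_top _) (Subgroup.mem_top _)) }

theorem quot_pow (a : G ⧸ powCommClosure G n) : a ^ n = 1 := by
  obtain ⟨x, rfl⟩ := QuotientGroup.mk_surjective a
  rw [← QuotientGroup.mk_pow, QuotientGroup.eq_one_iff]
  exact pow_mem n x

theorem finite_quot [NeZero n] (s : Finset G)
    (hs : Dense ((Subgroup.closure (s : Set G) : Subgroup G) : Set G)) :
    Finite (G ⧸ powCommClosure G n) := by
  classical
  let _ : CommGroup (G ⧸ powCommClosure G n) := commGroupQuot _ (commutator_le n)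
  let mk : G →* G ⧸ powCommClosure G n := QuotientGroup.mk' _
  let B : Subgroup (G ⧸ powCommClosure G n) := Subgroup.closure (mk '' (s : Set G))
  have hBfg : Group.FG B := by
    rw [Group.fg_iff_subgroup_fg]
    refine ⟨s.image mk, ?_⟩
    rw [Finset.coe_image]
  have hBtors : IsMulTorsion B := by
    intro b
    rw [isOfFinOrder_iff_pow_eq_one]
    refine ⟨n, Nat.pos_of_ne_zero (NeZero.ne n), ?_⟩
    apply Subtype.ext
    rw [Subgroup.coe_pow, quot_pow]
    rfl
  have hBfin : Finite B := CommGroup.finite_of_fg_isMulTorsion (G := B) hBtors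
  have hpre_closed : IsClosed (mk ⁻¹' (B : Set (G ⧸ powCommClosure G n))) := by
    have h1 : mk ⁻¹' (B : Set (G ⧸ powCommClosure G n)) =
        ⋃ b : B, mk ⁻¹' {(b : G ⧸ powCommClosure G n)} := by
      ext x
      simp only [Set.mem_preimage, SetLike.mem_coe, Set.mem_iUnion, Set.mem_singleton_iff]
      constructor
      · intro hx
        exact ⟨⟨mk x, hx⟩, rfl⟩
      · rintro ⟨b, hb⟩
        rw [hb]
        exact b.2
    rw [h1]
    apply isClosed_iUnion_of_finite
    intro b
    obtain ⟨g, hg⟩ := QuotientGroup.mk_surjective (b : G ⧸ powCommClosure G n)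
    have h2 : mk ⁻¹' {(b : G ⧸ powCommClosure G n)} =
        (fun x => g⁻¹ * x) ⁻¹' ((powCommClosure G n : Subgroup G) : Set G) := by
      ext x
      simp only [Set.mem_preimage, Set.mem_singleton_iff, SetLike.mem_coe]
      rw [← hg]
      change (QuotientGroup.mk x : G ⧸ powCommClosure G n) = QuotientGroup.mk g ↔ _
      rw [eq_comm, QuotientGroup.eq]
    rw [h2]
    exact (isClosed n).preimage (continuous_const_mul _)
  have hsub : ((Subgroup.closure (s : Set G) : Subgroup G) : Set G) ⊆
      mk ⁻¹' (B : Set (G ⧸ powCommClosure G n)) := by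
    have : Subgroup.closure (s : Set G) ≤ B.comap mk := by
      rw [Subgroup.closure_le]
      intro y hy
      exact Subgroup.subset_closure ⟨y, hy, rfl⟩
    exact this
  have huniv : mk ⁻¹' (B : Set (G ⧸ powCommClosure G n)) = Set.univ := by
    have hd : Dense (mk ⁻¹' (B : Set (G ⧸ powCommClosure G n))) := hs.mono hsub
    rw [← hpre_closed.closure_eq]
    exact hd.closure_eq
  have hBtop : B = ⊤ := by
    rw [eq_top_iff]
    intro a _
    obtain ⟨g, rfl⟩ := QuotientGroup.mk_surjective a
    have : g ∈ mk ⁻¹' (B : Set (G ⧸ powCommClosure G n)) := huniv ▸ Set.mem_univ g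
    exact this
  have : Finite (⊤ : Subgroup (G ⧸ powCommClosure G n)) := hBtop ▸ hBfin
  exact Finite.of_equiv _ Subgroup.topEquiv.toEquiv

theorem isOpen_of_finite [Finite (G ⧸ powCommClosure G n)] :
    IsOpen ((powCommClosure G n : Subgroup G) : Set G) := by
  have : (powCommClosure G n).FiniteIndex := Subgroup.finiteIndex_of_finite_quotient
  exact Subgroup.isOpen_of_isClosed_of_finiteIndex _ (isClosed n)

/-- invariance under continuous automorphisms, one inclusion -/
theorem map_le (φ : G ≃* G) (hφ : Continuous φ) :
    (powCommClosure G n).map φ.toMonoidHom ≤ powCommClosure G n := by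
  rintro _ ⟨x, hx, rfl⟩
  let S₀ : Subgroup G := Subgroup.closure (Set.range fun g : G => g ^ n) ⊔ commutator G
  have hx' : x ∈ closure (S₀ : Set G) := hx
  have h1 : φ x ∈ closure (φ '' (S₀ : Set G)) :=
    image_closure_subset_closure_image hφ ⟨x, hx', rfl⟩
  have h2 : S₀.map φ.toMonoidHom ≤ S₀ := by
    rw [Subgroup.map_sup]
    apply sup_le_sup
    · rw [MonoidHom.map_closure, Subgroup.closure_le]
      rintro _ ⟨_, ⟨g, rfl⟩, rfl⟩
      apply Subgroup.subset_closure
      exact ⟨φ g, (map_pow φ g n).symm⟩
    · rw [commutator_def, Subgroup.map_commutator]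
      exact Subgroup.commutator_mono le_top le_top
  have h3 : φ '' (S₀ : Set G) ⊆ (S₀ : Set G) := by
    rintro _ ⟨y, hy, rfl⟩
    exact h2 ⟨y, hy, rfl⟩
  exact closure_mono h3 h1

theorem map_eq (φ : G ≃* G) (hφ : Continuous φ) (hφ' : Continuous φ.symm) :
    (powCommClosure G n).map φ.toMonoidHom = powCommClosure G n := by
  apply le_antisymm (map_le n φ hφ)
  intro x hx
  refine ⟨φ.symm x, map_le n φ.symm hφ' ⟨x, hx, rfl⟩, ?_⟩
  exact φ.apply_symm_apply x

theorem zmod_pow_eq_one [NeZero n] (x : Multiplicative (ZMod n)) : x ^ n = 1 := by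
  have h : Nat.card (Multiplicative (ZMod n)) = n := by
    rw [Nat.card_eq_fintype_card, Fintype.card_multiplicative, ZMod.card]
  have := pow_card_eq_one' (x := x)
  rwa [h] at this

/-- a character with open kernel kills the subgroup -/
theorem char_eq_one [NeZero n] (χ : G →* Multiplicative (ZMod n))
    (hχ : IsOpen ((χ.ker : Subgroup G) : Set G)) (g : G) (hg : g ∈ powCommClosure G n) :
    χ g = 1 := by
  have := le_of_isClosed n χ.ker (Subgroup.isClosed_of_isOpen _ hχ) (fun g => by
    rw [MonoidHom.mem_ker, map_pow, zmod_pow_eq_one]) (Abelianization.commutator_subset_ker χ) hg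
  exact this

/-- elements outside the subgroup are detected by a character with open kernel -/
theorem exists_char_ne_one [NeZero n] [Finite (G ⧸ powCommClosure G n)] (g : G)
    (hg : g ∉ powCommClosure G n) :
    ∃ χ : G →* Multiplicative (ZMod n), IsOpen ((χ.ker : Subgroup G) : Set G) ∧ χ g ≠ 1 := by
  let _ : CommGroup (G ⧸ powCommClosure G n) := commGroupQuot _ (commutator_le n)
  have hne : (QuotientGroup.mk g : G ⧸ powCommClosure G n) ≠ 1 := by
    rw [Ne, QuotientGroup.eq_one_iff]
    exact hg
  obtain ⟨χq, hχq⟩ := CharDual.exists_char_ne_one n (quot_pow n) hne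
  refine ⟨χq.comp (QuotientGroup.mk' _), ?_, hχq⟩
  refine Subgroup.isOpen_mono (H₁ := powCommClosure G n) ?_ (isOpen_of_finite n)
  intro x hx
  rw [MonoidHom.mem_ker, MonoidHom.comp_apply]
  have : (QuotientGroup.mk' (powCommClosure G n)) x = 1 := (QuotientGroup.eq_one_iff x).mpr hx
  rw [this, map_one]

section Dual
variable [NeZero n]

/-- the lift of a continuous character to the quotient -/
noncomputable def liftChar (χ : ContChar G n) :
    G ⧸ powCommClosure G n →* Multiplicative (ZMod n) :=
  QuotientGroup.lift (powCommClosure G n) χ.1 (fun g hg => char_eq_one n χ.1 χ.2 g hg)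

theorem liftChar_mk (χ : ContChar G n) (g : G) :
    liftChar n χ (QuotientGroup.mk g) = χ.1 g := rfl

theorem liftChar_injective : Function.Injective (liftChar (G := G) n) := by
  intro χ ψ h
  apply Subtype.ext
  ext g
  have := DFunLike.congr_fun h (QuotientGroup.mk g)
  rw [liftChar_mk, liftChar_mk] at this
  rw [this]

theorem contChar_pow (χ : ContChar G n) : χ ^ n = 1 := by
  apply Subtype.ext
  ext g
  rw [Subgroup.coe_pow, MonoidHom.pow_apply, zmod_pow_eq_one]
  rfl

/-- evaluation of characters at a group element -/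
noncomputable def ev₀ : G →* (ContChar G n →* Multiplicative (ZMod n)) where
  toFun g :=
    { toFun := fun χ => χ.1 g
      map_one' := rfl
      map_mul' := fun _ _ => rfl }
  map_one' := by
    ext χ
    exact congrArg _ (map_one χ.1)
  map_mul' g h := by
    ext χ
    exact congrArg _ (map_mul χ.1 g h)

theorem ev₀_apply (g : G) (χ : ContChar G n) : ev₀ n g χ = χ.1 g := rfl

/-- evaluation on the quotient -/
noncomputable def ev : G ⧸ powCommClosure G n →* (ContChar G n →* Multiplicative (ZMod n)) :=
  QuotientGroup.lift (powCommClosure G n) (ev₀ n) (fun g hg => by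
    ext χ
    exact congrArg _ (char_eq_one n χ.1 χ.2 g hg))

theorem ev_mk (g : G) (χ : ContChar G n) : ev n (QuotientGroup.mk g) χ = χ.1 g := rfl

variable [Finite (G ⧸ powCommClosure G n)]

theorem ev_injective : Function.Injective (ev (G := G) n) := by
  rw [injective_iff_map_eq_one]
  intro a ha
  obtain ⟨g, rfl⟩ := QuotientGroup.mk_surjective a
  rw [QuotientGroup.eq_one_iff]
  by_contra hg
  obtain ⟨χ, hχo, hχ⟩ := exists_char_ne_one n g hg
  apply hχ
  have := DFunLike.congr_fun ha (⟨χ, hχo⟩ : ContChar G n)
  exact this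

instance finite_homQuot : Finite (G ⧸ powCommClosure G n →* Multiplicative (ZMod n)) :=
  DFunLike.finite _

instance finite_contChar : Finite (ContChar G n) :=
  Finite.of_injective _ (liftChar_injective n)

instance finite_dual : Finite (ContChar G n →* Multiplicative (ZMod n)) :=
  DFunLike.finite _

theorem card_eq :
    Nat.card (ContChar G n →* Multiplicative (ZMod n)) = Nat.card (G ⧸ powCommClosure G n) ∧
      Function.Bijective (ev (G := G) n) := by
  let _ : CommGroup (G ⧸ powCommClosure G n) := commGroupQuot _ (commutator_le n)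
  have h1 : Nat.card (ContChar G n) ≤ Nat.card (G ⧸ powCommClosure G n) := by
    rw [← CharDual.card_char n (quot_pow (G := G) n)]
    exact Nat.card_le_card_of_injective _ (liftChar_injective n)
  have h2 : Nat.card (ContChar G n →* Multiplicative (ZMod n)) = Nat.card (ContChar G n) :=
    CharDual.card_char n (contChar_pow n)
  have h3 : Nat.card (G ⧸ powCommClosure G n) ≤
      Nat.card (ContChar G n →* Multiplicative (ZMod n)) :=
    Nat.card_le_card_of_injective _ (ev_injective n)
  refine ⟨le_antisymm (h2 ▸ h1) h3, ?_⟩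
  exact (ev_injective n).bijective_of_nat_card_le (h2 ▸ h1)

theorem eq_of_quot_equiv (H : Subgroup G) [H.Normal] (hH : IsClosed (H : Set G))
    (e : G ⧸ H ≃* (ContChar G n →* Multiplicative (ZMod n))) : H = powCommClosure G n := by
  have hcommQ : ∀ x y : G ⧸ H, x * y = y * x := by
    intro x y
    apply e.injective
    rw [map_mul, map_mul, mul_comm]
  have hpowQ : ∀ x : G ⧸ H, x ^ n = 1 := by
    intro x
    apply e.injective
    rw [map_pow, map_one]
    ext χ
    rw [MonoidHom.pow_apply, zmod_pow_eq_one]
    rfl
  have hle : powCommClosure G n ≤ H := by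
    apply le_of_isClosed n H hH
    · intro g
      rw [← QuotientGroup.eq_one_iff, QuotientGroup.mk_pow]
      exact hpowQ _
    · rw [commutator_def, Subgroup.commutator_le]
      intro g₁ _ g₂ _
      rw [← QuotientGroup.eq_one_iff, commutatorElement_def, QuotientGroup.mk_mul,
        QuotientGroup.mk_mul, QuotientGroup.mk_mul, QuotientGroup.mk_inv, QuotientGroup.mk_inv,
        hcommQ (QuotientGroup.mk g₁) (QuotientGroup.mk g₂), mul_inv_cancel_right, mul_inv_cancel]
  have hidx : H.index = (powCommClosure G n).index := by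
    rw [Subgroup.index, Subgroup.index, Nat.card_congr e.toEquiv, (card_eq n).1]
  have hfi : (powCommClosure G n).FiniteIndex := Subgroup.finiteIndex_of_finite_quotient
  have hne : (powCommClosure G n).index ≠ 0 := hfi.index_ne_zero
  have hmul := Subgroup.relIndex_mul_index hle
  have h1 : (powCommClosure G n).relIndex H = 1 := by
    rw [hidx] at hmul
    have : (powCommClosure G n).relIndex H * (powCommClosure G n).index =
        1 * (powCommClosure G n).index := by rw [hmul, one_mul]
    exact Nat.eq_of_mul_eq_mul_right (Nat.pos_of_ne_zero hne) this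
  exact le_antisymm (Subgroup.relIndex_eq_one.mp h1) hle

end Dual

end Groth.Agent.Lib.Helper14.PowComm
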