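import Mathlib
import Groth.Prelude.Def_AlgGrp

/-!
# helper14: an action on a product which is compatible with both projections is a product action
-/

set_option autoImplicit false
universe u
open CategoryTheory MonoidalCategory CartesianMonoidalCategory MonObj GrpObj AlgebraicGeometry

namespace Groth.Agent.Lib.Helper14.ProdAction

variable {S : Scheme.{u}}

/-- an action descends along an equivariant split epimorphism -/
theorem action_of_equivariant_splitEpi {G W V : Over S} [GrpObj G] (a : AlgGrp.Action G W)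
    (π : W ⟶ V) (s : V ⟶ W) (hs : s ≫ π = 𝟙 V) (ψ : G ⊗ V ⟶ V)
    (h : a.act ≫ π = (G ◁ π) ≫ ψ) :
    (η[G] ▷ V) ≫ ψ = (λ_ V).hom ∧ (μ[G] ▷ V) ≫ ψ = (α_ G G V).hom ≫ (G ◁ ψ) ≫ ψ := by
  constructor
  · have h1 : (𝟙_ (Over S) ◁ π) ≫ (η[G] ▷ V) ≫ ψ = (𝟙_ (Over S) ◁ π) ≫ (λ_ V).hom := by
      rw [← Category.assoc, whisker_exchange, Category.assoc, ← h, ← Category.assoc, a.one_act,
        leftUnitor_naturality]
    have h2 := congrArg (fun φ => (𝟙_ (Over S) ◁ s) ≫ φ) h1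
    simp only [← Category.assoc, ← MonoidalCategory.whiskerLeft_comp, hs,
      MonoidalCategory.whiskerLeft_id, Category.id_comp] at h2
    simpa using h2
  · have h1 : ((G ⊗ G) ◁ π) ≫ (μ[G] ▷ V) ≫ ψ =
        ((G ⊗ G) ◁ π) ≫ (α_ G G V).hom ≫ (G ◁ ψ) ≫ ψ := by
      rw [← Category.assoc, whisker_exchange, Category.assoc, ← h, ← Category.assoc, a.mul_act]
      simp only [Category.assoc]
      rw [h, ← Category.assoc (G ◁ a.act), ← MonoidalCategory.whiskerLeft_comp, h,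
        MonoidalCategory.whiskerLeft_comp, ← Category.assoc ((G ⊗ G) ◁ π),
        associator_naturality_right]
      simp only [Category.assoc]
    have h2 := congrArg (fun φ => ((G ⊗ G) ◁ s) ≫ φ) h1
    simp only [← Category.assoc, ← MonoidalCategory.whiskerLeft_comp, hs,
      MonoidalCategory.whiskerLeft_id, Category.id_comp] at h2
    simpa using h2

theorem product_action_of_factor (G X Y : Over S) [GrpObj G] (a : AlgGrp.Action G (X ⊗ Y))
    (x₁ : 𝟙_ (Over S) ⟶ X) (y₁ : 𝟙_ (Over S) ⟶ Y) (ψ₁ : G ⊗ X ⟶ X) (ψ₂ : G ⊗ Y ⟶ Y)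
    (h₁ : a.act ≫ fst X Y = (G ◁ fst X Y) ≫ ψ₁) (h₂ : a.act ≫ snd X Y = (G ◁ snd X Y) ≫ ψ₂) :
    ∃ (b : AlgGrp.Action G X) (c : AlgGrp.Action G Y),
      a.act = lift ((G ◁ fst X Y) ≫ b.act) ((G ◁ snd X Y) ≫ c.act) ∧
      ∀ (b' : AlgGrp.Action G X) (c' : AlgGrp.Action G Y),
        a.act = lift ((G ◁ fst X Y) ≫ b'.act) ((G ◁ snd X Y) ≫ c'.act) → b' = b ∧ c' = c := by
  let sX : X ⟶ X ⊗ Y := lift (𝟙 X) (toUnit X ≫ y₁)
  let sY : Y ⟶ X ⊗ Y := lift (toUnit Y ≫ x₁) (𝟙 Y)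
  have hsX : sX ≫ fst X Y = 𝟙 X := lift_fst _ _
  have hsY : sY ≫ snd X Y = 𝟙 Y := lift_snd _ _
  obtain ⟨hb1, hb2⟩ := action_of_equivariant_splitEpi a (fst X Y) sX hsX ψ₁ h₁
  obtain ⟨hc1, hc2⟩ := action_of_equivariant_splitEpi a (snd X Y) sY hsY ψ₂ h₂
  refine ⟨⟨ψ₁, hb1, hb2⟩, ⟨ψ₂, hc1, hc2⟩, ?_, ?_⟩
  · apply CartesianMonoidalCategory.hom_ext
    · rw [lift_fst]; exact h₁
    · rw [lift_snd]; exact h₂
  · intro b' c' hbc
    have e1 : (G ◁ fst X Y) ≫ b'.act = (G ◁ fst X Y) ≫ ψ₁ := by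
      rw [← h₁, hbc, lift_fst]
    have e2 : (G ◁ snd X Y) ≫ c'.act = (G ◁ snd X Y) ≫ ψ₂ := by
      rw [← h₂, hbc, lift_snd]
    have e1' := congrArg (fun φ => (G ◁ sX) ≫ φ) e1
    have e2' := congrArg (fun φ => (G ◁ sY) ≫ φ) e2
    simp only [← Category.assoc, ← MonoidalCategory.whiskerLeft_comp, hsX, hsY,
      MonoidalCategory.whiskerLeft_id, Category.id_comp] at e1' e2'
    constructor
    · cases b'
      simp only at e1'
      subst e1'
      rfl
    · cases c'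
      simp only at e2'
      subst e2'
      rfl

end Groth.Agent.Lib.Helper14.ProdAction
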