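import Mathlib
import Groth.Prelude.Def_SchFin2
import Groth.Agent.Lib.Helper14.FEt1
import Groth.Agent.Lib.Helper14.FEt4

/-!
# helper14: cohomology over the one-point space, and base change along epimorphisms
-/

set_option autoImplicit false
set_option linter.style.haveILetI false
universe u
open SchFin SchFin.RSpace CategoryTheory TensorProduct

namespace Groth.Agent.Lib.Helper14.Pt

open Groth.Agent.Lib.Helper14.FEt

section RingLevel

variable {R S : Type u} [CommRing R] [CommRing S] (g : R →+* S)

/-- Lemma C: along a ring epimorphism, a bijective semilinear map is a base change. -/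
theorem isBCAlong_of_bijective_of_epi
    (hepi : ∀ {T : Type u} [CommRing T] (g₁ g₂ : S →+* T), g₁.comp g = g₂.comp g → g₁ = g₂)
    {M N : Type u} [AddCommGroup M] [AddCommGroup N] [Module R M] [Module S N]
    (f : M →ₛₗ[g] N) (hf : Function.Bijective f) : IsBCAlong g f := by
  unfold IsBCAlong
  letI : Algebra R S := g.toAlgebra
  letI : Module R N := Module.compHom N g
  haveI : IsScalarTower R S N := IsScalarTower.of_algebraMap_smul fun _ _ => rfl
  let fl : M →ₗ[R] N := { toFun := f, map_add' := f.map_add, map_smul' := f.map_smulₛₗ }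
  let c : S ⊗[R] M →ₗ[S] N := fl.liftBaseChange S
  have hc : ∀ s m, c (s ⊗ₜ m) = s • f m := fun s m => rfl
  -- the two inclusions of `S` into `S ⊗ S` agree
  have hinc : ∀ s : S, s ⊗ₜ[R] (1 : S) = (1 : S) ⊗ₜ[R] s := by
    have := hepi (T := S ⊗[R] S) (Algebra.TensorProduct.includeLeftRingHom)
      (Algebra.TensorProduct.includeRight (R := R) (A := S) (B := S)).toRingHom (by
        ext r
        change (g r) ⊗ₜ[R] (1 : S) = (1 : S) ⊗ₜ[R] (g r)
        have h1 : g r = r • (1 : S) := by rw [Algebra.smul_def, mul_one]; rfl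
        rw [h1, TensorProduct.smul_tmul])
    intro s
    exact congrArg (fun k => k s) this
  let e := Equiv.ofBijective f hf
  -- every pure tensor is of the form `1 ⊗ m`
  have hpure : ∀ (s : S) (m : M), s ⊗ₜ[R] m = (1 : S) ⊗ₜ[R] e.symm (s • f m) := by
    intro s m
    let ℓ : S →ₗ[R] M :=
      { toFun := fun b => e.symm (b • f m)
        map_add' := fun b b' => by
          apply e.injective
          change f (e.symm ((b + b') • f m)) = f (e.symm (b • f m) + e.symm (b' • f m))
          rw [map_add]
          change e (e.symm _) = e (e.symm _) + e (e.symm _)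
          rw [Equiv.apply_symm_apply, Equiv.apply_symm_apply, Equiv.apply_symm_apply, add_smul]
        map_smul' := fun r b => by
          apply e.injective
          change f (e.symm ((r • b) • f m)) = f (r • e.symm (b • f m))
          rw [f.map_smulₛₗ]
          change e (e.symm _) = g r • e (e.symm _)
          rw [Equiv.apply_symm_apply, Equiv.apply_symm_apply, Algebra.smul_def, mul_smul]
          rfl }
    have h1 := congrArg (LinearMap.lTensor S ℓ) (hinc s)
    rw [LinearMap.lTensor_tmul, LinearMap.lTensor_tmul] at h1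
    have h2 : ℓ 1 = m := by
      change e.symm ((1 : S) • f m) = m
      rw [one_smul]
      exact e.symm_apply_apply m
    rw [h2] at h1
    exact h1
  have hall : ∀ t : S ⊗[R] M, ∃ m : M, t = (1 : S) ⊗ₜ[R] m := by
    intro t
    induction t using TensorProduct.induction_on with
    | zero => exact ⟨0, (TensorProduct.tmul_zero _ _).symm⟩
    | tmul s m => exact ⟨_, hpure s m⟩
    | add x y hx hy =>
      obtain ⟨m, rfl⟩ := hx
      obtain ⟨m', rfl⟩ := hy
      exact ⟨m + m', (TensorProduct.tmul_add _ _ _).symm⟩
  have hbij : Function.Bijective c := by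
    constructor
    · rw [injective_iff_map_eq_zero]
      intro t ht
      obtain ⟨m, rfl⟩ := hall t
      rw [hc, one_smul] at ht
      have : m = 0 := hf.1 (ht.trans f.map_zero.symm)
      rw [this, TensorProduct.tmul_zero]
    · intro n
      obtain ⟨m, rfl⟩ := hf.2 n
      exact ⟨1 ⊗ₜ m, by rw [hc, one_smul]⟩
  refine IsBaseChange.of_equiv (LinearEquiv.ofBijective c hbij) ?_
  intro x
  change c (1 ⊗ₜ x) = f x
  rw [hc, one_smul]

/-- Lemma D: if the base change of the source vanishes and the target is trivial, any map is a base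
change. -/
theorem isBCAlong_of_subsingleton_tensor {M N : Type u} [AddCommGroup M] [AddCommGroup N]
    [Module R M] [Module S N] [Subsingleton N] (f : M →ₛₗ[g] N)
    (h : letI : Algebra R S := g.toAlgebra; Subsingleton (S ⊗[R] M)) : IsBCAlong g f := by
  unfold IsBCAlong
  letI : Algebra R S := g.toAlgebra
  letI : Module R N := Module.compHom N g
  haveI : IsScalarTower R S N := IsScalarTower.of_algebraMap_smul fun _ _ => rfl
  haveI : Subsingleton (S ⊗[R] M) := h
  let fl : M →ₗ[R] N := { toFun := f, map_add' := f.map_add, map_smul' := f.map_smulₛₗ }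
  let c : S ⊗[R] M →ₗ[S] N := fl.liftBaseChange S
  have hbij : Function.Bijective c :=
    ⟨fun a b _ => Subsingleton.elim a b, fun n => ⟨0, Subsingleton.elim _ _⟩⟩
  refine IsBaseChange.of_equiv (LinearEquiv.ofBijective c hbij) ?_
  intro x
  exact Subsingleton.elim _ _

/-- if no prime of `S` lies over the kernel of `ψ : R → Ω`, then `S ⊗[R] Ω` is the zero ring -/
theorem subsingleton_tensor_field {Ω : Type u} [Field Ω] (ψ : R →+* Ω)
    (hno : ∀ Q : PrimeSpectrum S, (Q.asIdeal.comap g) ≠ RingHom.ker ψ) :
    letI : Algebra R S := g.toAlgebra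
    letI : Algebra R Ω := ψ.toAlgebra
    Subsingleton (S ⊗[R] Ω) := by
  letI : Algebra R S := g.toAlgebra
  letI : Algebra R Ω := ψ.toAlgebra
  by_contra hne
  rw [not_subsingleton_iff_nontrivial] at hne
  obtain ⟨m, hm⟩ := Ideal.exists_maximal (S ⊗[R] Ω)
  let 𝔪 : PrimeSpectrum (S ⊗[R] Ω) := ⟨m, hm.isPrime⟩
  let Q : PrimeSpectrum S := PrimeSpectrum.comap (Algebra.TensorProduct.includeLeftRingHom) 𝔪
  apply hno Q
  have h1 : (Algebra.TensorProduct.includeLeftRingHom (R := R) (A := S) (B := Ω)).comp g =
      (Algebra.TensorProduct.includeRight (R := R) (A := S) (B := Ω)).toRingHom.comp ψ := by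
    ext r
    change (g r) ⊗ₜ[R] (1 : Ω) = (1 : S) ⊗ₜ[R] (ψ r)
    have e1 : g r = r • (1 : S) := by rw [Algebra.smul_def, mul_one]; rfl
    have e2 : ψ r = r • (1 : Ω) := by rw [Algebra.smul_def, mul_one]; rfl
    rw [e1, e2, TensorProduct.smul_tmul]
  change Ideal.comap g (Ideal.comap (Algebra.TensorProduct.includeLeftRingHom) m) = _
  rw [Ideal.comap_comap, h1, ← Ideal.comap_comap]
  have h2 : Ideal.comap (Algebra.TensorProduct.includeRight (R := R) (A := S)
      (B := Ω)).toRingHom m = ⊥ := by
    haveI : (Ideal.comap (Algebra.TensorProduct.includeRight (R := R) (A := S)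
      (B := Ω)).toRingHom m).IsPrime := Ideal.comap_isPrime _ _
    exact Ideal.eq_bot_of_prime _
  rw [h2]
  rfl

end RingLevel

section OnePoint

variable {Ω : Type u} [Field Ω] {U : Set (RSpace.point Ω).pt} {R : Type u} [CommRing R]
  (φc : Coef (RSpace.point Ω) U R)

instance : Subsingleton (RSpace.point Ω).pt := inferInstanceAs (Subsingleton PUnit)

theorem isEmpty_chain_succ (n : ℕ) : IsEmpty (Chain U (n + 1)) := by
  constructor
  intro σ
  have h : σ 0 = σ 1 := Subsingleton.elim _ _
  have := σ.injective h
  exact absurd this (by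
    intro e
    have := congrArg Fin.val e
    simp at this)

theorem isEmpty_chain_of_not_mem (h : ∀ q : (RSpace.point Ω).pt, q ∉ U) (n : ℕ) :
    IsEmpty (Chain U n) := by
  constructor
  intro σ
  exact h _ (σ 0).2

theorem subsingleton_H_of_isEmpty (M : OMod (RSpace.point Ω)) (n : ℕ)
    (h : IsEmpty (Chain U n)) : Subsingleton (H φc M n) := by
  haveI : Subsingleton (Cochain φc M n) := by
    unfold Cochain
    infer_instance
  haveI : Subsingleton ↥(cocycles φc M n) := inferInstance
  unfold H
  infer_instance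

/-- the unique chain of length zero -/
def chain0 {q : (RSpace.point Ω).pt} (h0 : q ∈ U) : Chain U 0 where
  toFun _ := ⟨q, h0⟩
  inj' a b _ := @Subsingleton.elim (Fin (0 + 1)) Fin.subsingleton_one a b
  map_rel_iff' {a b} := by
    have : a = b := @Subsingleton.elim (Fin (0 + 1)) Fin.subsingleton_one a b
    subst this
    exact ⟨fun _ => le_refl _, fun _ => le_refl _⟩

theorem chain0_unique {q : (RSpace.point Ω).pt} (h0 : q ∈ U) (σ : Chain U 0) :
    σ = chain0 h0 := by
  apply RelEmbedding.ext
  intro i
  exact Subtype.ext (Subsingleton.elim _ _)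

variable [Algebra R Ω]

/-- evaluation of degree-zero cohomology classes -/
noncomputable def evLin {q : (RSpace.point Ω).pt} (h0 : q ∈ U)
    (halg : ∀ r, algebraMap R Ω r = φc.map ⟨q, h0⟩ r) :
    H φc (RSpace.point Ω).str 0 →ₗ[R] Ω :=
  Submodule.liftQ _
    ({ toFun := fun c => c.1 (chain0 h0)
       map_add' := fun _ _ => rfl
       map_smul' := fun r c => by
        let a : Ω := φc.map ⟨q, h0⟩ r
        let b : Ω := c.1 (chain0 h0)
        change a * b = r • b
        rw [Algebra.smul_def, halg] } :
      ↥(cocycles φc (RSpace.point Ω).str 0) →ₗ[R] Ω)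
    (by
      intro c hc
      have hc' : c.1 ∈ (⊥ : Submodule R (Cochain φc (RSpace.point Ω).str 0)) := hc
      rw [Submodule.mem_bot] at hc'
      rw [LinearMap.mem_ker]
      change c.1 (chain0 h0) = 0
      rw [hc']
      rfl)

theorem evLin_mk {q : (RSpace.point Ω).pt} (h0 : q ∈ U)
    (halg : ∀ r, algebraMap R Ω r = φc.map ⟨q, h0⟩ r)
    (c : ↥(cocycles φc (RSpace.point Ω).str 0)) :
    evLin φc h0 halg (H.mk φc (RSpace.point Ω).str 0 c) = c.1 (chain0 h0) := rfl

theorem evLin_bijective {q : (RSpace.point Ω).pt} (h0 : q ∈ U)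
    (halg : ∀ r, algebraMap R Ω r = φc.map ⟨q, h0⟩ r) :
    Function.Bijective (evLin φc h0 halg) := by
  constructor
  · rw [injective_iff_map_eq_zero]
    intro x hx
    obtain ⟨c, rfl⟩ := Submodule.mkQ_surjective _ x
    have hc : c.1 (chain0 h0) = 0 := hx
    have : c = 0 := by
      apply Subtype.ext
      funext σ
      rw [chain0_unique h0 σ]
      exact hc
    rw [this]
    exact map_zero _
  · intro ω
    have hcoc : (fun _ => ω : Cochain φc (RSpace.point Ω).str 0) ∈
        cocycles φc (RSpace.point Ω).str 0 := by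
      change diff φc (RSpace.point Ω).str 0 _ = 0
      haveI : Subsingleton (Cochain φc (RSpace.point Ω).str 1) := by
        haveI := isEmpty_chain_succ (U := U) 0
        unfold Cochain
        infer_instance
      exact Subsingleton.elim _ _
    exact ⟨H.mk φc (RSpace.point Ω).str 0 ⟨_, hcoc⟩, rfl⟩

end OnePoint

section ResH

variable {Ω : Type u} [Field Ω] {U U' : Set (RSpace.point Ω).pt} {R S : Type u} [CommRing R]
  [CommRing S] (φc : Coef (RSpace.point Ω) U R) (φc' : Coef (RSpace.point Ω) U' S)

/-- Lemma E: restriction in cohomology over the one-point space is a base change, given that the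
change of rings is an epimorphism when the smaller set is inhabited, and that no prime lies over
the kernel when only the larger set is inhabited. -/
theorem isBCAlong_resH (s : Coef.Sub φc φc') (n : ℕ)
    (hepi : (∃ q, q ∈ U') → ∀ {T : Type u} [CommRing T] (g₁ g₂ : S →+* T),
      g₁.comp s.hom = g₂.comp s.hom → g₁ = g₂)
    (hvan : ∀ (q : (RSpace.point Ω).pt) (h0 : q ∈ U), (∀ q', q' ∉ U') →
      ∀ Q : PrimeSpectrum S, Q.asIdeal.comap s.hom ≠ RingHom.ker (φc.map ⟨q, h0⟩)) :
    IsBCAlong s.hom (resH (RSpace.point Ω).str s n) := by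
  cases n with
  | succ n =>
    haveI := subsingleton_H_of_isEmpty φc (RSpace.point Ω).str (n + 1) (isEmpty_chain_succ n)
    haveI := subsingleton_H_of_isEmpty φc' (RSpace.point Ω).str (n + 1) (isEmpty_chain_succ n)
    exact isBCAlong_of_subsingleton _ _
  | zero =>
    by_cases hU' : ∃ q, q ∈ U'
    · obtain ⟨q, h0'⟩ := hU'
      have h0 : q ∈ U := s.le h0'
      letI : Algebra S Ω := (φc'.map ⟨q, h0'⟩).toAlgebra
      letI : Algebra R Ω := (φc.map ⟨q, h0⟩).toAlgebra
      have he := evLin_bijective φc h0 (fun _ => rfl)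
      have he' := evLin_bijective φc' h0' (fun _ => rfl)
      have hcomp : ∀ x, evLin φc' h0' (fun _ => rfl) (resH (RSpace.point Ω).str s 0 x) =
          evLin φc h0 (fun _ => rfl) x := by
        intro x
        obtain ⟨c, rfl⟩ := Submodule.mkQ_surjective _ x
        change c.1 ((chain0 h0').incl s.le) = c.1 (chain0 h0)
        rw [chain0_unique h0 ((chain0 h0').incl s.le)]
      apply isBCAlong_of_bijective_of_epi s.hom (hepi ⟨q, h0'⟩)
      constructor
      · intro x y hxy
        apply he.1
        rw [← hcomp, ← hcomp, hxy]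
      · intro y
        obtain ⟨x, hx⟩ := he.2 (evLin φc' h0' (fun _ => rfl) y)
        refine ⟨x, he'.1 ?_⟩
        rw [hcomp, hx]
    · have hU'e : ∀ q', q' ∉ U' := fun q' hq' => hU' ⟨q', hq'⟩
      haveI := subsingleton_H_of_isEmpty φc' (RSpace.point Ω).str 0
        (isEmpty_chain_of_not_mem hU'e 0)
      by_cases hU : ∃ q, q ∈ U
      · obtain ⟨q, h0⟩ := hU
        apply isBCAlong_of_subsingleton_tensor
        letI : Algebra R S := s.hom.toAlgebra
        letI : Algebra R Ω := (φc.map ⟨q, h0⟩).toAlgebra
        have hsub : Subsingleton (S ⊗[R] Ω) :=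
          subsingleton_tensor_field (Ω := Ω) s.hom (φc.map ⟨q, h0⟩ : R →+* Ω) (hvan q h0 hU'e)
        let e : H φc (RSpace.point Ω).str 0 ≃ₗ[R] Ω :=
          LinearEquiv.ofBijective (evLin φc h0 (fun _ => rfl))
            (evLin_bijective φc h0 (fun _ => rfl))
        exact (LinearEquiv.lTensor S e).toEquiv.subsingleton
      · have hUe : ∀ q', q' ∉ U := fun q' hq' => hU ⟨q', hq'⟩
        haveI := subsingleton_H_of_isEmpty φc (RSpace.point Ω).str 0
          (isEmpty_chain_of_not_mem hUe 0)
        exact isBCAlong_of_subsingleton _ _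

end ResH

end Groth.Agent.Lib.Helper14.Pt
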