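import Mathlib.AlgebraicGeometry.Sites.Fpqc
import Mathlib.AlgebraicGeometry.Cover.Sigma
import Mathlib.AlgebraicGeometry.Morphisms.QuasiSeparated

set_option autoImplicit false
open CategoryTheory Limits Opposite AlgebraicGeometry
universe u
namespace Groth.Agent.Lib.Helper14.PushAdeq

/-- the property of being flat and locally of finite presentation -/
abbrev Qfp : MorphismProperty Scheme.{u} := @Flat ⊓ @LocallyOfFinitePresentation

theorem exists_affine_fppf_cover (X : Scheme.{u}) [CompactSpace X] :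
    ∃ (A : CommRingCat.{u}) (w : Spec A ⟶ X), Flat w ∧ LocallyOfFinitePresentation w ∧
      Surjective w := by
  let 𝒰 := X.affineCover.finiteSubcover
  let 𝒱 : X.Cover (Scheme.precoverage Qfp.{u}) :=
    { I₀ := 𝒰.I₀
      X := 𝒰.X
      f := 𝒰.f
      mem₀ := by
        rw [Scheme.presieve₀_mem_precoverage_iff]
        refine ⟨fun x => ?_, fun i => ⟨inferInstance, inferInstance⟩⟩
        obtain ⟨i, y, hy⟩ := 𝒰.exists_eq x
        exact ⟨i, y, hy⟩ }
  haveI : ∀ i, IsAffine (𝒱.X i) := fun i => by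
    change IsAffine (X.affineCover.X _)
    infer_instance
  let W : Scheme.{u} := ∐ 𝒱.X
  haveI : IsAffine W := inferInstance
  let w₀ : W ⟶ X := Sigma.desc 𝒱.f
  have hw₀ : Qfp w₀ := 𝒱.sigma.map_prop PUnit.unit
  have hs : Surjective w₀ := by
    refine ⟨fun x => ?_⟩
    obtain ⟨i, y, hy⟩ := 𝒱.sigma.exists_eq x
    exact ⟨y, hy⟩
  refine ⟨Γ(W, ⊤), W.isoSpec.inv ≫ w₀, ?_, ?_, ?_⟩
  · haveI : Flat w₀ := hw₀.1
    infer_instance
  · haveI : LocallyOfFinitePresentation w₀ := hw₀.2
    infer_instance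
  · infer_instance

end Groth.Agent.Lib.Helper14.PushAdeq
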