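import Mathlib.AlgebraicGeometry.Sites.Fpqc
import Mathlib.AlgebraicGeometry.Cover.Sigma
import Mathlib.AlgebraicGeometry.Morphisms.QuasiSeparated
import Mathlib.AlgebraicGeometry.Pullbacks
import Mathlib.Algebra.Category.Ring.Constructions

set_option autoImplicit false
open CategoryTheory Limits Opposite AlgebraicGeometry TensorProduct
universe u
namespace Groth.Agent.Lib.Helper14.PushAdeq

section geom
variable {S T : Scheme.{u}} (f : T ⟶ S) {R : CommRingCat.{u}} (a : Spec R ⟶ S)
  (A : Type u) [CommRing A] [Algebra R A]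
  (w : Spec (CommRingCat.of A) ⟶ pullback a f)
  (hw : w ≫ pullback.fst a f = Spec.map (CommRingCat.ofHom (algebraMap R A)))
  (B : Type u) [CommRing B] [Algebra R B]

/-- `Spec B → Spec R` -/
noncomputable abbrev bS : Spec (CommRingCat.of B) ⟶ Spec R :=
  Spec.map (CommRingCat.ofHom (algebraMap R B))

/-- `Spec (A ⊗ B) → Spec A` -/
noncomputable abbrev sA : Spec (CommRingCat.of (A ⊗[R] B)) ⟶ Spec (CommRingCat.of A) :=
  Spec.map (CommRingCat.ofHom (S := A ⊗[R] B) Algebra.TensorProduct.includeLeftRingHom)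

/-- `Spec (A ⊗ B) → Spec B` -/
noncomputable abbrev sB : Spec (CommRingCat.of (A ⊗[R] B)) ⟶ Spec (CommRingCat.of B) :=
  Spec.map (CommRingCat.ofHom (S := A ⊗[R] B)
    (Algebra.TensorProduct.includeRight (R := R) (A := A) (B := B)).toRingHom)

omit [Algebra R A] in
/-- the base change map `Spec B ×_S T → Spec R ×_S T` -/
noncomputable abbrev betaB : pullback (bS (R := R) B ≫ a) f ⟶ pullback a f :=
  pullback.lift (pullback.fst _ _ ≫ bS B) (pullback.snd _ _) (by
    rw [Category.assoc, pullback.condition])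

theorem isPullback_tensor :
    IsPullback (sA (R := R) A B) (sB A B) (Spec.map (CommRingCat.ofHom (algebraMap R A)))
      (bS (R := R) B) :=
  isPullback_SpecMap_of_isPushout _ _ _ _ (CommRingCat.isPushout_tensorProduct R A B)

include hw in
theorem vL_cond :
    sB (R := R) A B ≫ (bS (R := R) B ≫ a) = (sA (R := R) A B ≫ w ≫ pullback.snd a f) ≫ f := by
  have h1 := (isPullback_tensor (R := R) A B).w
  rw [Category.assoc, Category.assoc, ← pullback.condition, ← Category.assoc w, hw,
    ← Category.assoc, ← Category.assoc, h1]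

/-- the covering map `Spec (A ⊗ B) → Spec B ×_S T` -/
noncomputable def vL : Spec (CommRingCat.of (A ⊗[R] B)) ⟶ pullback (bS (R := R) B ≫ a) f :=
  pullback.lift (sB A B) (sA A B ≫ w ≫ pullback.snd a f) (vL_cond f a A w hw B)

theorem vL_fst : vL f a A w hw B ≫ pullback.fst _ _ = sB A B := pullback.lift_fst _ _ _

theorem vL_snd : vL f a A w hw B ≫ pullback.snd _ _ = sA A B ≫ w ≫ pullback.snd a f :=
  pullback.lift_snd _ _ _

theorem isPullback_betaB :
    IsPullback (betaB f a B) (pullback.fst (bS (R := R) B ≫ a) f) (pullback.fst a f) (bS B) := by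
  have h2 : IsPullback (betaB f a B ≫ pullback.snd a f) (pullback.fst (bS (R := R) B ≫ a) f) f
      (bS B ≫ a) := by
    have := (IsPullback.of_hasPullback (bS (R := R) B ≫ a) f).flip
    rwa [← pullback.lift_snd (pullback.fst (bS (R := R) B ≫ a) f ≫ bS B) (pullback.snd _ _)
      (by rw [Category.assoc, pullback.condition])] at this
  exact IsPullback.of_right h2 (pullback.lift_fst _ _ _) (IsPullback.of_hasPullback a f).flip

theorem vL_betaB : vL f a A w hw B ≫ betaB f a B = sA A B ≫ w := by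
  apply pullback.hom_ext
  · rw [Category.assoc, pullback.lift_fst, ← Category.assoc, vL_fst, Category.assoc, hw]
    exact (isPullback_tensor (R := R) A B).w.symm
  · rw [Category.assoc, pullback.lift_snd, vL_snd, Category.assoc]

theorem isPullback_vL : IsPullback (sA (R := R) A B) (vL f a A w hw B) w (betaB f a B) := by
  have hbot := isPullback_betaB f a B
  have hout : IsPullback (sA (R := R) A B) (vL f a A w hw B ≫ pullback.fst _ _)
      (w ≫ pullback.fst a f) (bS B) := by
    rw [vL_fst, hw]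
    exact isPullback_tensor A B
  exact IsPullback.of_bot hout (vL_betaB f a A w hw B).symm hbot

theorem flat_vL [Flat w] : Flat (vL f a A w hw B) :=
  MorphismProperty.of_isPullback (P := @Flat) (isPullback_vL f a A w hw B) inferInstance

theorem lfp_vL [LocallyOfFinitePresentation w] : LocallyOfFinitePresentation (vL f a A w hw B) :=
  MorphismProperty.of_isPullback (P := @LocallyOfFinitePresentation) (isPullback_vL f a A w hw B)
    inferInstance

theorem surjective_vL [Surjective w] : Surjective (vL f a A w hw B) :=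
  MorphismProperty.of_isPullback (P := @Surjective) (isPullback_vL f a A w hw B) inferInstance

end geom

section overlap
variable {S T : Scheme.{u}} (f : T ⟶ S) {R : CommRingCat.{u}} (a : Spec R ⟶ S)
  (A : Type u) [CommRing A] [Algebra R A]
  (w : Spec (CommRingCat.of A) ⟶ pullback a f)
  (hw : w ≫ pullback.fst a f = Spec.map (CommRingCat.ofHom (algebraMap R A)))
  (A' : Type u) [CommRing A'] [Algebra R A'] (d₀ d₁ : A →ₐ[R] A')
  (w' : Spec (CommRingCat.of A') ⟶ pullback w w)
  (hw'₀ : w' ≫ pullback.fst w w = Spec.map (CommRingCat.ofHom d₀.toRingHom))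
  (hw'₁ : w' ≫ pullback.snd w w = Spec.map (CommRingCat.ofHom d₁.toRingHom))
  (B : Type u) [CommRing B] [Algebra R B]

/-- the maps `Spec (A' ⊗ B) → Spec (A ⊗ B)` induced by `d : A → A'` -/
noncomputable abbrev eL (d : A →ₐ[R] A') :
    Spec (CommRingCat.of (A' ⊗[R] B)) ⟶ Spec (CommRingCat.of (A ⊗[R] B)) :=
  Spec.map (CommRingCat.ofHom (Algebra.TensorProduct.map d (AlgHom.id R B)).toRingHom)

theorem eL_sA (d : A →ₐ[R] A') :
    eL (R := R) A A' B d ≫ sA A B = sA A' B ≫ Spec.map (CommRingCat.ofHom d.toRingHom) := by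
  rw [← Spec.map_comp, ← Spec.map_comp]
  congr 1

theorem eL_sB (d : A →ₐ[R] A') : eL (R := R) A A' B d ≫ sB A B = sB A' B := by
  rw [← Spec.map_comp]
  congr 1
  ext x
  change (Algebra.TensorProduct.map d (AlgHom.id R B)) ((1 : A) ⊗ₜ[R] x) = (1 : A') ⊗ₜ[R] x
  rw [Algebra.TensorProduct.map_tmul, map_one]
  rfl

include hw'₀ hw'₁ in
theorem exists_overlap_cover [Flat w'] [LocallyOfFinitePresentation w'] [Surjective w']
    {Z : Scheme.{u}} (p₁ p₂ : Z ⟶ Spec (CommRingCat.of (A ⊗[R] B)))
    (hp : p₁ ≫ vL f a A w hw B = p₂ ≫ vL f a A w hw B) :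
    ∃ (Z'' : Scheme.{u}) (h : Z'' ⟶ Z) (k : Z'' ⟶ Spec (CommRingCat.of (A' ⊗[R] B))),
      Flat h ∧ LocallyOfFinitePresentation h ∧ Surjective h ∧
        h ≫ p₁ = k ≫ eL A A' B d₀ ∧ h ≫ p₂ = k ≫ eL A A' B d₁ := by
  have hz : (p₁ ≫ sA A B) ≫ w = (p₂ ≫ sA A B) ≫ w := by
    rw [Category.assoc, Category.assoc, ← vL_betaB f a A w hw B, ← Category.assoc, hp,
      Category.assoc]
  have hsB : p₁ ≫ sB A B = p₂ ≫ sB A B := by
    rw [← vL_fst f a A w hw B, ← Category.assoc, hp, Category.assoc]
  let ζ : Z ⟶ pullback w w := pullback.lift (p₁ ≫ sA A B) (p₂ ≫ sA A B) hz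
  let h : pullback ζ w' ⟶ Z := pullback.fst ζ w'
  let k₀ : pullback ζ w' ⟶ Spec (CommRingCat.of A') := pullback.snd ζ w'
  have hk₀ : k₀ ≫ w' = h ≫ ζ := pullback.condition.symm
  have hk1 : k₀ ≫ Spec.map (CommRingCat.ofHom d₀.toRingHom) = h ≫ p₁ ≫ sA A B := by
    rw [← hw'₀, ← Category.assoc, hk₀, Category.assoc, pullback.lift_fst]
  have hk2 : k₀ ≫ Spec.map (CommRingCat.ofHom d₁.toRingHom) = h ≫ p₂ ≫ sA A B := by
    rw [← hw'₁, ← Category.assoc, hk₀, Category.assoc, pullback.lift_snd]
  have halg : Spec.map (CommRingCat.ofHom (algebraMap R A')) =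
      Spec.map (CommRingCat.ofHom d₀.toRingHom) ≫
        Spec.map (CommRingCat.ofHom (algebraMap R A)) := by
    rw [← Spec.map_comp]
    congr 1
    ext r
    exact (d₀.commutes r).symm
  have hcond : k₀ ≫ Spec.map (CommRingCat.ofHom (algebraMap R A')) =
      (h ≫ p₁ ≫ sB A B) ≫ bS (R := R) B := by
    rw [halg, ← Category.assoc, hk1, Category.assoc, Category.assoc, Category.assoc,
      Category.assoc, (isPullback_tensor (R := R) A B).w]
  let k : pullback ζ w' ⟶ Spec (CommRingCat.of (A' ⊗[R] B)) :=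
    (isPullback_tensor (R := R) A' B).lift k₀ (h ≫ p₁ ≫ sB A B) hcond
  have hkA : k ≫ sA A' B = k₀ := (isPullback_tensor (R := R) A' B).lift_fst _ _ _
  have hkB : k ≫ sB A' B = h ≫ p₁ ≫ sB A B := (isPullback_tensor (R := R) A' B).lift_snd _ _ _
  refine ⟨pullback ζ w', h, k, inferInstance, inferInstance, inferInstance, ?_, ?_⟩
  · apply (isPullback_tensor (R := R) A B).hom_ext
    · have e1 : k ≫ eL A A' B d₀ ≫ sA A B = h ≫ p₁ ≫ sA A B := by
        rw [eL_sA, ← Category.assoc, hkA, hk1]
      simpa only [Category.assoc] using e1.symm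
    · have e2 : k ≫ eL A A' B d₀ ≫ sB A B = h ≫ p₁ ≫ sB A B := by
        rw [eL_sB, hkB]
      simpa only [Category.assoc] using e2.symm
  · apply (isPullback_tensor (R := R) A B).hom_ext
    · have e1 : k ≫ eL A A' B d₁ ≫ sA A B = h ≫ p₂ ≫ sA A B := by
        rw [eL_sA, ← Category.assoc, hkA, hk2]
      simpa only [Category.assoc] using e1.symm
    · have e2 : k ≫ eL A A' B d₁ ≫ sB A B = h ≫ p₂ ≫ sB A B := by
        rw [eL_sB, hkB, hsB]
      simpa only [Category.assoc] using e2.symm

end overlap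

end Groth.Agent.Lib.Helper14.PushAdeq
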