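import Groth.Agent.Lib.Helper14.AdeqShf4
import Groth.Agent.Lib.Helper14.CechSingle
import Groth.Agent.Lib.Helper14.PushAdeq1
import Groth.Agent.Lib.Helper14.PushAdeq2

set_option autoImplicit false
open CategoryTheory Limits Opposite AlgebraicGeometry TensorProduct
universe u
namespace Groth.Agent.Lib.Helper14.PushAdeq

open Groth.Agent.Lib.Helper14.AdeqLib Groth.Agent.Lib.Helper14.AdeqBig

section cover
variable {T : Scheme.{u}}

/-- a flat, locally finitely presented, surjective map generates a covering sieve of the big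
fppf site -/
theorem generate_singleton_mem {U V : Over T} (g : V ⟶ U) [Flat g.left]
    [LocallyOfFinitePresentation g.left] [Surjective g.left] :
    Sieve.generate (Presieve.singleton g) ∈ QuotSh.J Scheme.fppfPrecoverage T U := by
  rw [GrothendieckTopology.mem_over_iff, Sieve.overEquiv_generate]
  have h1 : Sieve.generate (Presieve.singleton g.left) ∈ Scheme.fppfTopology U.left :=
    Precoverage.generate_mem_toGrothendieck (Scheme.Hom.singleton_mem_fppfPrecoverage g.left)
  refine GrothendieckTopology.superset_covering _ ?_ h1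
  rw [Sieve.generate_le_iff]
  intro Z k hk
  cases hk
  exact Sieve.le_generate _ _ _ ⟨V, g, 𝟙 _, Presieve.singleton.mk, (Category.id_comp _).symm⟩

end cover

section overT
variable {S T : Scheme.{u}} (f : T ⟶ S) {R : CommRingCat.{u}} (a : Spec R ⟶ S)
  (A : Type u) [CommRing A] [Algebra R A]
  (w : Spec (CommRingCat.of A) ⟶ pullback a f)
  (hw : w ≫ pullback.fst a f = Spec.map (CommRingCat.ofHom (algebraMap R A)))

/-- the structure map `Spec A → T` -/
noncomputable abbrev aT : Spec (CommRingCat.of A) ⟶ T := w ≫ pullback.snd a f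

/-- `Spec (A ⊗ B)` over `T` -/
noncomputable abbrev WB (B : Adeq.Alg R) : Over T :=
  UB (aT f a A w) ((Adeq.Alg.baseChange R A).obj B)

/-- `Spec B ×_S T` over `T` -/
noncomputable abbrev YB (B : Adeq.Alg R) : Over T := (Over.pullback f).obj (UB a B)

theorem WB_hom (B : Adeq.Alg R) : (WB f a A w B).hom = sA (R := R) A B ≫ aT f a A w := rfl

/-- the covering map `Spec (A ⊗ B) → Spec B ×_S T` over `T` -/
noncomputable def vB (B : Adeq.Alg R) : WB f a A w B ⟶ YB f a B :=
  Over.homMk (vL f a A w hw B) (by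
    change vL f a A w hw B ≫ pullback.snd _ _ = (WB f a A w B).hom
    rw [vL_snd, WB_hom])

theorem vB_left (B : Adeq.Alg R) : (vB f a A w hw B).left = vL f a A w hw B := rfl

end overT

section exact
variable {S T : Scheme.{u}} (f : T ⟶ S) {R : CommRingCat.{u}} (a : Spec R ⟶ S)
  (A : Type u) [CommRing A] [Algebra R A]
  (w : Spec (CommRingCat.of A) ⟶ pullback a f)
  (hw : w ≫ pullback.fst a f = Spec.map (CommRingCat.ofHom (algebraMap R A)))
  (A' : Type u) [CommRing A'] [Algebra R A'] (d₀ d₁ : A →ₐ[R] A')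
  (w' : Spec (CommRingCat.of A') ⟶ pullback w w)
  (hw'₀ : w' ≫ pullback.fst w w = Spec.map (CommRingCat.ofHom d₀.toRingHom))
  (hw'₁ : w' ≫ pullback.snd w w = Spec.map (CommRingCat.ofHom d₁.toRingHom))

/-- the structure map `Spec A' → T` -/
noncomputable abbrev aT' : Spec (CommRingCat.of A') ⟶ T := w' ≫ pullback.fst w w ≫ aT f a A w

/-- `Spec (A' ⊗ B)` over `T` -/
noncomputable abbrev WB' (B : Adeq.Alg R) : Over T :=
  UB (aT' f a A w A' w') ((Adeq.Alg.baseChange R A').obj B)

include hw'₀ in
theorem d₀_aT : Spec.map (CommRingCat.ofHom d₀.toRingHom) ≫ aT f a A w = aT' f a A w A' w' := by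
  rw [← hw'₀, Category.assoc]

include hw'₁ in
theorem d₁_aT : Spec.map (CommRingCat.ofHom d₁.toRingHom) ≫ aT f a A w = aT' f a A w A' w' := by
  rw [← hw'₁, Category.assoc]
  change w' ≫ pullback.snd w w ≫ w ≫ pullback.snd a f = w' ≫ pullback.fst w w ≫ w ≫ pullback.snd a f
  rw [← Category.assoc (pullback.snd w w), ← pullback.condition, Category.assoc]

/-- the first coface map over `T` -/
noncomputable def eB₀ (B : Adeq.Alg R) : WB' f a A w A' w' B ⟶ WB f a A w B :=
  Over.homMk (eL A A' B d₀) (by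
    change eL A A' B d₀ ≫ (sA (R := R) A B ≫ aT f a A w) = sA (R := R) A' B ≫ aT' f a A w A' w'
    rw [← Category.assoc, eL_sA, Category.assoc, d₀_aT f a A w A' d₀ w' hw'₀])

/-- the second coface map over `T` -/
noncomputable def eB₁ (B : Adeq.Alg R) : WB' f a A w A' w' B ⟶ WB f a A w B :=
  Over.homMk (eL A A' B d₁) (by
    change eL A A' B d₁ ≫ (sA (R := R) A B ≫ aT f a A w) = sA (R := R) A' B ≫ aT' f a A w A' w'
    rw [← Category.assoc, eL_sA, Category.assoc, d₁_aT f a A w A' d₁ w' hw'₁])

variable (M : BigSite.Mod Scheme.fppfPrecoverage T)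

theorem exact_sections [Flat w] [LocallyOfFinitePresentation w] [Surjective w]
    [Flat w'] [LocallyOfFinitePresentation w'] [Surjective w'] (B : Adeq.Alg R) :
    Function.Injective (M.val.presheaf.map (vB f a A w hw B).op) ∧
      ∀ x : M.val.presheaf.obj (op (WB f a A w B)),
        M.val.presheaf.map (eB₀ f a A w A' d₀ w' hw'₀ B).op x =
          M.val.presheaf.map (eB₁ f a A w A' d₁ w' hw'₁ B).op x →
        ∃ y, M.val.presheaf.map (vB f a A w hw B).op y = x := by
  have hs : Presieve.IsSheaf (QuotSh.J Scheme.fppfPrecoverage T)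
      (M.val.presheaf ⋙ forget AddCommGrpCat) :=
    (isSheaf_iff_isSheaf_of_type _ _).mp
      ((Presheaf.isSheaf_iff_isSheaf_forget _ _ (forget AddCommGrpCat)).mp M.isSheaf)
  haveI : Flat (vB f a A w hw B).left := flat_vL f a A w hw B
  haveI : LocallyOfFinitePresentation (vB f a A w hw B).left := lfp_vL f a A w hw B
  haveI : Surjective (vB f a A w hw B).left := surjective_vL f a A w hw B
  have hv := generate_singleton_mem (vB f a A w hw B)
  have hov : ∀ ⦃Z : Over T⦄ (p₁ p₂ : Z ⟶ WB f a A w B),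
      p₁ ≫ vB f a A w hw B = p₂ ≫ vB f a A w hw B →
      CechSingle.ovSieve (eB₀ f a A w A' d₀ w' hw'₀ B) (eB₁ f a A w A' d₁ w' hw'₁ B) p₁ p₂ ∈
        QuotSh.J Scheme.fppfPrecoverage T Z := by
    intro Z p₁ p₂ hp
    have hp' : p₁.left ≫ vL f a A w hw B = p₂.left ≫ vL f a A w hw B :=
      congrArg CommaMorphism.left hp
    obtain ⟨Z'', h, k, hf1, hf2, hf3, hk1, hk2⟩ :=
      exists_overlap_cover f a A w hw A' d₀ d₁ w' hw'₀ hw'₁ B p₁.left p₂.left hp'
    let hh : Over.mk (h ≫ Z.hom) ⟶ Z := Over.homMk h rfl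
    haveI : Flat hh.left := hf1
    haveI : LocallyOfFinitePresentation hh.left := hf2
    haveI : Surjective hh.left := hf3
    refine GrothendieckTopology.superset_covering _ ?_ (generate_singleton_mem hh)
    rw [Sieve.generate_le_iff]
    intro Z₁ g hg
    cases hg
    have hkw : k ≫ (WB' f a A w A' w' B).hom = h ≫ Z.hom := by
      have e1 := Over.w (eB₀ f a A w A' d₀ w' hw'₀ B)
      have e2 := Over.w p₁
      change eL A A' B d₀ ≫ (WB f a A w B).hom = (WB' f a A w A' w' B).hom at e1
      rw [← e1, ← Category.assoc, ← hk1, Category.assoc]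
      exact congrArg (fun t => h ≫ t) e2
    refine ⟨Over.homMk k hkw, ?_, ?_⟩
    · apply Over.OverMorphism.ext
      exact hk1
    · apply Over.OverMorphism.ext
      exact hk2
  exact CechSingle.equalizer_of_cover (QuotSh.J Scheme.fppfPrecoverage T) (vB f a A w hw B)
    (eB₀ f a A w A' d₀ w' hw'₀ B) (eB₁ f a A w A' d₁ w' hw'₁ B) hs hv hov

end exact

end Groth.Agent.Lib.Helper14.PushAdeq
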