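import Groth.Agent.Lib.Helper14.PushAdeq3

set_option autoImplicit false
open CategoryTheory Limits Opposite AlgebraicGeometry TensorProduct
universe u
namespace Groth.Agent.Lib.Helper14.PushAdeq

open Groth.Agent.Lib.Helper14.AdeqLib Groth.Agent.Lib.Helper14.AdeqBig

section nat
variable {S T : Scheme.{u}} (f : T ⟶ S) {R : CommRingCat.{u}} (a : Spec R ⟶ S)
  (A : Type u) [CommRing A] [Algebra R A]
  (w : Spec (CommRingCat.of A) ⟶ pullback a f)
  (hw : w ≫ pullback.fst a f = Spec.map (CommRingCat.ofHom (algebraMap R A)))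

theorem bc_sA {B B' : Adeq.Alg R} (γ : B ⟶ B') :
    Spec.map (CommRingCat.ofHom ((Adeq.Alg.baseChange R A).map γ).hom.toRingHom) ≫ sA (R := R) A B =
      sA (R := R) A B' := by
  rw [← Spec.map_comp]
  congr 1
  ext x
  change (Algebra.TensorProduct.map (AlgHom.id A A) γ.hom) (x ⊗ₜ[R] (1 : B)) = x ⊗ₜ[R] (1 : B')
  rw [Algebra.TensorProduct.map_tmul, map_one]
  rfl

theorem bc_sB {B B' : Adeq.Alg R} (γ : B ⟶ B') :
    Spec.map (CommRingCat.ofHom ((Adeq.Alg.baseChange R A).map γ).hom.toRingHom) ≫ sB (R := R) A B =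
      sB (R := R) A B' ≫ Spec.map (CommRingCat.ofHom γ.hom.toRingHom) := by
  rw [← Spec.map_comp, ← Spec.map_comp]
  congr 1

theorem vB_naturality {B B' : Adeq.Alg R} (γ : B ⟶ B') :
    vB f a A w hw B' ≫ (Over.pullback f).map ((Adeq.specOver a).map γ.op) =
      (Adeq.specOver (aT f a A w)).map ((Adeq.Alg.baseChange R A).map γ).op ≫ vB f a A w hw B := by
  apply Over.OverMorphism.ext
  change vL f a A w hw B' ≫ pullback.lift (pullback.fst _ _ ≫
      Spec.map (CommRingCat.ofHom γ.hom.toRingHom)) (pullback.snd _ _) _ =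
    Spec.map (CommRingCat.ofHom ((Adeq.Alg.baseChange R A).map γ).hom.toRingHom) ≫ vL f a A w hw B
  apply pullback.hom_ext
  · rw [Category.assoc, pullback.lift_fst, ← Category.assoc, vL_fst, Category.assoc, vL_fst,
      bc_sB]
  · rw [Category.assoc, pullback.lift_snd, vL_snd, Category.assoc, vL_snd]
    have := bc_sA (R := R) A γ
    rw [← this]
    simp only [Category.assoc]

end nat

section mvf
variable {S T : Scheme.{u}} (f : T ⟶ S) {R : CommRingCat.{u}} (a : Spec R ⟶ S)
  (A : Type u) [CommRing A] [Algebra R A]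
  (w : Spec (CommRingCat.of A) ⟶ pullback a f)
  (hw : w ≫ pullback.fst a f = Spec.map (CommRingCat.ofHom (algebraMap R A)))
  (M : BigSite.Mod Scheme.fppfPrecoverage T)

/-- the functor `B ↦ (f_* M)(Spec B)` -/
noncomputable abbrev Fpush : Adeq.MVF R :=
  (Adeq.toMVF Scheme.fppfPrecoverage a).obj ((BigSite.pushMod Scheme.fppfPrecoverage f).obj M)

/-- the functor `B ↦ M(Spec (A ⊗ B))` -/
noncomputable abbrev Gpush : Adeq.MVF R :=
  (Adeq.push R A).obj ((Adeq.toMVF Scheme.fppfPrecoverage (aT f a A w)).obj M)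

example (B : Adeq.Alg R) : ((Fpush f a M).obj (Adeq.pt B) : Type _) = M.val.obj (op (YB f a B)) := rfl
example (B : Adeq.Alg R) : ((Gpush f a A w M).obj (Adeq.pt B) : Type _) = M.val.obj (op (WB f a A w B)) := rfl

noncomputable def iNat : (Fpush f a M).presheaf ⟶ (Gpush f a A w M).presheaf where
  app X := M.val.presheaf.map (vB f a A w hw X.unop.unop).op
  naturality X X' g := by
    ext x
    let x' : M.val.presheaf.obj (op (YB f a X.unop.unop)) := x
    change M.val.presheaf.map (vB f a A w hw X'.unop.unop).op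
        (M.val.presheaf.map ((Over.pullback f).map ((Adeq.specOver a).map g.unop)).op x') =
      M.val.presheaf.map ((Adeq.specOver (aT f a A w)).map
        ((Adeq.Alg.baseChange R A).map g.unop.unop).op).op
          (M.val.presheaf.map (vB f a A w hw X.unop.unop).op x')
    rw [pmap_map, pmap_map]
    exact congrArg (fun k => M.val.presheaf.map k.op x') (vB_naturality f a A w hw g.unop.unop)

theorem ring_id_i (B : Adeq.Alg R) (r : B) :
    (BigSite.ORing Scheme.fppfPrecoverage T).obj.map (vB f a A w hw B).op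
        ((Sheaf.toPushforwardOverPullback (BigSite.ORingAbs Scheme.fppfPrecoverage) f).hom.app
          (op (UB a B)) (Adeq.toSect Scheme.fppfPrecoverage a B r)) =
      Adeq.toSect Scheme.fppfPrecoverage (aT f a A w) ((Adeq.Alg.baseChange R A).obj B)
        ((1 : A) ⊗ₜ[R] r) := by
  apply ULift.ext
  change ((Scheme.ΓSpecIso (CommRingCat.of B)).inv ≫
      (pullback.fst (bS (R := R) B ≫ a) f).appTop ≫ (vL f a A w hw B).appTop) r =
    (CommRingCat.ofHom (Algebra.TensorProduct.includeRight (R := R) (A := A) (B := B)).toRingHom ≫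
      (Scheme.ΓSpecIso (CommRingCat.of (A ⊗[R] B))).inv) r
  rw [← Scheme.Hom.comp_appTop, vL_fst, Scheme.ΓSpecIso_inv_naturality]

/-- the restriction map `(f_* M)(Spec B) → M(Spec (A ⊗ B))` as a map of module-valued functors -/
noncomputable def iHom : Fpush f a M ⟶ Gpush f a A w M :=
  PresheafOfModules.homMk (iNat f a A w hw M) (by
    intro X r m
    let B : Adeq.Alg R := X.unop.unop
    let m' : M.val.obj (op (YB f a B)) := m
    have h := M.val.map_smul (vB f a A w hw B).op
      ((Sheaf.toPushforwardOverPullback (BigSite.ORingAbs Scheme.fppfPrecoverage) f).hom.app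
        (op (UB a B)) (Adeq.toSect Scheme.fppfPrecoverage a B r)) m'
    refine h.trans ?_
    rw [ring_id_i]
    rfl)

theorem iHom_app (X : (Adeq.Alg R)ᵒᵖᵒᵖ) (x : (Fpush f a M).obj X) :
    (iHom f a A w hw M).app X x =
      M.val.presheaf.map (vB f a A w hw X.unop.unop).op
        (show M.val.presheaf.obj (op (YB f a X.unop.unop)) from x) := rfl

end mvf

end Groth.Agent.Lib.Helper14.PushAdeq
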