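import Groth.Agent.Lib.Helper14.PushAdeq4

set_option autoImplicit false
open CategoryTheory Limits Opposite AlgebraicGeometry TensorProduct
universe u
namespace Groth.Agent.Lib.Helper14.PushAdeq

open Groth.Agent.Lib.Helper14.AdeqLib Groth.Agent.Lib.Helper14.AdeqBig

section pmaps
variable {T : Scheme.{u}} {R : CommRingCat.{u}}
  (A : Type u) [CommRing A] [Algebra R A] (aA : Spec (CommRingCat.of A) ⟶ T)
  (A' : Type u) [CommRing A'] [Algebra R A'] (aA' : Spec (CommRingCat.of A') ⟶ T)
  (d : A →ₐ[R] A') (hd : Spec.map (CommRingCat.ofHom d.toRingHom) ≫ aA = aA')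
  (M : BigSite.Mod Scheme.fppfPrecoverage T)

/-- the map `Spec (A' ⊗ B) → Spec (A ⊗ B)` over `T` induced by `d : A → A'` -/
noncomputable def eBd (B : Adeq.Alg R) :
    UB aA' ((Adeq.Alg.baseChange R A').obj B) ⟶ UB aA ((Adeq.Alg.baseChange R A).obj B) :=
  Over.homMk (eL A A' B d) (by
    change eL A A' B d ≫ (sA (R := R) A B ≫ aA) = sA (R := R) A' B ≫ aA'
    rw [← Category.assoc, eL_sA, Category.assoc, hd])

theorem eBd_naturality {B B' : Adeq.Alg R} (γ : B ⟶ B') :
    eBd A aA A' aA' d hd B' ≫ (Adeq.specOver aA).map ((Adeq.Alg.baseChange R A).map γ).op =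
      (Adeq.specOver aA').map ((Adeq.Alg.baseChange R A').map γ).op ≫ eBd A aA A' aA' d hd B := by
  apply Over.OverMorphism.ext
  change eL A A' B' d ≫
      Spec.map (CommRingCat.ofHom ((Adeq.Alg.baseChange R A).map γ).hom.toRingHom) =
    Spec.map (CommRingCat.ofHom ((Adeq.Alg.baseChange R A').map γ).hom.toRingHom) ≫ eL A A' B d
  rw [← Spec.map_comp, ← Spec.map_comp]
  congr 1
  apply CommRingCat.hom_ext
  apply RingHom.ext
  intro x
  change (Algebra.TensorProduct.map d (AlgHom.id R B'))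
      ((Algebra.TensorProduct.map (AlgHom.id A A) γ.hom) x) =
    (Algebra.TensorProduct.map (AlgHom.id A' A') γ.hom)
      ((Algebra.TensorProduct.map d (AlgHom.id R B)) x)
  induction x using TensorProduct.induction_on with
  | zero => rw [map_zero, map_zero, map_zero, map_zero]
  | tmul x y => rfl
  | add x y hx hy => rw [map_add, map_add, map_add, map_add, hx, hy]

/-- the functor `B ↦ M(Spec (A ⊗ B))` for an affine `Spec A → T` -/
noncomputable abbrev GA : Adeq.MVF R :=
  (Adeq.push R A).obj ((Adeq.toMVF Scheme.fppfPrecoverage aA).obj M)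

noncomputable def pNat : (GA (R := R) A aA M).presheaf ⟶ (GA (R := R) A' aA' M).presheaf where
  app X := M.val.presheaf.map (eBd A aA A' aA' d hd X.unop.unop).op
  naturality X X' g := by
    ext x
    let x' : M.val.presheaf.obj (op (UB aA ((Adeq.Alg.baseChange R A).obj X.unop.unop))) := x
    change M.val.presheaf.map (eBd A aA A' aA' d hd X'.unop.unop).op
        (M.val.presheaf.map ((Adeq.specOver aA).map
          ((Adeq.Alg.baseChange R A).map g.unop.unop).op).op x') =
      M.val.presheaf.map ((Adeq.specOver aA').map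
        ((Adeq.Alg.baseChange R A').map g.unop.unop).op).op
          (M.val.presheaf.map (eBd A aA A' aA' d hd X.unop.unop).op x')
    rw [pmap_map, pmap_map]
    exact congrArg (fun k => M.val.presheaf.map k.op x')
      (eBd_naturality A aA A' aA' d hd g.unop.unop)

theorem ring_id_p (B : Adeq.Alg R) (r : B) :
    (BigSite.ORing Scheme.fppfPrecoverage T).obj.map (eBd A aA A' aA' d hd B).op
        (Adeq.toSect Scheme.fppfPrecoverage aA ((Adeq.Alg.baseChange R A).obj B)
          ((1 : A) ⊗ₜ[R] r)) =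
      Adeq.toSect Scheme.fppfPrecoverage aA' ((Adeq.Alg.baseChange R A').obj B)
        ((1 : A') ⊗ₜ[R] r) := by
  apply ULift.ext
  have e : (Algebra.TensorProduct.map d (AlgHom.id R B)) ((1 : A) ⊗ₜ[R] r) =
      (1 : A') ⊗ₜ[R] r := by
    rw [Algebra.TensorProduct.map_tmul, map_one]
    rfl
  change ((Scheme.ΓSpecIso (CommRingCat.of (A ⊗[R] B))).inv ≫ (eL A A' B d).appTop)
      ((1 : A) ⊗ₜ[R] r) =
    (Scheme.ΓSpecIso (CommRingCat.of (A' ⊗[R] B))).inv ((1 : A') ⊗ₜ[R] r)
  rw [← e]
  change _ = (CommRingCat.ofHom (Algebra.TensorProduct.map d (AlgHom.id R B)).toRingHom ≫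
    (Scheme.ΓSpecIso (CommRingCat.of (A' ⊗[R] B))).inv) ((1 : A) ⊗ₜ[R] r)
  rw [Scheme.ΓSpecIso_inv_naturality]

/-- the map `M(Spec (A ⊗ B)) → M(Spec (A' ⊗ B))` induced by `d : A → A'` as a map of
module-valued functors -/
noncomputable def pHom : GA (R := R) A aA M ⟶ GA (R := R) A' aA' M :=
  PresheafOfModules.homMk (pNat A aA A' aA' d hd M) (by
    intro X r m
    let B : Adeq.Alg R := X.unop.unop
    let m' : M.val.obj (op (UB aA ((Adeq.Alg.baseChange R A).obj B))) := m
    have h := M.val.map_smul (eBd A aA A' aA' d hd B).op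
      (Adeq.toSect Scheme.fppfPrecoverage aA ((Adeq.Alg.baseChange R A).obj B)
        ((1 : A) ⊗ₜ[R] r)) m'
    refine h.trans ?_
    rw [ring_id_p]
    rfl)

theorem pHom_app (X : (Adeq.Alg R)ᵒᵖᵒᵖ) (x : (GA (R := R) A aA M).obj X) :
    (pHom A aA A' aA' d hd M).app X x =
      M.val.presheaf.map (eBd A aA A' aA' d hd X.unop.unop).op
        (show M.val.presheaf.obj (op (UB aA ((Adeq.Alg.baseChange R A).obj X.unop.unop))) from x) :=
  rfl

end pmaps

end Groth.Agent.Lib.Helper14.PushAdeq
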