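import Groth.Agent.Lib.Helper14.PushAdeq5
import Groth.Agent.Lib.Helper14.Adeq22

set_option autoImplicit false
open CategoryTheory Limits Opposite AlgebraicGeometry TensorProduct
universe u
namespace Groth.Agent.Lib.Helper14.PushAdeq

open Groth.Agent.Lib.Helper14.AdeqLib Groth.Agent.Lib.Helper14.AdeqBig

section final
variable {S T : Scheme.{u}} (f : T ⟶ S) {R : CommRingCat.{u}} (a : Spec R ⟶ S)
  (A : Type u) [CommRing A] [Algebra R A]
  (w : Spec (CommRingCat.of A) ⟶ pullback a f)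
  (hw : w ≫ pullback.fst a f = Spec.map (CommRingCat.ofHom (algebraMap R A)))
  (A' : Type u) [CommRing A'] [Algebra R A'] (d₀ d₁ : A →ₐ[R] A')
  (w' : Spec (CommRingCat.of A') ⟶ pullback w w)
  (hw'₀ : w' ≫ pullback.fst w w = Spec.map (CommRingCat.ofHom d₀.toRingHom))
  (hw'₁ : w' ≫ pullback.snd w w = Spec.map (CommRingCat.ofHom d₁.toRingHom))
  (M : BigSite.Mod Scheme.fppfPrecoverage T)

theorem eB_vB (B : Adeq.Alg R) :
    eB₀ f a A w A' d₀ w' hw'₀ B ≫ vB f a A w hw B = eB₁ f a A w A' d₁ w' hw'₁ B ≫ vB f a A w hw B := by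
  apply Over.OverMorphism.ext
  change eL A A' B d₀ ≫ vL f a A w hw B = eL A A' B d₁ ≫ vL f a A w hw B
  apply pullback.hom_ext
  · rw [Category.assoc, Category.assoc, vL_fst, eL_sB, eL_sB]
  · have h0 := d₀_aT f a A w A' d₀ w' hw'₀
    have h1 := d₁_aT f a A w A' d₁ w' hw'₁
    have e0 : eL A A' B d₀ ≫ sA (R := R) A B ≫ w ≫ pullback.snd a f =
        sA (R := R) A' B ≫ aT' f a A w A' w' := by
      rw [← Category.assoc, eL_sA, Category.assoc]
      exact congrArg (fun t => sA (R := R) A' B ≫ t) h0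
    have e1 : eL A A' B d₁ ≫ sA (R := R) A B ≫ w ≫ pullback.snd a f =
        sA (R := R) A' B ≫ aT' f a A w A' w' := by
      rw [← Category.assoc, eL_sA, Category.assoc]
      exact congrArg (fun t => sA (R := R) A' B ≫ t) h1
    rw [Category.assoc, Category.assoc, vL_snd, e0, e1]

include hw hw'₀ hw'₁ in
/-- the key step: `F_{f_* M, R}` is adequate, given the two affine fppf covers -/
theorem adequate_Fpush_of_covers (hM : Adeq.adequateMod Scheme.fppfPrecoverage T M)
    [Flat w] [LocallyOfFinitePresentation w] [Surjective w]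
    [Flat w'] [LocallyOfFinitePresentation w'] [Surjective w'] :
    Adeq.adequate R (Fpush f a M) := by
  let G : Adeq.MVF R := GA (R := R) A (aT f a A w) M
  let H : Adeq.MVF R := GA (R := R) A' (aT' f a A w A' w') M
  have hG : Adeq.adequate R G :=
    adequate_push _ (adequate_toMVF_fppf M hM _ (aT f a A w))
  have hH : Adeq.adequate R H :=
    adequate_push _ (adequate_toMVF_fppf M hM _ (aT' f a A w A' w'))
  let i : Fpush f a M ⟶ G := iHom f a A w hw M
  let p₀ : G ⟶ H := pHom A (aT f a A w) A' (aT' f a A w A' w') d₀ (d₀_aT f a A w A' d₀ w' hw'₀) M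
  let p₁ : G ⟶ H := pHom A (aT f a A w) A' (aT' f a A w A' w') d₁ (d₁_aT f a A w A' d₁ w' hw'₁) M
  have hex := fun B => exact_sections f a A w hw A' d₀ d₁ w' hw'₀ hw'₁ M B
  have hj : ∀ Z, Function.Injective (i.app Z) := fun Z => (hex Z.unop.unop).1
  have hw0 : i ≫ (p₀ - p₁) = 0 := by
    ext Z x
    change p₀.app Z (i.app Z x) - p₁.app Z (i.app Z x) = 0
    rw [sub_eq_zero]
    let x' : M.val.presheaf.obj (op (YB f a Z.unop.unop)) := x
    change M.val.presheaf.map (eB₀ f a A w A' d₀ w' hw'₀ Z.unop.unop).op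
        (M.val.presheaf.map (vB f a A w hw Z.unop.unop).op x') =
      M.val.presheaf.map (eB₁ f a A w A' d₁ w' hw'₁ Z.unop.unop).op
        (M.val.presheaf.map (vB f a A w hw Z.unop.unop).op x')
    rw [pmap_map, pmap_map]
    exact congrArg (fun k => M.val.presheaf.map k.op x') (eB_vB f a A w hw A' d₀ d₁ w' hw'₀ hw'₁ _)
  have hex' : ∀ (Z : (Adeq.Alg R)ᵒᵖᵒᵖ) (y : G.obj Z), (p₀ - p₁).app Z y = 0 →
      ∃ x : (Fpush f a M).obj Z, i.app Z x = y := by
    intro Z y hy
    have hy' : p₀.app Z y - p₁.app Z y = 0 := hy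
    rw [sub_eq_zero] at hy'
    obtain ⟨x, hx⟩ := (hex Z.unop.unop).2 y hy'
    exact ⟨x, hx⟩
  obtain ⟨e⟩ := nonempty_iso_kernel_of_exact i (p₀ - p₁) hj hw0 hex'
  exact (Adeq.adequate R).prop_of_iso e.symm (adequate_kernel_of_adequate (p₀ - p₁) hG hH)

end final

section main
variable {S T : Scheme.{u}} (f : T ⟶ S) [QuasiCompact f] [QuasiSeparated f]
  (M : BigSite.Mod Scheme.fppfPrecoverage T)

theorem adequate_Fpush (hM : Adeq.adequateMod Scheme.fppfPrecoverage T M)
    (R : CommRingCat.{u}) (a : Spec R ⟶ S) : Adeq.adequate R (Fpush f a M) := by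
  haveI : CompactSpace ↑(pullback a f) := inferInstance
  haveI : QuasiSeparatedSpace ↑(pullback a f) :=
    quasiSeparatedSpace_of_quasiSeparated (pullback.fst a f)
  obtain ⟨A₀, w, hw1, hw2, hw3⟩ := exists_affine_fppf_cover (pullback a f)
  let ρ : R ⟶ A₀ := Spec.preimage (w ≫ pullback.fst a f)
  have hρ : Spec.map ρ = w ≫ pullback.fst a f := Spec.map_preimage _
  letI : Algebra R A₀ := ρ.hom.toAlgebra
  haveI : QuasiCompact w := inferInstance
  haveI : CompactSpace ↑(pullback w w) := inferInstance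
  obtain ⟨A₁, w', hw1', hw2', hw3'⟩ := exists_affine_fppf_cover (pullback w w)
  let δ₀ : A₀ ⟶ A₁ := Spec.preimage (w' ≫ pullback.fst w w)
  let δ₁ : A₀ ⟶ A₁ := Spec.preimage (w' ≫ pullback.snd w w)
  have hδ₀ : Spec.map δ₀ = w' ≫ pullback.fst w w := Spec.map_preimage _
  have hδ₁ : Spec.map δ₁ = w' ≫ pullback.snd w w := Spec.map_preimage _
  letI : Algebra R A₁ := (ρ ≫ δ₀).hom.toAlgebra
  have hcomm : ρ ≫ δ₁ = ρ ≫ δ₀ := by
    apply Spec.map_injective
    rw [Spec.map_comp, Spec.map_comp, hδ₀, hδ₁, hρ, Category.assoc, Category.assoc,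
      ← Category.assoc (pullback.snd w w), ← pullback.condition, Category.assoc]
  let d₀ : A₀ →ₐ[R] A₁ := { δ₀.hom with commutes' := fun r => rfl }
  let d₁ : A₀ →ₐ[R] A₁ :=
    { δ₁.hom with
      commutes' := fun r => by
        have := congrArg (fun g => g.hom r) hcomm
        exact this }
  exact adequate_Fpush_of_covers f a A₀ w hρ.symm A₁ d₀ d₁ w' hδ₀.symm hδ₁.symm M hM

/-- S8765: pushforward of an adequate module along a qcqs morphism is adequate -/
theorem adequateMod_pushMod (hM : Adeq.adequateMod Scheme.fppfPrecoverage T M) :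
    Adeq.adequateMod Scheme.fppfPrecoverage S
      ((BigSite.pushMod Scheme.fppfPrecoverage f).obj M) :=
  adequateMod_of_forall _ (fun R a => adequate_Fpush f M hM R a)

end main

end Groth.Agent.Lib.Helper14.PushAdeq
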