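import Mathlib
import Groth.Prelude.Def_AlgGrp
import Groth.Agent.Lib.Helper14.ActPts
import Groth.Agent.Lib.Helper14.HomImage2

/-!
# helper14: descending an action along a faithfully flat quotient homomorphism `π : G ⟶ Q`
whose kernel acts trivially.
-/

set_option autoImplicit false
universe u
open CategoryTheory MonoidalCategory CartesianMonoidalCategory MonObj GrpObj AlgebraicGeometry
  CategoryTheory.Limits

namespace Groth.Agent.Lib.Helper14.QuotAct

open Groth.Agent.Lib.Helper14.ActPts Groth.Agent.Lib.Helper14.HomImage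

variable {k : Type u} [Field k]

section FF

variable {A B : Over (Spec (CommRingCat.of k))} (f : A ⟶ B) [Flat f.left] [Surjective f.left]

omit [Flat f.left] [Surjective f.left] in
theorem sqR (Z : Over (Spec (CommRingCat.of k))) :
    IsPullback (fst A Z).left (f ▷ Z).left f.left (fst B Z).left :=
  ((isPullback_whiskerRight' Z f).map (Over.forget _)).flip

omit [Flat f.left] [Surjective f.left] in
theorem sqL (Z : Over (Spec (CommRingCat.of k))) :
    IsPullback (snd Z A).left (Z ◁ f).left f.left (snd Z B).left :=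
  ((isPullback_whiskerLeft' Z f).map (Over.forget _)).flip

theorem flat_whiskerRight (Z : Over (Spec (CommRingCat.of k))) : Flat (f ▷ Z).left :=
  MorphismProperty.of_isPullback (P := @Flat) (sqR f Z) inferInstance

theorem surjective_whiskerRight (Z : Over (Spec (CommRingCat.of k))) : Surjective (f ▷ Z).left :=
  MorphismProperty.of_isPullback (P := @Surjective) (sqR f Z) inferInstance

theorem flat_whiskerLeft (Z : Over (Spec (CommRingCat.of k))) : Flat (Z ◁ f).left :=
  MorphismProperty.of_isPullback (P := @Flat) (sqL f Z) inferInstance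

theorem surjective_whiskerLeft (Z : Over (Spec (CommRingCat.of k))) : Surjective (Z ◁ f).left :=
  MorphismProperty.of_isPullback (P := @Surjective) (sqL f Z) inferInstance

theorem epi_of_ff : Epi f := by
  haveI : Epi f.left := Flat.epi_of_flat_of_surjective f.left
  exact Over.epi_of_epi_left f

theorem epi_whiskerRight (Z : Over (Spec (CommRingCat.of k))) : Epi (f ▷ Z) := by
  haveI := flat_whiskerRight f Z
  haveI := surjective_whiskerRight f Z
  exact epi_of_ff _

theorem epi_whiskerLeft (Z : Over (Spec (CommRingCat.of k))) : Epi (Z ◁ f) := by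
  haveI := flat_whiskerLeft f Z
  haveI := surjective_whiskerLeft f Z
  exact epi_of_ff _

theorem quasiCompact_whiskerRight [QuasiCompact f.left] (Z : Over (Spec (CommRingCat.of k))) :
    QuasiCompact (f ▷ Z).left :=
  MorphismProperty.of_isPullback (P := @QuasiCompact) (sqR f Z) inferInstance

end FF

section Main

variable {G N Q X : Over (Spec (CommRingCat.of k))} [GrpObj G] [GrpObj N] [GrpObj Q]
  (a : AlgGrp.Action G X) (n : N ⟶ G) (π : G ⟶ Q) [IsMonHom π] [Flat π.left] [Surjective π.left]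
  [QuasiCompact π.left] (hker : AlgGrp.IsKernel n π)
  (htriv : ∀ (T : Over (Spec (CommRingCat.of k))) (m : T ⟶ N) (x : T ⟶ X),
    lift (m ≫ n) x ≫ a.act = x)

include hker htriv

theorem exists_desc_act : ∃ b₀ : Q ⊗ X ⟶ X, (π ▷ X) ≫ b₀ = a.act := by
  haveI := flat_whiskerRight π X
  haveI := surjective_whiskerRight π X
  haveI := quasiCompact_whiskerRight π X
  haveI : Epi (π ▷ X).left := Flat.epi_of_flat_of_surjective _
  have hdesc : ∀ {Z : Scheme.{u}} (g₁ g₂ : Z ⟶ (G ⊗ X).left),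
      g₁ ≫ (π ▷ X).left = g₂ ≫ (π ▷ X).left → g₁ ≫ a.act.left = g₂ ≫ a.act.left := by
    intro Z g₁ g₂ hg
    let ZZ : Over (Spec (CommRingCat.of k)) := Over.mk (g₁ ≫ (G ⊗ X).hom)
    let p₁ : ZZ ⟶ G ⊗ X := Over.homMk g₁ rfl
    let p₂ : ZZ ⟶ G ⊗ X := Over.homMk g₂ (by
      show g₂ ≫ (G ⊗ X).hom = g₁ ≫ (G ⊗ X).hom
      rw [← Over.w (π ▷ X), ← Category.assoc, ← hg, Category.assoc])
    have hp : p₁ ≫ (π ▷ X) = p₂ ≫ (π ▷ X) := Over.OverMorphism.ext hg
    have hx : p₁ ≫ snd G X = p₂ ≫ snd G X := by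
      rw [← whiskerRight_snd π X, ← Category.assoc, hp, Category.assoc]
    have hγ : (p₁ ≫ fst G X) ≫ π = (p₂ ≫ fst G X) ≫ π := by
      rw [Category.assoc, Category.assoc, ← whiskerRight_fst, ← Category.assoc, hp, Category.assoc]
    set γ₁ := p₁ ≫ fst G X with hγ₁
    set γ₂ := p₂ ≫ fst G X with hγ₂
    set x₁ := p₁ ≫ snd G X with hx₁
    have hk : (γ₂⁻¹ * γ₁) ≫ π = toUnit ZZ ≫ η[Q] := by
      rw [MonObj.mul_comp, GrpObj.inv_comp, hγ, inv_mul_cancel, Hom.one_def]
    have hm : hker.lift (γ₂⁻¹ * γ₁) (toUnit ZZ) hk ≫ n = γ₂⁻¹ * γ₁ := hker.lift_fst _ _ _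
    have h1 := htriv ZZ (hker.lift (γ₂⁻¹ * γ₁) (toUnit ZZ) hk) x₁
    rw [hm] at h1
    have e1 : p₁ = lift γ₁ x₁ := by
      apply CartesianMonoidalCategory.hom_ext <;> simp [hγ₁, hx₁]
    have e2 : p₂ = lift γ₂ x₁ := by
      apply CartesianMonoidalCategory.hom_ext
      · simp [hγ₂]
      · rw [lift_snd]; exact hx.symm
    have h3 : p₁ ≫ a.act = p₂ ≫ a.act := by
      have hγγ : γ₁ = γ₂ * (γ₂⁻¹ * γ₁) := by rw [mul_inv_cancel_left]
      rw [e1, e2]
      conv_lhs => rw [hγγ]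
      rw [act_mul_pt, h1]
    exact congrArg (fun φ : ZZ ⟶ X => φ.left) h3
  let bl : (Q ⊗ X).left ⟶ X.left := EffectiveEpi.desc (π ▷ X).left a.act.left hdesc
  have hbl : (π ▷ X).left ≫ bl = a.act.left := EffectiveEpi.fac (π ▷ X).left a.act.left hdesc
  refine ⟨Over.homMk bl ?_, Over.OverMorphism.ext hbl⟩
  rw [← cancel_epi (π ▷ X).left, ← Category.assoc, hbl, Over.w, Over.w]

theorem exists_action : ∃ b : AlgGrp.Action Q X, (π ▷ X) ≫ b.act = a.act := by
  obtain ⟨b₀, hb₀⟩ := exists_desc_act a n π hker htriv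
  refine ⟨⟨b₀, ?_, ?_⟩, hb₀⟩
  · have h1 : η[Q] = η[G] ≫ π := (IsMonHom.one_hom π).symm
    rw [h1, comp_whiskerRight, Category.assoc, hb₀, a.one_act]
  · haveI : Epi ((π ▷ G) ▷ X) := by
      haveI := flat_whiskerRight π G
      haveI := surjective_whiskerRight π G
      exact epi_whiskerRight (π ▷ G) X
    haveI : Epi ((Q ◁ π) ▷ X) := by
      haveI := flat_whiskerLeft π Q
      haveI := surjective_whiskerLeft π Q
      exact epi_whiskerRight (Q ◁ π) X
    have hE : (π ⊗ₘ π) ▷ X = ((π ▷ G) ▷ X) ≫ ((Q ◁ π) ▷ X) := by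
      rw [← comp_whiskerRight, MonoidalCategory.tensorHom_def]
    haveI : Epi ((π ⊗ₘ π) ▷ X) := by rw [hE]; infer_instance
    rw [← cancel_epi ((π ⊗ₘ π) ▷ X)]
    have hmul : (π ⊗ₘ π) ≫ μ[Q] = μ[G] ≫ π := (IsMonHom.mul_hom π).symm
    have lhs : ((π ⊗ₘ π) ▷ X) ≫ (μ[Q] ▷ X) ≫ b₀ = (α_ G G X).hom ≫ (G ◁ a.act) ≫ a.act := by
      rw [← Category.assoc, ← comp_whiskerRight, hmul, comp_whiskerRight, Category.assoc, hb₀,
        a.mul_act]
    have rhs : ((π ⊗ₘ π) ▷ X) ≫ (α_ Q Q X).hom ≫ (Q ◁ b₀) ≫ b₀ =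
        (α_ G G X).hom ≫ (G ◁ a.act) ≫ a.act := by
      have e1 : ((π ⊗ₘ π) ▷ X) ≫ (α_ Q Q X).hom = (α_ G G X).hom ≫ (π ⊗ₘ (π ▷ X)) := by
        have := associator_naturality π π (𝟙 X)
        simpa [tensorHom_id] using this
      have e2 : (π ⊗ₘ (π ▷ X)) ≫ (Q ◁ b₀) = (G ◁ a.act) ≫ (π ▷ X) := by
        rw [MonoidalCategory.tensorHom_def, Category.assoc, ← MonoidalCategory.whiskerLeft_comp, hb₀,
          whisker_exchange]
      rw [← Category.assoc, e1, Category.assoc, ← Category.assoc (π ⊗ₘ (π ▷ X)), e2, Category.assoc,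
        hb₀]
    rw [lhs, rhs]

end Main

end Groth.Agent.Lib.Helper14.QuotAct
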