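import Mathlib
import Groth.Prelude.Def_AlgGrp
import Groth.Agent.Lib.Helper14.QuotAct

/-!
# helper14: descending right-`N`-invariant morphisms `G ⊗ X ⟶ Z` along `π ▷ X` for a faithfully
flat quotient homomorphism `π : G ⟶ Q` with kernel `N`.
-/

set_option autoImplicit false
universe u
open CategoryTheory MonoidalCategory CartesianMonoidalCategory MonObj GrpObj AlgebraicGeometry
  CategoryTheory.Limits

namespace Groth.Agent.Lib.Helper14.QuotDesc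

open Groth.Agent.Lib.Helper14.QuotAct

variable {k : Type u} [Field k]

variable {G N Q X Z : Over (Spec (CommRingCat.of k))} [GrpObj G] [GrpObj N] [GrpObj Q]
  (n : N ⟶ G) (π : G ⟶ Q) [IsMonHom π] [Flat π.left] [Surjective π.left]
  [QuasiCompact π.left] (hker : AlgGrp.IsKernel n π) (φ : G ⊗ X ⟶ Z)
  (hinv : ∀ (T : Over (Spec (CommRingCat.of k))) (c : T ⟶ G) (m : T ⟶ N) (x : T ⟶ X),
    lift (c * (m ≫ n)) x ≫ φ = lift c x ≫ φ)

include hker hinv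

theorem exists_desc : ∃ ψ : Q ⊗ X ⟶ Z, (π ▷ X) ≫ ψ = φ := by
  haveI := flat_whiskerRight π X
  haveI := surjective_whiskerRight π X
  haveI := quasiCompact_whiskerRight π X
  haveI : Epi (π ▷ X).left := Flat.epi_of_flat_of_surjective _
  have hdesc : ∀ {W : Scheme.{u}} (g₁ g₂ : W ⟶ (G ⊗ X).left),
      g₁ ≫ (π ▷ X).left = g₂ ≫ (π ▷ X).left → g₁ ≫ φ.left = g₂ ≫ φ.left := by
    intro W g₁ g₂ hg
    let ZZ : Over (Spec (CommRingCat.of k)) := Over.mk (g₁ ≫ (G ⊗ X).hom)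
    let p₁ : ZZ ⟶ G ⊗ X := Over.homMk g₁ rfl
    let p₂ : ZZ ⟶ G ⊗ X := Over.homMk g₂ (by
      show g₂ ≫ (G ⊗ X).hom = g₁ ≫ (G ⊗ X).hom
      rw [← Over.w (π ▷ X), ← Category.assoc, ← hg, Category.assoc])
    have hp : p₁ ≫ (π ▷ X) = p₂ ≫ (π ▷ X) := Over.OverMorphism.ext hg
    have hx : p₁ ≫ snd G X = p₂ ≫ snd G X := by
      rw [← whiskerRight_snd π X, ← Category.assoc, hp, Category.assoc]
    have hγ : (p₁ ≫ fst G X) ≫ π = (p₂ ≫ fst G X) ≫ π := by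
      rw [Category.assoc, Category.assoc, ← whiskerRight_fst, ← Category.assoc, hp, Category.assoc]
    set γ₁ := p₁ ≫ fst G X with hγ₁
    set γ₂ := p₂ ≫ fst G X with hγ₂
    set x₁ := p₁ ≫ snd G X with hx₁
    have hk : (γ₂⁻¹ * γ₁) ≫ π = toUnit ZZ ≫ η[Q] := by
      rw [MonObj.mul_comp, GrpObj.inv_comp, hγ, inv_mul_cancel, Hom.one_def]
    have hm : hker.lift (γ₂⁻¹ * γ₁) (toUnit ZZ) hk ≫ n = γ₂⁻¹ * γ₁ := hker.lift_fst _ _ _
    have h1 := hinv ZZ γ₂ (hker.lift (γ₂⁻¹ * γ₁) (toUnit ZZ) hk) x₁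
    rw [hm, mul_inv_cancel_left] at h1
    have e1 : p₁ = lift γ₁ x₁ := by
      apply CartesianMonoidalCategory.hom_ext <;> simp [hγ₁, hx₁]
    have e2 : p₂ = lift γ₂ x₁ := by
      apply CartesianMonoidalCategory.hom_ext
      · simp [hγ₂]
      · rw [lift_snd]; exact hx.symm
    have h3 : p₁ ≫ φ = p₂ ≫ φ := by
      rw [e1, e2]
      exact h1
    exact congrArg (fun θ : ZZ ⟶ Z => θ.left) h3
  let bl : (Q ⊗ X).left ⟶ Z.left := EffectiveEpi.desc (π ▷ X).left φ.left hdesc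
  have hbl : (π ▷ X).left ≫ bl = φ.left := EffectiveEpi.fac (π ▷ X).left φ.left hdesc
  refine ⟨Over.homMk bl ?_, Over.OverMorphism.ext hbl⟩
  rw [← cancel_epi (π ▷ X).left, ← Category.assoc, hbl, Over.w, Over.w]

end Groth.Agent.Lib.Helper14.QuotDesc
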