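import Mathlib
import Groth.Agent.Lib.Helper14.FEtBC7

/-!
# helper14: quotients of finite étale covers coming from the base (kernel pair descent), part 1

* `prop_left g`: a morphism of finite étale covers is finite étale.
* `isColimitCofork`: a surjective morphism `g : P ⟶ X'` of finite étale covers is the coequalizer of
  any pair `a₁ a₂ : K ⟶ P` through which the kernel pair of `g` factors.
-/

set_option autoImplicit false
set_option linter.style.haveILetI false

namespace Groth.Agent.Lib.helper14.QuotDesc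

open AlgebraicGeometry CategoryTheory CategoryTheory.Limits
open Groth.Agent.Lib.helper14.FEtGal Groth.Agent.Lib.helper14.FibIso

universe u

variable {X : Scheme.{u}}

lemma prop_left {Y Z : FEt.Cat X} (g : Y ⟶ Z) : FEt.prop.{u} g.left := by
  have h1 : FEt.prop.{u} (g.left ≫ Z.hom) := by
    rw [MorphismProperty.Over.w g]
    exact Y.prop
  exact MorphismProperty.of_postcomp (W := FEt.prop.{u}) (W' := FEt.prop.{u}) g.left Z.hom Z.prop h1

instance isFinite_left {Y Z : FEt.Cat X} (g : Y ⟶ Z) : IsFinite g.left := (prop_left g).1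
instance etale_left {Y Z : FEt.Cat X} (g : Y ⟶ Z) : Etale g.left := (prop_left g).2

/-- a surjective morphism of finite étale covers is an effective epimorphism of schemes -/
lemma effectiveEpi_left {Y Z : FEt.Cat X} (g : Y ⟶ Z) (hg : Function.Surjective g.left) :
    EffectiveEpi g.left := by
  haveI : Surjective g.left := ⟨hg⟩
  infer_instance

/-- a surjective morphism of covers is the coequalizer of any pair covering its kernel pair -/
noncomputable def isColimitCofork {K P X' : FEt.Cat X} (a₁ a₂ : K ⟶ P) (g : P ⟶ X')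
    (hg : Function.Surjective g.left) (w : a₁ ≫ g = a₂ ≫ g)
    (lam : pullback g.left g.left ⟶ K.left)
    (h1 : lam ≫ a₁.left = pullback.fst g.left g.left)
    (h2 : lam ≫ a₂.left = pullback.snd g.left g.left) : IsColimit (Cofork.ofπ g w) := by
  haveI := effectiveEpi_left g hg
  have hdesc : ∀ (c : Cofork a₁ a₂) {T : Scheme.{u}} (u₁ u₂ : T ⟶ P.left),
      u₁ ≫ g.left = u₂ ≫ g.left → u₁ ≫ c.π.left = u₂ ≫ c.π.left := by
    intro c T u₁ u₂ hu
    have hc : a₁.left ≫ c.π.left = a₂.left ≫ c.π.left :=
      congrArg (fun t => t.left) c.condition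
    have e1 : u₁ = pullback.lift u₁ u₂ hu ≫ lam ≫ a₁.left := by
      rw [h1, pullback.lift_fst]
    have e2 : u₂ = pullback.lift u₁ u₂ hu ≫ lam ≫ a₂.left := by
      rw [h2, pullback.lift_snd]
    calc u₁ ≫ c.π.left = (pullback.lift u₁ u₂ hu ≫ lam ≫ a₁.left) ≫ c.π.left :=
          congrArg (· ≫ c.π.left) e1
      _ = (pullback.lift u₁ u₂ hu ≫ lam ≫ a₂.left) ≫ c.π.left := by
          rw [Category.assoc, Category.assoc, Category.assoc, Category.assoc, hc]
      _ = u₂ ≫ c.π.left := (congrArg (· ≫ c.π.left) e2).symm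
  refine Cofork.IsColimit.mk' _ (fun c => ?_)
  have hd : EffectiveEpi.desc g.left c.π.left (fun u₁ u₂ hu => hdesc c u₁ u₂ hu) ≫ c.pt.hom =
      X'.hom := by
    rw [← cancel_epi g.left, EffectiveEpi.fac_assoc, MorphismProperty.Over.w, MorphismProperty.Over.w]
  refine ⟨MorphismProperty.Over.homMk
    (EffectiveEpi.desc g.left c.π.left (fun u₁ u₂ hu => hdesc c u₁ u₂ hu)) hd trivial, ?_, ?_⟩
  · apply MorphismProperty.Over.Hom.ext
    exact EffectiveEpi.fac g.left c.π.left (fun u₁ u₂ hu => hdesc c u₁ u₂ hu)
  · intro m hm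
    apply MorphismProperty.Over.Hom.ext
    rw [← cancel_epi g.left]
    refine (congrArg (fun t => t.left) hm).trans ?_
    exact (EffectiveEpi.fac g.left c.π.left (fun u₁ u₂ hu => hdesc c u₁ u₂ hu)).symm

end Groth.Agent.Lib.helper14.QuotDesc
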