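import Mathlib
import Groth.Agent.Lib.Helper14.QuotDesc1

/-!
# helper14: quotients of finite étale covers coming from the base (kernel pair descent), part 2

`exists_of_surjective`: if `f : X ⟶ Spec k` is geometrically connected, every finite étale cover of
`X` which is a quotient of `X ×_k S₁` (`S₁` finite étale over `k`) is of the form `X ×_k S'`.
-/

set_option autoImplicit false
set_option linter.style.haveILetI false

namespace Groth.Agent.Lib.helper14.QuotDesc

open AlgebraicGeometry CategoryTheory CategoryTheory.Limits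
open Groth.Agent.Lib.helper14.FEtGal Groth.Agent.Lib.helper14.FibIso

universe u

lemma restrict_map_left_fst {X Y : Scheme.{u}} (f : X ⟶ Y) {A B : FEt.Cat Y} (m : A ⟶ B) :
    ((FEt.restrict f).map m).left ≫ pullback.fst B.hom f = pullback.fst A.hom f ≫ m.left :=
  pullback.lift_fst _ _ _

lemma restrict_map_left_snd {X Y : Scheme.{u}} (f : X ⟶ Y) {A B : FEt.Cat Y} (m : A ⟶ B) :
    ((FEt.restrict f).map m).left ≫ pullback.snd B.hom f = pullback.snd A.hom f :=
  pullback.lift_snd _ _ _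

variable (k : Type u) [Field k]

/-- a scheme finite over a field is discrete -/
theorem discreteTopology_of_isFinite' {N : Scheme.{u}} (t : N ⟶ Spec (CommRingCat.of k))
    [IsFinite t] : DiscreteTopology N := by
  haveI : IsAffine N := isAffine_of_isAffineHom t
  have hfin := t.finite_appTop
  haveI : IsArtinianRing Γ(Spec (CommRingCat.of k), ⊤) :=
    (Scheme.ΓSpecIso (CommRingCat.of k)).commRingCatIsoToRingEquiv.symm.isArtinianRing
  haveI : IsArtinianRing Γ(N, ⊤) := by
    algebraize [t.appTop.hom]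
    exact IsArtinianRing.of_finite Γ(Spec (CommRingCat.of k), ⊤) Γ(N, ⊤)
  haveI : IsLocallyArtinian (Spec Γ(N, ⊤)) := Scheme.isLocallyArtinianScheme_Spec.mpr inferInstance
  haveI : IsLocallyArtinian N := IsLocallyArtinian.of_isImmersion N.isoSpec.hom
  infer_instance

variable {X : Scheme.{u}} (f : X ⟶ Spec (CommRingCat.of k))

theorem exists_of_surjective [GeometricallyConnected f]
    (S₁ : FEt.Cat (Spec (CommRingCat.of k))) (X' : FEt.Cat X)
    (g : (FEt.restrict f).obj S₁ ⟶ X') (hg : Function.Surjective g.left) :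
    ∃ S' : FEt.Cat (Spec (CommRingCat.of k)), Nonempty ((FEt.restrict f).obj S' ≅ X') := by
  classical
  let s₁ : S₁.left ⟶ Spec (CommRingCat.of k) := S₁.hom
  obtain ⟨g₁, hg₁def⟩ : ∃ g₁ : pullback s₁ f ⟶ X'.left, g₁ = g.left := ⟨_, rfl⟩
  have hg₁ : g₁ ≫ X'.hom = pullback.snd s₁ f := by
    rw [hg₁def]; exact MorphismProperty.Over.w g
  have hg₁p : FEt.prop.{u} g₁ := by
    rw [hg₁def]; exact prop_left g
  haveI : IsFinite g₁ := hg₁p.1
  haveI : Etale g₁ := hg₁p.2
  let κ₁ := pullback.fst g₁ g₁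
  let κ₂ := pullback.snd g₁ g₁
  have hκ : κ₁ ≫ g₁ = κ₂ ≫ g₁ := pullback.condition
  have hκX : κ₁ ≫ pullback.snd s₁ f = κ₂ ≫ pullback.snd s₁ f := by
    rw [← hg₁, ← Category.assoc, hκ, Category.assoc]
  let s₂ : pullback s₁ s₁ ⟶ Spec (CommRingCat.of k) := pullback.fst s₁ s₁ ≫ s₁
  let w : pullback g₁ g₁ ⟶ pullback s₁ s₁ :=
    pullback.lift (κ₁ ≫ pullback.fst s₁ f) (κ₂ ≫ pullback.fst s₁ f) (by
      rw [Category.assoc, Category.assoc, pullback.condition, ← Category.assoc, hκX,
        Category.assoc])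
  have hw1 : w ≫ pullback.fst s₁ s₁ = κ₁ ≫ pullback.fst s₁ f := pullback.lift_fst _ _ _
  have hw2 : w ≫ pullback.snd s₁ s₁ = κ₂ ≫ pullback.fst s₁ f := pullback.lift_snd _ _ _
  haveI : DiscreteTopology ↥(pullback s₁ s₁ : Scheme.{u}) := discreteTopology_of_isFinite' k s₂
  let O₀ : (pullback s₁ s₁).Opens := ⟨Set.range w, isOpen_discrete _⟩
  haveI : IsClosedImmersion O₀.ι := by
    apply IsClosedImmersion.of_isPreimmersion
    exact isClosed_discrete _
  let t₀ : O₀.toScheme ⟶ Spec (CommRingCat.of k) := O₀.ι ≫ s₂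
  let K₀ : FEt.Cat (Spec (CommRingCat.of k)) := mkObj t₀
  let ρ₁ : K₀ ⟶ S₁ := MorphismProperty.Over.homMk (O₀.ι ≫ pullback.fst s₁ s₁)
    (by simp only [Category.assoc]; rfl) trivial
  let ρ₂ : K₀ ⟶ S₁ := MorphismProperty.Over.homMk (O₀.ι ≫ pullback.snd s₁ s₁)
    (by
      simp only [Category.assoc]
      show O₀.ι ≫ pullback.snd s₁ s₁ ≫ s₁ = O₀.ι ≫ pullback.fst s₁ s₁ ≫ s₁
      rw [pullback.condition]) trivial
  have hwr : Set.range w ⊆ Set.range O₀.ι := by
    rw [Scheme.Opens.range_ι]; rfl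
  let w₀ : pullback g₁ g₁ ⟶ O₀.toScheme := IsOpenImmersion.lift O₀.ι w hwr
  have hw₀ : w₀ ≫ O₀.ι = w := IsOpenImmersion.lift_fac _ _ _
  have hw₀surj : Function.Surjective w₀ := by
    intro c
    have h1 : O₀.ι c ∈ Set.range w := by
      have : O₀.ι c ∈ Set.range O₀.ι := ⟨c, rfl⟩
      rw [Scheme.Opens.range_ι] at this
      exact this
    obtain ⟨x, hx⟩ := h1
    refine ⟨x, O₀.ι.isOpenEmbedding.injective ?_⟩
    rw [← Scheme.Hom.comp_apply, hw₀, hx]
  let lam : pullback g₁ g₁ ⟶ pullback t₀ f := pullback.lift w₀ (κ₁ ≫ pullback.snd s₁ f) (by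
    show w₀ ≫ O₀.ι ≫ pullback.fst s₁ s₁ ≫ s₁ = _
    rw [← Category.assoc, hw₀, ← Category.assoc, hw1, Category.assoc, Category.assoc,
      pullback.condition])
  have hlam1 : lam ≫ pullback.fst t₀ f = w₀ := pullback.lift_fst _ _ _
  have hlam2 : lam ≫ pullback.snd t₀ f = κ₁ ≫ pullback.snd s₁ f := pullback.lift_snd _ _ _
  let a₁ := (FEt.restrict f).map ρ₁
  let a₂ := (FEt.restrict f).map ρ₂
  have ha1 : lam ≫ a₁.left = κ₁ := by
    apply pullback.hom_ext
    · refine (Category.assoc _ _ _).trans ?_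
      refine (congrArg (lam ≫ ·) (restrict_map_left_fst f ρ₁)).trans ?_
      show lam ≫ pullback.fst t₀ f ≫ O₀.ι ≫ pullback.fst s₁ s₁ = _
      rw [← Category.assoc, hlam1, ← Category.assoc, hw₀, hw1]
    · refine (Category.assoc _ _ _).trans ?_
      refine (congrArg (lam ≫ ·) (restrict_map_left_snd f ρ₁)).trans ?_
      exact hlam2
  have ha2 : lam ≫ a₂.left = κ₂ := by
    apply pullback.hom_ext
    · refine (Category.assoc _ _ _).trans ?_
      refine (congrArg (lam ≫ ·) (restrict_map_left_fst f ρ₂)).trans ?_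
      show lam ≫ pullback.fst t₀ f ≫ O₀.ι ≫ pullback.snd s₁ s₁ = _
      rw [← Category.assoc, hlam1, ← Category.assoc, hw₀, hw2]
    · refine (Category.assoc _ _ _).trans ?_
      refine (congrArg (lam ≫ ·) (restrict_map_left_snd f ρ₂)).trans ?_
      exact hlam2.trans hκX
  have hlam : FEt.prop.{u} lam := by
    have h1 : FEt.prop.{u} (lam ≫ pullback.snd t₀ f) := by
      rw [hlam2]
      exact ⟨inferInstance, inferInstance⟩
    exact MorphismProperty.of_postcomp (W := FEt.prop.{u}) (W' := FEt.prop.{u}) lam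
      (pullback.snd t₀ f) ⟨inferInstance, inferInstance⟩ h1
  haveI : IsFinite lam := hlam.1
  haveI : Etale lam := hlam.2
  have hlamsurj : Function.Surjective lam := by
    intro x
    have hF : _root_.IsConnected ((pullback.fst t₀ f) ⁻¹' {pullback.fst t₀ f x}) :=
      (pullback.fst t₀ f).isConnected_preimage_singleton _
    have hclopen : IsClopen (Set.range lam) :=
      ⟨lam.isClosedMap.isClosed_range, lam.isOpenMap.isOpen_range⟩
    obtain ⟨x', hx'⟩ := hw₀surj (pullback.fst t₀ f x)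
    have hne : (((pullback.fst t₀ f) ⁻¹' {pullback.fst t₀ f x}) ∩ Set.range lam).Nonempty := by
      refine ⟨lam x', ?_, ⟨x', rfl⟩⟩
      show pullback.fst t₀ f (lam x') = pullback.fst t₀ f x
      rw [← Scheme.Hom.comp_apply, hlam1, hx']
    exact hF.isPreconnected.subset_isClopen hclopen hne rfl
  haveI : Surjective lam := ⟨hlamsurj⟩
  haveI : EffectiveEpi lam := inferInstance
  haveI : Epi lam := inferInstance
  have w_eq : a₁ ≫ g = a₂ ≫ g := by
    apply MorphismProperty.Over.Hom.ext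
    show a₁.left ≫ g.left = a₂.left ≫ g.left
    rw [← hg₁def]
    refine (cancel_epi lam).1 ?_
    exact (Category.assoc _ _ _).symm.trans ((congrArg (· ≫ g₁) ha1).trans
      (hκ.trans ((congrArg (· ≫ g₁) ha2).symm.trans (Category.assoc _ _ _))))
  subst hg₁def
  have hcol : IsColimit (Cofork.ofπ g w_eq) := isColimitCofork a₁ a₂ g hg w_eq lam ha1 ha2
  have hc1 := isColimitOfHasCoequalizerOfPreservesColimit (FEt.restrict f) ρ₁ ρ₂
  exact ⟨coequalizer ρ₁ ρ₂, ⟨hc1.coconePointUniqueUpToIso hcol⟩⟩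

end Groth.Agent.Lib.helper14.QuotDesc
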