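import Mathlib
import Groth.Prelude.Def_QuotSh
import Groth.Agent.Lib.Helper14.QuotRel2

/-!
# The functor `rep` to sheaves on the big site (helper14)
-/

set_option autoImplicit false

universe u

open CategoryTheory CategoryTheory.Limits AlgebraicGeometry Opposite

namespace Groth.Agent.Lib.Helper14.RepSh

variable (K : Precoverage Scheme.{u}) {S : Scheme.{u}}

/-- `rep` as a functor -/
noncomputable def repF : Over S ⥤ QuotSh.Sh K S :=
  CategoryTheory.uliftYoneda.{u + 1} ⋙ presheafToSheaf (QuotSh.J K S) (Type (u + 1))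

theorem repF_obj (V : Over S) : (repF K).obj V = QuotSh.rep K V := rfl

theorem repF_map {V W : Over S} (g : V ⟶ W) : (repF K).map g = QuotSh.repMap K g := rfl

instance : PreservesFiniteLimits (repF K (S := S)) := by
  unfold repF
  have h1 : PreservesFiniteLimits (CategoryTheory.uliftYoneda.{u + 1} (C := Over S)) := by
    unfold CategoryTheory.uliftYoneda
    infer_instance
  infer_instance

theorem repMap_comp {V W X : Over S} (f : V ⟶ W) (g : W ⟶ X) :
    QuotSh.repMap K (f ≫ g) = QuotSh.repMap K f ≫ QuotSh.repMap K g :=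
  (repF K).map_comp f g

theorem repMap_id (V : Over S) : QuotSh.repMap K (𝟙 V) = 𝟙 _ :=
  (repF K).map_id V

theorem isPullback_repMap {P X Y Z : Over S} {a : P ⟶ X} {b : P ⟶ Y} {c : X ⟶ Z} {d : Y ⟶ Z}
    (h : IsPullback a b c d) :
    IsPullback (QuotSh.repMap K a) (QuotSh.repMap K b) (QuotSh.repMap K c) (QuotSh.repMap K d) :=
  h.map (repF K)

end Groth.Agent.Lib.Helper14.RepSh
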