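import Groth.Agent.Lib.Helper14.RepSh9
import Groth.Agent.Lib.Helper14.GrpTriv
import Groth.Agent.Lib.Helper18.LfpCancel

set_option autoImplicit false

universe u

open CategoryTheory CategoryTheory.Limits MonoidalCategory CartesianMonoidalCategory MonObj GrpObj
  AlgebraicGeometry

namespace Groth.Agent.Lib.Helper14.RepSh

variable {S : Scheme.{u}}

theorem toUnit_left (N : Over S) : (toUnit N).left = N.hom :=
  (Category.comp_id _).symm.trans (Over.w (toUnit N))

/-- the kernel of a homomorphism has a unit section -/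
theorem surjective_hom_of_isKernel {G H N : Over S} [GrpObj G] [GrpObj H] (f : G ⟶ H) [IsMonHom f]
    (i : N ⟶ G) (hi : IsPullback i (toUnit N) f η[H]) : Surjective N.hom := by
  let σ : 𝟙_ (Over S) ⟶ N := hi.lift η[G] (𝟙 _) (by rw [IsMonHom.one_hom, Category.id_comp])
  have hσ : σ ≫ toUnit N = 𝟙 _ := hi.lift_snd _ _ _
  have hσ' : σ.left ≫ N.hom = 𝟙 S := by
    rw [← toUnit_left]
    exact congrArg (fun k => k.left) hσ
  constructor
  intro x
  refine ⟨σ.left x, ?_⟩
  rw [← Scheme.Hom.comp_apply, hσ']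
  rfl

/-- base change of `f` along a map which lifts through `f` -/
theorem exists_isPullback_of_lift_grp {G H N : Over S} [GrpObj G] [GrpObj H] (f : G ⟶ H)
    [IsMonHom f] (i : N ⟶ G) (hi : IsPullback i (toUnit N) f η[H]) {V : Scheme.{u}}
    (g : V ⟶ H.left) (h : V ⟶ G.left) (hh : h ≫ f.left = g)
    (P : MorphismProperty Scheme.{u}) [P.IsStableUnderBaseChange] (hN : P N.hom) :
    ∃ (W : Scheme.{u}) (p₁ : W ⟶ G.left) (p₂ : W ⟶ V), IsPullback p₁ p₂ f.left g ∧ P p₂ := by
  let V' : Over S := Over.mk (g ≫ H.hom)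
  let g' : V' ⟶ H := Over.homMk g rfl
  let h' : V' ⟶ G := Over.homMk h (by
    change h ≫ G.hom = g ≫ H.hom
    rw [← Over.w f, ← Category.assoc, hh])
  have hg' : h' ≫ f = g' := by
    ext
    exact hh
  have sq := (GrpTriv.isPullback_trivialization f i hi g' h' hg').map (Over.forget S)
  have sq2 := (GrpTriv.isPullback_fst_snd_toUnit N V').map (Over.forget S)
  refine ⟨_, _, _, sq, ?_⟩
  refine MorphismProperty.of_isPullback (P := P) sq2 ?_
  change P (toUnit N).left
  rw [toUnit_left]
  exact hN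

end Groth.Agent.Lib.Helper14.RepSh
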