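import Groth.Agent.Lib.Helper14.RepSh1

set_option autoImplicit false

universe u

open CategoryTheory CategoryTheory.Limits AlgebraicGeometry Opposite

namespace Groth.Agent.Lib.Helper14.RepSh

variable (K : Precoverage Scheme.{u}) {S : Scheme.{u}}

/-- the sieve of arrows into `M` which factor through `q` -/
def factSieve {U M : Over S} (q : U ⟶ M) : Sieve M where
  arrows V g := ∃ h : V ⟶ U, h ≫ q = g
  downward_closed := by
    rintro V W g ⟨h, rfl⟩ k
    exact ⟨k ≫ h, Category.assoc _ _ _⟩

theorem factSieve_eq_generate {U M : Over S} (q : U ⟶ M) :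
    factSieve q = Sieve.generate (Presieve.singleton q) := by
  ext V g
  constructor
  · rintro ⟨h, rfl⟩
    exact ⟨U, h, q, Presieve.singleton_self q, rfl⟩
  · rintro ⟨W, h, q', ⟨⟩, rfl⟩
    exact ⟨h, rfl⟩

theorem isLocallySurjective_uliftYoneda_map_iff {U M : Over S} (q : U ⟶ M) :
    Presheaf.IsLocallySurjective (QuotSh.J K S) (CategoryTheory.uliftYoneda.{u + 1}.map q) ↔
      factSieve q ∈ QuotSh.J K S M := by
  constructor
  · intro h
    let s0 : (CategoryTheory.uliftYoneda.{u + 1}.obj M).obj (op M) := ULift.up (𝟙 M)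
    have h1 := Presheaf.imageSieve_mem (QuotSh.J K S) (CategoryTheory.uliftYoneda.{u + 1}.map q)
      (U := op M) s0
    refine (QuotSh.J K S).superset_covering ?_ h1
    rintro V g ⟨t, ht⟩
    refine ⟨t.down, ?_⟩
    have h2 := congrArg ULift.down ht
    have h3 : t.down ≫ q = g ≫ 𝟙 M := by simpa [s0] using h2
    rw [h3, Category.comp_id]
  · intro h
    constructor
    intro V m
    refine (QuotSh.J K S).superset_covering ?_ ((QuotSh.J K S).pullback_stable m.down h)
    rintro W g ⟨t, ht⟩
    refine ⟨ULift.up t, ?_⟩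
    apply ULift.ext
    simpa using ht

theorem epi_repMap_iff {U M : Over S} (q : U ⟶ M) :
    Epi (QuotSh.repMap K q) ↔ factSieve q ∈ QuotSh.J K S M := by
  rw [← Sheaf.isLocallySurjective_iff_epi, ← isLocallySurjective_uliftYoneda_map_iff]
  exact Presheaf.isLocallySurjective_presheafToSheaf_map_iff _ _

end Groth.Agent.Lib.Helper14.RepSh
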