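import Groth.Agent.Lib.Helper14.RepSh2
import Groth.Prelude.Def_BigSite

set_option autoImplicit false

universe u

open CategoryTheory CategoryTheory.Limits AlgebraicGeometry Opposite

namespace Groth.Agent.Lib.Helper14.RepSh

variable (K : Precoverage Scheme.{u}) {S : Scheme.{u}}

section subcanonical

variable [(QuotSh.J K S).Subcanonical]

/-- for a subcanonical topology, `rep` is the Yoneda embedding into sheaves -/
noncomputable def repFIso : repF K (S := S) ≅ (QuotSh.J K S).uliftYoneda.{u + 1} :=
  Functor.isoWhiskerRight ((QuotSh.J K S).uliftYonedaCompSheafToPresheaf.{u + 1}).symm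
      (presheafToSheaf (QuotSh.J K S) (Type (u + 1))) ≪≫
    Functor.associator _ _ _ ≪≫
    Functor.isoWhiskerLeft _ (asIso (sheafificationAdjunction (QuotSh.J K S) (Type (u + 1))).counit) ≪≫
    Functor.rightUnitor _

instance : (repF K (S := S)).Full := Functor.Full.of_iso (repFIso K).symm

instance : (repF K (S := S)).Faithful := Functor.Faithful.of_iso (repFIso K).symm

theorem isPullback_of_repMap {P X Y Z : Over S} {a : P ⟶ X} {b : P ⟶ Y} {c : X ⟶ Z} {d : Y ⟶ Z}
    (w : a ≫ c = b ≫ d)
    (h : IsPullback (QuotSh.repMap K a) (QuotSh.repMap K b) (QuotSh.repMap K c)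
      (QuotSh.repMap K d)) : IsPullback a b c d :=
  IsPullback.of_map (repF K) w h

theorem repMap_injective {V W : Over S} {f g : V ⟶ W} (h : QuotSh.repMap K f = QuotSh.repMap K g) :
    f = g :=
  (repF K).map_injective h

theorem exists_repMap_eq {V W : Over S} (φ : QuotSh.rep K V ⟶ QuotSh.rep K W) :
    ∃ f : V ⟶ W, QuotSh.repMap K f = φ :=
  (repF K).map_surjective φ

end subcanonical

instance subcanonical_fppf : (QuotSh.J Scheme.fppfPrecoverage.{u} S).Subcanonical := inferInstance

instance subcanonical_etale : (QuotSh.J Scheme.etalePrecoverage.{u} S).Subcanonical := by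
  have h : QuotSh.J Scheme.etalePrecoverage.{u} S ≤ QuotSh.J Scheme.fppfPrecoverage.{u} S :=
    BigSite.J_mono BigSite.etalePrecoverage_le_fppfPrecoverage S
  exact GrothendieckTopology.Subcanonical.of_le h

end Groth.Agent.Lib.Helper14.RepSh
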