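import Groth.Agent.Lib.Helper14.RepSh3

set_option autoImplicit false

universe u w v₁ u₁

open CategoryTheory CategoryTheory.Limits AlgebraicGeometry Opposite

namespace Groth.Agent.Lib.Helper14.RepSh

section general

variable {C : Type u₁} [Category.{v₁} C]

/-- the comparison from the chosen coequalizer to a colimit cofork is an isomorphism -/
theorem isIso_coequalizer_desc {R X Y : C} {a b : R ⟶ X} [HasCoequalizer a b] (f : X ⟶ Y)
    (w : a ≫ f = b ≫ f) (h : IsColimit (Cofork.ofπ f w)) : IsIso (coequalizer.desc f w) := by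
  let e := (colimit.isColimit (parallelPair a b)).coconePointUniqueUpToIso h
  have he : e.hom = coequalizer.desc f w := by
    apply coequalizer.hom_ext
    rw [coequalizer.π_desc]
    exact (colimit.isColimit (parallelPair a b)).comp_coconePointUniqueUpToIso_hom h
      WalkingParallelPair.one
  rw [← he]
  infer_instance

/-- if `f` is a regular epimorphism with kernel pair `(p₁, p₂)` and `e : R ⟶ P` is an epimorphism,
then `f` is a coequalizer of `(e ≫ p₁, e ≫ p₂)` -/
noncomputable def isColimitOfEpiKernelPair {R P X Y : C} (f : X ⟶ Y) [IsRegularEpi f]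
    {p₁ p₂ : P ⟶ X} (hk : IsKernelPair f p₁ p₂) (e : R ⟶ P) [Epi e] {a b : R ⟶ X}
    (h1 : e ≫ p₁ = a) (h2 : e ≫ p₂ = b) (w : a ≫ f = b ≫ f) :
    IsColimit (Cofork.ofπ f w) := by
  have hc := hk.toCoequalizer'
  refine Cofork.IsColimit.mk _ (fun s => Cofork.IsColimit.desc hc s.π ?_) (fun s => ?_)
    (fun s m hm => ?_)
  · rw [← cancel_epi e, ← Category.assoc, ← Category.assoc, h1, h2]
    exact s.condition
  · exact Cofork.IsColimit.π_desc' hc _ _
  · apply Cofork.IsColimit.hom_ext hc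
    exact hm.trans (Cofork.IsColimit.π_desc' hc _ _).symm

end general

variable (K : Precoverage Scheme.{u}) {S : Scheme.{u}}

instance isRegularEpi_of_epi {X Y : QuotSh.Sh K S} (f : X ⟶ Y) [Epi f] : IsRegularEpi f :=
  IsRegularEpiCategory.regularEpiOfEpi f

/-- S7490, general form -/
theorem isQuotient_of_epi {R U M P : Over S} (s t : R ⟶ U) (q : U ⟶ M) (w : s ≫ q = t ≫ q)
    {p₁ p₂ : P ⟶ U} (hk : IsKernelPair q p₁ p₂) (e : R ⟶ P) (h1 : e ≫ p₁ = s) (h2 : e ≫ p₂ = t)
    [Epi (QuotSh.repMap K q)] [Epi (QuotSh.repMap K e)] : QuotSh.IsQuotient K s t q := by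
  refine ⟨w, ?_⟩
  have hk' : IsKernelPair (QuotSh.repMap K q) (QuotSh.repMap K p₁) (QuotSh.repMap K p₂) :=
    isPullback_repMap K hk
  have e1 : QuotSh.repMap K e ≫ QuotSh.repMap K p₁ = QuotSh.repMap K s := by
    rw [← repMap_comp, h1]
  have e2 : QuotSh.repMap K e ≫ QuotSh.repMap K p₂ = QuotSh.repMap K t := by
    rw [← repMap_comp, h2]
  have w' : QuotSh.repMap K s ≫ QuotSh.repMap K q = QuotSh.repMap K t ≫ QuotSh.repMap K q := by
    rw [← repMap_comp, ← repMap_comp, w]
  exact isIso_coequalizer_desc (QuotSh.repMap K q) w'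
    (isColimitOfEpiKernelPair (QuotSh.repMap K q) hk' (QuotSh.repMap K e) e1 e2 w')

theorem isQuotient_of_isKernelPair {R U M : Over S} (s t : R ⟶ U) (q : U ⟶ M)
    (hk : IsKernelPair q s t) [Epi (QuotSh.repMap K q)] : QuotSh.IsQuotient K s t q := by
  have : Epi (QuotSh.repMap K (𝟙 R)) := by
    rw [repMap_id]
    infer_instance
  exact isQuotient_of_epi K s t q hk.w hk (𝟙 R) (Category.id_comp _) (Category.id_comp _)

theorem quotπ_quotDesc {R U M : Over S} {s t : R ⟶ U} (q : U ⟶ M) (w : s ≫ q = t ≫ q) :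
    QuotSh.quotπ K s t ≫ QuotSh.quotDesc K q w = QuotSh.repMap K q :=
  coequalizer.π_desc _ _

theorem epi_of_isQuotient {R U M : Over S} {s t : R ⟶ U} {q : U ⟶ M}
    (h : QuotSh.IsQuotient K s t q) : Epi (QuotSh.repMap K q) := by
  obtain ⟨w, hw⟩ := h
  rw [← quotπ_quotDesc K q w]
  have h1 : Epi (QuotSh.quotπ K s t) := by
    unfold QuotSh.quotπ
    exact coequalizer.π_epi
  exact epi_comp _ _

end Groth.Agent.Lib.Helper14.RepSh
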