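import Groth.Agent.Lib.Helper14.RepSh4

set_option autoImplicit false

universe u

open CategoryTheory CategoryTheory.Limits AlgebraicGeometry Opposite

namespace Groth.Agent.Lib.Helper14.RepSh

variable {S : Scheme.{u}}

/-- a square in `Over S` whose underlying square is a pullback is a pullback -/
theorem isPullback_over_of_left {P X Y Z : Over S} {a : P ⟶ X} {b : P ⟶ Y} {c : X ⟶ Z} {d : Y ⟶ Z}
    (w : a ≫ c = b ≫ d) (h : IsPullback a.left b.left c.left d.left) : IsPullback a b c d :=
  IsPullback.of_map (Over.forget S) w h

end Groth.Agent.Lib.Helper14.RepSh
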