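import Groth.Agent.Lib.Helper14.RepSh6

set_option autoImplicit false

universe u v₁ u₁ v₂ u₂

open CategoryTheory CategoryTheory.Limits AlgebraicGeometry Opposite

namespace Groth.Agent.Lib.Helper14.RepSh

section general

variable {C : Type u₁} [Category.{v₁} C] {D : Type u₂} [Category.{v₂} D]

/-- a functor preserving finite limits preserves jointly monic pairs (when the source has the
binary product in question) -/
theorem jointlyMono₂_map (F : C ⥤ D) [PreservesFiniteLimits F] {R X : C} (p₁ p₂ : R ⟶ X)
    [HasBinaryProduct X X] [HasBinaryProduct (F.obj X) (F.obj X)]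
    (h : JointlyMono₂ p₁ p₂) : JointlyMono₂ (F.map p₁) (F.map p₂) := by
  have hm : Mono (prod.lift p₁ p₂) := by
    constructor
    intro Z a b hab
    apply h.right_cancellation
    · have := congrArg (fun k => k ≫ prod.fst) hab
      simpa only [Category.assoc, prod.lift_fst] using this
    · have := congrArg (fun k => k ≫ prod.snd) hab
      simpa only [Category.assoc, prod.lift_snd] using this
  have hm' : Mono (F.map (prod.lift p₁ p₂)) := inferInstance
  have hc : F.map (prod.lift p₁ p₂) ≫ prodComparison F X X = prod.lift (F.map p₁) (F.map p₂) := by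
    apply prod.hom_ext
    · rw [Category.assoc, prodComparison_fst, ← F.map_comp, prod.lift_fst, prod.lift_fst]
    · rw [Category.assoc, prodComparison_snd, ← F.map_comp, prod.lift_snd, prod.lift_snd]
  constructor
  intro Y a b h1 h2
  have h3 : a ≫ prod.lift (F.map p₁) (F.map p₂) = b ≫ prod.lift (F.map p₁) (F.map p₂) := by
    apply prod.hom_ext
    · simpa only [Category.assoc, prod.lift_fst] using h1
    · simpa only [Category.assoc, prod.lift_snd] using h2
  rw [← hc, ← Category.assoc, ← Category.assoc] at h3
  have h4 := (cancel_mono (prodComparison F X X)).1 h3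
  exact (cancel_mono _).1 h4

/-- a functor preserving finite limits preserves equivalence relations -/
noncomputable def equivalenceRelationMap (F : C ⥤ D) [PreservesFiniteLimits F] {R X : C}
    {p₁ p₂ : R ⟶ X} [HasBinaryProduct X X] [HasBinaryProduct (F.obj X) (F.obj X)]
    (e : EquivalenceRelation p₁ p₂) : EquivalenceRelation (F.map p₁) (F.map p₂) :=
  haveI : JointlyMono₂ (F.map p₁) (F.map p₂) := jointlyMono₂_map F p₁ p₂ e.toJointlyMono₂
  { __ := e.toReflexiveRelation.map F
    __ := e.toSymmetricRelation.map F
    __ := e.toTransitiveRelation.map F }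

end general

variable (K : Precoverage Scheme.{u}) {S : Scheme.{u}}

/-- the kernel pair of the quotient map of an equivalence relation -/
theorem isKernelPair_quotπ {R U : Over S} (s t : R ⟶ U) [IsEquivalenceRelation s t] :
    IsKernelPair (QuotSh.quotπ K s t) (QuotSh.repMap K s) (QuotSh.repMap K t) := by
  obtain ⟨e⟩ := IsEquivalenceRelation.nonempty_equivalenceRelation (p₁ := s) (p₂ := t)
  let e' : EquivalenceRelation (QuotSh.repMap K s) (QuotSh.repMap K t) :=
    equivalenceRelationMap (repF K) e
  have hpb := QuotRel.isPullback_shQuotπ e'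
  have hpo := QuotRel.isPushout_shQuotπ e'
  let E : EffectiveEquivalenceRelation (QuotSh.repMap K s) (QuotSh.repMap K t) :=
    { toEquivalenceRelation := e'
      B := QuotRel.shQuot (QuotSh.repMap K s) (QuotSh.repMap K t)
      π := QuotRel.shQuotπ (QuotSh.repMap K s) (QuotSh.repMap K t)
      isKernelPair := hpb
      isPushout := hpo }
  have hcolim := E.isCoequalizer
  let c := (colimit.isColimit (parallelPair (QuotSh.repMap K s) (QuotSh.repMap K t))).coconePointUniqueUpToIso
    hcolim
  have hc : QuotSh.quotπ K s t ≫ c.hom = E.π :=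
    (colimit.isColimit (parallelPair (QuotSh.repMap K s) (QuotSh.repMap K t))).comp_coconePointUniqueUpToIso_hom
      hcolim WalkingParallelPair.one
  have hk : IsKernelPair (QuotSh.quotπ K s t ≫ c.hom) (QuotSh.repMap K s) (QuotSh.repMap K t) := by
    rw [hc]
    exact hpb
  exact IsKernelPair.cancel_right (QuotSh.quot_condition K s t) hk

theorem isKernelPair_repMap_of_isQuotient {R U M : Over S} {s t : R ⟶ U} [IsEquivalenceRelation s t]
    {q : U ⟶ M} (h : QuotSh.IsQuotient K s t q) :
    IsKernelPair (QuotSh.repMap K q) (QuotSh.repMap K s) (QuotSh.repMap K t) := by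
  obtain ⟨w, hw⟩ := h
  rw [← quotπ_quotDesc K q w]
  exact IsKernelPair.comp_of_mono (isKernelPair_quotπ K s t)

theorem isKernelPair_of_isQuotient [(QuotSh.J K S).Subcanonical] {R U M : Over S} {s t : R ⟶ U}
    [IsEquivalenceRelation s t] {q : U ⟶ M} (h : QuotSh.IsQuotient K s t q) :
    IsKernelPair q s t :=
  isPullback_of_repMap K h.1 (isKernelPair_repMap_of_isQuotient K h)

end Groth.Agent.Lib.Helper14.RepSh
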