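import Groth.Agent.Lib.Helper14.RepSh7
import Groth.Agent.Lib.Helper4.FppfFamDescent

set_option autoImplicit false

universe u

open CategoryTheory CategoryTheory.Limits AlgebraicGeometry Opposite

namespace Groth.Agent.Lib.Helper14.RepSh

variable {S : Scheme.{u}}

theorem fppf_hasIsos : Scheme.fppfPrecoverage.{u}.HasIsos where
  mem_coverings_of_isIso f _ := by
    unfold Scheme.fppfPrecoverage
    rw [Scheme.singleton_mem_precoverage_iff]
    exact ⟨f.surjective, inferInstance, inferInstance⟩

theorem fppf_hasPullbacks : Scheme.fppfPrecoverage.{u}.HasPullbacks := by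
  unfold Scheme.fppfPrecoverage; infer_instance

theorem etale_hasIsos : Scheme.etalePrecoverage.{u}.HasIsos where
  mem_coverings_of_isIso f _ := by
    unfold Scheme.etalePrecoverage
    rw [Scheme.singleton_mem_precoverage_iff]
    exact ⟨f.surjective, inferInstance⟩

theorem etale_hasPullbacks : Scheme.etalePrecoverage.{u}.HasPullbacks := by
  unfold Scheme.etalePrecoverage; infer_instance

theorem etale_isStableUnderComposition : Scheme.etalePrecoverage.{u}.IsStableUnderComposition := by
  unfold Scheme.etalePrecoverage; infer_instance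

theorem etale_isStableUnderBaseChange : Scheme.etalePrecoverage.{u}.IsStableUnderBaseChange := by
  unfold Scheme.etalePrecoverage; infer_instance

/-- an epimorphism `h_U ⟶ h_M` of fppf sheaves has sections over an fppf covering of `M` -/
theorem exists_presieve_of_epi_fppf {U M : Over S} (q : U ⟶ M)
    [Epi (QuotSh.repMap Scheme.fppfPrecoverage q)] :
    ∃ R' : Presieve M.left, R' ∈ Scheme.fppfPrecoverage M.left ∧
      ∀ ⦃V : Scheme.{u}⦄ (g : V ⟶ M.left), R' g → ∃ h : V ⟶ U.left, h ≫ q.left = g := by
  have hT := (epi_repMap_iff Scheme.fppfPrecoverage q).1 inferInstance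
  rw [GrothendieckTopology.mem_over_iff] at hT
  haveI : Scheme.fppfPrecoverage.{u}.HasIsos := fppf_hasIsos
  haveI : Scheme.fppfPrecoverage.{u}.HasPullbacks := fppf_hasPullbacks
  rw [Precoverage.mem_toGrothendieck_iff_of_isStableUnderComposition] at hT
  obtain ⟨R', hR', hle⟩ := hT
  refine ⟨R', hR', fun V g hg => ?_⟩
  have h1 := hle V g hg
  rw [Sieve.overEquiv_iff] at h1
  obtain ⟨h, hh⟩ := h1
  exact ⟨h.left, congrArg (fun k => k.left) hh⟩

/-- an epimorphism `h_U ⟶ h_M` of etale sheaves has sections over an etale covering of `M` -/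
theorem exists_presieve_of_epi_etale {U M : Over S} (q : U ⟶ M)
    [Epi (QuotSh.repMap Scheme.etalePrecoverage q)] :
    ∃ R' : Presieve M.left, R' ∈ Scheme.etalePrecoverage M.left ∧
      ∀ ⦃V : Scheme.{u}⦄ (g : V ⟶ M.left), R' g → ∃ h : V ⟶ U.left, h ≫ q.left = g := by
  have hT := (epi_repMap_iff Scheme.etalePrecoverage q).1 inferInstance
  rw [GrothendieckTopology.mem_over_iff] at hT
  haveI : Scheme.etalePrecoverage.{u}.HasIsos := etale_hasIsos
  haveI : Scheme.etalePrecoverage.{u}.HasPullbacks := etale_hasPullbacks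
  haveI : Scheme.etalePrecoverage.{u}.IsStableUnderComposition := etale_isStableUnderComposition
  haveI : Scheme.etalePrecoverage.{u}.IsStableUnderBaseChange := etale_isStableUnderBaseChange
  rw [Precoverage.mem_toGrothendieck_iff_of_isStableUnderComposition] at hT
  obtain ⟨R', hR', hle⟩ := hT
  refine ⟨R', hR', fun V g hg => ?_⟩
  have h1 := hle V g hg
  rw [Sieve.overEquiv_iff] at h1
  obtain ⟨h, hh⟩ := h1
  exact ⟨h.left, congrArg (fun k => k.left) hh⟩

/-- the base change of `q` along a map `g` which lifts through `q` is a base change of `s`, when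
`(t, s)` is a kernel pair of `q` -/
theorem exists_isPullback_of_lift {R U M V : Scheme.{u}} {s t : R ⟶ U} {q : U ⟶ M}
    (hk : IsPullback t s q q) (g : V ⟶ M) (h : V ⟶ U) (hg : h ≫ q = g)
    (P : MorphismProperty Scheme.{u}) [P.IsStableUnderBaseChange] (hs : P s) :
    ∃ (W : Scheme.{u}) (p₁ : W ⟶ U) (p₂ : W ⟶ V), IsPullback p₁ p₂ q g ∧ P p₂ := by
  refine ⟨pullback s h, pullback.fst s h ≫ t, pullback.snd s h, ?_, P.pullback_snd _ _ hs⟩
  have h1 := (IsPullback.of_hasPullback s h).paste_horiz hk
  rw [hg] at h1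
  exact h1

/-- descent of properties of `q` from those of `s`, fppf case -/
theorem prop_of_epi_fppf {R U M : Over S} {s t : R ⟶ U} {q : U ⟶ M} (hk : IsKernelPair q s t)
    [Epi (QuotSh.repMap Scheme.fppfPrecoverage q)]
    (P : MorphismProperty Scheme.{u}) [P.IsStableUnderBaseChange] [IsZariskiLocalAtTarget P]
    [P.DescendsAlong (@Surjective ⊓ @Flat ⊓ @LocallyOfFinitePresentation)]
    (hs : P s.left) : P q.left := by
  obtain ⟨R', hR', hlift⟩ := exists_presieve_of_epi_fppf q
  have hk' : IsPullback t.left s.left q.left q.left := (hk.map (Over.forget S)).flip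
  refine Groth.Agent.Lib.helper4.FppfFamDescent.of_fppf_presieve P q.left R' hR' ?_
  intro V g hg
  obtain ⟨h, hh⟩ := hlift g hg
  exact exists_isPullback_of_lift hk' g h hh P hs

end Groth.Agent.Lib.Helper14.RepSh
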