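import Groth.Agent.Lib.Helper14.RepSh8

set_option autoImplicit false

universe u

open CategoryTheory CategoryTheory.Limits AlgebraicGeometry Opposite

namespace Groth.Agent.Lib.Helper14.RepSh

variable {S : Scheme.{u}}

/-- descent of properties of `q` from those of `s`, etale case -/
theorem prop_of_epi_etale {R U M : Over S} {s t : R ⟶ U} {q : U ⟶ M} (hk : IsKernelPair q s t)
    [Epi (QuotSh.repMap Scheme.etalePrecoverage q)]
    (P : MorphismProperty Scheme.{u}) [P.IsStableUnderBaseChange] [IsZariskiLocalAtTarget P]
    [P.DescendsAlong (@Surjective ⊓ @Flat ⊓ @LocallyOfFinitePresentation)]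
    (hs : P s.left) : P q.left := by
  obtain ⟨R', hR', hlift⟩ := exists_presieve_of_epi_etale q
  have hk' : IsPullback t.left s.left q.left q.left := (hk.map (Over.forget S)).flip
  refine Groth.Agent.Lib.helper4.FppfFamDescent.of_fppf_presieve P q.left R'
    (BigSite.etalePrecoverage_le_fppfPrecoverage _ hR') ?_
  intro V g hg
  obtain ⟨h, hh⟩ := hlift g hg
  exact exists_isPullback_of_lift hk' g h hh P hs

end Groth.Agent.Lib.Helper14.RepSh
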