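import Mathlib
import Groth.Agent.Lib.Helper14.Kunneth

/-!
# helper14: morphisms `X × Y ⟶ Z` to an affine `Z` factor through `Y` when `Γ(X) = k`
-/

set_option autoImplicit false
universe u
open CategoryTheory MonoidalCategory CartesianMonoidalCategory MonObj GrpObj AlgebraicGeometry
  CategoryTheory.Limits

namespace Groth.Agent.Lib.Helper14.RigidAff

open Groth.Agent.Lib.Helper14.Kunneth

variable {k : Type u} [Field k]

theorem eq_snd_comp {X Y Z : Over (Spec (CommRingCat.of k))} [IsAffine Z.left]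
    [CompactSpace X.left] [QuasiSeparatedSpace X.left]
    [CompactSpace Y.left] [QuasiSeparatedSpace Y.left] [IsIso X.hom.appTop]
    (x₀ : 𝟙_ (Over (Spec (CommRingCat.of k))) ⟶ X) (h : X ⊗ Y ⟶ Z) :
    h = snd X Y ≫ lift (toUnit Y ≫ x₀) (𝟙 Y) ≫ h := by
  haveI := isIso_snd_appTop X Y
  set s : Y ⟶ X ⊗ Y := lift (toUnit Y ≫ x₀) (𝟙 Y) with hs
  have h1 : s ≫ snd X Y = 𝟙 Y := lift_snd _ _
  have h2 : (snd X Y).left.appTop ≫ s.left.appTop = 𝟙 _ := by
    rw [← Scheme.Hom.comp_appTop, ← Over.comp_left, h1]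
    simp
  have h3 : s.left.appTop ≫ (snd X Y).left.appTop = 𝟙 _ := by
    have : s.left.appTop = inv (snd X Y).left.appTop := by
      rw [← cancel_epi (snd X Y).left.appTop, h2, IsIso.hom_inv_id]
    rw [this, IsIso.inv_hom_id]
  apply Over.OverMorphism.ext
  apply ext_of_isAffine
  rw [Over.comp_left, Over.comp_left, Scheme.Hom.comp_appTop, Scheme.Hom.comp_appTop,
    Category.assoc, h3, Category.comp_id]

end Groth.Agent.Lib.Helper14.RigidAff
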