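import Groth.Agent.Lib.Helper14.AffDense

/-!
# helper14: density of the infinitesimal neighbourhoods of a point in `X ×ₖ Y`, `Y` integral

`eq_of_agree_infinitesimal`: two `k`-morphisms `a b : X ×ₖ Y ⟶ Z` (`Z` separated over `k`,
`Y` integral and locally Noetherian) that agree on `X ×ₖ Spec (𝒪_{Y,y} ⧸ 𝔪ⁿ)` for all `n` are equal.
-/

set_option autoImplicit false
universe u
open CategoryTheory CategoryTheory.Limits AlgebraicGeometry TensorProduct

namespace Groth.Agent.Lib.Helper14.RigidDense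
open Groth.Agent.Lib.Helper14.AffDense

variable {k : Type u} [Field k] {Y : Scheme.{u}} (fY : Y ⟶ Spec (.of k))

/-- The `k`-algebra structure on `D` induced by `w : Spec D ⟶ Y`. -/
noncomputable abbrev algOfMap {D : CommRingCat.{u}} (w : Spec D ⟶ Y) : Algebra k D :=
  (Spec.preimage (w ≫ fY)).hom.toAlgebra

theorem algOfMap_spec {D : CommRingCat.{u}} (w : Spec D ⟶ Y) :
    w ≫ fY = Spec.map (CommRingCat.ofHom (@algebraMap k D _ _ (algOfMap fY w))) := by
  have : @algebraMap k D _ _ (algOfMap fY w) = (Spec.preimage (w ≫ fY)).hom := rfl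
  rw [this, CommRingCat.ofHom_hom, Spec.map_preimage]

theorem commutes_of_compat {D D' : Type u} [CommRing D] [CommRing D'] [Algebra k D] [Algebra k D']
    (w : Spec (.of D) ⟶ Y) (w' : Spec (.of D') ⟶ Y)
    (hw : w ≫ fY = Spec.map (CommRingCat.ofHom (algebraMap k D)))
    (hw' : w' ≫ fY = Spec.map (CommRingCat.ofHom (algebraMap k D')))
    (ψ : D →+* D') (e : w' = Spec.map (CommRingCat.ofHom ψ) ≫ w) (x : k) :
    ψ (algebraMap k D x) = algebraMap k D' x := by
  have h1 : Spec.map (CommRingCat.ofHom (algebraMap k D')) =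
      Spec.map (CommRingCat.ofHom (algebraMap k D) ≫ CommRingCat.ofHom ψ) := by
    rw [Spec.map_comp, ← hw, ← hw', e, Category.assoc]
  have h2 := Spec.map_injective h1
  exact (congrArg (fun t => t.hom x) h2).symm

variable {fY}
variable {X P Z : Scheme.{u}} {fX : X ⟶ Spec (.of k)} {p₁ : P ⟶ X} {p₂ : P ⟶ Y}
  (hP : IsPullback p₁ p₂ fX fY) (fZ : Z ⟶ Spec (.of k)) [IsSeparated fZ] (a b : P ⟶ Z)

theorem agree_of_comp {B D D' : Type u} [CommRing B] [CommRing D] [CommRing D'] [Algebra k B]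
    [Algebra k D] [Algebra k D'] (v : Spec (.of B) ⟶ X) (w : Spec (.of D) ⟶ Y)
    (hv : v ≫ fX = Spec.map (CommRingCat.ofHom (algebraMap k B)))
    (hw : w ≫ fY = Spec.map (CommRingCat.ofHom (algebraMap k D)))
    (ψ : D →+* D') (w' : Spec (.of D') ⟶ Y)
    (hw' : w' ≫ fY = Spec.map (CommRingCat.ofHom (algebraMap k D')))
    (e : w' = Spec.map (CommRingCat.ofHom ψ) ≫ w)
    (h : chartMap hP B D v w hv hw ≫ a = chartMap hP B D v w hv hw ≫ b) :
    chartMap hP B D' v w' hv hw' ≫ a = chartMap hP B D' v w' hv hw' ≫ b := by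
  let ψ' : D →ₐ[k] D' := { ψ with commutes' := commutes_of_compat fY w w' hw hw' ψ e }
  have := chartMap_comp hP v w hv hw ψ' w' hw' e
  rw [this, Category.assoc, Category.assoc, h]

theorem agree_of_injective (hab : a ≫ fZ = b ≫ fZ) {B D D' : Type u} [CommRing B] [CommRing D]
    [CommRing D'] [Algebra k B]
    [Algebra k D] [Algebra k D'] (v : Spec (.of B) ⟶ X) (w : Spec (.of D) ⟶ Y)
    (hv : v ≫ fX = Spec.map (CommRingCat.ofHom (algebraMap k B)))
    (hw : w ≫ fY = Spec.map (CommRingCat.ofHom (algebraMap k D)))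
    (ψ : D →+* D') (hψ : Function.Injective ψ) (w' : Spec (.of D') ⟶ Y)
    (hw' : w' ≫ fY = Spec.map (CommRingCat.ofHom (algebraMap k D')))
    (e : w' = Spec.map (CommRingCat.ofHom ψ) ≫ w)
    (h : chartMap hP B D' v w' hv hw' ≫ a = chartMap hP B D' v w' hv hw' ≫ b) :
    chartMap hP B D v w hv hw ≫ a = chartMap hP B D v w hv hw ≫ b := by
  let ψ' : D →ₐ[k] D' := { ψ with commutes' := commutes_of_compat fY w w' hw hw' ψ e }
  have h1 := chartMap_comp hP v w hv hw ψ' w' hw' e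
  apply chart_transfer hP fZ a b hab v w hv hw ψ' hψ
  rw [← Category.assoc, ← Category.assoc, ← h1]
  exact h

/-- Agreement on the chart of the local ring at `y` from agreement on all infinitesimal
neighbourhoods. -/
theorem agree_stalk [IsLocallyNoetherian Y] (hab : a ≫ fZ = b ≫ fZ) (y : Y)
    (H : ∀ (n : ℕ) (W : Scheme.{u}) (p : W ⟶ X)
      (q : W ⟶ Spec (.of (Y.presheaf.stalk y ⧸
        (IsLocalRing.maximalIdeal (Y.presheaf.stalk y)) ^ n)))
      (hpq : p ≫ fX = (q ≫ Spec.map (CommRingCat.ofHom (Ideal.Quotient.mk _)) ≫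
        Y.fromSpecStalk y) ≫ fY),
      hP.lift p (q ≫ Spec.map (CommRingCat.ofHom (Ideal.Quotient.mk _)) ≫ Y.fromSpecStalk y) hpq ≫ a
        = hP.lift p (q ≫ Spec.map (CommRingCat.ofHom (Ideal.Quotient.mk _)) ≫
          Y.fromSpecStalk y) hpq ≫ b)
    (B : Type u) [CommRing B] [Algebra k B] (v : Spec (.of B) ⟶ X)
    (hv : v ≫ fX = Spec.map (CommRingCat.ofHom (algebraMap k B))) :
    letI := algOfMap fY (Y.fromSpecStalk y)
    chartMap hP B (Y.presheaf.stalk y) v (Y.fromSpecStalk y) hv (algOfMap_spec fY _) ≫ a =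
      chartMap hP B (Y.presheaf.stalk y) v (Y.fromSpecStalk y) hv (algOfMap_spec fY _) ≫ b := by
  letI := algOfMap fY (Y.fromSpecStalk y)
  apply chart_krull hP fZ a b hab v _ hv _ (IsLocalRing.maximalIdeal (Y.presheaf.stalk y))
    (Ideal.iInf_pow_eq_bot_of_isLocalRing _ Ideal.IsPrime.ne_top')
  intro n
  have hc : (Spec.map (CommRingCat.ofHom (Algebra.TensorProduct.includeLeftRingHom :
        B →+* B ⊗[k] (Y.presheaf.stalk y ⧸ (IsLocalRing.maximalIdeal (Y.presheaf.stalk y)) ^ n)))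
        ≫ v) ≫ fX =
      (Spec.map (CommRingCat.ofHom (Algebra.TensorProduct.includeRight :
        (Y.presheaf.stalk y ⧸ (IsLocalRing.maximalIdeal (Y.presheaf.stalk y)) ^ n) →ₐ[k]
          B ⊗[k] (Y.presheaf.stalk y ⧸ (IsLocalRing.maximalIdeal (Y.presheaf.stalk y)) ^ n)).toRingHom)
        ≫ Spec.map (CommRingCat.ofHom (Ideal.Quotient.mk _)) ≫ Y.fromSpecStalk y) ≫ fY := by
    rw [Category.assoc, Category.assoc, Category.assoc, hv, algOfMap_spec fY (Y.fromSpecStalk y),
      ← Spec.map_comp, ← Spec.map_comp, ← Spec.map_comp]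
    congr 1
    ext x
    simp only [CommRingCat.hom_comp, CommRingCat.hom_ofHom, RingHom.coe_comp,
      Function.comp_apply, Algebra.TensorProduct.includeLeftRingHom_apply, AlgHom.toRingHom_eq_coe,
      RingHom.coe_coe, Algebra.TensorProduct.includeRight_apply]
    rw [Algebra.algebraMap_eq_smul_one, Algebra.algebraMap_eq_smul_one, TensorProduct.smul_tmul]
    rfl
  have := H n _ _ _ hc
  have e : Spec.map (CommRingCat.ofHom (Algebra.TensorProduct.map (AlgHom.id k B)
          (Ideal.Quotient.mkₐ k ((IsLocalRing.maximalIdeal (Y.presheaf.stalk y)) ^ n))).toRingHom) ≫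
        chartMap hP B (Y.presheaf.stalk y) v (Y.fromSpecStalk y) hv (algOfMap_spec fY _) =
      hP.lift _ _ hc := by
    apply hP.hom_ext
    · rw [Category.assoc, chartMap_fst, hP.lift_fst, ← Spec.map_comp_assoc]
      congr 2
    · rw [Category.assoc, chartMap_snd, hP.lift_snd, ← Spec.map_comp_assoc, ← Spec.map_comp_assoc]
      congr 2
  rw [← Category.assoc, ← Category.assoc, e]
  exact this

/-- Agreement on the chart of an affine open containing `y`. -/
theorem agree_affine_mem [IsIntegral Y] [IsLocallyNoetherian Y] (hab : a ≫ fZ = b ≫ fZ) (y : Y)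
    (H : ∀ (n : ℕ) (W : Scheme.{u}) (p : W ⟶ X)
      (q : W ⟶ Spec (.of (Y.presheaf.stalk y ⧸
        (IsLocalRing.maximalIdeal (Y.presheaf.stalk y)) ^ n)))
      (hpq : p ≫ fX = (q ≫ Spec.map (CommRingCat.ofHom (Ideal.Quotient.mk _)) ≫
        Y.fromSpecStalk y) ≫ fY),
      hP.lift p (q ≫ Spec.map (CommRingCat.ofHom (Ideal.Quotient.mk _)) ≫ Y.fromSpecStalk y) hpq ≫ a
        = hP.lift p (q ≫ Spec.map (CommRingCat.ofHom (Ideal.Quotient.mk _)) ≫
          Y.fromSpecStalk y) hpq ≫ b)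
    (B : Type u) [CommRing B] [Algebra k B] (v : Spec (.of B) ⟶ X)
    (hv : v ≫ fX = Spec.map (CommRingCat.ofHom (algebraMap k B)))
    (U : Y.Opens) (hU : IsAffineOpen U) (hy : y ∈ U) :
    letI := algOfMap fY hU.fromSpec
    chartMap hP B Γ(Y, U) v hU.fromSpec hv (algOfMap_spec fY _) ≫ a =
      chartMap hP B Γ(Y, U) v hU.fromSpec hv (algOfMap_spec fY _) ≫ b := by
  letI := algOfMap fY hU.fromSpec
  letI := algOfMap fY (Y.fromSpecStalk y)
  have e : Y.fromSpecStalk y =
      Spec.map (CommRingCat.ofHom (Y.presheaf.germ U y hy).hom) ≫ hU.fromSpec := by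
    rw [CommRingCat.ofHom_hom]; exact (hU.fromSpecStalk_eq_fromSpecStalk hy).symm
  exact agree_of_injective hP fZ a b hab v hU.fromSpec hv (algOfMap_spec fY _)
    (Y.presheaf.germ U y hy).hom (germ_injective_of_isIntegral Y y hy) (Y.fromSpecStalk y)
    (algOfMap_spec fY _) e (agree_stalk hP fZ a b hab y H B v hv)

/-- Agreement on the chart of any nonempty affine open. -/
theorem agree_affine [IsIntegral Y] [IsLocallyNoetherian Y] (hab : a ≫ fZ = b ≫ fZ) (y : Y)
    (H : ∀ (n : ℕ) (W : Scheme.{u}) (p : W ⟶ X)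
      (q : W ⟶ Spec (.of (Y.presheaf.stalk y ⧸
        (IsLocalRing.maximalIdeal (Y.presheaf.stalk y)) ^ n)))
      (hpq : p ≫ fX = (q ≫ Spec.map (CommRingCat.ofHom (Ideal.Quotient.mk _)) ≫
        Y.fromSpecStalk y) ≫ fY),
      hP.lift p (q ≫ Spec.map (CommRingCat.ofHom (Ideal.Quotient.mk _)) ≫ Y.fromSpecStalk y) hpq ≫ a
        = hP.lift p (q ≫ Spec.map (CommRingCat.ofHom (Ideal.Quotient.mk _)) ≫
          Y.fromSpecStalk y) hpq ≫ b)
    (B : Type u) [CommRing B] [Algebra k B] (v : Spec (.of B) ⟶ X)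
    (hv : v ≫ fX = Spec.map (CommRingCat.ofHom (algebraMap k B)))
    (U : Y.Opens) (hU : IsAffineOpen U) (hne : (U : Set Y).Nonempty) :
    letI := algOfMap fY hU.fromSpec
    chartMap hP B Γ(Y, U) v hU.fromSpec hv (algOfMap_spec fY _) ≫ a =
      chartMap hP B Γ(Y, U) v hU.fromSpec hv (algOfMap_spec fY _) ≫ b := by
  obtain ⟨U', hU', hyU', -⟩ := exists_isAffineOpen_mem_and_subset (x := y) (U := ⊤) trivial
  have hne' : ((U ⊓ U' : Y.Opens) : Set Y).Nonempty :=
    nonempty_preirreducible_inter U.2 U'.2 hne ⟨y, hyU'⟩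
  obtain ⟨z, hz⟩ := hne'
  obtain ⟨U₃, hU₃, hzU₃, hU₃le⟩ := exists_isAffineOpen_mem_and_subset (x := z) (U := U ⊓ U') hz
  have h3U : U₃ ≤ U := fun t ht => (hU₃le ht).1
  have h3U' : U₃ ≤ U' := fun t ht => (hU₃le ht).2
  letI := algOfMap fY hU.fromSpec
  letI := algOfMap fY hU'.fromSpec
  letI := algOfMap fY hU₃.fromSpec
  have hA' := agree_affine_mem hP fZ a b hab y H B v hv U' hU' hyU'
  have e1 : hU₃.fromSpec =
      Spec.map (CommRingCat.ofHom (Y.presheaf.map (homOfLE h3U').op).hom) ≫ hU'.fromSpec := by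
    rw [CommRingCat.ofHom_hom]; exact (hU'.map_fromSpec hU₃ (homOfLE h3U').op).symm
  have hA3 := agree_of_comp hP a b v hU'.fromSpec hv (algOfMap_spec fY _)
    (Y.presheaf.map (homOfLE h3U').op).hom hU₃.fromSpec (algOfMap_spec fY _) e1 hA'
  have e2 : hU₃.fromSpec =
      Spec.map (CommRingCat.ofHom (Y.presheaf.map (homOfLE h3U).op).hom) ≫ hU.fromSpec := by
    rw [CommRingCat.ofHom_hom]; exact (hU.map_fromSpec hU₃ (homOfLE h3U).op).symm
  haveI : Nonempty U₃ := ⟨⟨z, hzU₃⟩⟩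
  exact agree_of_injective hP fZ a b hab v hU.fromSpec hv (algOfMap_spec fY _)
    (Y.presheaf.map (homOfLE h3U).op).hom (map_injective_of_isIntegral Y (homOfLE h3U))
    hU₃.fromSpec (algOfMap_spec fY _) e2 hA3

/-- The affine open cover of `Y` by its nonempty affine opens (charts `hU.fromSpec`). -/
noncomputable def nonemptyAffineCover (Y : Scheme.{u}) : Y.AffineOpenCover where
  I₀ := {U : Y.Opens // IsAffineOpen U ∧ (U : Set Y).Nonempty}
  X U := Γ(Y, U.1)
  f U := U.2.1.fromSpec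
  idx z := ⟨(exists_isAffineOpen_mem_and_subset (x := z) (U := ⊤) trivial).choose,
    (exists_isAffineOpen_mem_and_subset (x := z) (U := ⊤) trivial).choose_spec.1,
    ⟨z, (exists_isAffineOpen_mem_and_subset (x := z) (U := ⊤) trivial).choose_spec.2.1⟩⟩
  covers z := by
    rw [IsAffineOpen.range_fromSpec]
    exact (exists_isAffineOpen_mem_and_subset (x := z) (U := ⊤) trivial).choose_spec.2.1
  map_prop U := inferInstance


theorem piece_eq [IsIntegral Y] [IsLocallyNoetherian Y] (hab : a ≫ fZ = b ≫ fZ)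
    (y : Y)
    (H : ∀ (n : ℕ) (W : Scheme.{u}) (p : W ⟶ X)
      (q : W ⟶ Spec (.of (Y.presheaf.stalk y ⧸
        (IsLocalRing.maximalIdeal (Y.presheaf.stalk y)) ^ n)))
      (hpq : p ≫ fX = (q ≫ Spec.map (CommRingCat.ofHom (Ideal.Quotient.mk _)) ≫
        Y.fromSpecStalk y) ≫ fY),
      hP.lift p (q ≫ Spec.map (CommRingCat.ofHom (Ideal.Quotient.mk _)) ≫ Y.fromSpecStalk y) hpq ≫ a
        = hP.lift p (q ≫ Spec.map (CommRingCat.ofHom (Ideal.Quotient.mk _)) ≫
          Y.fromSpecStalk y) hpq ≫ b)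
    (B : CommRingCat.{u}) (v : Spec B ⟶ X) (U : Y.Opens) (hU : IsAffineOpen U)
    (hne : (U : Set Y).Nonempty) :
    pullback.map (v ≫ fX) (hU.fromSpec ≫ fY) fX fY v hU.fromSpec (𝟙 _)
        (Category.comp_id _) (Category.comp_id _) ≫ hP.isoPullback.inv ≫ a =
      pullback.map (v ≫ fX) (hU.fromSpec ≫ fY) fX fY v hU.fromSpec (𝟙 _)
        (Category.comp_id _) (Category.comp_id _) ≫ hP.isoPullback.inv ≫ b := by
  letI := algOfMap fX v
  letI := algOfMap fY hU.fromSpec
  have hv := algOfMap_spec fX v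
  have hw := algOfMap_spec fY hU.fromSpec
  have hA := agree_affine hP fZ a b hab y H B v hv U hU hne
  let θ : Spec (.of (B ⊗[k] Γ(Y, U))) ⟶ pullback (v ≫ fX) (hU.fromSpec ≫ fY) :=
    (pullbackSpecIso k B Γ(Y, U)).inv ≫ (pullback.congrHom hv hw).inv
  have hθ : θ ≫ pullback.map (v ≫ fX) (hU.fromSpec ≫ fY) fX fY v hU.fromSpec (𝟙 _)
        (Category.comp_id _) (Category.comp_id _) ≫ hP.isoPullback.inv =
      chartMap hP B Γ(Y, U) v hU.fromSpec hv hw := by
    apply hP.hom_ext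
    · simp only [θ, Category.assoc, IsPullback.isoPullback_inv_fst, chartMap_fst,
        pullback.lift_fst, pullback.congrHom_inv, Category.comp_id,
        pullback.lift_fst_assoc, pullbackSpecIso_inv_fst_assoc]
    · simp only [θ, Category.assoc, IsPullback.isoPullback_inv_snd, chartMap_snd,
        pullback.lift_snd, pullback.congrHom_inv, Category.comp_id,
        pullback.lift_snd_assoc, pullbackSpecIso_inv_snd_assoc]
      rfl
  have hθ' : ∀ c : P ⟶ Z, θ ≫ pullback.map (v ≫ fX) (hU.fromSpec ≫ fY) fX fY v hU.fromSpec (𝟙 _)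
        (Category.comp_id _) (Category.comp_id _) ≫ hP.isoPullback.inv ≫ c =
      chartMap hP B Γ(Y, U) v hU.fromSpec hv hw ≫ c := by
    intro c
    rw [← hθ]
    simp only [Category.assoc]
  rw [← cancel_epi θ, hθ' a, hθ' b]
  exact hA

/-- Two `k`-morphisms `X ×ₖ Y ⟶ Z` agreeing on all infinitesimal neighbourhoods of `X × {y}` are
equal, for `Y` integral locally Noetherian and `Z` separated over `k`. -/
theorem eq_of_agree_infinitesimal [IsIntegral Y] [IsLocallyNoetherian Y] (hab : a ≫ fZ = b ≫ fZ)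
    (y : Y)
    (H : ∀ (n : ℕ) (W : Scheme.{u}) (p : W ⟶ X)
      (q : W ⟶ Spec (.of (Y.presheaf.stalk y ⧸
        (IsLocalRing.maximalIdeal (Y.presheaf.stalk y)) ^ n)))
      (hpq : p ≫ fX = (q ≫ Spec.map (CommRingCat.ofHom (Ideal.Quotient.mk _)) ≫
        Y.fromSpecStalk y) ≫ fY),
      hP.lift p (q ≫ Spec.map (CommRingCat.ofHom (Ideal.Quotient.mk _)) ≫ Y.fromSpecStalk y) hpq ≫ a
        = hP.lift p (q ≫ Spec.map (CommRingCat.ofHom (Ideal.Quotient.mk _)) ≫
          Y.fromSpecStalk y) hpq ≫ b) : a = b := by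
  rw [← cancel_epi hP.isoPullback.inv]
  let 𝒲 := Scheme.Pullback.openCoverOfLeftRight X.affineOpenCover.openCover
    (nonemptyAffineCover Y).openCover fX fY
  apply 𝒲.hom_ext
  rintro ⟨i, U⟩
  exact piece_eq hP fZ a b hab y H (X.affineOpenCover.X i) (X.affineOpenCover.f i) U.1 U.2.1 U.2.2

end Groth.Agent.Lib.Helper14.RigidDense
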