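import Mathlib
import Groth.Agent.Lib.Helper14.Rigid5
import Groth.Agent.Lib.Helper14.Rigid6

/-!
# helper14: morphisms from a product `X ×_S Y` to a separated group scheme factor (rigidity), variant
-/

set_option autoImplicit false
universe u
open CategoryTheory MonoidalCategory CartesianMonoidalCategory MonObj GrpObj AlgebraicGeometry Topology

namespace Groth.Agent.Lib.Helper14.Rigid

theorem factor_of_product' (S : Scheme.{u}) [IsLocallyNoetherian S]
    (X Y G : Over S) [GrpObj G] [IsSeparated G.hom] [IsProper X.hom] [Flat X.hom]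
    (h0 : ∀ s : S, Function.Bijective (Limits.pullback.snd X.hom (S.fromSpecResidueField s)).appTop)
    [IsLocallyNoetherian Y.left] (e : 𝟙_ (Over S) ⟶ Y)
    (hfacAll : ∀ (s : S) (y : Y.left), y = e.left.base s →
      Y.left.fromSpecResidueField y = Y.left.fromSpecResidueField y ≫ Y.hom ≫ e.left)
    (hconn : ∀ y : Y.left, ∃ C : Set Y.left, _root_.IsPreconnected C ∧ y ∈ C ∧
      e.left.base (Y.hom.base y) ∈ C)
    (f : X ⊗ Y ⟶ G) :
    ∃ (g : X ⟶ G) (h : Y ⟶ G), f = (fst X Y ≫ g) * (snd X Y ≫ h) := by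
  classical
  have hfib : ∀ s : S, Function.Bijective (algebraMap (S.residueField s) Γ(X.hom.fiber s, ⊤)) := by
    intro s
    show Function.Bijective ((X.hom.fiberToSpecResidueField s).appTop.hom.comp
      (Scheme.ΓSpecIso (S.residueField s)).inv.hom)
    rw [RingHom.coe_comp]
    exact (h0 s).comp
      (ConcreteCategory.bijective_of_isIso (Scheme.ΓSpecIso (S.residueField s)).inv)
  have h0' : ∀ y : S, Module.finrank (S.residueField y) Γ(X.hom.fiber y, ⊤) = 1 := fun y =>
    Algebra.finrank_eq_one_iff_bijective_algebraMap.mpr (hfib y)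
  have hsurjX : Surjective X.hom :=
    ⟨fun y => Groth.Agent.Lib.Helper14.UnivPush.exists_preimage_of_finrank X.hom y (h0' y)⟩
  -- the base change to 
  let p' : Limits.pullback X.hom Y.hom ⟶ Y.left := Limits.pullback.snd X.hom Y.hom
  let q' : Limits.pullback G.hom Y.hom ⟶ Y.left := Limits.pullback.snd G.hom Y.hom
  have hp' : ∀ V : Y.left.Opens, IsIso (p'.app V) := fun V =>
    Groth.Agent.Lib.Helper14.UnivPush.isIso_app X.hom h0' Y.hom V
  have hpc : Limits.pullback.fst X.hom Y.hom ≫ X.hom = p' ≫ Y.hom := Limits.pullback.condition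
  -- the morphisms
  let g : X ⟶ G := lift (𝟙 X) (toUnit X ≫ e) ≫ f
  let φ : X ⊗ Y ⟶ G := (fst X Y ≫ g)⁻¹ * f
  have hφw : φ.left ≫ G.hom = p' ≫ Y.hom := by
    have := Over.w φ
    rw [Over.tensorObj_hom] at this
    exact this.trans hpc
  let f' : Limits.pullback X.hom Y.hom ⟶ Limits.pullback G.hom Y.hom :=
    Limits.pullback.lift φ.left p' hφw
  have hf' : f' ≫ q' = p' := Limits.pullback.lift_snd _ _ _
  -- the base point
  have he : e.left ≫ Y.hom = 𝟙 S := Over.w e
  have hηw : η[G].left ≫ G.hom = 𝟙 S := Over.w η[G]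
  have hmemAll : ∀ s : S, e.left.base s ∈ Groth.Agent.Lib.Helper14.Rigid.TT p' f' := by
    intro s
    let y₀ : Y.left := e.left.base s
    have hfac : Y.left.fromSpecResidueField y₀ =
        Y.left.fromSpecResidueField y₀ ≫ Y.hom ≫ e.left := hfacAll s y₀ rfl
    have hcond : p'.fiberι y₀ ≫ p' = p'.fiberToSpecResidueField y₀ ≫ Y.left.fromSpecResidueField y₀ :=
      Limits.pullback.condition
    let Fib : Over S := Over.mk (p'.fiberι y₀ ≫ (X ⊗ Y).hom)
    let i : Fib ⟶ X ⊗ Y := Over.homMk (p'.fiberι y₀) rfl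
    have hi1 : i ≫ snd X Y = toUnit Fib ≫ e := by
      ext
      show p'.fiberι y₀ ≫ p' = (p'.fiberι y₀ ≫ (X ⊗ Y).hom) ≫ e.left
      calc p'.fiberι y₀ ≫ p'
          = p'.fiberToSpecResidueField y₀ ≫ Y.left.fromSpecResidueField y₀ := hcond
        _ = p'.fiberToSpecResidueField y₀ ≫ Y.left.fromSpecResidueField y₀ ≫ Y.hom ≫ e.left := by
            rw [← hfac]
        _ = (p'.fiberι y₀ ≫ p') ≫ Y.hom ≫ e.left := by rw [hcond, Category.assoc]
        _ = (p'.fiberι y₀ ≫ (X ⊗ Y).hom) ≫ e.left := by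
            rw [Over.tensorObj_hom, hpc]
            simp only [Category.assoc]
    have hi2 : i ≫ f = i ≫ fst X Y ≫ g := by
      have : i = i ≫ fst X Y ≫ lift (𝟙 X) (toUnit X ≫ e) := by
        apply CartesianMonoidalCategory.hom_ext
        · simp
        · rw [hi1]
          simp only [Category.assoc, lift_snd]
          rw [← Category.assoc, ← Category.assoc]
          congr 1
      show i ≫ f = i ≫ fst X Y ≫ lift (𝟙 X) (toUnit X ≫ e) ≫ f
      rw [← Category.assoc (fst X Y), ← Category.assoc i, ← this]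
    have hi3 : i ≫ φ = 1 := by
      show i ≫ ((fst X Y ≫ g)⁻¹ * f) = 1
      rw [comp_mul, comp_inv, hi2, inv_mul_cancel]
    have hi4 : p'.fiberι y₀ ≫ φ.left =
        p'.fiberToSpecResidueField y₀ ≫ Y.left.fromSpecResidueField y₀ ≫ Y.hom ≫ η[G].left := by
      have h3 := congrArg CommaMorphism.left hi3
      rw [Hom.one_def] at h3
      refine h3.trans ?_
      show (p'.fiberι y₀ ≫ (X ⊗ Y).hom) ≫ η[G].left = _
      rw [Over.tensorObj_hom, hpc, ← Category.assoc (p'.fiberι y₀), hcond]
      simp only [Category.assoc]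
    let ylift : Spec (Y.left.residueField y₀) ⟶ Limits.pullback G.hom Y.hom :=
      Limits.pullback.lift (Y.left.fromSpecResidueField y₀ ≫ Y.hom ≫ η[G].left)
        (Y.left.fromSpecResidueField y₀) (by
          simp only [Category.assoc]
          rw [hηw, Category.comp_id])
    exact
      Groth.Agent.Lib.Helper14.Rigid.mem_TT_of_fibre_const p' f' y₀ ylift (by
        apply Limits.pullback.hom_ext
        · simp only [Category.assoc, f', ylift, Limits.pullback.lift_fst]
          exact hi4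
        · simp only [Category.assoc, f', ylift, Limits.pullback.lift_snd]
          exact hcond)
  have hclopen : IsClopen (Groth.Agent.Lib.Helper14.Rigid.TT p' f') :=
    Groth.Agent.Lib.Helper14.Rigid.isClopen_TT p' q' f' hf' hp'
  have hTT : Groth.Agent.Lib.Helper14.Rigid.TT p' f' = Set.univ := by
    rw [Set.eq_univ_iff_forall]
    intro y
    obtain ⟨C, hC, hyC, heC⟩ := hconn y
    exact hC.subset_isClopen hclopen ⟨_, heC, hmemAll _⟩ hyC
  have hsurj' : Surjective p' := inferInstance
  obtain ⟨t, ht1, ht2⟩ := Groth.Agent.Lib.Helper14.Rigid.rigidity_of_TT_eq_univ p' q' f' hf' hp' hTT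
  have htw : (t ≫ Limits.pullback.fst G.hom Y.hom) ≫ G.hom = Y.hom := by
    rw [Category.assoc, Limits.pullback.condition, ← Category.assoc]
    show (t ≫ q') ≫ Y.hom = Y.hom
    rw [ht1, Category.id_comp]
  refine ⟨g, Over.homMk (t ≫ Limits.pullback.fst G.hom Y.hom) htw, ?_⟩
  have hφ : φ = snd X Y ≫ Over.homMk (t ≫ Limits.pullback.fst G.hom Y.hom) htw := by
    ext
    show φ.left = p' ≫ t ≫ Limits.pullback.fst G.hom Y.hom
    rw [← Category.assoc, ← ht2]
    exact (Limits.pullback.lift_fst _ _ _).symm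
  rw [← hφ]
  show f = (fst X Y ≫ g) * ((fst X Y ≫ g)⁻¹ * f)
  rw [mul_inv_cancel_left]

end Groth.Agent.Lib.Helper14.Rigid
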