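import Mathlib

/-!
# helper14: in an irreducible root system, a block of simple roots is linked to its complement
through a positive root off the Levi block

`exists_root_off_block`: base `Δ = I ⊔ A ⊔ B` with `A, B ≠ ∅`: there are `β ∈ A` and a root `δ ∈ ℕ⟨I ∪ B⟩`,
`δ ∉ span I`, with `⟨δ, β^∨⟩ < 0`.
-/

set_option autoImplicit false
universe u v w w'
open Set Submodule

namespace Groth.Agent.Lib.Helper14.RootOffBlock

variable {ι : Type u} [Finite ι] {k : Type v} [Field k] [CharZero k]
  {M : Type w} [AddCommGroup M] [Module k M] {N : Type w'} [AddCommGroup N] [Module k N]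
  (P : RootPairing ι k M N) (b : P.Base)

omit [Finite ι] [CharZero k] in
theorem root_notMem_span_of_notMem {S : Set ι} (hS : S ⊆ (b.support : Set ι)) {β : ι}
    (hβ : β ∈ b.support) (hβS : β ∉ S) : P.root β ∉ span k (P.root '' S) := by
  intro h
  refine b.linearIndepOn_root.notMem_span (show β ∈ (b.support : Set ι) from hβ)
    (span_mono (image_mono ?_) h)
  intro x hx
  exact ⟨hS hx, fun hxβ => hβS (by rw [← (show x = β from hxβ)]; exact hx)⟩

omit [Finite ι] [CharZero k] in
theorem exists_nat_of_mem_closure [DecidableEq ι] (S : Finset ι) (x : M)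
    (hx : x ∈ AddSubmonoid.closure (P.root '' (S : Set ι))) :
    ∃ f : ι → ℕ, x = ∑ i ∈ S, f i • P.root i := by
  induction hx using AddSubmonoid.closure_induction with
  | mem x hx =>
    obtain ⟨j, hj, rfl⟩ := hx
    refine ⟨Pi.single j 1, ?_⟩
    rw [Finset.sum_eq_single_of_mem j hj (fun i _ hi => by simp [Pi.single_eq_of_ne hi])]
    simp
  | zero => exact ⟨0, by simp⟩
  | add x y _ _ hx hy =>
    obtain ⟨f, rfl⟩ := hx
    obtain ⟨g, rfl⟩ := hy
    exact ⟨f + g, by simp only [Pi.add_apply, add_smul, Finset.sum_add_distrib]⟩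

variable [P.IsCrystallographic] [P.IsReduced]

theorem root_mem_closure_of_isPos {j : ι} (hj : b.IsPos j) :
    P.root j ∈ AddSubmonoid.closure (P.root '' (b.support : Set ι)) := by
  refine hj.induction_on_add (p := fun i => P.root i ∈
    AddSubmonoid.closure (P.root '' (b.support : Set ι))) ?_ ?_
  · intro i hi
    exact AddSubmonoid.subset_closure ⟨i, hi, rfl⟩
  · intro i j' k' hk hi hj'
    rw [hk]
    exact add_mem hi (AddSubmonoid.subset_closure ⟨j', hj', rfl⟩)

theorem root_mem_closure_of_isPos_of_mem_span [DecidableEq ι] (S : Finset ι) (hS : S ⊆ b.support)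
    {j : ι} (hj : b.IsPos j) (hjS : P.root j ∈ span k (P.root '' (S : Set ι))) :
    ∃ f : ι → ℕ, P.root j = ∑ i ∈ S, f i • P.root i := by
  obtain ⟨f, hf⟩ := exists_nat_of_mem_closure P b.support _ (root_mem_closure_of_isPos P b hj)
  refine ⟨f, ?_⟩
  have hsplit := Finset.sum_sdiff (f := fun i => f i • P.root i) hS
  set y : M := ∑ i ∈ b.support \ S, f i • P.root i with hy
  set x : M := ∑ i ∈ S, f i • P.root i with hx
  have hxS : x ∈ span k (P.root '' (S : Set ι)) :=
    Submodule.sum_mem _ fun i hi => by
      rw [← Nat.cast_smul_eq_nsmul k]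
      exact Submodule.smul_mem _ _ (subset_span ⟨i, hi, rfl⟩)
  have hyT : y ∈ span k (P.root '' ((b.support \ S : Finset ι) : Set ι)) :=
    Submodule.sum_mem _ fun i hi => by
      rw [← Nat.cast_smul_eq_nsmul k]
      exact Submodule.smul_mem _ _ (subset_span ⟨i, hi, rfl⟩)
  have hyS : y ∈ span k (P.root '' (S : Set ι)) := by
    have : y = P.root j - x := by rw [hf, ← hsplit]; abel
    rw [this]
    exact Submodule.sub_mem _ hjS hxS
  have hdisj : Disjoint (S : Set ι) ((b.support \ S : Finset ι) : Set ι) := by
    rw [Finset.disjoint_coe]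
    exact Finset.disjoint_sdiff
  have hunion : (S : Set ι) ∪ ((b.support \ S : Finset ι) : Set ι) ⊆ (b.support : Set ι) := by
    intro i hi
    rcases hi with hi | hi
    · exact hS hi
    · exact (Finset.mem_sdiff.mp hi).1
  have hli := (linearIndepOn_union_iff hdisj).mp (b.linearIndepOn_root.mono hunion)
  have hy0 : y = 0 := (Submodule.disjoint_def.mp hli.2.2) y hyS hyT
  rw [hf, ← hsplit, hy0, zero_add]

theorem exists_root_off_block [P.IsIrreducible] [DecidableEq ι] (I A B : Finset ι)
    (hcover : I ∪ A ∪ B = b.support) (hIA : Disjoint I A) (hIB : Disjoint I B)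
    (hAB : Disjoint A B) (hA : A.Nonempty) (hB : B.Nonempty) :
    ∃ l ∈ A, ∃ j : ι, P.root j ∈ AddSubmonoid.closure (P.root '' ↑(I ∪ B)) ∧
      P.root j ∉ span k (P.root '' ↑I) ∧ P.pairingIn ℤ j l < 0 := by
  classical
  have hIs : I ⊆ b.support := by rw [← hcover]; exact fun i hi => by simp [hi]
  have hAs : A ⊆ b.support := by rw [← hcover]; exact fun i hi => by simp [hi]
  have hBs : B ⊆ b.support := by rw [← hcover]; exact fun i hi => by simp [hi]
  set S : Finset ι := I ∪ B with hSdef
  have hSs : S ⊆ b.support := Finset.union_subset hIs hBs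
  set VS : Submodule k M := span k (P.root '' (S : Set ι)) with hVS
  set VI : Submodule k M := span k (P.root '' (I : Set ι)) with hVI
  have hVIS : VI ≤ VS := span_mono (image_mono (by
    intro i hi
    exact Finset.mem_coe.mpr (Finset.mem_union_left _ (Finset.mem_coe.mp hi))))
  let Φ : Set ι := {j | P.root j ∈ VS ∧ P.root j ∉ VI}
  set q : Submodule k M := span k (P.root '' Φ) with hq
  have hqVS : q ≤ VS := span_le.mpr (by rintro _ ⟨j, hj, rfl⟩; exact hj.1)
  have hBΦ : ∀ i ∈ B, i ∈ Φ := by
    intro i hi
    refine ⟨subset_span ⟨i, Finset.mem_coe.mpr (Finset.mem_union_right _ hi), rfl⟩, ?_⟩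
    exact root_notMem_span_of_notMem P b (by exact_mod_cast hIs) (hBs hi)
      (fun hiI => Finset.disjoint_left.mp hIB (Finset.mem_coe.mp hiI) hi)
  -- main claim
  have key : ∃ β ∈ A, ∃ j ∈ Φ, P.pairing j β ≠ 0 := by
    by_contra hcon
    push_neg at hcon
    have hinv : ∀ i ∈ b.support, q ∈ Module.End.invtSubmodule (P.reflection i) := by
      intro i hi
      rw [← hcover] at hi
      rcases Finset.mem_union.mp hi with hi | hi
      · rcases Finset.mem_union.mp hi with hi | hi
        · -- i ∈ I
          rw [Module.End.mem_invtSubmodule]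
          refine span_le.mpr ?_
          rintro _ ⟨j, hj, rfl⟩
          have hiVI : P.root i ∈ VI := subset_span ⟨i, Finset.mem_coe.mpr hi, rfl⟩
          show (P.reflection i : M →ₗ[k] M) (P.root j) ∈ q
          have h1 : (P.reflection i : M →ₗ[k] M) (P.root j) = P.root (P.reflectionPerm i j) :=
            (P.root_reflectionPerm i j).symm
          rw [h1]
          refine subset_span ⟨P.reflectionPerm i j, ⟨?_, ?_⟩, rfl⟩
          · rw [P.root_reflectionPerm, P.reflection_apply_root]
            exact Submodule.sub_mem _ hj.1 (Submodule.smul_mem _ _ (hVIS hiVI))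
          · intro hmem
            apply hj.2
            have h2 : P.root j = P.root (P.reflectionPerm i j) + P.pairing j i • P.root i := by
              rw [P.root_reflectionPerm, P.reflection_apply_root]; abel
            rw [h2]
            exact Submodule.add_mem _ hmem (Submodule.smul_mem _ _ hiVI)
        · -- i ∈ A
          rw [Module.End.mem_invtSubmodule]
          refine span_le.mpr ?_
          rintro _ ⟨j, hj, rfl⟩
          show (P.reflection i : M →ₗ[k] M) (P.root j) ∈ q
          have h1 : (P.reflection i : M →ₗ[k] M) (P.root j) = P.root j := by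
            show P.reflection i (P.root j) = P.root j
            rw [P.reflection_apply_root, hcon i hi j hj, zero_smul, sub_zero]
          rw [h1]
          exact subset_span ⟨j, hj, rfl⟩
      · -- i ∈ B
        exact Submodule.mem_invtSubmodule_reflection_of_mem _ _
          (subset_span ⟨i, hBΦ i hi, rfl⟩)
    have hall := (b.forall_mem_support_invtSubmodule_iff q).mp hinv
    obtain ⟨b₀, hb₀⟩ := hB
    have hqne : q ≠ ⊥ := by
      intro h
      have : P.root b₀ ∈ q := subset_span ⟨b₀, hBΦ b₀ hb₀, rfl⟩
      rw [h, Submodule.mem_bot] at this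
      exact P.ne_zero b₀ this
    have hqtop := RootPairing.IsIrreducible.eq_top_of_invtSubmodule_reflection q hall hqne
    obtain ⟨β, hβ⟩ := hA
    have hβS : β ∉ (S : Set ι) := by
      intro h
      rcases Finset.mem_union.mp (Finset.mem_coe.mp h) with h | h
      · exact Finset.disjoint_left.mp hIA h hβ
      · exact Finset.disjoint_left.mp hAB hβ h
    refine root_notMem_span_of_notMem P b (by exact_mod_cast hSs) (hAs hβ) hβS (hqVS ?_)
    rw [hqtop]
    exact Submodule.mem_top
  obtain ⟨β, hβ, j, hj, hpair⟩ := key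
  -- make `j` positive
  obtain ⟨j', hj'Φ, hj'pos, hpair'⟩ : ∃ j' ∈ Φ, b.IsPos j' ∧ P.pairing j' β ≠ 0 := by
    letI := P.indexNeg
    rcases RootPairing.Base.IsPos.or_neg b j with hpos | hneg
    · exact ⟨j, hj, hpos, hpair⟩
    · refine ⟨-j, ⟨?_, ?_⟩, hneg, ?_⟩
      · have : P.root (-j) = -P.root j := by simp
        rw [this]
        exact Submodule.neg_mem _ hj.1
      · have : P.root (-j) = -P.root j := by simp
        rw [this]
        intro h
        exact hj.2 (by simpa using Submodule.neg_mem _ h)
      · have : P.pairing (-j) β = -P.pairing j β := by simp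
        rw [this]
        exact neg_ne_zero.mpr hpair
  obtain ⟨f, hf⟩ := root_mem_closure_of_isPos_of_mem_span P b S hSs hj'pos hj'Φ.1
  refine ⟨β, hβ, j', ?_, hj'Φ.2, ?_⟩
  · rw [hf]
    exact sum_mem fun i hi => nsmul_mem (AddSubmonoid.subset_closure
      (show P.root i ∈ P.root '' (S : Set ι) from ⟨i, Finset.mem_coe.mpr hi, rfl⟩)) _
  · have hβS : β ∉ S := by
      intro h
      rcases Finset.mem_union.mp h with h | h
      · exact Finset.disjoint_left.mp hIA h hβ
      · exact Finset.disjoint_left.mp hAB hβ h
    have hsum : P.pairing j' β = ∑ i ∈ S, (f i : k) * P.pairing i β := by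
      rw [← P.root_coroot'_eq_pairing, hf, map_sum]
      refine Finset.sum_congr rfl fun i _ => ?_
      rw [← Nat.cast_smul_eq_nsmul k, map_smul, P.root_coroot'_eq_pairing, smul_eq_mul]
    have hint : P.pairingIn ℤ j' β = ∑ i ∈ S, (f i : ℤ) * P.pairingIn ℤ i β := by
      apply (algebraMap ℤ k).injective_int
      rw [P.algebraMap_pairingIn, hsum, map_sum]
      refine Finset.sum_congr rfl fun i _ => ?_
      rw [map_mul, P.algebraMap_pairingIn]
      simp
    have hle : P.pairingIn ℤ j' β ≤ 0 := by
      rw [hint]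
      refine Finset.sum_nonpos fun i hi => ?_
      have hne : i ≠ β := fun h => hβS (h ▸ hi)
      exact mul_nonpos_of_nonneg_of_nonpos (Int.natCast_nonneg _)
        (b.pairingIn_le_zero_of_ne hne (hSs hi) (hAs hβ))
    have hne0 : P.pairingIn ℤ j' β ≠ 0 := by
      intro h
      apply hpair'
      rw [← P.algebraMap_pairingIn ℤ, h, map_zero]
    exact lt_of_le_of_ne hle hne0

end Groth.Agent.Lib.Helper14.RootOffBlock
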