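import Mathlib
import Groth.Prelude.Def_SchFin2
import Groth.Agent.Lib.Helper14.Pt1

/-!
# helper14: base change on affine finite spaces — composition of base changes, faithfully flat
detection through a finite product, and the bridge `sect U` ↔ `(restrict U).sect univ`
-/

set_option autoImplicit false
set_option linter.style.haveILetI false
universe u
open SchFin TensorProduct

namespace Groth.Agent.Lib.Helper14.SchFinAff

section Ring

/-- composition of base changes -/
theorem isBCAlong_comp {R S T : Type u} [CommRing R] [CommRing S] [CommRing T]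
    (g : R →+* S) (g' : S →+* T) (k : R →+* T) (hk : ∀ r, k r = g' (g r))
    {M N O : Type u} [AddCommGroup M] [AddCommGroup N] [AddCommGroup O] [Module R M] [Module S N]
    [Module T O] (f : M →ₛₗ[g] N) (f' : N →ₛₗ[g'] O) (F : M →ₛₗ[k] O)
    (hF : ∀ m, F m = f' (f m)) (hf : IsBCAlong g f) (hf' : IsBCAlong g' f') : IsBCAlong k F := by
  obtain rfl : k = g'.comp g := RingHom.ext hk
  unfold IsBCAlong at hf hf' ⊢
  letI : Algebra R S := g.toAlgebra
  letI : Algebra S T := g'.toAlgebra
  letI : Algebra R T := (g'.comp g).toAlgebra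
  haveI : IsScalarTower R S T := IsScalarTower.of_algebraMap_eq (fun _ => rfl)
  letI : Module R N := Module.compHom N g
  letI : Module S O := Module.compHom O g'
  letI : Module R O := Module.compHom O (g'.comp g)
  haveI : IsScalarTower R S N := IsScalarTower.of_algebraMap_smul fun _ _ => rfl
  haveI : IsScalarTower S T O := IsScalarTower.of_algebraMap_smul fun _ _ => rfl
  haveI : IsScalarTower R T O := IsScalarTower.of_algebraMap_smul fun _ _ => rfl
  haveI : IsScalarTower R S O := IsScalarTower.of_algebraMap_smul fun _ _ => rfl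
  have := IsBaseChange.comp hf hf'
  convert this using 1
  ext m
  exact hF m

/-- a linear map is bijective as soon as it is so after tensoring with each factor of a finite
product that is faithfully flat -/
theorem bijective_of_forall_lTensor {R : Type u} [CommRing R] {ι : Type u} [Finite ι]
    (S : ι → Type u) [∀ i, CommRing (S i)] [∀ i, Algebra R (S i)]
    [Module.FaithfullyFlat R (∀ i, S i)]
    {A B : Type u} [AddCommGroup A] [AddCommGroup B] [Module R A] [Module R B] (c : A →ₗ[R] B)
    (h : ∀ i, Function.Bijective (c.lTensor (S i))) : Function.Bijective c := by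
  classical
  cases nonempty_fintype ι
  rw [← Module.FaithfullyFlat.lTensor_bijective_iff_bijective R (∀ i, S i)]
  let φA := TensorProduct.piLeft R A S
  let φB := TensorProduct.piLeft R B S
  have key : ∀ t, φB (c.lTensor (∀ i, S i) t) = fun i => c.lTensor (S i) (φA t i) := by
    intro t
    induction t using TensorProduct.induction_on with
    | zero =>
      funext i
      simp
    | tmul p a =>
      funext i
      simp [φA, φB]
    | add x y hx hy =>
      rw [map_add, map_add, hx, hy, map_add]
      funext i
      simp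
  have hpi : Function.Bijective
      (fun (v : ∀ i, S i ⊗[R] A) => fun i => c.lTensor (S i) (v i)) := by
    constructor
    · intro v w hvw
      funext i
      exact (h i).1 (congrFun hvw i)
    · intro w
      choose v hv using fun i => (h i).2 (w i)
      exact ⟨v, funext hv⟩
  have : ⇑(c.lTensor (∀ i, S i)) =
      φB.symm ∘ (fun (v : ∀ i, S i ⊗[R] A) => fun i => c.lTensor (S i) (v i)) ∘ φA := by
    funext t
    simp only [Function.comp]
    rw [← key, LinearEquiv.symm_apply_apply]
  rw [this]
  exact φB.symm.bijective.comp (hpi.comp φA.bijective)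

/-- descent of base change through a faithfully flat finite product -/
theorem isBCAlong_of_faithfullyFlat_pi {R₀ R : Type u} [CommRing R₀] [CommRing R] (g : R₀ →+* R)
    {ι : Type u} [Finite ι] (S : ι → Type u) [∀ i, CommRing (S i)] (e : ∀ i, R →+* S i)
    (k : ∀ i, R₀ →+* S i) (hk : ∀ i r, k i r = e i (g r))
    (hff : letI : ∀ i, Algebra R (S i) := fun i => (e i).toAlgebra
      Module.FaithfullyFlat R (∀ i, S i))
    {M N : Type u} {Q : ι → Type u} [AddCommGroup M] [AddCommGroup N] [∀ i, AddCommGroup (Q i)]
    [Module R₀ M] [Module R N] [∀ i, Module (S i) (Q i)]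
    (f : M →ₛₗ[g] N) (ε : ∀ i, N →ₛₗ[e i] Q i) (F : ∀ i, M →ₛₗ[k i] Q i)
    (hF : ∀ i m, F i m = ε i (f m))
    (hε : ∀ i, IsBCAlong (e i) (ε i)) (hFbc : ∀ i, IsBCAlong (k i) (F i)) : IsBCAlong g f := by
  unfold IsBCAlong at hε hFbc ⊢
  letI : Algebra R₀ R := g.toAlgebra
  letI : ∀ i, Algebra R (S i) := fun i => (e i).toAlgebra
  letI : ∀ i, Algebra R₀ (S i) := fun i => (k i).toAlgebra
  haveI : ∀ i, IsScalarTower R₀ R (S i) := fun i => IsScalarTower.of_algebraMap_eq (fun r => hk i r)
  letI : Module R₀ N := Module.compHom N g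
  haveI : IsScalarTower R₀ R N := IsScalarTower.of_algebraMap_smul fun _ _ => rfl
  letI : ∀ i, Module R (Q i) := fun i => Module.compHom (Q i) (e i)
  letI : ∀ i, Module R₀ (Q i) := fun i => Module.compHom (Q i) (k i)
  haveI : ∀ i, IsScalarTower R (S i) (Q i) := fun i =>
    IsScalarTower.of_algebraMap_smul fun _ _ => rfl
  haveI : ∀ i, IsScalarTower R₀ (S i) (Q i) := fun i =>
    IsScalarTower.of_algebraMap_smul fun _ _ => rfl
  let fl : M →ₗ[R₀] N := { toFun := f, map_add' := f.map_add, map_smul' := f.map_smulₛₗ }
  let c : R ⊗[R₀] M →ₗ[R] N := fl.liftBaseChange R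
  have hc : ∀ r m, c (r ⊗ₜ m) = r • f m := fun _ _ => rfl
  suffices hbij : Function.Bijective c by
    refine IsBaseChange.of_equiv (LinearEquiv.ofBijective c hbij) ?_
    intro m
    change c (1 ⊗ₜ m) = f m
    rw [hc, one_smul]
  haveI : Module.FaithfullyFlat R (∀ i, S i) := hff
  apply bijective_of_forall_lTensor S c
  intro i
  let b := (hε i).equiv
  let a := (hFbc i).equiv
  let canc := TensorProduct.AlgebraTensorModule.cancelBaseChange R₀ R (S i) (S i) M
  have key : ∀ t, b (c.lTensor (S i) t) = a (canc t) := by
    intro t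
    induction t using TensorProduct.induction_on with
    | zero => simp
    | tmul s t' =>
      induction t' using TensorProduct.induction_on with
      | zero => simp
      | tmul r m =>
        rw [LinearMap.lTensor_tmul, hc, IsBaseChange.equiv_tmul,
          TensorProduct.AlgebraTensorModule.cancelBaseChange_tmul, IsBaseChange.equiv_tmul]
        change s • ε i (r • f m) = (r • s) • F i m
        rw [(ε i).map_smulₛₗ, hF, smul_smul, Algebra.smul_def, mul_comm]
        rfl
      | add x y hx hy =>
        rw [TensorProduct.tmul_add, map_add, map_add, hx, hy, map_add, map_add]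
    | add x y hx hy =>
      rw [map_add, map_add, hx, hy, map_add, map_add]
  have : ⇑(c.lTensor (S i)) = b.symm ∘ a ∘ canc := by
    funext t
    simp only [Function.comp]
    rw [← key, LinearEquiv.symm_apply_apply]
  rw [this]
  exact b.symm.bijective.comp (a.bijective.comp canc.bijective)

end Ring

section Bridge

variable (X : RSpace.{u}) (U : Set X.pt)

/-- sections over `U` as global sections of the restriction -/
def toUnivRing : X.sectRing U →+* (X.restrict U).sectRing Set.univ where
  toFun s := ⟨fun q' => s.1 q'.1, fun q q' h => s.2 q.1 q'.1 h⟩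
  map_one' := rfl
  map_mul' _ _ := rfl
  map_zero' := rfl
  map_add' _ _ := rfl

theorem toUnivRing_surjective : Function.Surjective (toUnivRing X U) := by
  intro t
  refine ⟨⟨fun q => t.1 ⟨q, trivial⟩, fun q q' h => t.2 ⟨q, trivial⟩ ⟨q', trivial⟩ h⟩, ?_⟩
  rfl

variable {X}

/-- module sections over `U` as global sections of the restriction -/
def toUnivMod (M : OMod X) : M.sect U →ₛₗ[toUnivRing X U] (M.restrict U).sect Set.univ where
  toFun s := ⟨fun q' => s.1 q'.1, fun q q' h => s.2 q.1 q'.1 h⟩
  map_add' _ _ := rfl
  map_smul' _ _ := rfl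

theorem toUnivMod_bijective (M : OMod X) : Function.Bijective (toUnivMod U M) := by
  constructor
  · intro s t hst
    apply Subtype.ext
    funext q
    exact congrFun (congrArg Subtype.val hst) ⟨q, trivial⟩
  · intro t
    refine ⟨⟨fun q => t.1 ⟨q, trivial⟩, fun q q' h => t.2 ⟨q, trivial⟩ ⟨q', trivial⟩ h⟩, ?_⟩
    rfl

theorem restrict_isQcoh (M : OMod X) (hM : M.IsQcoh) : (M.restrict U).IsQcoh :=
  fun p q h => hM p.1 q.1 h

/-- on an affine up-set, evaluation of sections at a point is a base change -/
theorem isBCAlong_evalMod (hUa : (X.restrict U).IsAffine) (M : OMod X) (hM : M.IsQcoh) (q : U) :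
    IsBCAlong (X.evalRing U q) (M.evalMod U q) := by
  refine isBCAlong_comp (toUnivRing X U) ((X.restrict U).evalRing Set.univ ⟨q, trivial⟩) _
    (fun r => rfl) (toUnivMod U M) ((M.restrict U).evalMod Set.univ ⟨q, trivial⟩) _
    (fun m => rfl) ?_ (hUa.2.2.1 _ (restrict_isQcoh U M hM) q)
  refine Groth.Agent.Lib.Helper14.Pt.isBCAlong_of_bijective_of_epi _ ?_ _ (toUnivMod_bijective U M)
  intro T _ g₁ g₂ h
  ext t
  obtain ⟨s, rfl⟩ := toUnivRing_surjective X U t
  exact congrArg (fun k => k s) h

end Bridge

end Groth.Agent.Lib.Helper14.SchFinAff
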