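import Mathlib
import Groth.Prelude.Def_SchFin2
import Groth.Agent.Lib.Helper14.SchFinAff1

/-!
# helper14: properties of a quasi-coherent algebra on an affine finite space — pointwise versus
sections (flat, faithfully flat, finite, étale), abstract ring-level package
-/

set_option autoImplicit false
set_option linter.style.haveILetI false
universe u
open SchFin TensorProduct

namespace Groth.Agent.Lib.Helper14.SchFinAff

section Descent

variable {R S : Type u} [CommRing R] [CommRing S] [Algebra R S] {ι : Type u}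
  {O A : ι → Type u} [∀ i, CommRing (O i)] [∀ i, CommRing (A i)] [∀ i, Algebra (O i) (A i)]
  (e : ∀ i, R →+* O i) (ev : ∀ i, S →+* A i)
  (hcomm : ∀ i r, ev i (algebraMap R S r) = algebraMap (O i) (A i) (e i r))

/-- evaluation as a semilinear map -/
def evl (i : ι) : S →ₛₗ[e i] A i where
  toFun := ev i
  map_add' := map_add _
  map_smul' r s := by
    rw [Algebra.smul_def, map_mul, hcomm, Algebra.smul_def]

/-- the base-change equivalence at one index -/
theorem exists_equiv (i : ι) (hbc : IsBCAlong (e i) (evl e ev hcomm i)) :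
    letI : Algebra R (O i) := (e i).toAlgebra
    ∃ Ψ : O i ⊗[R] S ≃ₗ[O i] A i, ∀ o s, Ψ (o ⊗ₜ s) = o • ev i s := by
  unfold IsBCAlong at hbc
  letI : Algebra R (O i) := (e i).toAlgebra
  letI : Module R (A i) := Module.compHom (A i) (e i)
  haveI : IsScalarTower R (O i) (A i) := IsScalarTower.of_algebraMap_smul fun _ _ => rfl
  exact ⟨hbc.equiv, fun o s => hbc.equiv_tmul o s⟩

theorem flat_at (i : ι) (hbc : IsBCAlong (e i) (evl e ev hcomm i)) [Module.Flat R S] :
    Module.Flat (O i) (A i) := by
  letI : Algebra R (O i) := (e i).toAlgebra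
  obtain ⟨Ψ, -⟩ := exists_equiv e ev hcomm i hbc
  exact Module.Flat.of_linearEquiv Ψ.symm

theorem faithfullyFlat_at (i : ι) (hbc : IsBCAlong (e i) (evl e ev hcomm i))
    [Module.FaithfullyFlat R S] : Module.FaithfullyFlat (O i) (A i) := by
  letI : Algebra R (O i) := (e i).toAlgebra
  obtain ⟨Ψ, -⟩ := exists_equiv e ev hcomm i hbc
  exact Module.FaithfullyFlat.of_linearEquiv (O i) (O i ⊗[R] S) Ψ.symm

theorem finite_at (i : ι) (hbc : IsBCAlong (e i) (evl e ev hcomm i)) [Module.Finite R S] :
    Module.Finite (O i) (A i) := by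
  letI : Algebra R (O i) := (e i).toAlgebra
  obtain ⟨Ψ, -⟩ := exists_equiv e ev hcomm i hbc
  exact Module.Finite.equiv Ψ

theorem etale_at (i : ι) (hbc : IsBCAlong (e i) (evl e ev hcomm i)) [Algebra.Etale R S] :
    Algebra.Etale (O i) (A i) := by
  letI : Algebra R (O i) := (e i).toAlgebra
  obtain ⟨Ψ, hΨ⟩ := exists_equiv e ev hcomm i hbc
  let ΨA : O i ⊗[R] S ≃ₐ[O i] A i :=
    Algebra.TensorProduct.algEquivOfLinearEquivTensorProduct Ψ
      (fun a₁ a₂ b₁ b₂ => by
        rw [hΨ, hΨ, hΨ, map_mul, Algebra.smul_def, Algebra.smul_def, Algebra.smul_def, map_mul]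
        ring)
      (by rw [hΨ, one_smul, map_one])
  exact Algebra.Etale.of_equiv ΨA

end Descent

section DescentAll

variable {R S : Type u} [CommRing R] [CommRing S] [Algebra R S] {ι : Type u}
  {O A : ι → Type u} [∀ i, CommRing (O i)] [∀ i, CommRing (A i)] [∀ i, Algebra (O i) (A i)]
  (e : ∀ i, R →+* O i) (ev : ∀ i, S →+* A i)
  (hcomm : ∀ i r, ev i (algebraMap R S r) = algebraMap (O i) (A i) (e i r))

/-- descent through an abstract faithfully flat algebra `T` that is the product of the `O i` -/
theorem descent_all_aux [Finite ι] (T : Type u) [CommRing T] [Algebra R T]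
    [Module.FaithfullyFlat R T] (pr : ∀ i, T →+* O i)
    (hpr : Function.Bijective (fun (t : T) (i : ι) => pr i t))
    (hpe : ∀ i r, pr i (algebraMap R T r) = e i r)
    (hbc : ∀ i, IsBCAlong (e i) (evl e ev hcomm i)) :
    ((∀ i, Module.Flat (O i) (A i)) → Module.Flat R S) ∧
    ((∀ i, Module.Finite (O i) (A i)) → Module.Finite R S) ∧
    ((∀ i, Algebra.Etale (O i) (A i)) → Algebra.Etale R S) := by
  classical
  cases nonempty_fintype ι
  letI : ∀ i, Algebra R (O i) := fun i => (e i).toAlgebra
  choose Ψ hΨ using fun i => exists_equiv e ev hcomm i (hbc i)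
  letI : ∀ i, Module R (A i) := fun i => Module.compHom (A i) (e i)
  haveI : ∀ i, IsScalarTower R (O i) (A i) := fun i =>
    IsScalarTower.of_algebraMap_smul fun _ _ => rfl
  letI : ∀ i, Algebra T (O i) := fun i => (pr i).toAlgebra
  letI : ∀ i, Algebra T (A i) := fun i => ((algebraMap (O i) (A i)).comp (pr i)).toAlgebra
  haveI : ∀ i, IsScalarTower T (O i) (A i) := fun i =>
    IsScalarTower.of_algebraMap_eq (fun _ => rfl)
  have hsm : ∀ (t : T) (a : ∀ i, A i) (i : ι), (t • a) i = pr i t • a i := by
    intro t a i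
    rw [Pi.smul_apply, Algebra.smul_def, Algebra.smul_def]
    rfl
  -- `T` is the product of the `O i`, linearly over `R`
  let θ : T ≃ₗ[R] ∀ i, O i :=
    LinearEquiv.ofBijective
      { toFun := fun t i => pr i t
        map_add' := fun t t' => by funext i; simp
        map_smul' := fun r t => by
          funext i
          rw [Algebra.smul_def, map_mul, hpe, RingHom.id_apply, Pi.smul_apply, Algebra.smul_def]
          rfl } hpr
  have hθ : ∀ t i, θ t i = pr i t := fun _ _ => rfl
  -- the `R`-linear equivalence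
  let Φ₀ : T ⊗[R] S ≃ₗ[R] ∀ i, A i :=
    TensorProduct.congr θ (LinearEquiv.refl R S) ≪≫ₗ TensorProduct.piLeft R S O ≪≫ₗ
      LinearEquiv.piCongrRight (fun i => (Ψ i).restrictScalars R)
  have hΦ₀ : ∀ (t : T) (s : S) (i : ι), Φ₀ (t ⊗ₜ s) i = pr i t • ev i s := by
    intro t s i
    simp only [Φ₀, LinearEquiv.trans_apply, LinearEquiv.piCongrRight_apply,
      LinearEquiv.restrictScalars_apply, TensorProduct.congr_tmul, LinearEquiv.refl_apply]
    rw [← hθ, ← hΨ]
    simp [TensorProduct.piLeft]
  have hlin : ∀ (t : T) (x : T ⊗[R] S), Φ₀ (t • x) = t • Φ₀ x := by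
    intro t x
    induction x using TensorProduct.induction_on with
    | zero => simp
    | tmul t' s =>
      funext i
      rw [TensorProduct.smul_tmul', hΦ₀, hsm, hΦ₀, smul_eq_mul, map_mul, mul_smul]
    | add x y hx hy => rw [smul_add, map_add, hx, hy, map_add, smul_add]
  let Φ : T ⊗[R] S ≃ₗ[T] ∀ i, A i :=
    { Φ₀ with map_smul' := hlin }
  have hΦ : ∀ (t : T) (s : S) (i : ι), Φ (t ⊗ₜ s) i = pr i t • ev i s := hΦ₀
  -- the idempotents
  let ε : ι → T := fun i => θ.symm (Pi.single i 1)
  have hε : ∀ i j, pr j (ε i) = (Pi.single i (1 : O i) : ∀ j, O j) j := by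
    intro i j
    rw [← hθ]
    simp only [ε, LinearEquiv.apply_symm_apply]
  have hinj : ∀ x y : T, (∀ j, pr j x = pr j y) → x = y := fun x y h => hpr.1 (funext h)
  haveI hloc : ∀ i, IsLocalization.Away (ε i) (O i) := by
    intro i
    refine IsLocalization.away_of_isIdempotentElem_of_mul ?_ ?_ ?_
    · apply hinj
      intro j
      rw [map_mul, hε, ← Pi.mul_apply, ← Pi.single_mul, mul_one]
    · intro x y
      change pr i x = pr i y ↔ _
      constructor
      · intro h
        apply hinj
        intro j
        rw [map_mul, map_mul, hε]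
        by_cases hj : j = i
        · subst hj
          rw [h]
        · rw [Pi.single_eq_of_ne hj, zero_mul, zero_mul]
      · intro h
        have := congrArg (pr i) h
        rwa [map_mul, map_mul, hε, Pi.single_eq_same, one_mul, one_mul] at this
    · intro a
      refine ⟨θ.symm (Pi.single i a), ?_⟩
      change pr i _ = a
      rw [← hθ, LinearEquiv.apply_symm_apply, Pi.single_eq_same]
  refine ⟨?_, ?_, ?_⟩
  · intro h
    haveI : ∀ i, Module.Flat T (O i) := fun i =>
      IsLocalization.flat (O i) (Submonoid.powers (ε i))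
    haveI : ∀ i, Module.Flat T (A i) := fun i => Module.Flat.trans _ (O i) _
    haveI : Module.Flat T (∀ i, A i) :=
      Module.Flat.of_linearEquiv (DirectSum.linearEquivFunOnFintype T ι A).symm
    haveI : Module.Flat T (T ⊗[R] S) := Module.Flat.of_linearEquiv Φ
    exact Module.Flat.of_flat_tensorProduct R S T
  · intro h
    haveI : ∀ i, Module.Finite T (O i) := fun i =>
      Module.Finite.of_surjective (Algebra.linearMap T (O i))
        (fun a => ⟨θ.symm (Pi.single i a), by
          change pr i _ = a
          rw [← hθ, LinearEquiv.apply_symm_apply, Pi.single_eq_same]⟩)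
    haveI : ∀ i, Module.Finite T (A i) := fun i => Module.Finite.trans (O i) (A i)
    haveI : Module.Finite T (T ⊗[R] S) := Module.Finite.equiv Φ.symm
    exact Module.Finite.of_finite_tensorProduct_of_faithfullyFlat T
  · intro h
    haveI : ∀ i, Algebra.Etale T (O i) := fun i =>
      Algebra.Etale.of_isLocalizationAway (ε i)
    haveI : ∀ i, Algebra.Etale T (A i) := fun i => Algebra.Etale.comp _ (O i) _
    let ΦA : T ⊗[R] S ≃ₐ[T] ∀ i, A i :=
      Algebra.TensorProduct.algEquivOfLinearEquivTensorProduct Φ
        (fun a₁ a₂ b₁ b₂ => by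
          funext i
          rw [Pi.mul_apply, hΦ, hΦ, hΦ, map_mul, map_mul, Algebra.smul_def,
            Algebra.smul_def, Algebra.smul_def, map_mul]
          ring)
        (by
          funext i
          rw [hΦ, map_one, one_smul, map_one, Pi.one_apply])
    haveI : Algebra.Etale T (T ⊗[R] S) := Algebra.Etale.of_equiv ΦA.symm
    exact Algebra.Etale.of_etale_tensorProduct_of_faithfullyFlat T

end DescentAll

end Groth.Agent.Lib.Helper14.SchFinAff
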