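import Mathlib
import Groth.Prelude.Def_SchFin2
import Groth.Agent.Lib.Helper14.SchFinAff2

/-!
# helper14: pointwise versus sectionwise properties of a quasi-coherent algebra over an affine
up-set of a finite space
-/

set_option autoImplicit false
set_option linter.style.haveILetI false
universe u
open SchFin TensorProduct

namespace Groth.Agent.Lib.Helper14.SchFinAff

section FF

variable {R S : Type u} [CommRing R] [CommRing S] [Algebra R S] {ι : Type u}
  {O A : ι → Type u} [∀ i, CommRing (O i)] [∀ i, CommRing (A i)] [∀ i, Algebra (O i) (A i)]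
  (e : ∀ i, R →+* O i) (ev : ∀ i, S →+* A i)
  (hcomm : ∀ i r, ev i (algebraMap R S r) = algebraMap (O i) (A i) (e i r))

include hcomm in
theorem faithfullyFlat_descent [Finite ι]
    (hff : letI : ∀ i, Algebra R (O i) := fun i => (e i).toAlgebra
      Module.FaithfullyFlat R (∀ i, O i))
    (hflat : Module.Flat R S) (h : ∀ i, Module.FaithfullyFlat (O i) (A i)) :
    Module.FaithfullyFlat R S := by
  classical
  cases nonempty_fintype ι
  letI : ∀ i, Algebra R (O i) := fun i => (e i).toAlgebra
  haveI : Module.FaithfullyFlat R (∀ i, O i) := hff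
  rw [Module.FaithfullyFlat.iff_flat_and_lTensor_reflects_triviality]
  refine ⟨hflat, fun N _ _ hN => ?_⟩
  have h1 : ∀ i, Subsingleton (O i ⊗[R] N) := by
    intro i
    letI : Module R (A i) := Module.compHom (A i) (e i)
    haveI : IsScalarTower R (O i) (A i) := IsScalarTower.of_algebraMap_smul fun _ _ => rfl
    letI : Algebra S (A i) := (ev i).toAlgebra
    haveI : IsScalarTower R S (A i) := IsScalarTower.of_algebraMap_smul fun r a => by
      change ev i (algebraMap R S r) * a = e i r • a
      rw [hcomm, Algebra.smul_def]
    have e1 := TensorProduct.AlgebraTensorModule.cancelBaseChange R S S (A i) N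
    have e2 := TensorProduct.AlgebraTensorModule.cancelBaseChange R (O i) (O i) (A i) N
    haveI : Subsingleton (A i ⊗[R] N) := e1.symm.toEquiv.subsingleton
    haveI : Subsingleton (A i ⊗[O i] (O i ⊗[R] N)) := e2.toEquiv.subsingleton
    exact Module.FaithfullyFlat.lTensor_reflects_triviality (O i) (A i) (O i ⊗[R] N)
  haveI : Subsingleton ((∀ i, O i) ⊗[R] N) := (TensorProduct.piLeft R N O).toEquiv.subsingleton
  exact Module.FaithfullyFlat.lTensor_reflects_triviality R (∀ i, O i) N

end FF

section App

variable {X : RSpace.{u}} (A : Alg X) (U : Set X.pt)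

/-- sections of the algebra as sections of its underlying module -/
def algSectToMod :
    letI : Algebra (X.sectRing U) (A.total.sectRing U) := (A.sectMap U).toAlgebra
    A.total.sectRing U →ₛₗ[RingHom.id (X.sectRing U)] A.toMod.sect U :=
  letI : Algebra (X.sectRing U) (A.total.sectRing U) := (A.sectMap U).toAlgebra
  { toFun := fun s => ⟨s.1, s.2⟩
    map_add' := fun _ _ => rfl
    map_smul' := fun r s => by
      apply Subtype.ext
      funext q
      exact (Algebra.smul_def (r.1 q) (show A.carrier q.1 from s.1 q)).symm }

theorem algSectToMod_bijective :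
    letI : Algebra (X.sectRing U) (A.total.sectRing U) := (A.sectMap U).toAlgebra
    Function.Bijective (algSectToMod A U) := by
  letI : Algebra (X.sectRing U) (A.total.sectRing U) := (A.sectMap U).toAlgebra
  constructor
  · intro s t hst
    apply Subtype.ext
    exact congrArg Subtype.val hst
  · intro t
    exact ⟨⟨t.1, t.2⟩, rfl⟩

theorem alg_isBCAlong (hUa : (X.restrict U).IsAffine) (hA : A.IsQcoh) (q : U) :
    letI : Algebra (X.sectRing U) (A.total.sectRing U) := (A.sectMap U).toAlgebra
    IsBCAlong (X.evalRing U q)
      (evl (O := fun q : U => X.ring q.1) (A := fun q : U => A.carrier q.1)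
        (fun q => X.evalRing U q) (fun q => A.total.evalRing U q) (fun _ _ => rfl) q) := by
  letI : Algebra (X.sectRing U) (A.total.sectRing U) := (A.sectMap U).toAlgebra
  refine isBCAlong_comp (RingHom.id (X.sectRing U)) (X.evalRing U q) _ (fun r => rfl)
    (algSectToMod A U) (A.toMod.evalMod U q) _ (fun m => rfl) ?_
    (isBCAlong_evalMod U hUa A.toMod hA q)
  exact Groth.Agent.Lib.Helper14.Pt.isBCAlong_of_bijective_of_epi _ (fun g₁ g₂ h => h) _
    (algSectToMod_bijective A U)

end App

end Groth.Agent.Lib.Helper14.SchFinAff
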