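import Mathlib
import Groth.Prelude.Def_AlgGrp
import Groth.Agent.Lib.Helper14.QuotDesc
import Groth.Agent.Lib.Helper14.RigidAff

/-!
# helper14: an extension of a commutative anti-affine group by a commutative affine group
is commutative (over a field)
-/

set_option autoImplicit false
universe u
open CategoryTheory MonoidalCategory CartesianMonoidalCategory MonObj GrpObj AlgebraicGeometry
  CategoryTheory.Limits

namespace Groth.Agent.Lib.Helper14.SemiAbComm

open Groth.Agent.Lib.Helper14.QuotDesc Groth.Agent.Lib.Helper14.RigidAff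

variable {K : Type u} [Field K]
variable {G T A : Over (Spec (CommRingCat.of K))} [GrpObj G] [GrpObj T] [GrpObj A]
  (i : T ⟶ G) [IsMonHom i] [Mono i] (q : G ⟶ A) [IsMonHom q] [Flat q.left] [Surjective q.left]
  [QuasiCompact q.left] (hker : AlgGrp.IsKernel i q) [IsAffine T.left]
  [IsIso A.hom.appTop] [CompactSpace A.left] [QuasiSeparatedSpace A.left]

omit [IsMonHom i] [Mono i] [Flat q.left] [Surjective q.left] [QuasiCompact q.left]
  [IsAffine T.left] [IsIso A.hom.appTop] [CompactSpace A.left] [QuasiSeparatedSpace A.left] in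
include hker in
theorem comp_i_q {R : Over (Spec (CommRingCat.of K))} (t : R ⟶ T) : (t ≫ i) ≫ q = 1 := by
  have h : i ≫ q = toUnit T ≫ η[A] := hker.w
  rw [Category.assoc, h, ← Category.assoc, Hom.one_def]
  congr 1
  exact toUnit_unique _ _

include hker

/-- the key rigidity step: a morphism `φ : G ⊗ Y ⟶ G` landing in the kernel `T`, invariant under
right translation by `T` in the first variable, and trivial on `e × Y`, is trivial. -/
theorem eq_one_of_invariant {Y : Over (Spec (CommRingCat.of K))}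
    [CompactSpace Y.left] [QuasiSeparatedSpace Y.left] (φ : G ⊗ Y ⟶ G)
    (hq : φ ≫ q = 1)
    (hinv : ∀ (R : Over (Spec (CommRingCat.of K))) (c : R ⟶ G) (m : R ⟶ T) (y : R ⟶ Y),
      lift (c * (m ≫ i)) y ≫ φ = lift c y ≫ φ)
    (hone : lift (toUnit Y ≫ η[G]) (𝟙 Y) ≫ φ = 1) : φ = 1 := by
  have hq' : φ ≫ q = toUnit _ ≫ η[A] := by rw [hq, Hom.one_def]
  set φ' : G ⊗ Y ⟶ T := hker.lift φ (toUnit _) hq' with hφ'
  have hφ'i : φ' ≫ i = φ := hker.lift_fst _ _ _
  have hinv' : ∀ (R : Over (Spec (CommRingCat.of K))) (c : R ⟶ G) (m : R ⟶ T) (y : R ⟶ Y),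
      lift (c * (m ≫ i)) y ≫ φ' = lift c y ≫ φ' := by
    intro R c m y
    rw [← cancel_mono i, Category.assoc, Category.assoc, hφ'i]
    exact hinv R c m y
  obtain ⟨ψ, hψ⟩ := exists_desc i q hker φ' hinv'
  have h1 := eq_snd_comp (X := A) (Y := Y) (Z := T) η[A] ψ
  have h2 : lift (toUnit Y ≫ η[A]) (𝟙 Y) = lift (toUnit Y ≫ η[G]) (𝟙 Y) ≫ (q ▷ Y) := by
    apply CartesianMonoidalCategory.hom_ext
    · simp only [Category.assoc, lift_fst, whiskerRight_fst, lift_fst_assoc]
      rw [IsMonHom.one_hom q]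
    · simp only [Category.assoc, lift_snd, whiskerRight_snd]
  have h3 : lift (toUnit Y ≫ η[A]) (𝟙 Y) ≫ ψ = 1 := by
    rw [h2, Category.assoc, hψ, ← cancel_mono i, Category.assoc, hφ'i, hone, Hom.one_def,
      Hom.one_def, Category.assoc, IsMonHom.one_hom i]
  rw [h3] at h1
  have h4 : φ' = 1 := by
    rw [← hψ, h1, MonObj.comp_one, MonObj.comp_one]
  rw [← hφ'i, h4, Hom.one_def, Hom.one_def, Category.assoc, IsMonHom.one_hom i]

variable [IsCommMonObj T]

/-- `T` is central in `G` -/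
theorem central {R : Over (Spec (CommRingCat.of K))} (c : R ⟶ G) (t : R ⟶ T) :
    c * (t ≫ i) = (t ≫ i) * c := by
  haveI : CompactSpace T.left := inferInstance
  set ψ : G ⊗ T ⟶ G := fst G T * (snd G T ≫ i) * (fst G T)⁻¹ * (snd G T ≫ i)⁻¹ with hψ
  have key : ∀ {R' : Over (Spec (CommRingCat.of K))} (a : R' ⟶ G) (b : R' ⟶ T),
      lift a b ≫ ψ = a * (b ≫ i) * a⁻¹ * (b ≫ i)⁻¹ := by
    intro R' a b
    rw [hψ, MonObj.comp_mul, MonObj.comp_mul, MonObj.comp_mul, GrpObj.comp_inv, GrpObj.comp_inv,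
      lift_fst, lift_snd_assoc]
  have hψ1 : ψ = 1 := by
    apply eq_one_of_invariant i q hker ψ
    · rw [hψ, MonObj.mul_comp, MonObj.mul_comp, MonObj.mul_comp, GrpObj.inv_comp, GrpObj.inv_comp,
        comp_i_q i q hker]
      group
    · intro R' c m y
      rw [key, key]
      have hcomm : (m ≫ i) * (y ≫ i) = (y ≫ i) * (m ≫ i) := by
        rw [← MonObj.mul_comp, ← MonObj.mul_comp, mul_comm]
      have h1 : (m ≫ i) * (y ≫ i) * (m ≫ i)⁻¹ = y ≫ i := by
        rw [hcomm, mul_inv_cancel_right]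
      calc c * (m ≫ i) * (y ≫ i) * (c * (m ≫ i))⁻¹ * (y ≫ i)⁻¹
          = c * ((m ≫ i) * (y ≫ i) * (m ≫ i)⁻¹) * c⁻¹ * (y ≫ i)⁻¹ := by group
        _ = c * (y ≫ i) * c⁻¹ * (y ≫ i)⁻¹ := by rw [h1]
    · rw [key]
      rw [← Hom.one_def]
      group
  have h2 := key c t
  rw [hψ1, MonObj.comp_one] at h2
  have h3 : c * (t ≫ i) * c⁻¹ * (t ≫ i)⁻¹ = 1 := h2.symm
  calc c * (t ≫ i) = (c * (t ≫ i) * c⁻¹ * (t ≫ i)⁻¹) * ((t ≫ i) * c) := by group
    _ = (t ≫ i) * c := by rw [h3, _root_.one_mul]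

variable [IsCommMonObj A] [CompactSpace G.left] [QuasiSeparatedSpace G.left]

/-- `G` is commutative -/
theorem isCommMonObj : IsCommMonObj G := by
  set κ : G ⊗ G ⟶ G := fst G G * snd G G * (fst G G)⁻¹ * (snd G G)⁻¹ with hκ
  have key : ∀ {R' : Over (Spec (CommRingCat.of K))} (a b : R' ⟶ G),
      lift a b ≫ κ = a * b * a⁻¹ * b⁻¹ := by
    intro R' a b
    rw [hκ, MonObj.comp_mul, MonObj.comp_mul, MonObj.comp_mul, GrpObj.comp_inv, GrpObj.comp_inv,
      lift_fst, lift_snd]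
  have hκ1 : κ = 1 := by
    apply eq_one_of_invariant i q hker κ
    · rw [hκ, MonObj.mul_comp, MonObj.mul_comp, MonObj.mul_comp, GrpObj.inv_comp, GrpObj.inv_comp]
      rw [mul_comm (fst G G ≫ q) (snd G G ≫ q)]
      group
    · intro R' c m y
      rw [key, key]
      have hcomm : (m ≫ i) * y = y * (m ≫ i) := (central i q hker y m).symm
      have h1 : (m ≫ i) * y * (m ≫ i)⁻¹ = y := by
        rw [hcomm, mul_inv_cancel_right]
      calc c * (m ≫ i) * y * (c * (m ≫ i))⁻¹ * y⁻¹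
          = c * ((m ≫ i) * y * (m ≫ i)⁻¹) * c⁻¹ * y⁻¹ := by group
        _ = c * y * c⁻¹ * y⁻¹ := by rw [h1]
    · rw [key]
      rw [← Hom.one_def]
      group
  refine ⟨?_⟩
  have h2 := key (fst G G) (snd G G)
  have h3 : lift (fst G G) (snd G G) = 𝟙 _ := by
    apply CartesianMonoidalCategory.hom_ext <;> simp
  rw [h3, Category.id_comp, hκ1] at h2
  have h4 : fst G G * snd G G = snd G G * fst G G := by
    calc fst G G * snd G G
        = (fst G G * snd G G * (fst G G)⁻¹ * (snd G G)⁻¹) * (snd G G * fst G G) := by group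
      _ = snd G G * fst G G := by rw [← h2, _root_.one_mul]
  rw [Hom.mul_def, Hom.mul_def, h3, Category.id_comp] at h4
  have h5 : lift (snd G G) (fst G G) = (β_ G G).hom := by
    apply CartesianMonoidalCategory.hom_ext <;> simp
  rw [h5] at h4
  exact h4.symm

end Groth.Agent.Lib.Helper14.SemiAbComm
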