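import Groth.Agent.S0346

/-!
# helper14: a locally finite type group scheme over a field is separated

`isClosedImmersion_of_section`: a `k`-rational point of a locally finite type `k`-scheme is a closed
immersion.  `isSeparated_of_grpObj`: a group scheme locally of finite type over a field is separated
(its unit section is a closed immersion; S0346).
-/

set_option autoImplicit false
universe u
open CategoryTheory CategoryTheory.Limits AlgebraicGeometry MonoidalCategory CartesianMonoidalCategory
  MonObj

namespace Groth.Agent.Lib.Helper14.SepGrpField

variable {k : Type u} [Field k]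

theorem isClosedImmersion_of_section {G : Scheme.{u}} (p : G ⟶ Spec (CommRingCat.of k))
    [LocallyOfFiniteType p] (s : Spec (CommRingCat.of k) ⟶ G) (hs : s ≫ p = 𝟙 _) :
    IsClosedImmersion s := by
  haveI : IsImmersion (s ≫ p) := by rw [hs]; infer_instance
  haveI : IsImmersion s := IsImmersion.of_comp s p
  haveI : JacobsonSpace G := LocallyOfFiniteType.jacobsonSpace p
  refine IsClosedImmersion.of_isPreimmersion s ?_
  have hlc : IsLocallyClosed (Set.range s) := IsImmersion.isLocallyClosed_range (f := s)
  haveI : Unique (Spec (CommRingCat.of k)) :=
    inferInstanceAs (Unique (PrimeSpectrum k))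
  have hr : Set.range s = {s default} := by
    ext x
    constructor
    · rintro ⟨y, rfl⟩
      rw [Unique.eq_default y]; rfl
    · rintro rfl
      exact ⟨default, rfl⟩
  rw [hr] at hlc ⊢
  exact isClosed_singleton_of_isLocallyClosed_singleton hlc

theorem isSeparated_of_grpObj (G : Over (Spec (CommRingCat.of k))) [GrpObj G]
    [LocallyOfFiniteType G.hom] : IsSeparated G.hom := by
  refine (Groth.Agent.S0346.result _ G).1.mpr ?_
  have h1 : η[G].left ≫ G.hom = 𝟙 _ := by
    have := Over.w η[G]
    simpa using this
  exact isClosedImmersion_of_section G.hom η[G].left h1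

end Groth.Agent.Lib.Helper14.SepGrpField
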