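import Groth.Agent.Lib.Helper14.GrpQuot1
import Mathlib.CategoryTheory.Subobject.Limits
import Mathlib.CategoryTheory.Subobject.FactorThru

/-!
# Subobjects of a quotient by an equivalence relation (helper14)

Abstract setting: a category with pullbacks in which every epimorphism is a universally effective
epimorphism, and with epi-mono factorizations.
-/

set_option autoImplicit false

universe v u

open CategoryTheory CategoryTheory.Limits

namespace Groth.Agent.Lib.Helper14.GrpQuot

/-- Every morphism factors as an epimorphism followed by a monomorphism. -/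
class HasEpiMonoFact (𝒮 : Type u) [Category.{v} 𝒮] : Prop where
  fact : ∀ {X Y : 𝒮} (f : X ⟶ Y), ∃ (I : 𝒮) (e : X ⟶ I) (m : I ⟶ Y), Epi e ∧ Mono m ∧ e ≫ m = f

variable {𝒮 : Type u} [Category.{v} 𝒮]

/-- Local lifting of a generalized element along an epimorphism. -/
theorem exists_local_lift [EpiUnivEff 𝒮] [HasPullbacks 𝒮] {X Q Y : 𝒮} (π : X ⟶ Q) [Epi π]
    (x : Y ⟶ Q) : ∃ (Y' : 𝒮) (p : Y' ⟶ Y) (_ : Epi p) (g : Y' ⟶ X), g ≫ π = p ≫ x :=
  ⟨pullback π x, pullback.snd π x, epi_of_isPullback (IsPullback.of_hasPullback π x).flip,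
    pullback.fst π x, pullback.condition⟩

/-- Factoring through a subobject can be checked locally. -/
theorem factors_of_epi_comp [EpiUnivEff 𝒮] {Y' Y Q : 𝒮} (p : Y' ⟶ Y) [Epi p] (B : Subobject Q)
    (x : Y ⟶ Q) (h : B.Factors (p ≫ x)) : B.Factors x := by
  obtain ⟨z', hz'⟩ := exists_desc p (B.factorThru (p ≫ x) h) (by
    intro W s t hst
    rw [← cancel_mono B.arrow, Category.assoc, Category.assoc, Subobject.factorThru_arrow,
      ← Category.assoc, ← Category.assoc, hst])
  have key : z' ≫ B.arrow = x := by
    rw [← cancel_epi p, ← Category.assoc, hz']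
    exact Subobject.factorThru_arrow _ _ h
  rw [← key]
  exact Subobject.factors_comp_arrow z'

section

variable [EpiUnivEff 𝒮] [HasPullbacks 𝒮]

/-- Inverse image of subobjects along an epimorphism reflects the order. -/
theorem le_of_pullback_le {X Q : 𝒮} (π : X ⟶ Q) [Epi π] {A B : Subobject Q}
    (h : (Subobject.pullback π).obj A ≤ (Subobject.pullback π).obj B) : A ≤ B := by
  apply Subobject.le_of_factors
  obtain ⟨W, p, hp, g, hg⟩ := exists_local_lift π A.arrow
  apply factors_of_epi_comp p
  rw [← hg, ← pullback_factors_iff]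
  apply Subobject.factors_of_le _ h
  rw [pullback_factors_iff, hg]
  exact Subobject.factors_of_factors_right _ (Subobject.factors_self A)

theorem pullback_obj_injective {X Q : 𝒮} (π : X ⟶ Q) [Epi π] :
    Function.Injective (Subobject.pullback π).obj := fun _ _ h =>
  le_antisymm (le_of_pullback_le π h.le) (le_of_pullback_le π h.ge)

variable [HasEpiMonoFact 𝒮]

/-- S5227, abstract form. -/
theorem pullback_injective_and_range {R X : 𝒮} {p₁ p₂ : R ⟶ X}
    (e : EffectiveEquivalenceRelation p₁ p₂) :
    Function.Injective (Subobject.pullback e.π).obj ∧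
      Set.range (Subobject.pullback e.π).obj =
        {Y : Subobject X | (Subobject.pullback p₁).obj Y = (Subobject.pullback p₂).obj Y} := by
  have hepi : Epi e.π := inferInstance
  refine ⟨pullback_obj_injective e.π, ?_⟩
  ext Y
  simp only [Set.mem_range, Set.mem_ofPred_eq]
  constructor
  · rintro ⟨A, rfl⟩
    rw [← Subobject.pullback_comp, ← Subobject.pullback_comp, e.isKernelPair.w]
  · intro hY
    obtain ⟨I, q, m, hq, hm, hqm⟩ := HasEpiMonoFact.fact (Y.arrow ≫ e.π)
    refine ⟨Subobject.mk m, le_antisymm ?_ ?_⟩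
    · -- π⁻¹(A) ≤ Y
      apply Subobject.le_of_factors
      set x := ((Subobject.pullback e.π).obj (Subobject.mk m)).arrow with hx
      have h1 : (Subobject.mk m).Factors (x ≫ e.π) := by
        rw [← pullback_factors_iff]
        exact Subobject.factors_self _
      obtain ⟨z, hz⟩ := (Subobject.mk_factors_iff m _).1 h1
      obtain ⟨W', p, hp, y, hy⟩ := exists_local_lift q z
      apply factors_of_epi_comp p
      have hcomm : (p ≫ x) ≫ e.π = (y ≫ Y.arrow) ≫ e.π := by
        rw [Category.assoc, Category.assoc, ← hqm, ← Category.assoc y, hy, Category.assoc]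
        change p ≫ x ≫ e.π = p ≫ z ≫ (MonoOver.mk m).arrow
        rw [hz]
      have hr1 : e.isKernelPair.lift _ _ hcomm ≫ p₁ = p ≫ x := e.isKernelPair.lift_fst _ _ hcomm
      have hr2 : e.isKernelPair.lift _ _ hcomm ≫ p₂ = y ≫ Y.arrow :=
        e.isKernelPair.lift_snd _ _ hcomm
      rw [← hr1, ← pullback_factors_iff, hY, pullback_factors_iff, hr2]
      exact Subobject.factors_of_factors_right _ (Subobject.factors_self Y)
    · -- Y ≤ π⁻¹(A)
      apply Subobject.le_of_factors
      rw [pullback_factors_iff, ← hqm]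
      exact Subobject.factors_of_factors_right _ (Subobject.mk_factors_self m)

end

end Groth.Agent.Lib.Helper14.GrpQuot
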