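import Groth.Agent.Lib.Helper14.SubQuot2
import Mathlib.CategoryTheory.Monoidal.Cartesian.Basic

/-!
# Morphisms to a quotient as stable subobjects of a product (helper14)
-/

set_option autoImplicit false

universe v u

open CategoryTheory CategoryTheory.Limits MonoidalCategory CartesianMonoidalCategory

namespace Groth.Agent.Lib.Helper14.GrpQuot

variable {𝒮 : Type u} [Category.{v} 𝒮]

/-- Factoring through a monomorphism can be checked locally. -/
theorem exists_factor_of_epi_comp [EpiUnivEff 𝒮] {W' W Z T : 𝒮} (p : W' ⟶ W) [Epi p]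
    (ι : Z ⟶ T) [Mono ι] (t : W ⟶ T) (z₁ : W' ⟶ Z) (h : z₁ ≫ ι = p ≫ t) :
    ∃ z : W ⟶ Z, z ≫ ι = t := by
  obtain ⟨z, hz⟩ := exists_desc p z₁ (by
    intro V a b hab
    rw [← cancel_mono ι, Category.assoc, Category.assoc, h, ← Category.assoc, ← Category.assoc,
      hab])
  refine ⟨z, ?_⟩
  rw [← cancel_epi p, ← Category.assoc, hz, h]

variable [CartesianMonoidalCategory 𝒮] [EpiUnivEff 𝒮] [HasPullbacks 𝒮]

section

variable {R X : 𝒮} {p₁ p₂ : R ⟶ X} (e : EffectiveEquivalenceRelation p₁ p₂) (Y : 𝒮)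

theorem existsUnique_classifying {Z : 𝒮} (ι : Z ⟶ X ⊗ Y) [Mono ι]
    (hstab : ∀ (W : 𝒮) (r : W ⟶ R) (y : W ⟶ Y),
      (∃ z : W ⟶ Z, z ≫ ι = lift (r ≫ p₁) y) ↔ (∃ z : W ⟶ Z, z ≫ ι = lift (r ≫ p₂) y))
    (hcov : Epi (ι ≫ snd X Y))
    (hrel : ∀ (W : 𝒮) (z₁ z₂ : W ⟶ Z), z₁ ≫ ι ≫ snd X Y = z₂ ≫ ι ≫ snd X Y →
      ∃ r : W ⟶ R, r ≫ p₁ = z₁ ≫ ι ≫ fst X Y ∧ r ≫ p₂ = z₂ ≫ ι ≫ fst X Y) :
    ∃! f : Y ⟶ e.B, IsPullback (ι ≫ fst X Y) (ι ≫ snd X Y) e.π f := by
  obtain ⟨f, hf⟩ := exists_desc (ι ≫ snd X Y) ((ι ≫ fst X Y) ≫ e.π) (by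
    intro W z₁ z₂ h
    obtain ⟨r, hr1, hr2⟩ := hrel W z₁ z₂ (by simpa only [Category.assoc] using h)
    calc z₁ ≫ (ι ≫ fst X Y) ≫ e.π = (z₁ ≫ ι ≫ fst X Y) ≫ e.π := by simp only [Category.assoc]
      _ = (r ≫ p₁) ≫ e.π := by rw [hr1]
      _ = (r ≫ p₂) ≫ e.π := by rw [Category.assoc, Category.assoc, e.isKernelPair.w]
      _ = z₂ ≫ (ι ≫ fst X Y) ≫ e.π := by rw [hr2]; simp only [Category.assoc])
  have hlift : ∀ s : PullbackCone e.π f, ∃ z : s.pt ⟶ Z, z ≫ ι = lift s.fst s.snd := by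
    intro s
    obtain ⟨W', p, hp, z₀, hz₀⟩ := exists_local_lift (ι ≫ snd X Y) s.snd
    have hcomm : (z₀ ≫ ι ≫ fst X Y) ≫ e.π = (p ≫ s.fst) ≫ e.π := by
      calc (z₀ ≫ ι ≫ fst X Y) ≫ e.π = z₀ ≫ (ι ≫ fst X Y) ≫ e.π := by simp only [Category.assoc]
        _ = z₀ ≫ (ι ≫ snd X Y) ≫ f := by rw [hf]
        _ = (z₀ ≫ ι ≫ snd X Y) ≫ f := by simp only [Category.assoc]
        _ = (p ≫ s.snd) ≫ f := by rw [hz₀]
        _ = (p ≫ s.fst) ≫ e.π := by rw [Category.assoc, ← s.condition, Category.assoc]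
    have hr1 : e.isKernelPair.lift _ _ hcomm ≫ p₁ = z₀ ≫ ι ≫ fst X Y :=
      e.isKernelPair.lift_fst _ _ hcomm
    have hr2 : e.isKernelPair.lift _ _ hcomm ≫ p₂ = p ≫ s.fst := e.isKernelPair.lift_snd _ _ hcomm
    have h1 : ∃ z : W' ⟶ Z, z ≫ ι = lift (e.isKernelPair.lift _ _ hcomm ≫ p₁) (p ≫ s.snd) := by
      refine ⟨z₀, ?_⟩
      apply CartesianMonoidalCategory.hom_ext
      · simp [hr1]
      · simpa only [Category.assoc, lift_snd] using hz₀
    obtain ⟨z₁, hz₁⟩ := (hstab W' _ _).1 h1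
    refine exists_factor_of_epi_comp p ι _ z₁ ?_
    rw [hz₁, hr2]
    apply CartesianMonoidalCategory.hom_ext <;> simp
  have hpb : IsPullback (ι ≫ fst X Y) (ι ≫ snd X Y) e.π f :=
    ⟨⟨hf.symm⟩, ⟨PullbackCone.IsLimit.mk _ (fun s => Classical.choose (hlift s))
      (fun s => by
        have := Classical.choose_spec (hlift s)
        rw [← Category.assoc, this, lift_fst])
      (fun s => by
        have := Classical.choose_spec (hlift s)
        rw [← Category.assoc, this, lift_snd])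
      (fun s m h1 h2 => by
        rw [← cancel_mono ι, Classical.choose_spec (hlift s)]
        apply CartesianMonoidalCategory.hom_ext
        · simpa only [Category.assoc, lift_fst] using h1
        · simpa only [Category.assoc, lift_snd] using h2)⟩⟩
  refine ⟨f, hpb, ?_⟩
  intro f' hf'
  rw [← cancel_epi (ι ≫ snd X Y), hf, ← hf'.w]

theorem exists_sub_of_map (f : Y ⟶ e.B) :
    ∃ (Z : 𝒮) (ι : Z ⟶ X ⊗ Y), Mono ι ∧
      (∀ (W : 𝒮) (r : W ⟶ R) (y : W ⟶ Y),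
        (∃ z : W ⟶ Z, z ≫ ι = lift (r ≫ p₁) y) ↔ (∃ z : W ⟶ Z, z ≫ ι = lift (r ≫ p₂) y)) ∧
      Epi (ι ≫ snd X Y) ∧
      (∀ (W : 𝒮) (z₁ z₂ : W ⟶ Z), z₁ ≫ ι ≫ snd X Y = z₂ ≫ ι ≫ snd X Y →
        ∃ r : W ⟶ R, r ≫ p₁ = z₁ ≫ ι ≫ fst X Y ∧ r ≫ p₂ = z₂ ≫ ι ≫ fst X Y) ∧
      IsPullback (ι ≫ fst X Y) (ι ≫ snd X Y) e.π f := by
  have hepi : Epi e.π := inferInstance
  have hfac : ∀ (W : 𝒮) (x : W ⟶ X) (y : W ⟶ Y),
      (∃ z : W ⟶ pullback e.π f, z ≫ lift (pullback.fst e.π f) (pullback.snd e.π f) = lift x y) ↔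
        x ≫ e.π = y ≫ f := by
    intro W x y
    constructor
    · rintro ⟨z, hz⟩
      have h1 : z ≫ pullback.fst e.π f = x := by
        have := congrArg (fun t => t ≫ fst X Y) hz
        simpa using this
      have h2 : z ≫ pullback.snd e.π f = y := by
        have := congrArg (fun t => t ≫ snd X Y) hz
        simpa using this
      rw [← h1, ← h2, Category.assoc, Category.assoc, pullback.condition]
    · intro h
      refine ⟨pullback.lift x y h, ?_⟩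
      apply CartesianMonoidalCategory.hom_ext
      · rw [Category.assoc, lift_fst, lift_fst]
        exact pullback.lift_fst _ _ _
      · rw [Category.assoc, lift_snd, lift_snd]
        exact pullback.lift_snd _ _ _
  refine ⟨pullback e.π f, lift (pullback.fst e.π f) (pullback.snd e.π f), ?_, ?_, ?_, ?_, ?_⟩
  · constructor
    intro W a b hab
    apply pullback.hom_ext
    · have := congrArg (fun t => t ≫ fst X Y) hab
      simpa using this
    · have := congrArg (fun t => t ≫ snd X Y) hab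
      simpa using this
  · intro W r y
    rw [hfac, hfac, Category.assoc, Category.assoc, e.isKernelPair.w]
  · rw [lift_snd]
    exact epi_of_isPullback (IsPullback.of_hasPullback e.π f).flip
  · intro W z₁ z₂ h
    simp only [lift_snd, lift_fst] at h ⊢
    have hcomm : (z₁ ≫ pullback.fst e.π f) ≫ e.π = (z₂ ≫ pullback.fst e.π f) ≫ e.π := by
      rw [Category.assoc, Category.assoc, pullback.condition, ← Category.assoc, h, Category.assoc]
    exact ⟨e.isKernelPair.lift _ _ hcomm, e.isKernelPair.lift_fst _ _ hcomm,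
      e.isKernelPair.lift_snd _ _ hcomm⟩
  · rw [lift_fst, lift_snd]
    exact IsPullback.of_hasPullback e.π f

end

end Groth.Agent.Lib.Helper14.GrpQuot
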