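import Groth.Agent.Lib.Helper14.GrpQuotSh
import Groth.Agent.Lib.Helper14.SubQuot1
import Mathlib.CategoryTheory.Sites.Subsheaf

/-!
# Sheaves of sets have epi-mono factorizations (helper14)
-/

set_option autoImplicit false

universe w v₁ u₁

open CategoryTheory CategoryTheory.Limits

namespace Groth.Agent.Lib.Helper14.GrpQuot

variable {C : Type u₁} [Category.{v₁} C] {J : GrothendieckTopology C}

instance : HasEpiMonoFact (Sheaf J (Type w)) :=
  ⟨fun f => ⟨Sheaf.image f, Sheaf.toImage f, Sheaf.imageι f, inferInstance, inferInstance,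
    Sheaf.toImage_ι f⟩⟩

end Groth.Agent.Lib.Helper14.GrpQuot
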