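import Mathlib
import Groth.Prelude.Def_SymTen

/-!
# Symmetric tensors of a graded algebra: the diagonal subalgebra and lying over (helper14)

`B = ⊕ 𝒜 k` a graded `A`-algebra, `T = ⨂^d B`.  `CC 𝒜 d` is the subalgebra generated by pure
tensors with all factors of the same degree, `DD 𝒜 d = CC ⊓ TS` its symmetric part.
`exists_prime_over`: every prime of `DD` is the contraction of a prime of `CC`
(invariants of the finite group `Perm (Fin d)`).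
-/

set_option autoImplicit false

namespace Groth.Agent.Lib.helper14.SymTenLib

open SymTen
open scoped TensorProduct

universe u

variable {A B : Type u} [CommRing A] [CommRing B] [Algebra A B]

section Perm

variable (A B) (d : ℕ)

lemma perm_one (t : ⨂[A] _ : Fin d, B) : perm A B d 1 t = t := by
  induction t using PiTensorProduct.induction_on with
  | smul_tprod r f =>
    rw [map_smul, perm_tprod]
    rfl
  | add x y hx hy => simp [hx, hy]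

lemma perm_mul (σ τ : Equiv.Perm (Fin d)) (t : ⨂[A] _ : Fin d, B) :
    perm A B d (σ * τ) t = perm A B d σ (perm A B d τ t) := by
  induction t using PiTensorProduct.induction_on with
  | smul_tprod r f =>
    rw [map_smul, map_smul, map_smul, perm_tprod, perm_tprod, perm_tprod]
    rfl
  | add x y hx hy => simp [hx, hy]

end Perm

variable (𝒜 : ℕ → Submodule A B) (d : ℕ)

/-- the subalgebra generated by pure tensors with all factors homogeneous of the same degree -/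
def CC : Subalgebra A (⨂[A] _ : Fin d, B) :=
  Algebra.adjoin A {t | ∃ (k : ℕ) (b : Fin d → B), (∀ i, b i ∈ 𝒜 k) ∧ t = PiTensorProduct.tprod A b}

/-- its symmetric part -/
noncomputable def DD : Subalgebra A (⨂[A] _ : Fin d, B) := CC 𝒜 d ⊓ SymTen.TS A B d

lemma tprod_mem_CC {k : ℕ} {b : Fin d → B} (hb : ∀ i, b i ∈ 𝒜 k) :
    PiTensorProduct.tprod A b ∈ CC 𝒜 d :=
  Algebra.subset_adjoin ⟨k, b, hb, rfl⟩

lemma DD_le_CC : DD 𝒜 d ≤ CC 𝒜 d := inf_le_left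

lemma perm_mem_CC (σ : Equiv.Perm (Fin d)) {x : ⨂[A] _ : Fin d, B} (hx : x ∈ CC 𝒜 d) :
    perm A B d σ x ∈ CC 𝒜 d := by
  have h : CC 𝒜 d ≤ (CC 𝒜 d).comap (perm A B d σ) := by
    apply Algebra.adjoin_le
    rintro _ ⟨k, b, hb, rfl⟩
    show perm A B d σ (PiTensorProduct.tprod A b) ∈ CC 𝒜 d
    rw [perm_tprod]
    exact tprod_mem_CC 𝒜 d (fun i => hb _)
  exact h hx

/-- the permutation action on `CC` -/
noncomputable instance actCC : MulSemiringAction (Equiv.Perm (Fin d)) (CC 𝒜 d) where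
  smul σ c := ⟨perm A B d σ c.1, perm_mem_CC 𝒜 d σ c.2⟩
  one_smul c := Subtype.ext (perm_one A B d c.1)
  mul_smul σ τ c := Subtype.ext (perm_mul A B d σ τ c.1)
  smul_zero σ := Subtype.ext (map_zero _)
  smul_add σ a b := Subtype.ext (map_add _ _ _)
  smul_one σ := Subtype.ext (map_one _)
  smul_mul σ a b := Subtype.ext (map_mul _ _ _)

lemma smul_CC_val (σ : Equiv.Perm (Fin d)) (c : CC 𝒜 d) :
    ((σ • c : CC 𝒜 d) : ⨂[A] _ : Fin d, B) = perm A B d σ c.1 := rfl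

/-- `CC` as an algebra over `DD` -/
noncomputable instance algDDCC : Algebra (DD 𝒜 d) (CC 𝒜 d) :=
  (Subalgebra.inclusion (DD_le_CC 𝒜 d)).toRingHom.toAlgebra

lemma algebraMap_DD_CC_val (x : DD 𝒜 d) :
    ((algebraMap (DD 𝒜 d) (CC 𝒜 d) x : CC 𝒜 d) : ⨂[A] _ : Fin d, B) = x.1 := rfl

instance : Algebra.IsInvariant (DD 𝒜 d) (CC 𝒜 d) (Equiv.Perm (Fin d)) where
  isInvariant c hc := by
    refine ⟨⟨c.1, c.2, ?_⟩, Subtype.ext rfl⟩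
    intro σ
    rw [← perm_apply]
    exact congrArg Subtype.val (hc σ)

instance : Algebra.IsIntegral (DD 𝒜 d) (CC 𝒜 d) :=
  Algebra.IsInvariant.isIntegral (DD 𝒜 d) (CC 𝒜 d) (Equiv.Perm (Fin d))

theorem exists_prime_over (𝔮 : Ideal (DD 𝒜 d)) [𝔮.IsPrime] :
    ∃ 𝔓 : Ideal (CC 𝒜 d), 𝔓.IsPrime ∧
      ∀ x : DD 𝒜 d, (⟨x.1, DD_le_CC 𝒜 d x.2⟩ : CC 𝒜 d) ∈ 𝔓 ↔ x ∈ 𝔮 := by
  have hinj : Function.Injective (algebraMap (DD 𝒜 d) (CC 𝒜 d)) := by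
    intro x y h
    have h' : ((algebraMap (DD 𝒜 d) (CC 𝒜 d) x : CC 𝒜 d) : ⨂[A] _ : Fin d, B) =
        ((algebraMap (DD 𝒜 d) (CC 𝒜 d) y : CC 𝒜 d) : ⨂[A] _ : Fin d, B) := by rw [h]
    exact Subtype.ext h'
  obtain ⟨𝔓, -, h𝔓, hcomap⟩ := Ideal.exists_ideal_over_prime_of_isIntegral 𝔮
    (⊥ : Ideal (CC 𝒜 d)) (by
      rw [← RingHom.ker_eq_comap_bot, (RingHom.injective_iff_ker_eq_bot _).1 hinj]
      exact bot_le)
  refine ⟨𝔓, h𝔓, fun x => ?_⟩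
  rw [← hcomap, Ideal.mem_comap]
  rfl

/-- membership of an element of the tensor power in an ideal of `CC` -/
def inP (𝔓 : Ideal (CC 𝒜 d)) (x : ⨂[A] _ : Fin d, B) : Prop :=
  ∃ h : x ∈ CC 𝒜 d, (⟨x, h⟩ : CC 𝒜 d) ∈ 𝔓

variable {𝒜 d}

lemma inP_iff {𝔓 : Ideal (CC 𝒜 d)} {x : ⨂[A] _ : Fin d, B} (hx : x ∈ CC 𝒜 d) :
    inP 𝒜 d 𝔓 x ↔ (⟨x, hx⟩ : CC 𝒜 d) ∈ 𝔓 :=
  ⟨fun ⟨_, h⟩ => h, fun h => ⟨hx, h⟩⟩

lemma inP_zero (𝔓 : Ideal (CC 𝒜 d)) : inP 𝒜 d 𝔓 0 :=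
  ⟨(CC 𝒜 d).zero_mem, 𝔓.zero_mem⟩

lemma inP_add {𝔓 : Ideal (CC 𝒜 d)} {x y : ⨂[A] _ : Fin d, B} (hx : inP 𝒜 d 𝔓 x)
    (hy : inP 𝒜 d 𝔓 y) : inP 𝒜 d 𝔓 (x + y) := by
  obtain ⟨hx1, hx2⟩ := hx
  obtain ⟨hy1, hy2⟩ := hy
  exact ⟨(CC 𝒜 d).add_mem hx1 hy1, 𝔓.add_mem hx2 hy2⟩

lemma inP_smul {𝔓 : Ideal (CC 𝒜 d)} (a : A) {x : ⨂[A] _ : Fin d, B} (hx : inP 𝒜 d 𝔓 x) :
    inP 𝒜 d 𝔓 (a • x) := by
  obtain ⟨hx1, hx2⟩ := hx
  refine ⟨(CC 𝒜 d).smul_mem hx1 a, ?_⟩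
  have : (⟨a • x, (CC 𝒜 d).smul_mem hx1 a⟩ : CC 𝒜 d) = a • (⟨x, hx1⟩ : CC 𝒜 d) := rfl
  rw [this, Algebra.smul_def]
  exact 𝔓.mul_mem_left _ hx2

lemma inP_mul_left {𝔓 : Ideal (CC 𝒜 d)} {x y : ⨂[A] _ : Fin d, B} (hx : x ∈ CC 𝒜 d)
    (hy : inP 𝒜 d 𝔓 y) : inP 𝒜 d 𝔓 (x * y) := by
  obtain ⟨hy1, hy2⟩ := hy
  exact ⟨(CC 𝒜 d).mul_mem hx hy1, 𝔓.mul_mem_left ⟨x, hx⟩ hy2⟩

lemma inP_mul_right {𝔓 : Ideal (CC 𝒜 d)} {x y : ⨂[A] _ : Fin d, B} (hx : inP 𝒜 d 𝔓 x)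
    (hy : y ∈ CC 𝒜 d) : inP 𝒜 d 𝔓 (x * y) := by
  rw [mul_comm]
  exact inP_mul_left hy hx

lemma inP_or_of_mul {𝔓 : Ideal (CC 𝒜 d)} [𝔓.IsPrime] {x y : ⨂[A] _ : Fin d, B}
    (hx : x ∈ CC 𝒜 d) (hy : y ∈ CC 𝒜 d) (h : inP 𝒜 d 𝔓 (x * y)) :
    inP 𝒜 d 𝔓 x ∨ inP 𝒜 d 𝔓 y := by
  obtain ⟨h1, h2⟩ := h
  have : (⟨x * y, h1⟩ : CC 𝒜 d) = ⟨x, hx⟩ * ⟨y, hy⟩ := rfl
  rw [this] at h2
  rcases Ideal.IsPrime.mem_or_mem ‹_› h2 with h | h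
  · exact Or.inl ⟨hx, h⟩
  · exact Or.inr ⟨hy, h⟩

lemma exists_of_inP_prod {𝔓 : Ideal (CC 𝒜 d)} [𝔓.IsPrime] {κ : Type*} (s : Finset κ)
    (x : κ → ⨂[A] _ : Fin d, B) (hx : ∀ i ∈ s, x i ∈ CC 𝒜 d)
    (h : inP 𝒜 d 𝔓 (∏ i ∈ s, x i)) : ∃ i ∈ s, inP 𝒜 d 𝔓 (x i) := by
  classical
  induction s using Finset.induction_on with
  | empty =>
    exfalso
    obtain ⟨h1, h2⟩ := h
    apply (Ideal.IsPrime.ne_top ‹_›)
    rw [Ideal.eq_top_iff_one]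
    have : (⟨∏ i ∈ (∅ : Finset κ), x i, h1⟩ : CC 𝒜 d) = 1 :=
      Subtype.ext (Finset.prod_empty (f := x))
    rwa [this] at h2
  | insert a s ha ih =>
    rw [Finset.prod_insert ha] at h
    have hs : ∏ i ∈ s, x i ∈ CC 𝒜 d :=
      Subalgebra.prod_mem _ (fun i hi => hx i (Finset.mem_insert_of_mem hi))
    rcases inP_or_of_mul (hx a (Finset.mem_insert_self a s)) hs h with h | h
    · exact ⟨a, Finset.mem_insert_self a s, h⟩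
    · obtain ⟨i, hi, h'⟩ := ih (fun i hi => hx i (Finset.mem_insert_of_mem hi)) h
      exact ⟨i, Finset.mem_insert_of_mem hi, h'⟩

/-- `inP` as a submodule -/
def inPSub (𝔓 : Ideal (CC 𝒜 d)) : Submodule A (⨂[A] _ : Fin d, B) where
  carrier := {x | inP 𝒜 d 𝔓 x}
  add_mem' hx hy := inP_add hx hy
  zero_mem' := inP_zero 𝔓
  smul_mem' a _ hx := inP_smul a hx

end Groth.Agent.Lib.helper14.SymTenLib
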