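import Mathlib
import Groth.Prelude.Def_SymTen
import Groth.Agent.Lib.Helper14.SymTenLib1

/-!
# Symmetric tensors of a graded algebra: the homogeneous primes cut out by a prime of `CC` (helper14)

For a prime `𝔓` of `CC 𝒜 d` and a slot `i`, `PP 𝔓 i n f` says that the homogeneous element `f` of
degree `n` lies in the `i`-th "projection" of `𝔓` (a homogeneous prime of `B`).
-/

set_option autoImplicit false

namespace Groth.Agent.Lib.helper14.SymTenLib

open SymTen
open scoped TensorProduct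

universe u

variable {A B : Type u} [CommRing A] [CommRing B] [Algebra A B]
variable {𝒜 : ℕ → Submodule A B} [GradedAlgebra 𝒜] {d : ℕ}

/-- `f` (homogeneous of degree `n`) lies in the `i`-th projection of `𝔓` -/
def PP (𝔓 : Ideal (CC 𝒜 d)) (i : Fin d) (n : ℕ) (f : B) : Prop :=
  ∀ (m : ℕ) (b : Fin d → B), b i ∈ 𝒜 m → (∀ j, j ≠ i → b j ∈ 𝒜 (n + m)) →
    inP 𝒜 d 𝔓 (PiTensorProduct.tprod A (Function.update b i (f * b i)))

lemma tprod_update_mem_CC {i : Fin d} {n m : ℕ} {f : B} (hf : f ∈ 𝒜 n) {b : Fin d → B}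
    (hbi : b i ∈ 𝒜 m) (hbj : ∀ j, j ≠ i → b j ∈ 𝒜 (n + m)) :
    PiTensorProduct.tprod A (Function.update b i (f * b i)) ∈ CC 𝒜 d := by
  apply tprod_mem_CC 𝒜 d (k := n + m)
  intro j
  by_cases hj : j = i
  · subst hj
    rw [Function.update_self]
    exact SetLike.mul_mem_graded hf hbi
  · rw [Function.update_of_ne hj]
    exact hbj j hj

variable (𝔓 : Ideal (CC 𝒜 d)) (i : Fin d)

lemma PP_zero (n : ℕ) : PP 𝔓 i n 0 := by
  intro m b _ _
  rw [zero_mul, MultilinearMap.map_update_zero]
  exact inP_zero 𝔓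

lemma PP_add {n : ℕ} {f g : B} (hf : PP 𝔓 i n f) (hg : PP 𝔓 i n g) : PP 𝔓 i n (f + g) := by
  intro m b hbi hbj
  rw [add_mul, MultilinearMap.map_update_add]
  exact inP_add (hf m b hbi hbj) (hg m b hbi hbj)

lemma PP_smul {n : ℕ} (a : A) {f : B} (hf : PP 𝔓 i n f) : PP 𝔓 i n (a • f) := by
  intro m b hbi hbj
  rw [smul_mul_assoc, MultilinearMap.map_update_smul]
  exact inP_smul a (hf m b hbi hbj)

lemma PP_mul {n n' : ℕ} {f g : B} (hf : PP 𝔓 i n f) (hg : g ∈ 𝒜 n') :
    PP 𝔓 i (n + n') (f * g) := by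
  intro m b hbi hbj
  have h := hf (n' + m) (Function.update b i (g * b i))
    (by rw [Function.update_self]; exact SetLike.mul_mem_graded hg hbi)
    (fun j hj => by
      rw [Function.update_of_ne hj]
      have := hbj j hj
      rwa [add_assoc] at this)
  rw [Function.update_idem, Function.update_self, ← mul_assoc] at h
  exact h

variable {𝔓 i}

lemma PP_prime [𝔓.IsPrime] {n n' : ℕ} {f g : B} (hf : f ∈ 𝒜 n) (hg : g ∈ 𝒜 n')
    (h : PP 𝔓 i (n + n') (f * g)) : PP 𝔓 i n f ∨ PP 𝔓 i n' g := by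
  by_contra hcon
  rw [not_or] at hcon
  obtain ⟨h1, h2⟩ := hcon
  unfold PP at h1 h2
  push_neg at h1 h2
  obtain ⟨m₁, b₁, hb₁i, hb₁j, hn₁⟩ := h1
  obtain ⟨m₂, b₂, hb₂i, hb₂j, hn₂⟩ := h2
  have key := h (m₁ + m₂) (b₁ * b₂)
    (by rw [Pi.mul_apply]; exact SetLike.mul_mem_graded hb₁i hb₂i)
    (fun j hj => by
      rw [Pi.mul_apply]
      have := SetLike.mul_mem_graded (hb₁j j hj) (hb₂j j hj)
      have e : n + m₁ + (n' + m₂) = n + n' + (m₁ + m₂) := by ring
      rwa [e] at this)
  have e : Function.update (b₁ * b₂) i (f * g * (b₁ * b₂) i) =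
      Function.update b₁ i (f * b₁ i) * Function.update b₂ i (g * b₂ i) := by
    funext j
    by_cases hj : j = i
    · subst hj
      simp only [Function.update_self, Pi.mul_apply]
      ring
    · simp only [Function.update_of_ne hj, Pi.mul_apply]
  rw [e, ← PiTensorProduct.tprod_mul_tprod] at key
  rcases inP_or_of_mul (tprod_update_mem_CC hf hb₁i hb₁j) (tprod_update_mem_CC hg hb₂i hb₂j) key
    with h' | h'
  · exact hn₁ h'
  · exact hn₂ h'

lemma PP_sat [𝔓.IsPrime] {n : ℕ} {a : A} {f : B}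
    (ha : ¬ inP 𝒜 d 𝔓 (algebraMap A (⨂[A] _ : Fin d, B) a)) (hf : f ∈ 𝒜 n)
    (h : PP 𝔓 i n (a • f)) : PP 𝔓 i n f := by
  intro m b hbi hbj
  have h' := h m b hbi hbj
  rw [smul_mul_assoc, MultilinearMap.map_update_smul, Algebra.smul_def] at h'
  rcases inP_or_of_mul ((CC 𝒜 d).algebraMap_mem a) (tprod_update_mem_CC hf hbi hbj) h'
    with h'' | h''
  · exact absurd h'' ha
  · exact h''

lemma not_PP_of_tprod {k : ℕ} {b : Fin d → B} (hb : ∀ j, b j ∈ 𝒜 k)
    (h : ¬ inP 𝒜 d 𝔓 (PiTensorProduct.tprod A b)) : ¬ PP 𝔓 i k (b i) := by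
  intro hP
  apply h
  have h' := hP 0 (Function.update b i 1)
    (by rw [Function.update_self]; exact SetLike.GradedOne.one_mem)
    (fun j hj => by rw [Function.update_of_ne hj]; exact hb j)
  rw [Function.update_idem, Function.update_self, mul_one, Function.update_eq_self] at h'
  exact h'

/-- if `f` avoids all the projections of `𝔓`, then `f ⊗ ⋯ ⊗ f ∉ 𝔓` -/
theorem not_inP_tpow [𝔓.IsPrime] {n : ℕ} {f : B} (hf : f ∈ 𝒜 n)
    (h : ∀ i : Fin d, ¬ PP 𝔓 i n f) :
    ¬ inP 𝒜 d 𝔓 (PiTensorProduct.tprod A (fun _ : Fin d => f)) := by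
  classical
  unfold PP at h
  push_neg at h
  choose m b hbi hbj hn using h
  intro hin
  -- the product of the witnesses
  set c : Fin d → B := fun j => ∏ l, b l j with hc
  have hprod : ∏ l : Fin d, PiTensorProduct.tprod A (Function.update (b l) l (f * b l l)) =
      PiTensorProduct.tprod A (fun _ : Fin d => f) * PiTensorProduct.tprod A c := by
    rw [← PiTensorProduct.tprod_prod, PiTensorProduct.tprod_mul_tprod]
    congr 1
    funext j
    rw [Finset.prod_apply, Pi.mul_apply]
    have : ∀ l : Fin d, Function.update (b l) l (f * b l l) j =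
        (if l = j then f else 1) * b l j := by
      intro l
      by_cases hl : l = j
      · subst hl
        rw [Function.update_self, if_pos rfl]
      · rw [Function.update_of_ne (Ne.symm hl), if_neg hl, one_mul]
    simp_rw [this]
    rw [Finset.prod_mul_distrib, Finset.prod_ite_eq' Finset.univ j (fun _ => f)]
    simp [hc]
  -- `tprod c ∈ CC`
  have hcC : PiTensorProduct.tprod A c ∈ CC 𝒜 d := by
    apply tprod_mem_CC 𝒜 d (k := (∑ l : Fin d, (n + m l)) - n)
    intro j
    have h1 : c j ∈ 𝒜 (∑ l : Fin d, (if l = j then m l else n + m l)) := by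
      rw [hc]
      apply SetLike.prod_mem_graded
      intro l _
      by_cases hl : l = j
      · subst hl
        rw [if_pos rfl]
        exact hbi l
      · rw [if_neg hl]
        exact hbj l j (Ne.symm hl)
    have h2 : (∑ l : Fin d, (if l = j then m l else n + m l)) + n = ∑ l : Fin d, (n + m l) := by
      have : n = ∑ l : Fin d, (if l = j then n else 0) := by
        rw [Finset.sum_ite_eq' Finset.univ j (fun _ => n)]
        simp
      conv_lhs => rw [this]
      rw [← Finset.sum_add_distrib]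
      apply Finset.sum_congr rfl
      intro l _
      split_ifs <;> omega
    have h3 : (∑ l : Fin d, (if l = j then m l else n + m l)) = (∑ l : Fin d, (n + m l)) - n := by
      omega
    rwa [h3] at h1
  have h4 := inP_mul_right hin hcC
  rw [← hprod] at h4
  obtain ⟨l, -, hl⟩ := exists_of_inP_prod Finset.univ _
    (fun l _ => tprod_update_mem_CC hf (hbi l) (hbj l)) h4
  exact hn l hl

end Groth.Agent.Lib.helper14.SymTenLib
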