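import Mathlib

/-!
# Graded prime avoidance on predicates (helper14)

`HomPrime 𝒜 P`: the predicate `P n f` ("the homogeneous element `f` of degree `n` lies in a given
homogeneous prime") satisfies the closure properties of a homogeneous prime ideal.

* `exists_avoid`: finitely many homogeneous primes, none containing the irrelevant ideal, are avoided
  by a homogeneous element of positive degree.
* `exists_avoid_submodules`: finitely many proper `𝔭`-saturated submodules are avoided by one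
  vector, provided there are as many residue classes mod `𝔭` as submodules.
* `exists_avoid_degOne`: the degree-one version of `exists_avoid` for algebras generated in
  degree one, under the residue-field-cardinality hypothesis.
-/

set_option autoImplicit false

namespace Groth.Agent.Lib.helper14.SymTenLib

universe u

variable {A B : Type u} [CommRing A] [CommRing B] [Algebra A B]
variable (𝒜 : ℕ → Submodule A B) [GradedAlgebra 𝒜]

/-- closure properties of (the homogeneous elements of) a homogeneous prime ideal -/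
structure HomPrime (P : ℕ → B → Prop) : Prop where
  zero : ∀ n, P n 0
  add : ∀ {n f g}, P n f → P n g → P n (f + g)
  smul : ∀ {n} (a : A) {f}, P n f → P n (a • f)
  mul : ∀ {n n' f g}, P n f → g ∈ 𝒜 n' → P (n + n') (f * g)
  prime : ∀ {n n' f g}, f ∈ 𝒜 n → g ∈ 𝒜 n' → P (n + n') (f * g) → P n f ∨ P n' g

namespace HomPrime

variable {𝒜} {P : ℕ → B → Prop} (hP : HomPrime 𝒜 P)
include hP

lemma neg {n : ℕ} {f : B} (h : P n f) : P n (-f) := by
  have := hP.smul (-1 : A) h
  rwa [neg_smul, one_smul] at this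

lemma of_add_right {n : ℕ} {f g : B} (h : P n (f + g)) (hg : P n g) : P n f := by
  have := hP.add h (hP.neg hg)
  rwa [add_neg_cancel_right] at this

lemma of_add_left {n : ℕ} {f g : B} (h : P n (f + g)) (hf : P n f) : P n g := by
  rw [add_comm] at h
  exact hP.of_add_right h hf

lemma not_one (hne : ∃ n f, f ∈ 𝒜 n ∧ ¬ P n f) : ¬ P 0 1 := by
  intro h1
  obtain ⟨n, f, hf, hnf⟩ := hne
  apply hnf
  have := hP.mul h1 hf
  rwa [zero_add, one_mul] at this

lemma pow {n : ℕ} {f : B} (h : P n f) (hf : f ∈ 𝒜 n) {e : ℕ} (he : 0 < e) :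
    P (e * n) (f ^ e) := by
  obtain ⟨e', rfl⟩ := Nat.exists_eq_succ_of_ne_zero he.ne'
  have h1 : f ^ e' ∈ 𝒜 (e' • n) := SetLike.pow_mem_graded e' hf
  have := hP.mul h h1
  rw [smul_eq_mul] at this
  rw [pow_succ', show (e'.succ) * n = n + e' * n by rw [Nat.succ_mul]; ring]
  exact this

lemma not_pow {n : ℕ} {f : B} (hf : f ∈ 𝒜 n) (h : ¬ P n f) (e : ℕ) :
    ¬ P (e * n) (f ^ e) := by
  induction e with
  | zero =>
    rw [zero_mul, pow_zero]
    exact hP.not_one ⟨n, f, hf, h⟩
  | succ e ih =>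
    intro hc
    rw [pow_succ, Nat.succ_mul] at hc
    have h1 : f ^ e ∈ 𝒜 (e * n) := by
      have := SetLike.pow_mem_graded (A := 𝒜) e hf
      rwa [smul_eq_mul] at this
    rcases hP.prime h1 hf hc with h' | h'
    · exact ih h'
    · exact h h'

lemma not_prod (hne : ∃ n f, f ∈ 𝒜 n ∧ ¬ P n f) {κ : Type*} (t : Finset κ) (x : κ → B)
    (nn : κ → ℕ) (hx : ∀ j ∈ t, x j ∈ 𝒜 (nn j)) (hnx : ∀ j ∈ t, ¬ P (nn j) (x j)) :
    ¬ P (∑ j ∈ t, nn j) (∏ j ∈ t, x j) := by
  classical
  induction t using Finset.induction_on with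
  | empty =>
    rw [Finset.sum_empty, Finset.prod_empty]
    exact hP.not_one hne
  | insert a t ha ih =>
    rw [Finset.sum_insert ha, Finset.prod_insert ha]
    intro hc
    have h1 : ∏ j ∈ t, x j ∈ 𝒜 (∑ j ∈ t, nn j) :=
      SetLike.prod_mem_graded 𝒜 nn x (fun j hj => hx j (Finset.mem_insert_of_mem hj))
    rcases hP.prime (hx a (Finset.mem_insert_self a t)) h1 hc with h' | h'
    · exact hnx a (Finset.mem_insert_self a t) h'
    · exact ih (fun j hj => hx j (Finset.mem_insert_of_mem hj))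
        (fun j hj => hnx j (Finset.mem_insert_of_mem hj)) h'

lemma prod_of_mem {κ : Type*} [DecidableEq κ] (t : Finset κ) (x : κ → B)
    (nn : κ → ℕ) (hx : ∀ j ∈ t, x j ∈ 𝒜 (nn j)) {j0 : κ} (hj0 : j0 ∈ t)
    (h : P (nn j0) (x j0)) : P (∑ j ∈ t, nn j) (∏ j ∈ t, x j) := by
  rw [← Finset.mul_prod_erase t x hj0, ← Finset.add_sum_erase t nn hj0]
  exact hP.mul h (SetLike.prod_mem_graded 𝒜 nn x (fun j hj => hx j (Finset.mem_of_mem_erase hj)))

end HomPrime

/-- **Graded prime avoidance.** -/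
theorem exists_avoid {ι : Type*} (P : ι → ℕ → B → Prop) (hP : ∀ i, HomPrime 𝒜 (P i))
    (s : Finset ι) (hs : ∀ i ∈ s, ∃ n, 0 < n ∧ ∃ f, f ∈ 𝒜 n ∧ ¬ P i n f) :
    ∃ n, 0 < n ∧ ∃ f, f ∈ 𝒜 n ∧ ∀ i ∈ s, ¬ P i n f := by
  classical
  induction s using Finset.strongInduction with
  | H s ih =>
    rcases s.eq_empty_or_nonempty with rfl | ⟨a, ha⟩
    · exact ⟨1, one_pos, 0, Submodule.zero_mem _, by simp⟩
    by_cases hsa : s.erase a = ∅
    · obtain ⟨n, hn, f, hf, hnf⟩ := hs a ha
      refine ⟨n, hn, f, hf, fun i hi => ?_⟩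
      have hia : i = a := by
        by_contra hne
        have : i ∈ s.erase a := Finset.mem_erase.2 ⟨hne, hi⟩
        rw [hsa] at this
        simp at this
      rw [hia]
      exact hnf
    have ih' : ∀ i ∈ s, ∃ n, 0 < n ∧ ∃ f, f ∈ 𝒜 n ∧ ∀ j ∈ s.erase i, ¬ P j n f := by
      intro i hi
      exact ih (s.erase i) (Finset.erase_ssubset hi)
        (fun j hj => hs j (Finset.mem_of_mem_erase hj))
    by_cases hgood : ∃ i ∈ s, ∃ n, 0 < n ∧ ∃ f, f ∈ 𝒜 n ∧
        (∀ j ∈ s.erase i, ¬ P j n f) ∧ ¬ P i n f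
    · obtain ⟨i, hi, n, hn, f, hf, h1, h2⟩ := hgood
      refine ⟨n, hn, f, hf, fun j hj => ?_⟩
      by_cases hji : j = i
      · rw [hji]; exact h2
      · exact h1 j (Finset.mem_erase.2 ⟨hji, hj⟩)
    push_neg at hgood
    choose! nn hnn x hx hxavoid using ih'
    have hxin : ∀ i ∈ s, P i (nn i) (x i) := fun i hi =>
      hgood i hi (nn i) (hnn i hi) (x i) (hx i hi) (hxavoid i hi)
    have hs'ne : (s.erase a).Nonempty := Finset.nonempty_iff_ne_empty.2 hsa
    have hN₁pos : 0 < ∑ j ∈ s.erase a, nn j :=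
      Finset.sum_pos (fun j hj => hnn j (Finset.mem_of_mem_erase hj)) hs'ne
    have hzmem : ∏ j ∈ s.erase a, x j ∈ 𝒜 (∑ j ∈ s.erase a, nn j) :=
      SetLike.prod_mem_graded 𝒜 nn x (fun j hj => hx j (Finset.mem_of_mem_erase hj))
    have hna : 0 < nn a := hnn a ha
    generalize hN : ∑ j ∈ s.erase a, nn j = N₁ at hN₁pos hzmem
    generalize hz : ∏ j ∈ s.erase a, x j = z at hzmem
    have hne : ∀ i ∈ s, ∃ n f, f ∈ 𝒜 n ∧ ¬ P i n f := by
      intro i hi
      obtain ⟨n, -, f, hf, hnf⟩ := hs i hi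
      exact ⟨n, f, hf, hnf⟩
    -- the two key claims
    have hA : ¬ P a (nn a * N₁) (z ^ (nn a) + (x a) ^ N₁) := by
      intro hc
      have h1 : P a (N₁ * nn a) ((x a) ^ N₁) := (hP a).pow (hxin a ha) (hx a ha) hN₁pos
      rw [mul_comm] at h1
      have h2 : ¬ P a N₁ z := by
        rw [← hN, ← hz]
        apply (hP a).not_prod (hne a ha) (s.erase a) x nn
          (fun j hj => hx j (Finset.mem_of_mem_erase hj))
        intro j hj
        exact hxavoid j (Finset.mem_of_mem_erase hj) a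
          (Finset.mem_erase.2 ⟨fun h => (Finset.ne_of_mem_erase hj) h.symm, ha⟩)
      exact (hP a).not_pow hzmem h2 (nn a) ((hP a).of_add_right hc h1)
    have hB : ∀ i ∈ s.erase a, ¬ P i (nn a * N₁) (z ^ (nn a) + (x a) ^ N₁) := by
      intro i hi hc
      have his : i ∈ s := Finset.mem_of_mem_erase hi
      have h1 : ¬ P i (N₁ * nn a) ((x a) ^ N₁) :=
        (hP i).not_pow (hx a ha) (hxavoid a ha i hi) N₁
      rw [mul_comm] at h1
      have h2 : P i N₁ z := by
        rw [← hN, ← hz]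
        exact (hP i).prod_of_mem (s.erase a) x nn
          (fun j hj => hx j (Finset.mem_of_mem_erase hj)) hi (hxin i his)
      exact h1 ((hP i).of_add_left hc ((hP i).pow h2 hzmem hna))
    refine ⟨nn a * N₁, Nat.mul_pos hna hN₁pos, z ^ (nn a) + (x a) ^ N₁, ?_, ?_⟩
    · apply Submodule.add_mem
      · have := SetLike.pow_mem_graded (A := 𝒜) (nn a) hzmem
        rwa [smul_eq_mul] at this
      · have := SetLike.pow_mem_graded (A := 𝒜) N₁ (hx a ha)
        rwa [smul_eq_mul, mul_comm] at this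
    · intro i hi
      by_cases hia : i = a
      · rw [hia]; exact hA
      · exact hB i (Finset.mem_erase.2 ⟨hia, hi⟩)

omit [GradedAlgebra 𝒜] in
/-- avoiding finitely many proper saturated submodules -/
theorem exists_avoid_submodules {V : Type*} [AddCommGroup V] [Module A V] (𝔭 : Ideal A)
    {ι : Type*} (W : ι → Submodule A V) (n : ℕ) (a : ℕ → A)
    (ha : ∀ j < n, ∀ j' < n, j ≠ j' → a j - a j' ∉ 𝔭)
    (s : Finset ι) (hcard : s.card ≤ n) (hne : ∀ i ∈ s, W i ≠ ⊤)
    (hsat : ∀ i ∈ s, ∀ c : A, c ∉ 𝔭 → ∀ v, c • v ∈ W i → v ∈ W i) :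
    ∃ v, ∀ i ∈ s, v ∉ W i := by
  classical
  induction s using Finset.induction_on with
  | empty => exact ⟨0, by simp⟩
  | insert i₀ s' hi₀ ih =>
    rw [Finset.card_insert_of_notMem hi₀] at hcard
    obtain ⟨v, hv⟩ := ih (by omega) (fun i hi => hne i (Finset.mem_insert_of_mem hi))
      (fun i hi => hsat i (Finset.mem_insert_of_mem hi))
    by_cases hv0 : v ∈ W i₀
    swap
    · refine ⟨v, fun i hi => ?_⟩
      rcases Finset.mem_insert.1 hi with rfl | hi
      · exact hv0
      · exact hv i hi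
    obtain ⟨u, hu⟩ : ∃ u, u ∉ W i₀ := by
      by_contra hcon
      push_neg at hcon
      exact hne i₀ (Finset.mem_insert_self _ _) (eq_top_iff.2 (fun x _ => hcon x))
    have hsat0 := hsat i₀ (Finset.mem_insert_self _ _)
    set c : ℕ → V := fun j => if a j ∈ 𝔭 then u else v + a j • u with hc
    have claim1 : ∀ j, c j ∉ W i₀ := by
      intro j
      simp only [hc]
      split_ifs with hj
      · exact hu
      · intro hmem
        apply hu
        apply hsat0 (a j) hj
        have := (W i₀).sub_mem hmem hv0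
        rwa [add_sub_cancel_left] at this
    have claim2 : ∀ i ∈ s', ∀ j < n, ∀ j' < n, j ≠ j' → c j ∈ W i → c j' ∈ W i → False := by
      intro i hi j hj j' hj' hjj' h1 h2
      have hsati := hsat i (Finset.mem_insert_of_mem hi)
      simp only [hc] at h1 h2
      split_ifs at h1 h2 with hp hp' hp'
      · exact ha j hj j' hj' hjj' (𝔭.sub_mem hp hp')
      · apply hv i hi
        have := (W i).sub_mem h2 ((W i).smul_mem (a j') h1)
        rwa [add_sub_cancel_right] at this
      · apply hv i hi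
        have := (W i).sub_mem h1 ((W i).smul_mem (a j) h2)
        rwa [add_sub_cancel_right] at this
      · have h3 := (W i).sub_mem h1 h2
        rw [add_sub_add_left_eq_sub, ← sub_smul] at h3
        have hu' : u ∈ W i := hsati _ (ha j hj j' hj' hjj') u h3
        apply hv i hi
        have := (W i).sub_mem h1 ((W i).smul_mem (a j) hu')
        rwa [add_sub_cancel_right] at this
    by_contra hall
    push_neg at hall
    have hall' : ∀ j : ℕ, ∃ i ∈ s', c j ∈ W i := by
      intro j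
      obtain ⟨i, hi, hmem⟩ := hall (c j)
      rcases Finset.mem_insert.1 hi with rfl | hi
      · exact absurd hmem (claim1 j)
      · exact ⟨i, hi, hmem⟩
    choose g hg hgmem using hall'
    obtain ⟨j, hj, j', hj', hjj', hgg⟩ :=
      Finset.exists_ne_map_eq_of_card_lt_of_maps_to (s := Finset.range n) (t := s') (f := g)
        (by rw [Finset.card_range]; omega) (fun j _ => hg j)
    rw [Finset.mem_range] at hj hj'
    exact claim2 (g j) (hg j) j hj j' hj' hjj' (hgmem j) (hgg ▸ hgmem j')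

omit [GradedAlgebra 𝒜] in
/-- enough residue classes -/
theorem exists_distinct_mod (𝔭 : Ideal A) [𝔭.IsPrime] (d : ℕ)
    (h : (d : Cardinal.{u}) ≤ Cardinal.mk 𝔭.ResidueField) :
    ∃ a : ℕ → A, ∀ j < d, ∀ j' < d, j ≠ j' → a j - a j' ∉ 𝔭 := by
  classical
  have h1 : (d : Cardinal.{u}) ≤ Cardinal.mk (A ⧸ 𝔭) := by
    rcases finite_or_infinite (A ⧸ 𝔭) with hfin | hinf
    · have hfield : IsField (A ⧸ 𝔭) := Finite.isField_of_domain (A ⧸ 𝔭)
      haveI : 𝔭.IsMaximal := Ideal.Quotient.maximal_of_isField 𝔭 hfield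
      have hbij := Ideal.bijective_algebraMap_quotient_residueField 𝔭
      rw [Cardinal.mk_congr (Equiv.ofBijective _ hbij)]
      exact h
    · exact (Cardinal.nat_lt_aleph0 d).le.trans (Cardinal.aleph0_le_mk (A ⧸ 𝔭))
  have h2 : Nonempty (Fin d ↪ (A ⧸ 𝔭)) := by
    rw [← Cardinal.lift_mk_le'.{0, u}]
    rw [Cardinal.mk_fin, Cardinal.lift_natCast, Cardinal.lift_uzero]
    exact h1
  obtain ⟨e⟩ := h2
  have hsurj := Ideal.Quotient.mk_surjective (I := 𝔭)
  choose r hr using hsurj
  refine ⟨fun j => if hj : j < d then r (e ⟨j, hj⟩) else 0, ?_⟩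
  intro j hj j' hj' hjj' hmem
  beta_reduce at hmem
  rw [dif_pos hj, dif_pos hj', ← Ideal.Quotient.eq, hr, hr] at hmem
  have := e.injective hmem
  exact hjj' (Fin.mk.inj_iff.1 this)

/-- in an algebra generated in degree one, `𝒜 (n+1) = 𝒜 1 * 𝒜 n` -/
theorem mem_mul_of_adjoin (hgen : Algebra.adjoin A (𝒜 1 : Set B) = ⊤) (n : ℕ) {x : B}
    (hx : x ∈ 𝒜 (n + 1)) : x ∈ 𝒜 1 * 𝒜 n := by
  classical
  have key : ∀ y ∈ Submonoid.closure (𝒜 1 : Set B),
      ∃ r, y ∈ 𝒜 r ∧ ∀ n', r = n' + 1 → y ∈ 𝒜 1 * 𝒜 n' := by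
    intro y hy
    induction hy using Submonoid.closure_induction_left with
    | one => exact ⟨0, SetLike.GradedOne.one_mem, fun n' h => by omega⟩
    | mul_left g hg y hy ih =>
      obtain ⟨r, hr, -⟩ := ih
      refine ⟨1 + r, SetLike.mul_mem_graded hg hr, fun n' h => ?_⟩
      have : r = n' := by omega
      subst this
      exact Submodule.mul_mem_mul hg hr
  have hall : ∀ y : B, ((DirectSum.decompose 𝒜 y (n + 1) : 𝒜 (n + 1)) : B) ∈ 𝒜 1 * 𝒜 n := by
    intro y
    have hy : y ∈ Submodule.span A (Submonoid.closure (𝒜 1 : Set B) : Set B) := by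
      rw [← Algebra.adjoin_eq_span, hgen]
      trivial
    induction hy using Submodule.span_induction with
    | mem y hy =>
      obtain ⟨r, hr, hr'⟩ := key y hy
      by_cases hrn : r = n + 1
      · subst hrn
        rw [DirectSum.decompose_of_mem_same 𝒜 hr]
        exact hr' n rfl
      · rw [DirectSum.decompose_of_mem_ne 𝒜 hr hrn]
        exact Submodule.zero_mem _
    | zero =>
      rw [DirectSum.decompose_zero]
      exact Submodule.zero_mem _
    | add y z _ _ hy hz =>
      rw [DirectSum.decompose_add]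
      exact Submodule.add_mem _ hy hz
    | smul a y _ hy =>
      rw [DirectSum.decompose_smul]
      exact Submodule.smul_mem _ a hy
  have := hall x
  rwa [DirectSum.decompose_of_mem_same 𝒜 hx] at this

/-- degree-one graded prime avoidance, under the residue field cardinality hypothesis -/
theorem exists_avoid_degOne (hgen : Algebra.adjoin A (𝒜 1 : Set B) = ⊤) {ι : Type*}
    (P : ι → ℕ → B → Prop) (hP : ∀ i, HomPrime 𝒜 (P i)) (𝔭 : Ideal A) [𝔭.IsPrime]
    (hsat : ∀ i, ∀ c : A, c ∉ 𝔭 → ∀ f ∈ 𝒜 1, P i 1 (c • f) → P i 1 f)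
    (s : Finset ι) (hs : ∀ i ∈ s, ∃ n, 0 < n ∧ ∃ f, f ∈ 𝒜 n ∧ ¬ P i n f)
    (hcard : (s.card : Cardinal.{u}) ≤ Cardinal.mk 𝔭.ResidueField) :
    ∃ f, f ∈ 𝒜 1 ∧ ∀ i ∈ s, ¬ P i 1 f := by
  classical
  let W : ι → Submodule A (𝒜 1) := fun i =>
    { carrier := {f | P i 1 f.1}
      add_mem' := fun hf hg => (hP i).add hf hg
      zero_mem' := (hP i).zero 1
      smul_mem' := fun a _ hf => (hP i).smul a hf }
  obtain ⟨a, ha⟩ := exists_distinct_mod 𝔭 s.card hcard
  have hne : ∀ i ∈ s, W i ≠ ⊤ := by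
    intro i hi htop
    obtain ⟨n, hn, f, hf, hnf⟩ := hs i hi
    obtain ⟨n', rfl⟩ := Nat.exists_eq_succ_of_ne_zero hn.ne'
    apply hnf
    have hmem := mem_mul_of_adjoin 𝒜 hgen n' hf
    refine Submodule.mul_induction_on hmem (fun g hg h hh => ?_) (fun y z hy hz => ?_)
    · have hg' : P i 1 g := by
        have : (⟨g, hg⟩ : 𝒜 1) ∈ W i := by rw [htop]; trivial
        exact this
      have := (hP i).mul hg' hh
      rwa [add_comm] at this
    · exact (hP i).add hy hz
  have hsat' : ∀ i ∈ s, ∀ c : A, c ∉ 𝔭 → ∀ v : 𝒜 1, c • v ∈ W i → v ∈ W i := by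
    intro i _ c hc v hv
    exact hsat i c hc v.1 v.2 hv
  obtain ⟨v, hv⟩ := exists_avoid_submodules 𝔭 W s.card a ha s le_rfl hne hsat'
  exact ⟨v.1, v.2, fun i hi => hv i hi⟩

end Groth.Agent.Lib.helper14.SymTenLib
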