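import Mathlib
import Groth.Prelude.Def_SymTen
import Groth.Agent.Lib.Helper14.SymTenLib1
import Groth.Agent.Lib.Helper14.SymTenLib2
import Groth.Agent.Lib.Helper14.SymTenLib3

/-!
# Symmetric tensors of a graded algebra: `Sym^d(Proj B)` is covered by the `D_+(f ⊗ ⋯ ⊗ f)` (helper14)

`main1`: every `t ∈ D_k`, `k ≥ 1`, has a power in the ideal of `D` generated by the `f ⊗ ⋯ ⊗ f`,
`f` homogeneous of positive degree.  `main2`: same with `f` of degree one, when `B` is generated in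
degree one and all residue fields of `A` have at least `d` elements.
-/

set_option autoImplicit false

namespace Groth.Agent.Lib.helper14.SymTenLib

open SymTen
open scoped TensorProduct

universe u

variable {A B : Type u} [CommRing A] [CommRing B] [Algebra A B]
variable (𝒜 : ℕ → Submodule A B) [GradedAlgebra 𝒜] (d : ℕ)

lemma PP_homPrime (𝔓 : Ideal (CC 𝒜 d)) [𝔓.IsPrime] (i : Fin d) : HomPrime 𝒜 (PP 𝔓 i) where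
  zero := PP_zero 𝔓 i
  add := PP_add 𝔓 i
  smul := PP_smul 𝔓 i
  mul := PP_mul 𝔓 i
  prime := PP_prime

theorem exists_prime_nonvanishing (𝔮 : Ideal (DD 𝒜 d)) [𝔮.IsPrime] {k : ℕ} (hk : 0 < k)
    {t : ⨂[A] _ : Fin d, B} (htD : t ∈ DD 𝒜 d)
    (htk : t ∈ Submodule.span A
      {s | ∃ b : Fin d → B, (∀ i, b i ∈ 𝒜 k) ∧ s = PiTensorProduct.tprod A b})
    (hnot : (⟨t, htD⟩ : DD 𝒜 d) ∉ 𝔮) :
    ∃ 𝔓 : Ideal (CC 𝒜 d), 𝔓.IsPrime ∧ (∀ x : DD 𝒜 d, inP 𝒜 d 𝔓 x.1 ↔ x ∈ 𝔮) ∧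
      ∀ i : Fin d, ∃ n, 0 < n ∧ ∃ f, f ∈ 𝒜 n ∧ ¬ PP 𝔓 i n f := by
  obtain ⟨𝔓, h𝔓, hover⟩ := exists_prime_over 𝒜 d 𝔮
  refine ⟨𝔓, h𝔓, fun x => ?_, ?_⟩
  · rw [inP_iff (DD_le_CC 𝒜 d x.2)]
    exact hover x
  · have hex : ∃ b : Fin d → B, (∀ i, b i ∈ 𝒜 k) ∧
        ¬ inP 𝒜 d 𝔓 (PiTensorProduct.tprod A b) := by
      by_contra hcon
      push_neg at hcon
      have hle : Submodule.span A
          {s | ∃ b : Fin d → B, (∀ i, b i ∈ 𝒜 k) ∧ s = PiTensorProduct.tprod A b} ≤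
            inPSub 𝔓 := by
        apply Submodule.span_le.2
        rintro _ ⟨b, hb, rfl⟩
        exact hcon b hb
      have h1 : inP 𝒜 d 𝔓 t := hle htk
      rw [inP_iff (DD_le_CC 𝒜 d htD)] at h1
      exact hnot ((hover ⟨t, htD⟩).1 h1)
    obtain ⟨b, hb, hnb⟩ := hex
    intro i
    exact ⟨k, hk, b i, hb i, not_PP_of_tprod hb hnb⟩

lemma tpow_mem_DD {n : ℕ} {f : B} (hf : f ∈ 𝒜 n) :
    PiTensorProduct.tprod A (fun _ : Fin d => f) ∈ DD 𝒜 d :=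
  ⟨tprod_mem_CC 𝒜 d (fun _ => hf), (SymTen.tpow A B d f).2⟩

lemma pow_mem_of_mem_radical {R : Type*} [CommRing R] {I : Ideal R} {x : R}
    (h : x ∈ I.radical) : ∃ m : ℕ, 0 < m ∧ x ^ m ∈ I := by
  obtain ⟨m, hm⟩ := h
  exact ⟨m + 1, Nat.succ_pos m, by rw [pow_succ]; exact I.mul_mem_right _ hm⟩

theorem main1 (k : ℕ) (hk : 0 < k) (t : ⨂[A] _ : Fin d, B) (htD : t ∈ DD 𝒜 d)
    (htk : t ∈ Submodule.span A
      {s | ∃ b : Fin d → B, (∀ i, b i ∈ 𝒜 k) ∧ s = PiTensorProduct.tprod A b}) :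
    ∃ m : ℕ, 0 < m ∧ (⟨t, htD⟩ : DD 𝒜 d) ^ m ∈
      Ideal.span {x : DD 𝒜 d | ∃ (n : ℕ) (f : B), 0 < n ∧ f ∈ 𝒜 n ∧
        (x : ⨂[A] _ : Fin d, B) = PiTensorProduct.tprod A (fun _ : Fin d => f)} := by
  apply pow_mem_of_mem_radical
  rw [Ideal.radical_eq_sInf, Ideal.mem_sInf]
  rintro 𝔮 ⟨hI𝔮, h𝔮⟩
  by_contra hnot
  obtain ⟨𝔓, h𝔓, hover, hnv⟩ := exists_prime_nonvanishing 𝒜 d 𝔮 hk htD htk hnot
  obtain ⟨n, hn, f, hf, havoid⟩ := exists_avoid 𝒜 (PP 𝔓) (PP_homPrime 𝒜 d 𝔓) Finset.univ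
    (fun i _ => hnv i)
  apply not_inP_tpow hf (fun i => havoid i (Finset.mem_univ i))
  have hmem : (⟨_, tpow_mem_DD 𝒜 d hf⟩ : DD 𝒜 d) ∈ 𝔮 :=
    hI𝔮 (Ideal.subset_span ⟨n, f, hn, hf, rfl⟩)
  exact (hover ⟨_, tpow_mem_DD 𝒜 d hf⟩).2 hmem

theorem main2 (hgen : Algebra.adjoin A (𝒜 1 : Set B) = ⊤)
    (hres : ∀ p : PrimeSpectrum A, (d : Cardinal) ≤ Cardinal.mk p.asIdeal.ResidueField)
    (k : ℕ) (hk : 0 < k) (t : ⨂[A] _ : Fin d, B) (htD : t ∈ DD 𝒜 d)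
    (htk : t ∈ Submodule.span A
      {s | ∃ b : Fin d → B, (∀ i, b i ∈ 𝒜 k) ∧ s = PiTensorProduct.tprod A b}) :
    ∃ m : ℕ, 0 < m ∧ (⟨t, htD⟩ : DD 𝒜 d) ^ m ∈
      Ideal.span {x : DD 𝒜 d | ∃ f : B, f ∈ 𝒜 1 ∧
        (x : ⨂[A] _ : Fin d, B) = PiTensorProduct.tprod A (fun _ : Fin d => f)} := by
  apply pow_mem_of_mem_radical
  rw [Ideal.radical_eq_sInf, Ideal.mem_sInf]
  rintro 𝔮 ⟨hI𝔮, h𝔮⟩
  by_contra hnot
  obtain ⟨𝔓, h𝔓, hover, hnv⟩ := exists_prime_nonvanishing 𝒜 d 𝔮 hk htD htk hnot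
  have hsat : ∀ i : Fin d, ∀ c : A, c ∉ 𝔓.comap (algebraMap A (CC 𝒜 d)) → ∀ f ∈ 𝒜 1,
      PP 𝔓 i 1 (c • f) → PP 𝔓 i 1 f := by
    intro i c hc f hf h
    refine PP_sat ?_ hf h
    intro hin
    apply hc
    rw [inP_iff ((CC 𝒜 d).algebraMap_mem c)] at hin
    rw [Ideal.mem_comap]
    exact hin
  have hcard : ((Finset.univ : Finset (Fin d)).card : Cardinal.{u}) ≤
      Cardinal.mk (𝔓.comap (algebraMap A (CC 𝒜 d))).ResidueField := by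
    rw [Finset.card_univ, Fintype.card_fin]
    exact hres ⟨𝔓.comap (algebraMap A (CC 𝒜 d)), inferInstance⟩
  obtain ⟨f, hf, havoid⟩ := exists_avoid_degOne 𝒜 hgen (PP 𝔓) (PP_homPrime 𝒜 d 𝔓)
    (𝔓.comap (algebraMap A (CC 𝒜 d))) hsat Finset.univ (fun i _ => hnv i) hcard
  apply not_inP_tpow hf (fun i => havoid i (Finset.mem_univ i))
  have hmem : (⟨_, tpow_mem_DD 𝒜 d hf⟩ : DD 𝒜 d) ∈ 𝔮 :=
    hI𝔮 (Ideal.subset_span ⟨f, hf, rfl⟩)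
  exact (hover ⟨_, tpow_mem_DD 𝒜 d hf⟩).2 hmem

end Groth.Agent.Lib.helper14.SymTenLib
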