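import Mathlib
import Groth.Prelude.Def_SymTen
import Groth.Agent.Lib.Helper14.SymTenLib1
import Groth.Agent.Lib.Helper14.SymTenLib2
import Groth.Agent.Lib.Helper14.SymTenLib3
import Groth.Agent.Lib.Helper14.SymTenLib4

/-!
# Symmetric tensors of a graded algebra: `Proj D` is covered in degree one (helper14)

`main3`: if `B` is generated in degree one, every `t ∈ D_k`, `k ≥ 1`, has a power in the ideal of
`D` generated by `D_1`.  Direct argument (no base change): for a prime `𝔓` of `C` and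
`g i ∈ B_1` outside the `i`-th projection of `𝔓`, the polynomial
`∏_i (∑_j u_ij X^j)`, `u_ij = g with slot i replaced by g j`, is not in `𝔓[X]`; its coefficients are
`G^(d-1) • e_m` with `e_m = ∑_{φ, ∑ φ = m} ⊗_i g (φ i)` symmetric of degree one.
-/

set_option autoImplicit false

namespace Groth.Agent.Lib.helper14.SymTenLib

open SymTen
open scoped TensorProduct Polynomial

universe u

variable {A B : Type u} [CommRing A] [CommRing B] [Algebra A B]
variable {𝒜 : ℕ → Submodule A B} [GradedAlgebra 𝒜] {d : ℕ}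

/-- if `f i` avoids the `i`-th projection of `𝔓` for all `i`, then `f 0 ⊗ ⋯ ⊗ f (d-1) ∉ 𝔓` -/
theorem not_inP_tprod {𝔓 : Ideal (CC 𝒜 d)} [𝔓.IsPrime] {n : ℕ} {f : Fin d → B}
    (hf : ∀ i, f i ∈ 𝒜 n) (h : ∀ i : Fin d, ¬ PP 𝔓 i n (f i)) :
    ¬ inP 𝒜 d 𝔓 (PiTensorProduct.tprod A f) := by
  classical
  unfold PP at h
  push_neg at h
  choose m b hbi hbj hn using h
  intro hin
  set c : Fin d → B := fun j => ∏ l, b l j with hc
  have hprod : ∏ l : Fin d, PiTensorProduct.tprod A (Function.update (b l) l (f l * b l l)) =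
      PiTensorProduct.tprod A f * PiTensorProduct.tprod A c := by
    rw [← PiTensorProduct.tprod_prod, PiTensorProduct.tprod_mul_tprod]
    congr 1
    funext j
    rw [Finset.prod_apply, Pi.mul_apply]
    have : ∀ l : Fin d, Function.update (b l) l (f l * b l l) j =
        (if l = j then f l else 1) * b l j := by
      intro l
      by_cases hl : l = j
      · subst hl
        rw [Function.update_self, if_pos rfl]
      · rw [Function.update_of_ne (Ne.symm hl), if_neg hl, one_mul]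
    simp_rw [this]
    rw [Finset.prod_mul_distrib, Finset.prod_ite_eq' Finset.univ j f]
    simp [hc]
  have hcC : PiTensorProduct.tprod A c ∈ CC 𝒜 d := by
    apply tprod_mem_CC 𝒜 d (k := (∑ l : Fin d, (n + m l)) - n)
    intro j
    have h1 : c j ∈ 𝒜 (∑ l : Fin d, (if l = j then m l else n + m l)) := by
      rw [hc]
      apply SetLike.prod_mem_graded
      intro l _
      by_cases hl : l = j
      · subst hl
        rw [if_pos rfl]
        exact hbi l
      · rw [if_neg hl]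
        exact hbj l j (Ne.symm hl)
    have h2 : (∑ l : Fin d, (if l = j then m l else n + m l)) + n = ∑ l : Fin d, (n + m l) := by
      have : n = ∑ l : Fin d, (if l = j then n else 0) := by
        rw [Finset.sum_ite_eq' Finset.univ j (fun _ => n)]
        simp
      conv_lhs => rw [this]
      rw [← Finset.sum_add_distrib]
      apply Finset.sum_congr rfl
      intro l _
      split_ifs <;> omega
    have h3 : (∑ l : Fin d, (if l = j then m l else n + m l)) = (∑ l : Fin d, (n + m l)) - n := by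
      omega
    rwa [h3] at h1
  have h4 := inP_mul_right hin hcC
  rw [← hprod] at h4
  obtain ⟨l, -, hl⟩ := exists_of_inP_prod Finset.univ _
    (fun l _ => tprod_update_mem_CC (hf l) (hbi l) (hbj l)) h4
  exact hn l hl

/-- a homogeneous prime not containing the irrelevant ideal misses an element of degree one,
when `B` is generated in degree one -/
lemma HomPrime.exists_degOne {P : ℕ → B → Prop} (hP : HomPrime 𝒜 P)
    (hgen : Algebra.adjoin A (𝒜 1 : Set B) = ⊤)
    (h : ∃ n, 0 < n ∧ ∃ f, f ∈ 𝒜 n ∧ ¬ P n f) : ∃ g, g ∈ 𝒜 1 ∧ ¬ P 1 g := by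
  by_contra hcon
  push_neg at hcon
  obtain ⟨n, hn, f, hf, hnf⟩ := h
  obtain ⟨n', rfl⟩ := Nat.exists_eq_succ_of_ne_zero hn.ne'
  apply hnf
  have hmem := mem_mul_of_adjoin 𝒜 hgen n' hf
  refine Submodule.mul_induction_on hmem (fun g hg h hh => ?_) (fun y z hy hz => hP.add hy hz)
  have := hP.mul (hcon g hg) hh
  rwa [add_comm] at this

lemma span_le_CC (k : ℕ) :
    Submodule.span A {s | ∃ b : Fin d → B, (∀ i, b i ∈ 𝒜 k) ∧ s = PiTensorProduct.tprod A b} ≤
      Subalgebra.toSubmodule (CC 𝒜 d) := by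
  apply Submodule.span_le.2
  rintro _ ⟨b, hb, rfl⟩
  exact tprod_mem_CC 𝒜 d hb

/-- the degree-one symmetric tensor `e_m(g) = ∑_{φ, ∑ φ = m} ⊗_i g (φ i)` -/
noncomputable def symE (g : Fin d → B) (m : ℕ) : ⨂[A] _ : Fin d, B :=
  ∑ φ ∈ (Finset.univ : Finset (Fin d → Fin d)).filter (fun φ => ∑ i, ((φ i : Fin d) : ℕ) = m),
    PiTensorProduct.tprod A (fun i => g (φ i))

lemma symE_mem_span {g : Fin d → B} (hg : ∀ i, g i ∈ 𝒜 1) (m : ℕ) :
    symE (A := A) g m ∈ Submodule.span A
      {s | ∃ b : Fin d → B, (∀ i, b i ∈ 𝒜 1) ∧ s = PiTensorProduct.tprod A b} := by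
  unfold symE
  apply Submodule.sum_mem
  intro φ _
  exact Submodule.subset_span ⟨_, fun i => hg (φ i), rfl⟩

lemma symE_mem_TS (g : Fin d → B) (m : ℕ) : symE (A := A) g m ∈ SymTen.TS A B d := by
  intro σ
  unfold symE
  rw [map_sum]
  simp_rw [PiTensorProduct.reindex_tprod]
  refine Finset.sum_equiv (Equiv.arrowCongr σ (Equiv.refl _)) (fun φ => ?_) (fun φ _ => ?_)
  · simp only [Finset.mem_filter, Finset.mem_univ, true_and]
    have : ∑ i, (((Equiv.arrowCongr σ (Equiv.refl (Fin d))) φ i : Fin d) : ℕ) =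
        ∑ i, ((φ i : Fin d) : ℕ) := by
      have := Equiv.sum_comp σ.symm (fun i => ((φ i : Fin d) : ℕ))
      simpa [Equiv.arrowCongr] using this
    rw [this]
  · rfl

variable (𝔓 : Ideal (CC 𝒜 d)) [h𝔓 : 𝔓.IsPrime]

theorem exists_symE_not_inP {g : Fin d → B} (hg : ∀ i, g i ∈ 𝒜 1)
    (hG : ¬ inP 𝒜 d 𝔓 (PiTensorProduct.tprod A g)) :
    ∃ m : ℕ, ¬ inP 𝒜 d 𝔓 (symE (A := A) g m) := by
  classical
  by_contra hcon
  push_neg at hcon
  -- elements of `CC`
  let Gc : CC 𝒜 d := ⟨PiTensorProduct.tprod A g, tprod_mem_CC 𝒜 d hg⟩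
  have hGc : Gc ∉ 𝔓 := fun h => hG ⟨_, h⟩
  let u : Fin d → Fin d → CC 𝒜 d := fun i j =>
    ⟨PiTensorProduct.tprod A (Function.update g i (g j)), tprod_mem_CC 𝒜 d (k := 1) (fun l => by
      by_cases hl : l = i
      · subst hl; rw [Function.update_self]; exact hg j
      · rw [Function.update_of_ne hl]; exact hg l)⟩
  let tφ : (Fin d → Fin d) → CC 𝒜 d := fun φ =>
    ⟨PiTensorProduct.tprod A (fun i => g (φ i)), tprod_mem_CC 𝒜 d (k := 1) (fun i => hg (φ i))⟩
  have huii : ∀ i, u i i = Gc := by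
    intro i
    apply Subtype.ext
    show PiTensorProduct.tprod A (Function.update g i (g i)) = PiTensorProduct.tprod A g
    rw [Function.update_eq_self]
  -- the key identity
  have hkey : ∀ φ : Fin d → Fin d, ∏ i, u i (φ i) = Gc ^ (d - 1) * tφ φ := by
    intro φ
    apply Subtype.ext
    rw [SubmonoidClass.coe_finset_prod, MulMemClass.coe_mul, SubmonoidClass.coe_pow]
    show ∏ i, PiTensorProduct.tprod A (Function.update g i (g (φ i))) =
      PiTensorProduct.tprod A g ^ (d - 1) * PiTensorProduct.tprod A (fun i => g (φ i))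
    have hpow : PiTensorProduct.tprod A g ^ (d - 1) = PiTensorProduct.tprod A (g ^ (d - 1)) :=
      (map_pow (PiTensorProduct.tprodMonoidHom (ι := Fin d) (A := fun _ => B) A) g (d - 1)).symm
    rw [← PiTensorProduct.tprod_prod, hpow, PiTensorProduct.tprod_mul_tprod]
    congr 1
    funext l
    rw [Finset.prod_apply, Pi.mul_apply, Pi.pow_apply]
    rw [← Finset.mul_prod_erase Finset.univ _ (Finset.mem_univ l), Function.update_self]
    rw [Finset.prod_congr rfl (g := fun _ => g l) (fun i hi => by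
      rw [Function.update_of_ne (Ne.symm (Finset.ne_of_mem_erase hi))])]
    rw [Finset.prod_const, Finset.card_erase_of_mem (Finset.mem_univ l), Finset.card_univ,
      Fintype.card_fin, mul_comm]
  -- the polynomials
  let p : Fin d → (CC 𝒜 d)[X] := fun i => ∑ j : Fin d, Polynomial.C (u i j) * Polynomial.X ^ (j : ℕ)
  have hp : ∀ i, p i ∉ Ideal.map (Polynomial.C : CC 𝒜 d →+* (CC 𝒜 d)[X]) 𝔓 := by
    intro i hmem
    rw [Ideal.mem_map_C_iff] at hmem
    have := hmem (i : ℕ)
    simp only [p, Polynomial.finset_sum_coeff, Polynomial.coeff_C_mul_X_pow] at this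
    rw [Finset.sum_eq_single i] at this
    · rw [if_pos rfl, huii] at this
      exact hGc this
    · intro j _ hji
      rw [if_neg]
      intro h
      exact hji (Fin.ext h.symm)
    · intro h
      exact absurd (Finset.mem_univ i) h
  have hprod : ∏ i, p i ∉ Ideal.map (Polynomial.C : CC 𝒜 d →+* (CC 𝒜 d)[X]) 𝔓 := by
    rw [Ideal.IsPrime.prod_mem_iff]
    rintro ⟨i, -, hi⟩
    exact hp i hi
  apply hprod
  rw [Ideal.mem_map_C_iff]
  intro n
  have hexp : ∏ i, p i = ∑ φ : Fin d → Fin d,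
      Polynomial.C (∏ i, u i (φ i)) * Polynomial.X ^ (∑ i, ((φ i : Fin d) : ℕ)) := by
    simp only [p]
    rw [Fintype.prod_sum]
    apply Finset.sum_congr rfl
    intro φ _
    rw [Finset.prod_mul_distrib, ← map_prod, Finset.prod_pow_eq_pow_sum]
  rw [hexp, Polynomial.finset_sum_coeff]
  simp only [Polynomial.coeff_C_mul_X_pow]
  rw [← Finset.sum_filter]
  simp_rw [hkey]
  rw [← Finset.mul_sum]
  apply 𝔓.mul_mem_left
  obtain ⟨h1, h2⟩ := hcon n
  have : (∑ φ ∈ (Finset.univ : Finset (Fin d → Fin d)).filter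
      (fun φ => n = ∑ i, ((φ i : Fin d) : ℕ)), tφ φ) = ⟨symE (A := A) g n, h1⟩ := by
    apply Subtype.ext
    rw [AddSubmonoidClass.coe_finset_sum]
    unfold symE
    apply Finset.sum_congr
    · ext φ
      simp only [Finset.mem_filter, Finset.mem_univ, true_and]
      exact eq_comm
    · intro φ _
      rfl
  rw [this]
  exact h2

/-- **Covering in degree one.** -/
theorem main3 (𝒜 : ℕ → Submodule A B) [GradedAlgebra 𝒜] (d : ℕ)
    (hgen : Algebra.adjoin A (𝒜 1 : Set B) = ⊤)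
    (k : ℕ) (hk : 0 < k) (t : ⨂[A] _ : Fin d, B) (htD : t ∈ DD 𝒜 d)
    (htk : t ∈ Submodule.span A
      {s | ∃ b : Fin d → B, (∀ i, b i ∈ 𝒜 k) ∧ s = PiTensorProduct.tprod A b}) :
    ∃ m : ℕ, 0 < m ∧ (⟨t, htD⟩ : DD 𝒜 d) ^ m ∈
      Ideal.span {x : DD 𝒜 d | (x : ⨂[A] _ : Fin d, B) ∈
        Submodule.span A
          {s | ∃ b : Fin d → B, (∀ i, b i ∈ 𝒜 1) ∧ s = PiTensorProduct.tprod A b}} := by
  apply pow_mem_of_mem_radical
  rw [Ideal.radical_eq_sInf, Ideal.mem_sInf]
  rintro 𝔮 ⟨hI𝔮, h𝔮⟩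
  by_contra hnot
  obtain ⟨𝔓, h𝔓, hover, hnv⟩ := exists_prime_nonvanishing 𝒜 d 𝔮 hk htD htk hnot
  have hex : ∀ i : Fin d, ∃ g, g ∈ 𝒜 1 ∧ ¬ PP 𝔓 i 1 g := fun i =>
    (PP_homPrime 𝒜 d 𝔓 i).exists_degOne hgen (hnv i)
  choose g hg hng using hex
  have hG := not_inP_tprod hg hng
  obtain ⟨m, hm⟩ := exists_symE_not_inP 𝔓 hg hG
  apply hm
  have hDD : symE (A := A) g m ∈ DD 𝒜 d :=
    ⟨span_le_CC 1 (symE_mem_span hg m), symE_mem_TS g m⟩
  have hmem : (⟨_, hDD⟩ : DD 𝒜 d) ∈ 𝔮 := hI𝔮 (Ideal.subset_span (symE_mem_span hg m))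
  exact (hover ⟨_, hDD⟩).2 hmem

end Groth.Agent.Lib.helper14.SymTenLib
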