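import Mathlib

/-!
# Symmetric tensors of a free module: trace formula (helper14)

For a free module `M` with basis `b : Basis ι A M`, the submodule `Gam A M n` of symmetric tensors
in `⨂^n M` (invariants of all permutations) is free with basis indexed by `Sym ι n`, and the trace
of the endomorphism induced by `u^{⊗n}` is `hS n U` for `U` the matrix of `u`:
`hS n U = ∑ f : Fin n → ι, ∏ j, U (rep (q f) j) (f j)`.
-/

set_option autoImplicit false

namespace Groth.Agent.Lib.helper14.SymTr

open TensorProduct PiTensorProduct Module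

universe u v

section Quot

variable {ι : Type v} (n : ℕ)

/-- the multiset of values of a tuple -/
def q (f : Fin n → ι) : Sym ι n :=
  ⟨(Finset.univ : Finset (Fin n)).val.map f, by simp⟩

lemma q_val (f : Fin n → ι) :
    ((q n f : Sym ι n) : Multiset ι) = (Finset.univ : Finset (Fin n)).val.map f := rfl

lemma q_comp_perm (f : Fin n → ι) (σ : Equiv.Perm (Fin n)) : q n (f ∘ σ) = q n f := by
  apply Subtype.ext
  show Multiset.map (f ∘ σ) Finset.univ.val = Multiset.map f Finset.univ.val
  rw [← Multiset.map_map, Multiset.map_univ_val_equiv]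

lemma q_surjective : Function.Surjective (q (ι := ι) n) := by
  rintro ⟨m, hm⟩
  induction m using Quotient.inductionOn with
  | _ l =>
    have hl : l.length = n := hm
    subst hl
    refine ⟨fun j => l.get j, ?_⟩
    apply Subtype.ext
    show Multiset.map (fun j => l.get j) Finset.univ.val = (l : Multiset ι)
    rw [Fin.univ_val_map, List.ofFn_get]

/-- a chosen tuple with given multiset of values -/
noncomputable def rep (s : Sym ι n) : Fin n → ι := Function.surjInv (q_surjective n) s

@[simp] lemma q_rep (s : Sym ι n) : q n (rep n s) = s := Function.surjInv_eq (q_surjective n) s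

lemma exists_perm_of_q_eq {f g : Fin n → ι} (h : q n f = q n g) :
    ∃ σ : Equiv.Perm (Fin n), g ∘ σ = f := by
  classical
  have hc : ∀ i, Fintype.card {j // f j = i} = Fintype.card {j // g j = i} := by
    intro i
    have h1 := congrArg (fun s : Sym ι n => Multiset.count i (s : Multiset ι)) h
    simp only [q_val, Multiset.count_map] at h1
    rw [Fintype.card_subtype, Fintype.card_subtype]
    simp only [Finset.card_def, Finset.filter_val]
    convert h1 using 3 <;> exact eq_comm
  let e : ∀ i, {j // f j = i} ≃ {j // g j = i} := fun i => Fintype.equivOfCardEq (hc i)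
  let σ : Equiv.Perm (Fin n) := (Equiv.sigmaFiberEquiv f).symm.trans
    ((Equiv.sigmaCongrRight e).trans (Equiv.sigmaFiberEquiv g))
  refine ⟨σ, ?_⟩
  funext j
  exact ((e (f j)) ⟨j, rfl⟩).2

end Quot

section Mod

variable {A : Type u} [CommRing A] {M : Type u} [AddCommGroup M] [Module A M]
variable {ι : Type v} [Fintype ι] [DecidableEq ι] (b : Basis ι A M) (n : ℕ)

/-- symmetric tensors: invariants of all permutations of the factors -/
abbrev Gam (A : Type u) [CommRing A] (M : Type u) [AddCommGroup M] [Module A M] (n : ℕ) :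
    Submodule A (⨂[A] _i : Fin n, M) :=
  ⨅ σ : Equiv.Perm (Fin n),
    LinearMap.eqLocus ((PiTensorProduct.reindex A (fun _ : Fin n => M) σ).toLinearMap) LinearMap.id

/-- the tensor basis -/
noncomputable abbrev BB : Basis (Fin n → ι) A (⨂[A] _i : Fin n, M) :=
  Basis.piTensorProduct (fun _ : Fin n => b)

lemma reindex_BB (σ : Equiv.Perm (Fin n)) (f : Fin n → ι) :
    PiTensorProduct.reindex A (fun _ : Fin n => M) σ (BB b n f) = BB b n (f ∘ σ.symm) := by
  rw [BB, Basis.piTensorProduct_apply, Basis.piTensorProduct_apply, PiTensorProduct.reindex_tprod]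
  rfl

lemma repr_reindex (σ : Equiv.Perm (Fin n)) (x : ⨂[A] _i : Fin n, M) (f : Fin n → ι) :
    (BB b n).repr (PiTensorProduct.reindex A (fun _ : Fin n => M) σ x) f =
      (BB b n).repr x (f ∘ σ) := by
  have key : (Finsupp.lapply f) ∘ₗ (BB b n).repr.toLinearMap ∘ₗ
      (PiTensorProduct.reindex A (fun _ : Fin n => M) σ).toLinearMap =
      Finsupp.lapply (f ∘ σ) ∘ₗ (BB b n).repr.toLinearMap := by
    apply (BB b n).ext
    intro g
    simp only [LinearMap.comp_apply, LinearEquiv.coe_coe, Finsupp.lapply_apply]
    rw [reindex_BB, Basis.repr_self, Basis.repr_self, Finsupp.single_apply, Finsupp.single_apply]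
    have : (g ∘ σ.symm = f) ↔ (g = f ∘ σ) := by
      constructor
      · rintro rfl; funext j; simp
      · rintro rfl; funext j; simp
    simp only [this]
  exact LinearMap.congr_fun key x

lemma mem_Gam_iff (x : ⨂[A] _i : Fin n, M) :
    x ∈ Gam A M n ↔ ∀ (σ : Equiv.Perm (Fin n)) (f : Fin n → ι),
      (BB b n).repr x (f ∘ σ) = (BB b n).repr x f := by
  simp only [Gam, Submodule.mem_iInf, LinearMap.mem_eqLocus, LinearEquiv.coe_coe, LinearMap.id_apply]
  constructor
  · intro h σ f
    rw [← repr_reindex, h σ]
  · intro h σ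
    apply (BB b n).repr.injective
    ext f
    rw [repr_reindex, h σ f]

lemma repr_eq_of_q_eq {x : ⨂[A] _i : Fin n, M} (hx : x ∈ Gam A M n) {f g : Fin n → ι}
    (h : q n f = q n g) : (BB b n).repr x f = (BB b n).repr x g := by
  obtain ⟨σ, rfl⟩ := exists_perm_of_q_eq n h
  exact ((mem_Gam_iff b n x).1 hx σ g)

/-- symmetric tensors are functions on `Sym ι n` -/
noncomputable def Phi : Gam A M n ≃ₗ[A] (Sym ι n → A) where
  toFun x := fun s => (BB b n).repr (x : ⨂[A] _i : Fin n, M) (rep n s)
  map_add' x y := by funext s; simp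
  map_smul' a x := by funext s; simp
  invFun d := ⟨(BB b n).equivFun.symm (fun f => d (q n f)), by
    rw [mem_Gam_iff b n]
    intro σ f
    have h1 : ∀ g, (BB b n).repr ((BB b n).equivFun.symm (fun f => d (q n f))) g = d (q n g) := by
      intro g
      have := congrFun ((BB b n).equivFun.apply_symm_apply (fun f => d (q n f))) g
      simpa [Basis.equivFun_apply] using this
    rw [h1, h1, q_comp_perm]⟩
  left_inv x := by
    apply Subtype.ext
    apply (BB b n).equivFun.injective
    rw [LinearEquiv.apply_symm_apply]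
    funext f
    rw [Basis.equivFun_apply]
    exact repr_eq_of_q_eq b n x.2 (by simp)
  right_inv d := by
    funext s
    have h1 : ∀ g, (BB b n).repr ((BB b n).equivFun.symm (fun f => d (q n f))) g = d (q n g) := by
      intro g
      have := congrFun ((BB b n).equivFun.apply_symm_apply (fun f => d (q n f))) g
      simpa [Basis.equivFun_apply] using this
    show (BB b n).repr ((BB b n).equivFun.symm (fun f => d (q n f))) (rep n s) = d s
    rw [h1, q_rep]

lemma Phi_apply (x : Gam A M n) (s : Sym ι n) :
    Phi b n x s = (BB b n).repr (x : ⨂[A] _i : Fin n, M) (rep n s) := rfl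

lemma Phi_symm_coe (d : Sym ι n → A) :
    (((Phi b n).symm d : Gam A M n) : ⨂[A] _i : Fin n, M) =
      ∑ f : Fin n → ι, d (q n f) • BB b n f := by
  show (BB b n).equivFun.symm (fun f => d (q n f)) = _
  rw [Basis.equivFun_symm_apply]

/-- the trace polynomial of the `n`-th symmetric tensor power -/
noncomputable def hS (n : ℕ) {R : Type*} [CommRing R] (U : Matrix ι ι R) : R :=
  ∑ f : Fin n → ι, ∏ j, U (rep n (q n f) j) (f j)

lemma hS_map (n : ℕ) {R S : Type*} [CommRing R] [CommRing S] (φ : R →+* S) (U : Matrix ι ι R) :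
    hS n (U.map φ) = φ (hS n U) := by
  simp only [hS, map_sum, map_prod, Matrix.map_apply]

theorem trace_eq_hS (u : M →ₗ[A] M) (γ : Gam A M n →ₗ[A] Gam A M n)
    (hγ : ∀ x : Gam A M n, ((γ x : Gam A M n) : ⨂[A] _i : Fin n, M) =
      PiTensorProduct.map (fun _ : Fin n => u) (x : ⨂[A] _i : Fin n, M)) :
    LinearMap.trace A _ γ = hS n (LinearMap.toMatrix b b u) := by
  classical
  rw [← LinearMap.trace_conj' γ (Phi b n),
    LinearMap.trace_eq_matrix_trace A (Pi.basisFun A (Sym ι n)), Matrix.trace]
  simp only [Matrix.diag_apply, LinearMap.toMatrix_apply, Pi.basisFun_repr, Pi.basisFun_apply,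
    LinearEquiv.conj_apply, LinearMap.comp_apply, LinearEquiv.coe_coe]
  have key : ∀ s : Sym ι n, Phi b n (γ ((Phi b n).symm (Pi.single s 1))) s =
      ∑ f : Fin n → ι, if q n f = s then ∏ j, LinearMap.toMatrix b b u (rep n s j) (f j) else 0 := by
    intro s
    rw [Phi_apply, hγ, Phi_symm_coe, map_sum, map_sum, Finsupp.coe_finset_sum, Finset.sum_apply]
    apply Finset.sum_congr rfl
    intro f _
    rw [map_smul, map_smul, Finsupp.smul_apply, Basis.piTensorProduct_apply,
      PiTensorProduct.map_tprod, Basis.piTensorProduct_repr_tprod_apply]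
    by_cases h : q n f = s
    · rw [if_pos h, h, Pi.single_eq_same, one_smul]
      apply Finset.prod_congr rfl
      intro j _
      rw [LinearMap.toMatrix_apply]
    · rw [if_neg h, Pi.single_eq_of_ne h, zero_smul]
  rw [Finset.sum_congr rfl (fun s _ => key s), Finset.sum_comm, hS]
  apply Finset.sum_congr rfl
  intro f _
  rw [Finset.sum_ite_eq]
  simp
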