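import Mathlib

/-!
# Triangular bases over algebraically closed fields (helper14)
-/

set_option autoImplicit false

namespace Groth.Agent.Lib.helper14.SymTr

open Module

universe v

theorem exists_triangular_basis {K : Type*} [Field K] [IsAlgClosed K] :
    ∀ (d : ℕ) (V : Type v) [AddCommGroup V] [Module K V] [FiniteDimensional K V],
      Module.finrank K V = d → ∀ u : V →ₗ[K] V,
      ∃ (b : Basis (Fin d) K V) (ρ : Fin d → ℕ), Function.Injective ρ ∧
        ∀ i j, ρ j < ρ i → LinearMap.toMatrix b b u i j = 0 := by
  intro d
  induction d with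
  | zero =>
    intro V _ _ _ hV u
    exact ⟨Module.finBasisOfFinrankEq K V hV, fun i => i.elim0, fun i => i.elim0,
      fun i => i.elim0⟩
  | succ d ih =>
    intro V _ _ _ hV u
    haveI : Nontrivial V := Module.nontrivial_of_finrank_pos (R := K) (by omega)
    haveI : Nontrivial (Module.Dual K V) := by
      apply Module.nontrivial_of_finrank_pos (R := K)
      rw [Subspace.dual_finrank_eq]; omega
    obtain ⟨μ, hμ⟩ := Module.End.exists_eigenvalue (Module.Dual.transpose (R := K) u)
    obtain ⟨φ, hφ⟩ := hμ.exists_hasEigenvector
    have hφ0 : φ ≠ 0 := hφ.2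
    have hφu : ∀ x, φ (u x) = μ * φ x := by
      intro x
      have h1 := hφ.apply_eq_smul
      have h2 := LinearMap.congr_fun h1 x
      simpa [Module.Dual.transpose_apply] using h2
    obtain ⟨y, hy⟩ : ∃ y, φ y ≠ 0 := by
      by_contra h
      push_neg at h
      exact hφ0 (LinearMap.ext h)
    have hHu : ∀ x ∈ LinearMap.ker φ, u x ∈ LinearMap.ker φ := by
      intro x hx
      rw [LinearMap.mem_ker] at hx ⊢
      rw [hφu, hx, mul_zero]
    have hHd : Module.finrank K (LinearMap.ker φ) = d := by
      have h1 := LinearMap.finrank_range_add_finrank_ker φ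
      have h2 : LinearMap.range φ = ⊤ := by
        rw [LinearMap.range_eq_top]
        intro c
        exact ⟨(c / φ y) • y, by simp [hy]⟩
      rw [h2, finrank_top, Module.finrank_self, hV] at h1
      omega
    obtain ⟨b', ρ', hρ', htri⟩ := ih (LinearMap.ker φ) hHd (u.restrict hHu)
    have hli : ∀ (c : K), ∀ x ∈ LinearMap.ker φ, c • y + x = 0 → c = 0 := by
      intro c x hx h
      have h3 := congrArg φ h
      rw [map_add, map_smul, LinearMap.mem_ker.1 hx, map_zero, add_zero, smul_eq_mul] at h3
      exact (mul_eq_zero.1 h3).resolve_right hy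
    have hsp : ∀ z : V, ∃ c : K, z + c • y ∈ LinearMap.ker φ := by
      intro z
      refine ⟨-(φ z / φ y), ?_⟩
      rw [LinearMap.mem_ker, map_add, map_smul, smul_eq_mul]
      field_simp
      ring
    refine ⟨Basis.mkFinCons y b' hli hsp, Fin.cons (Finset.univ.sup ρ' + 1) ρ', ?_, ?_⟩
    · rw [Fin.cons_injective_iff]
      refine ⟨?_, hρ'⟩
      rintro ⟨i, hi⟩
      have : ρ' i ≤ Finset.univ.sup ρ' := Finset.le_sup (Finset.mem_univ i)
      omega
    · intro i j hij
      rw [LinearMap.toMatrix_apply]
      induction j using Fin.cases with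
      | zero =>
        exfalso
        rw [Fin.cons_zero] at hij
        induction i using Fin.cases with
        | zero => rw [Fin.cons_zero] at hij; omega
        | succ i =>
          rw [Fin.cons_succ] at hij
          have := Finset.le_sup (f := ρ') (Finset.mem_univ i)
          omega
      | succ j =>
        have hb : ∀ k : Fin d, Basis.mkFinCons y b' hli hsp k.succ = (b' k : V) := by
          intro k
          rw [Basis.coe_mkFinCons, Fin.cons_succ]
          rfl
        have hu : u (b' j : V) = ∑ i', (LinearMap.toMatrix b' b' (u.restrict hHu) i' j) •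
            Basis.mkFinCons y b' hli hsp i'.succ := by
          have h1 := (b'.sum_repr ((u.restrict hHu) (b' j))).symm
          have h2 := congrArg (Subtype.val) h1
          rw [LinearMap.restrict_coe_apply] at h2
          rw [h2, AddSubmonoidClass.coe_finset_sum]
          apply Finset.sum_congr rfl
          intro i' _
          rw [hb, LinearMap.toMatrix_apply]
          rfl
        rw [hb, hu, map_sum, Finsupp.coe_finset_sum, Finset.sum_apply]
        apply Finset.sum_eq_zero
        intro i' _
        rw [map_smul, Basis.repr_self, Finsupp.smul_apply, Finsupp.single_apply, smul_eq_mul]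
        by_cases hi : i'.succ = i
        · subst hi
          rw [Fin.cons_succ, Fin.cons_succ] at hij
          rw [htri i' j hij, zero_mul]
        · rw [if_neg hi, mul_zero]

end Groth.Agent.Lib.helper14.SymTr
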