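import Mathlib
import Groth.Agent.Lib.Helper14.SymTr1

/-!
# `hS` of a triangular matrix and the generating function of complete symmetric sums (helper14)
-/

set_option autoImplicit false

namespace Groth.Agent.Lib.helper14.SymTr

open Module

universe v

section Tri

variable {R : Type*} [CommRing R] {κ : Type v} [Fintype κ] [DecidableEq κ]

lemma prod_diag_eq (d : κ → R) (n : ℕ) (f : Fin n → κ) :
    ∏ j, d (f j) = (((q n f : Sym κ n) : Multiset κ).map d).prod := by
  rw [q_val, Multiset.map_map]
  rfl

lemma sum_comp_eq (ρ : κ → ℕ) (n : ℕ) (f : Fin n → κ) :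
    ∑ j, ρ (f j) = (((q n f : Sym κ n) : Multiset κ).map ρ).sum := by
  rw [q_val, Multiset.map_map]
  rfl

theorem hS_triangular (T : Matrix κ κ R) (ρ : κ → ℕ) (hρ : Function.Injective ρ)
    (hT : ∀ i j, ρ j < ρ i → T i j = 0) (n : ℕ) :
    hS n T = ∑ s : Sym κ n, ((s : Multiset κ).map (fun i => T i i)).prod := by
  classical
  have h1 : ∀ f : Fin n → κ, ∏ j, T (rep n (q n f) j) (f j) =
      if rep n (q n f) = f then (((q n f : Sym κ n) : Multiset κ).map (fun i => T i i)).prod
      else 0 := by
    intro f
    by_cases h : rep n (q n f) = f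
    · rw [if_pos h, h]
      exact prod_diag_eq (fun i => T i i) n f
    · rw [if_neg h]
      have hex : ∃ j, ρ (f j) < ρ (rep n (q n f) j) := by
        by_contra hcon
        push_neg at hcon
        have hsum : ∑ j, ρ (rep n (q n f) j) = ∑ j, ρ (f j) := by
          rw [sum_comp_eq, sum_comp_eq, q_rep]
        have := (Finset.sum_eq_sum_iff_of_le (fun j _ => hcon j)).1 hsum
        exact h (funext fun j => hρ (this j (Finset.mem_univ j)))
      obtain ⟨j, hj⟩ := hex
      exact Finset.prod_eq_zero (Finset.mem_univ j) (hT _ _ hj)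
  rw [hS, Finset.sum_congr rfl (fun f _ => h1 f)]
  have h2 : ∀ s : Sym κ n, ((s : Multiset κ).map (fun i => T i i)).prod =
      ∑ f : Fin n → κ, if f = rep n s then
        (((q n f : Sym κ n) : Multiset κ).map (fun i => T i i)).prod else 0 := by
    intro s
    rw [Finset.sum_ite_eq' Finset.univ (rep n s)
      (fun f => (((q n f : Sym κ n) : Multiset κ).map (fun i => T i i)).prod)]
    simp
  rw [Finset.sum_congr rfl (fun s _ => h2 s), Finset.sum_comm]
  apply Finset.sum_congr rfl
  intro f _
  by_cases h : rep n (q n f) = f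
  · rw [if_pos h]
    rw [Finset.sum_eq_single (q n f)]
    · rw [if_pos h.symm]
    · intro s _ hs
      rw [if_neg]
      intro hf
      apply hs
      rw [hf, q_rep]
    · intro h'; exact absurd (Finset.mem_univ _) h'
  · rw [if_neg h]
    symm
    apply Finset.sum_eq_zero
    intro s _
    rw [if_neg]
    intro hf
    apply h
    rw [hf, q_rep]

open PowerSeries in
lemma geom (a : R) : (1 - PowerSeries.C a * PowerSeries.X) * PowerSeries.mk (fun k => a ^ k) = 1 := by
  ext n
  rw [sub_mul, one_mul, map_sub, mul_assoc]
  cases n with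
  | zero =>
    simp
  | succ n =>
    rw [PowerSeries.coeff_C_mul, PowerSeries.coeff_succ_X_mul, PowerSeries.coeff_mk,
      PowerSeries.coeff_mk, PowerSeries.coeff_one, if_neg (Nat.succ_ne_zero n), pow_succ]
    ring

theorem genfun (d : κ → R) :
    (∏ i, (1 - PowerSeries.C (d i) * PowerSeries.X)) *
      PowerSeries.mk (fun n => ∑ s : Sym κ n, ((s : Multiset κ).map d).prod) = 1 := by
  classical
  have hg : PowerSeries.mk (fun n => ∑ s : Sym κ n, ((s : Multiset κ).map d).prod) =
      ∏ i, PowerSeries.mk (fun k => d i ^ k) := by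
    ext n
    rw [PowerSeries.coeff_mk, PowerSeries.coeff_prod]
    simp only [PowerSeries.coeff_mk]
    symm
    refine Finset.sum_bij' (fun l hl => (Sym.equivNatSum κ n).symm ⟨l, ?_⟩)
      (fun s _ => ((Sym.equivNatSum κ n s : {P : κ →₀ ℕ // P.sum (fun _ => id) = n}) : κ →₀ ℕ))
      ?_ ?_ ?_ ?_ ?_
    · rw [Finset.mem_finsuppAntidiag] at hl
      rw [Finsupp.sum, ← hl.1]
      exact (Finset.sum_subset (Finset.subset_univ _) (fun i _ hi => by
        simpa using hi)).trans rfl
    · intro l hl; exact Finset.mem_univ _
    · intro s _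
      rw [Finset.mem_finsuppAntidiag]
      refine ⟨?_, Finset.subset_univ _⟩
      have h3 := (Sym.equivNatSum κ n s).2
      rw [Finsupp.sum] at h3
      refine Eq.trans ?_ h3
      symm
      exact (Finset.sum_subset (Finset.subset_univ _) (fun i _ hi => by
        simpa using hi)).trans rfl
    · intro l hl
      simp
    · intro s _
      simp
    · intro l hl
      rw [Finset.prod_multiset_map_count]
      have hc : ∀ i, Multiset.count i
          (((Sym.equivNatSum κ n).symm ⟨l, by
            rw [Finset.mem_finsuppAntidiag] at hl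
            rw [Finsupp.sum, ← hl.1]
            exact (Finset.sum_subset (Finset.subset_univ _) (fun i _ hi => by
              simpa using hi)).trans rfl⟩ : Sym κ n) : Multiset κ) = l i := by
        intro i
        rw [Sym.coe_equivNatSum_symm_apply]
        simp
      symm
      refine (Finset.prod_subset (Finset.subset_univ _) (fun i _ hi => ?_)).trans ?_
      · rw [Multiset.mem_toFinset] at hi
        rw [Multiset.count_eq_zero_of_notMem hi, pow_zero]
      · apply Finset.prod_congr rfl
        intro i _
        rw [hc]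
  rw [hg, ← Finset.prod_mul_distrib]
  exact Finset.prod_eq_one (fun i _ => geom (d i))

theorem charpolyRev_triangular (T : Matrix κ κ R) (ρ : κ → ℕ) (hρ : Function.Injective ρ)
    (hT : ∀ i j, ρ j < ρ i → T i j = 0) :
    ((T.charpolyRev : Polynomial R) : PowerSeries R) =
      ∏ i, (1 - PowerSeries.C (T i i) * PowerSeries.X) := by
  classical
  letI : LinearOrder κ := LinearOrder.lift' ρ hρ
  have hBT : (1 - (Polynomial.X : Polynomial R) • T.map Polynomial.C).BlockTriangular id := by
    intro i j hij
    have hij' : ρ j < ρ i := hij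
    have hne : i ≠ j := by rintro rfl; exact lt_irrefl _ hij'
    rw [Matrix.sub_apply, Matrix.one_apply_ne hne, Matrix.smul_apply, Matrix.map_apply,
      hT i j hij', map_zero, smul_zero, sub_zero]
  rw [Matrix.charpolyRev, Matrix.det_of_upperTriangular hBT]
  rw [← Polynomial.coeToPowerSeries.ringHom_apply, map_prod]
  apply Finset.prod_congr rfl
  intro i _
  rw [Matrix.sub_apply, Matrix.one_apply_eq, Matrix.smul_apply, Matrix.map_apply, smul_eq_mul,
    Polynomial.coeToPowerSeries.ringHom_apply, Polynomial.coe_sub, Polynomial.coe_one,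
    Polynomial.coe_mul, Polynomial.coe_X, Polynomial.coe_C, mul_comm]

end Tri

end Groth.Agent.Lib.helper14.SymTr
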