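import Mathlib
import Groth.Agent.Lib.Helper14.SymTr1
import Groth.Agent.Lib.Helper14.SymTr2a
import Groth.Agent.Lib.Helper14.SymTr2b

/-!
# `det(1 - tU) * Σ_n hS n U t^n = 1` (helper14)

`hS n U` is the trace of the `n`-th symmetric tensor power of a matrix `U` (see `SymTr1`).
Main result: `main : (U.charpolyRev : R⟦X⟧) * PowerSeries.mk (fun n => hS n U) = 1` over any
commutative ring, and `symMap`, the endomorphism of `Gam A M n` induced by `u^{⊗n}`.
-/

set_option autoImplicit false

namespace Groth.Agent.Lib.helper14.SymTr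

open TensorProduct PiTensorProduct Module

universe u v

section SymMap

variable {A : Type u} [CommRing A] {M : Type u} [AddCommGroup M] [Module A M]

lemma map_mem_Gam (u : M →ₗ[A] M) (n : ℕ) (x : ⨂[A] _i : Fin n, M) (hx : x ∈ Gam A M n) :
    PiTensorProduct.map (fun _ : Fin n => u) x ∈ Gam A M n := by
  simp only [Gam, Submodule.mem_iInf, LinearMap.mem_eqLocus, LinearEquiv.coe_coe,
    LinearMap.id_apply] at hx ⊢
  intro σ
  have h := PiTensorProduct.map_reindex (R := A) (s := fun _ : Fin n => M)
    (t := fun _ : Fin n => M) (fun _ : Fin n => u) σ x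
  rw [← h, hx σ]

/-- the endomorphism of symmetric tensors induced by `u^{⊗n}` -/
noncomputable def symMap (u : M →ₗ[A] M) (n : ℕ) : Gam A M n →ₗ[A] Gam A M n :=
  (PiTensorProduct.map (fun _ : Fin n => u)).restrict (map_mem_Gam u n)

lemma symMap_coe (u : M →ₗ[A] M) (n : ℕ) (x : Gam A M n) :
    ((symMap u n x : Gam A M n) : ⨂[A] _i : Fin n, M) =
      PiTensorProduct.map (fun _ : Fin n => u) (x : ⨂[A] _i : Fin n, M) := rfl

end SymMap

section Field

theorem field_case {K : Type v} [Field K] [IsAlgClosed K] {ι : Type v} [Fintype ι] [DecidableEq ι]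
    (U : Matrix ι ι K) :
    ((U.charpolyRev : Polynomial K) : PowerSeries K) * PowerSeries.mk (fun n => hS n U) = 1 := by
  classical
  set u : (ι → K) →ₗ[K] (ι → K) := Matrix.toLin' U with hu
  have hU : LinearMap.toMatrix (Pi.basisFun K ι) (Pi.basisFun K ι) u = U := by
    rw [LinearMap.toMatrix_eq_toMatrix', hu, LinearMap.toMatrix'_toLin']
  obtain ⟨b', ρ, hρ, htri⟩ :=
    exists_triangular_basis (K := K) (Module.finrank K (ι → K)) (ι → K) rfl u
  set T := LinearMap.toMatrix b' b' u with hT
  have h1 : ∀ n, hS n U = hS n T := by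
    intro n
    rw [← hU, ← trace_eq_hS (Pi.basisFun K ι) n u (symMap u n) (symMap_coe u n),
      trace_eq_hS b' n u (symMap u n) (symMap_coe u n)]
  have h2 : U.charpolyRev = T.charpolyRev := by
    rw [← Matrix.reverse_charpoly, ← Matrix.reverse_charpoly, ← hU, LinearMap.charpoly_toMatrix,
      hT, LinearMap.charpoly_toMatrix]
  rw [h2, charpolyRev_triangular T ρ hρ htri]
  simp_rw [h1, hS_triangular T ρ hρ htri]
  exact genfun (fun i => T i i)

end Field

section Univ

variable {ι : Type v} [Fintype ι] [DecidableEq ι]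

lemma charpolyRev_map {R S : Type*} [CommRing R] [CommRing S] (φ : R →+* S) (U : Matrix ι ι R) :
    (U.map φ).charpolyRev = U.charpolyRev.map φ := by
  rw [Matrix.charpolyRev, Matrix.charpolyRev, ← Polynomial.coe_mapRingHom, RingHom.map_det]
  congr 1
  ext i j : 1
  by_cases h : i = j
  · subst h
    simp
  · simp [Matrix.one_apply_ne h]

lemma map_identity {R S : Type*} [CommRing R] [CommRing S] (φ : R →+* S) (U : Matrix ι ι R) :
    PowerSeries.map φ (((U.charpolyRev : Polynomial R) : PowerSeries R) *
        PowerSeries.mk (fun n => hS n U)) =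
      (((U.map φ).charpolyRev : Polynomial S) : PowerSeries S) *
        PowerSeries.mk (fun n => hS n (U.map φ)) := by
  rw [map_mul, ← Polynomial.polynomial_map_coe, charpolyRev_map]
  congr 1
  ext n
  rw [PowerSeries.coeff_map, PowerSeries.coeff_mk, PowerSeries.coeff_mk, hS_map]

theorem main {R : Type*} [CommRing R] (U : Matrix ι ι R) :
    ((U.charpolyRev : Polynomial R) : PowerSeries R) * PowerSeries.mk (fun n => hS n U) = 1 := by
  classical
  let P := MvPolynomial (ι × ι) ℤ
  let Ugen : Matrix ι ι P := fun i j => MvPolynomial.X (i, j)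
  let ev : P →+* R := MvPolynomial.eval₂Hom (Int.castRingHom R) (fun p => U p.1 p.2)
  have hev : Ugen.map ev = U := by
    ext i j
    rw [Matrix.map_apply]
    exact MvPolynomial.eval₂Hom_X' _ _ _
  let K := AlgebraicClosure (FractionRing P)
  let jK : P →+* K := (algebraMap (FractionRing P) K).comp (algebraMap P (FractionRing P))
  have hj : Function.Injective jK :=
    (algebraMap (FractionRing P) K).injective.comp (IsFractionRing.injective P (FractionRing P))
  have hK := field_case (Ugen.map jK)
  have hP : ((Ugen.charpolyRev : Polynomial P) : PowerSeries P) *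
      PowerSeries.mk (fun n => hS n Ugen) = 1 := by
    have h1 := map_identity jK Ugen
    rw [hK] at h1
    refine PowerSeries.ext fun n => ?_
    apply hj
    rw [← PowerSeries.coeff_map, ← PowerSeries.coeff_map, h1, (PowerSeries.map jK).map_one]
  have h2 := map_identity ev Ugen
  rw [hP, (PowerSeries.map ev).map_one, hev] at h2
  exact h2.symm

end Univ

end Groth.Agent.Lib.helper14.SymTr
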