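import Mathlib

/-!
# helper14: torsion-density, ring-level core (part 1)

`mem_colon_smul_of_flat`: for a flat `A`-module `C`, `a • c ∈ J C` implies `c ∈ (J : a) C`.
-/

set_option autoImplicit false

namespace Groth.Agent.Lib.helper14.TDense

theorem mem_colon_smul_of_flat {A : Type*} [CommRing A] {C : Type*} [AddCommGroup C] [Module A C]
    [Module.Flat A C] (J : Ideal A) (a : A) (c : C) (h : a • c ∈ J • (⊤ : Submodule A C)) :
    c ∈ (J.colon {a}) • (⊤ : Submodule A C) := by
  classical
  have htop : (⊤ : Submodule A C) = Submodule.span A (Set.range (id : C → C)) := by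
    rw [Set.range_id, Submodule.span_univ]
  rw [htop, Submodule.mem_ideal_smul_span_iff_exists_sum] at h
  obtain ⟨α, hα, hsum⟩ := h
  let f : Option α.support → A := fun o => Option.elim o a (fun m => -(α m))
  let x : Option α.support → C := fun o => Option.elim o c (fun m => (m : C))
  have h0 : ∑ i, f i • x i = 0 := by
    rw [Fintype.sum_option]
    have h1 : ∑ m : α.support, f (some m) • x (some m) = -(a • c) := by
      have h6 : a • c = ∑ m : α.support, α (m : C) • (m : C) := by
        rw [← hsum, Finsupp.sum]
        exact (Finset.sum_coe_sort α.support (fun m => α m • id m)).symm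
      rw [h6, ← Finset.sum_neg_distrib]
      refine Finset.sum_congr rfl fun m _ => ?_
      show (-(α m)) • (m : C) = -(α m • (m : C))
      rw [neg_smul]
    rw [h1]
    show a • c + -(a • c) = 0
    exact add_neg_cancel _
  obtain ⟨k, β, y, hx, hrel⟩ := Module.Flat.isTrivialRelation_of_sum_smul_eq_zero h0
  have hc : c = ∑ j, β none j • y j := hx none
  rw [hc]
  refine Submodule.sum_mem _ fun j _ => Submodule.smul_mem_smul ?_ Submodule.mem_top
  rw [Submodule.mem_colon_singleton]
  have h2 := hrel j
  rw [Fintype.sum_option] at h2
  have h3 : a * β none j = ∑ m : α.support, α m * β (some m) j := by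
    have h4 : f none * β none j = -∑ m : α.support, f (some m) * β (some m) j :=
      eq_neg_of_add_eq_zero_left h2
    have h5 : f none = a := rfl
    rw [h5] at h4
    rw [h4, ← Finset.sum_neg_distrib]
    refine Finset.sum_congr rfl fun m _ => ?_
    show -(-(α m) * β (some m) j) = α m * β (some m) j
    ring
  show β none j • a ∈ J
  rw [smul_eq_mul, mul_comm, h3]
  exact Ideal.sum_mem _ fun m _ => Ideal.mul_mem_right _ _ (hα m)

end Groth.Agent.Lib.helper14.TDense
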