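import Mathlib
import Groth.Agent.Lib.Helper14.TDense1

/-!
# helper14: torsion-density, ring-level core (part 2)

The inductive step of the "fibrewise dense + flat ⇒ dense" argument (EGA IV 11.10.9), in a
localization-free form.
-/

set_option autoImplicit false

universe u v w

namespace Groth.Agent.Lib.helper14.TDense

variable {A₀ : Type u} {B₀ : Type v} [CommRing A₀] [CommRing B₀] {ι : Type w} {C : ι → Type v}
  [∀ j, CommRing (C j)] (α : A₀ →+* B₀) (φ : ∀ j, B₀ →+* C j)

/-- the density hypothesis at the prime `p` -/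
def DenseAt (p : Ideal A₀) : Prop :=
  ∀ b : B₀, (∀ j, φ j b ∈ p.map ((φ j).comp α)) → ∃ σ : A₀, σ ∉ p ∧ α σ * b ∈ p.map α

variable {α φ}

theorem step (hflat : ∀ j, ((φ j).comp α).Flat) {p : Ideal A₀} [p.IsPrime] (hd : DenseAt α φ p)
    {I J : Ideal A₀} (hIJ : I ≤ J) (a : A₀) (ha : ∀ x ∈ p, x * a ∈ J) (t : B₀)
    (ht : ∀ j, φ j t ∈ I.map ((φ j).comp α))
    (h : ∃ s : A₀, s ∉ p ∧ α s * t ∈ (J ⊔ Ideal.span {a}).map α) :
    ∃ s : A₀, s ∉ p ∧ α s * t ∈ J.map α := by
  obtain ⟨s, hs, hst⟩ := h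
  rw [Ideal.map_sup, Ideal.map_span, Set.image_singleton, Submodule.mem_sup] at hst
  obtain ⟨t', ht', z, hz, hsum⟩ := hst
  obtain ⟨b, rfl⟩ := Ideal.mem_span_singleton'.mp hz
  -- for each `j`, `φ j b ∈ (J : a) C_j`
  have hcol : ∀ j, φ j b ∈ (J.colon {a}).map ((φ j).comp α) := by
    intro j
    letI : Algebra A₀ (C j) := ((φ j).comp α).toAlgebra
    haveI : Module.Flat A₀ (C j) := hflat j
    have h1 : φ j (α s * t) ∈ J.map ((φ j).comp α) := by
      rw [map_mul]
      exact Ideal.mul_mem_left _ _ (Ideal.map_mono hIJ (ht j))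
    have h2 : φ j t' ∈ J.map ((φ j).comp α) := by
      rw [← Ideal.map_map]
      exact Ideal.mem_map_of_mem _ ht'
    have h3 : φ j (b * α a) ∈ J.map ((φ j).comp α) := by
      have : b * α a = α s * t - t' := by rw [← hsum]; ring
      rw [this, map_sub]
      exact Ideal.sub_mem _ h1 h2
    have h4 : a • φ j b ∈ J • (⊤ : Submodule A₀ (C j)) := by
      rw [Ideal.smul_top_eq_map]
      show a • φ j b ∈ J.map (algebraMap A₀ (C j))
      rw [Algebra.smul_def]
      have : algebraMap A₀ (C j) a * φ j b = φ j (b * α a) := by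
        rw [map_mul, mul_comm]
        rfl
      rw [this]
      exact h3
    have h5 := mem_colon_smul_of_flat J a (φ j b) h4
    rw [Ideal.smul_top_eq_map] at h5
    exact h5
  by_cases hc : J.colon {a} ≤ p
  · obtain ⟨σ, hσ, hσb⟩ := hd b (fun j => Ideal.map_mono hc (hcol j))
    refine ⟨σ * s, fun h => (Ideal.IsPrime.mem_or_mem ‹_› h).elim hσ hs, ?_⟩
    have e : α (σ * s) * t = α σ * t' + (α σ * b) * α a := by
      rw [map_mul, mul_assoc, ← hsum]; ring
    rw [e]
    refine Ideal.add_mem _ (Ideal.mul_mem_left _ _ ht') ?_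
    have h6 : (α σ * b) * α a ∈ (p * Ideal.span {a}).map α := by
      rw [Ideal.map_mul]
      exact Ideal.mul_mem_mul hσb (Ideal.mem_map_of_mem _ (Ideal.mem_span_singleton_self a))
    refine Ideal.map_mono ?_ h6
    rw [Ideal.mul_le]
    intro x hx y hy
    obtain ⟨c, rfl⟩ := Ideal.mem_span_singleton'.mp hy
    have : x * (c * a) = c * (x * a) := by ring
    rw [this]
    exact Ideal.mul_mem_left _ _ (ha x hx)
  · obtain ⟨σ, hσJ, hσp⟩ := SetLike.not_le_iff_exists.mp hc
    rw [Submodule.mem_colon_singleton] at hσJ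
    refine ⟨σ * s, fun h => (Ideal.IsPrime.mem_or_mem ‹_› h).elim hσp hs, ?_⟩
    have e : α (σ * s) * t = α σ * t' + b * α (σ * a) := by
      rw [map_mul, map_mul, mul_assoc, ← hsum]; ring
    rw [e]
    exact Ideal.add_mem _ (Ideal.mul_mem_left _ _ ht')
      (Ideal.mul_mem_left _ _ (Ideal.mem_map_of_mem _ hσJ))

theorem finset_step (hflat : ∀ j, ((φ j).comp α).Flat) {p : Ideal A₀} [p.IsPrime]
    (hd : DenseAt α φ p) {I : Ideal A₀} (t : B₀) (ht : ∀ j, φ j t ∈ I.map ((φ j).comp α))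
    (F : Finset A₀) :
    ∀ J : Ideal A₀, I ≤ J → (∀ a ∈ F, ∀ x ∈ p, x * a ∈ J) →
      (∃ s : A₀, s ∉ p ∧ α s * t ∈ (J ⊔ Ideal.span (F : Set A₀)).map α) →
      ∃ s : A₀, s ∉ p ∧ α s * t ∈ J.map α := by
  classical
  induction F using Finset.induction_on with
  | empty =>
    intro J _ _ h
    simpa using h
  | insert a F' _ ih =>
    intro J hIJ hF h
    apply ih J hIJ (fun b hb => hF b (Finset.mem_insert_of_mem hb))
    apply step hflat hd (hIJ.trans le_sup_left) a
      (fun x hx => Ideal.mem_sup_left (hF a (Finset.mem_insert_self a F') x hx)) t ht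
    have e : J ⊔ Ideal.span ((insert a F' : Finset A₀) : Set A₀) =
        J ⊔ Ideal.span (F' : Set A₀) ⊔ Ideal.span {a} := by
      rw [Finset.coe_insert, Ideal.span_insert, sup_assoc, sup_comm (Ideal.span {a})]
    rw [← e]
    exact h

theorem pow_step [IsNoetherianRing A₀] (hflat : ∀ j, ((φ j).comp α).Flat) {p : Ideal A₀}
    [p.IsPrime] (hd : DenseAt α φ p) {I : Ideal A₀} (t : B₀)
    (ht : ∀ j, φ j t ∈ I.map ((φ j).comp α)) (k : ℕ) :
    ∃ s : A₀, s ∉ p ∧ α s * t ∈ (I ⊔ p ^ k).map α := by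
  induction k with
  | zero =>
    refine ⟨1, (Ideal.ne_top_iff_one p).mp (Ideal.IsPrime.ne_top ‹_›), ?_⟩
    rw [pow_zero, Ideal.one_eq_top, sup_top_eq, Ideal.map_top]
    exact Submodule.mem_top
  | succ k ih =>
    obtain ⟨F, hF⟩ := (isNoetherianRing_iff_ideal_fg A₀).mp ‹_› (p ^ k)
    apply finset_step hflat hd t ht F (I ⊔ p ^ (k + 1)) le_sup_left
    · intro a haF x hx
      apply Ideal.mem_sup_right
      rw [pow_succ']
      refine Ideal.mul_mem_mul hx ?_
      rw [← hF]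
      exact Ideal.subset_span haF
    · have e : p ^ (k + 1) ⊔ p ^ k = p ^ k :=
        sup_eq_right.mpr (Ideal.pow_le_pow_right (Nat.le_succ k))
      rw [hF, sup_assoc, e]
      exact ih

end Groth.Agent.Lib.helper14.TDense
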