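import Mathlib
import Groth.Agent.Lib.Helper14.TDense2

/-!
# helper14: torsion-density, ring-level core (part 3)

`mem_map_of_forall_dense`: let `A₀ → B₀` be a homomorphism of Noetherian rings, `B₀ → C_j` a family
of ring homomorphisms with `C_j` flat over `A₀`, fibrewise dense at every prime `p ⊇ I` of `A₀`.
If `t ∈ B₀` maps into `I C_j` for all `j` then `t ∈ I B₀`.
-/

set_option autoImplicit false

universe u v w

namespace Groth.Agent.Lib.helper14.TDense

variable {A₀ : Type u} {B₀ : Type v} [CommRing A₀] [CommRing B₀] {ι : Type w} {C : ι → Type v}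
  [∀ j, CommRing (C j)] {α : A₀ →+* B₀} {φ : ∀ j, B₀ →+* C j}

theorem mem_map_of_forall_dense [IsNoetherianRing A₀] [IsNoetherianRing B₀]
    (hflat : ∀ j, ((φ j).comp α).Flat) (I : Ideal A₀)
    (hd : ∀ p : Ideal A₀, p.IsPrime → I ≤ p → DenseAt α φ p) (t : B₀)
    (ht : ∀ j, φ j t ∈ I.map ((φ j).comp α)) : t ∈ I.map α := by
  by_contra hcon
  -- the annihilator of `t` modulo `I B₀`
  have hne : (I.map α).colon {t} ≠ ⊤ := by
    intro h
    have h1 : (1 : B₀) ∈ (I.map α).colon {t} := h ▸ Submodule.mem_top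
    rw [Submodule.mem_colon_singleton, smul_eq_mul, one_mul] at h1
    exact hcon h1
  obtain ⟨q, hq, hle⟩ := Ideal.exists_le_maximal _ hne
  haveI : q.IsPrime := hq.isPrime
  have hbq : I.map α ≤ q := by
    intro x hx
    apply hle
    rw [Submodule.mem_colon_singleton]
    exact Ideal.mul_mem_right _ _ hx
  let p : Ideal A₀ := q.comap α
  haveI : p.IsPrime := Ideal.comap_isPrime α q
  have hIp : I ≤ p := fun x hx => hbq (Ideal.mem_map_of_mem _ hx)
  have hpq : p.map α ≤ q := Ideal.map_comap_le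
  -- localize at `q`
  let R := Localization.AtPrime q
  let ψ : B₀ →+* R := algebraMap B₀ R
  have hm : IsLocalRing.maximalIdeal R = q.map ψ :=
    (Localization.AtPrime.map_eq_maximalIdeal).symm
  have hkey : ∀ k : ℕ, ψ t ∈ (I.map α).map ψ ⊔ (IsLocalRing.maximalIdeal R) ^ k := by
    intro k
    obtain ⟨s, hs, hst⟩ := pow_step hflat (hd p inferInstance hIp) t ht k
    have hu : IsUnit (ψ (α s)) :=
      IsLocalization.map_units R (⟨α s, hs⟩ : q.primeCompl)
    have h1 : ψ (α s * t) ∈ (I.map α).map ψ ⊔ (IsLocalRing.maximalIdeal R) ^ k := by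
      have h2 : (I ⊔ p ^ k).map α ≤ I.map α ⊔ q ^ k := by
        rw [Ideal.map_sup, Ideal.map_pow]
        exact sup_le_sup_left (Ideal.pow_right_mono hpq k) _
      have h3 := Ideal.mem_map_of_mem ψ (h2 hst)
      rw [Ideal.map_sup, Ideal.map_pow, ← hm] at h3
      exact h3
    rw [map_mul] at h1
    obtain ⟨v, hv⟩ := hu.exists_left_inv
    have h4 := Ideal.mul_mem_left _ v h1
    rwa [← mul_assoc, hv, one_mul] at h4
  -- Krull's intersection theorem in `R ⧸ (I B₀) R`
  have hmem : ψ t ∈ (I.map α).map ψ := by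
    let 𝔟 : Ideal R := (I.map α).map ψ
    have h5 : (Submodule.Quotient.mk (ψ t) : R ⧸ 𝔟) ∈
        (⨅ i : ℕ, (IsLocalRing.maximalIdeal R) ^ i • (⊤ : Submodule R (R ⧸ 𝔟))) := by
      rw [Submodule.mem_iInf]
      intro k
      obtain ⟨β, hβ, μ, hμ, hsum⟩ := Submodule.mem_sup.mp (hkey k)
      have h6 : (Submodule.Quotient.mk (ψ t) : R ⧸ 𝔟) = μ • (Submodule.Quotient.mk 1 : R ⧸ 𝔟) := by
        rw [← Submodule.Quotient.mk_smul, smul_eq_mul, mul_one, ← hsum,
          Submodule.Quotient.mk_add]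
        have : (Submodule.Quotient.mk β : R ⧸ 𝔟) = 0 :=
          (Submodule.Quotient.mk_eq_zero _).mpr hβ
        rw [this, zero_add]
      rw [h6]
      exact Submodule.smul_mem_smul hμ Submodule.mem_top
    rw [Ideal.iInf_pow_smul_eq_bot_of_isLocalRing _ (IsLocalRing.maximalIdeal.isMaximal R).ne_top,
      Submodule.mem_bot] at h5
    exact (Submodule.Quotient.mk_eq_zero _).mp h5
  -- descend to `B₀`
  rw [IsLocalization.mem_map_algebraMap_iff q.primeCompl R] at hmem
  obtain ⟨⟨⟨x, hx⟩, ⟨w, hw⟩⟩, hxw⟩ := hmem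
  have h7 : ψ (t * w) = ψ x := by rw [map_mul]; exact hxw
  obtain ⟨⟨v, hv⟩, hv'⟩ := (IsLocalization.eq_iff_exists q.primeCompl R).mp h7
  have h8 : v * w ∈ (I.map α).colon {t} := by
    rw [Submodule.mem_colon_singleton, smul_eq_mul]
    have : v * w * t = v * x := by
      have := hv'
      simp only at this
      rw [← this]; ring
    rw [this]
    exact Ideal.mul_mem_left _ _ hx
  exact (Ideal.IsPrime.mem_or_mem ‹q.IsPrime› (hle h8)).elim hv hw

end Groth.Agent.Lib.helper14.TDense
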