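import Mathlib
import Groth.Agent.Lib.Helper14.WeilClosed2
import Groth.Agent.Lib.Helper14.TDense3

/-!
# helper14: torsion-dense families, scheme-level preliminaries

* `of_affine_charts`: a local predicate on points of `X` may be checked on affine points lying in
  a covering family of affine opens.
* `exists_criterion_of_finite_flat`: the criterion ideal of `Univ f 𝒬` over an affine open of the
  base, for `f` finite flat of finite presentation.
-/

set_option autoImplicit false
set_option linter.style.haveILetI false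
universe u
open CategoryTheory CategoryTheory.Limits AlgebraicGeometry TensorProduct

namespace Groth.Agent.Lib.helper14.TDense

open Groth.Agent.Lib.Helper14 Groth.Agent.Lib.Helper14.WeilClosed

/-- reduce a local predicate to affine points lying in a covering family of affine opens -/
theorem of_affine_charts {X : Scheme.{u}} {P : ∀ ⦃T : Scheme.{u}⦄, (T ⟶ X) → Prop}
    (hP : AbsClosed.IsLocalPred P) (𝓤 : Set X.affineOpens)
    (hcov : ∀ x : X, ∃ U ∈ 𝓤, x ∈ U.1) {T : Scheme.{u}} (z : T ⟶ X)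
    (h : ∀ U ∈ 𝓤, ∀ (C : CommRingCat.{u}) (w : Spec C ⟶ T) (ζ : Γ(X, U) ⟶ C),
      w ≫ z = Spec.map ζ ≫ U.2.fromSpec → P (w ≫ z)) : P z := by
  choose U hU hxU using hcov
  let 𝒰X : Scheme.OpenCover.{u} X := X.openCoverOfIsOpenCover (fun x : X => (U x).1) (by
    apply TopologicalSpace.IsOpenCover.mk
    rw [eq_top_iff]
    intro x _
    exact TopologicalSpace.Opens.mem_iSup.mpr ⟨x, hxU x⟩)
  refine hP.of_openCover z (𝒰X.pullback₁ z) fun i => ?_
  change P (pullback.fst z (𝒰X.f i) ≫ z)
  refine hP.of_openCover _ (pullback z (𝒰X.f i)).affineOpenCover.openCover fun a => ?_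
  change P ((pullback z (𝒰X.f i)).affineOpenCover.f a ≫ pullback.fst z (𝒰X.f i) ≫ z)
  rw [← Category.assoc]
  obtain ⟨ζ, hζ⟩ : ∃ ζ : Γ(X, (U i).1) ⟶ (pullback z (𝒰X.f i)).affineOpenCover.X a,
      Spec.map ζ = (pullback z (𝒰X.f i)).affineOpenCover.f a ≫ pullback.snd z (𝒰X.f i) ≫
        (U i).2.isoSpec.hom := ⟨Spec.preimage _, Spec.map_preimage _⟩
  refine h (U i) (hU i) _ _ ζ ?_
  rw [hζ, Category.assoc, pullback.condition]
  simp only [Category.assoc]
  congr 2
  change (U i).1.ι = _
  rw [← (U i).2.isoSpec_inv_ι]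
  exact (Iso.hom_inv_id_assoc _ _).symm

/-- the criterion ideal of `Univ f 𝒬` over an affine open, `f` finite flat of finite
presentation -/
theorem exists_criterion_of_finite_flat {X Z : Scheme.{u}} (f : Z ⟶ X) [IsFinite f] [Flat f]
    [LocallyOfFinitePresentation f] {𝒬 : ∀ ⦃T : Scheme.{u}⦄, (T ⟶ Z) → Prop}
    (hQ : AbsClosed.IsLocalPred 𝒬) (U : X.affineOpens)
    (hK : ∃ K, IsCutIdeal f 𝒬 U.2.fromSpec K) :
    ∃ I : Ideal Γ(X, U), ∀ (R' : CommRingCat.{u}) (ρ : Γ(X, U) ⟶ R'),
      Univ f 𝒬 (Spec.map ρ ≫ U.2.fromSpec) ↔ I ≤ RingHom.ker ρ.hom := by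
  have hfin : @Module.Projective Γ(X, U) _ (chM f U.2.fromSpec) _
        (chφ f U.2.fromSpec).hom.toAlgebra.toModule := by
    have h1 : IsFinite (Spec.map (chφ f U.2.fromSpec)) := by
      rw [chφ_spec]; infer_instance
    have h2 : Flat (Spec.map (chφ f U.2.fromSpec)) := by
      rw [chφ_spec]; infer_instance
    have h3 : LocallyOfFinitePresentation (Spec.map (chφ f U.2.fromSpec)) := by
      rw [chφ_spec]; infer_instance
    rw [IsFinite.SpecMap_iff] at h1
    rw [Flat.SpecMap_iff] at h2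
    rw [LocallyOfFinitePresentation.SpecMap_iff] at h3
    algebraize [(chφ f U.2.fromSpec).hom]
    haveI : Module.FinitePresentation Γ(X, U) (chM f U.2.fromSpec) :=
      Module.FinitePresentation.of_finite_of_finitePresentation _ _
    exact Module.Flat.projective_of_finitePresentation
  letI := (chφ f U.2.fromSpec).hom.toAlgebra
  haveI := hfin
  exact ⟨_, fun R' ρ => chart_criterion hQ hK.choose_spec rfl ρ⟩

/-- `Factors j γ` on affine points of an affine open is cut out by an ideal -/
theorem exists_ideal_factors {X W E : Scheme.{u}} (j : E ⟶ W) [IsClosedImmersion j] (γ : X ⟶ W)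
    (U : X.affineOpens) :
    ∃ K : Ideal Γ(X, U), ∀ (C : CommRingCat.{u}) (θ : Γ(X, U) ⟶ C),
      Factors j γ (Spec.map θ ≫ U.2.fromSpec) ↔ K ≤ RingHom.ker θ.hom := by
  obtain ⟨K, -, hK⟩ := exists_ideal_of_closedImmersion (pullback.snd j (U.2.fromSpec ≫ γ))
  refine ⟨K, fun C θ => ?_⟩
  rw [← hK C θ]
  constructor
  · rintro ⟨e, he⟩
    exact ⟨pullback.lift e (Spec.map θ) (by rw [he, Category.assoc]), pullback.lift_snd _ _ _⟩
  · rintro ⟨l, hl⟩
    refine ⟨l ≫ pullback.fst _ _, ?_⟩
    rw [Category.assoc, pullback.condition, ← Category.assoc, hl, Category.assoc]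

end Groth.Agent.Lib.helper14.TDense
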