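import Mathlib
import Groth.Agent.Lib.Helper14.TDense4

/-!
# helper14: torsion-dense families, the core theorem

`f : X ⟶ S`, a family `k l : Z l ⟶ X` with `k l ≫ f` finite flat of finite presentation, a closed
immersion `j : E ⟶ W` and `γ : X ⟶ W`. If `X` is covered by charts on which the family is
"dense at every prime" (`DenseAt`), then a point `g` of `S` satisfies
`Univ f (Factors j γ)` (all of `X_g` maps into `E`) iff it satisfies
`Univ (k l ≫ f) (Factors j (k l ≫ γ))` for all `l`, and this condition is represented by a closed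
subscheme of `S`.
-/

set_option autoImplicit false
set_option linter.style.haveILetI false
universe u w
open CategoryTheory CategoryTheory.Limits AlgebraicGeometry TensorProduct

namespace Groth.Agent.Lib.helper14.TDense

open Groth.Agent.Lib.Helper14 Groth.Agent.Lib.Helper14.WeilClosed

variable {S X W E : Scheme.{u}} (f : X ⟶ S) {Λ : Type w} {Z : Λ → Scheme.{u}}
  (k : ∀ l, Z l ⟶ X)

/-- a chart of `X` over `S` on which the family `Z l` is dense at every prime -/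
structure Chart where
  U₀ : S.affineOpens
  U : X.affineOpens
  le : U.1 ≤ f ⁻¹ᵁ U₀.1
  ι : Type u
  l : ι → Λ
  Wl : ∀ i, (Z (l i)).affineOpens
  hW : ∀ i, (Wl i).1 ≤ (k (l i)) ⁻¹ᵁ U.1
  noethA : IsNoetherianRing Γ(S, U₀.1)
  noethB : IsNoetherianRing Γ(X, U.1)
  dense : ∀ p : Ideal Γ(S, U₀.1), p.IsPrime →
    DenseAt (f.appLE U₀.1 U.1 le).hom (fun i => ((k (l i)).appLE U.1 (Wl i).1 (hW i)).hom) p

variable (j : E ⟶ W) (γ : X ⟶ W)

theorem chart_main (c : Chart f k) [∀ l, Flat (k l ≫ f)] [IsClosedImmersion j]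
    (I : Ideal Γ(S, c.U₀.1))
    (hI : ∀ (l : Λ) (R' : CommRingCat.{u}) (ρ : Γ(S, c.U₀.1) ⟶ R'), I ≤ RingHom.ker ρ.hom →
       Univ (k l ≫ f) (Factors j (k l ≫ γ)) (Spec.map ρ ≫ c.U₀.2.fromSpec))
    (C : CommRingCat.{u}) (ζ : Γ(X, c.U.1) ⟶ C)
    (hζ : I ≤ RingHom.ker (f.appLE c.U₀.1 c.U.1 c.le ≫ ζ).hom) :
    Factors j γ (Spec.map ζ ≫ c.U.2.fromSpec) := by
  obtain ⟨𝔶, h𝔶⟩ := exists_ideal_factors j γ c.U
  rw [h𝔶]
  haveI := c.noethA
  haveI := c.noethB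
  have hcomp : ∀ i, ((k (c.l i)).appLE c.U.1 (c.Wl i).1 (c.hW i)).hom.comp
      (f.appLE c.U₀.1 c.U.1 c.le).hom =
      ((k (c.l i) ≫ f).appLE c.U₀.1 (c.Wl i).1
        ((c.hW i).trans ((TopologicalSpace.Opens.map (k (c.l i)).base).map
          (homOfLE c.le)).le)).hom := by
    intro i
    rw [← Scheme.Hom.appLE_comp_appLE]
    rfl
  have hflat : ∀ i, (((k (c.l i)).appLE c.U.1 (c.Wl i).1 (c.hW i)).hom.comp
      (f.appLE c.U₀.1 c.U.1 c.le).hom).Flat := by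
    intro i
    rw [hcomp i]
    exact Scheme.Hom.flat_appLE (k (c.l i) ≫ f) c.U₀.2 (c.Wl i).2 _
  have key : 𝔶 ≤ I.map (f.appLE c.U₀.1 c.U.1 c.le).hom := by
    intro b hb
    refine mem_map_of_forall_dense hflat I (fun p hp _ => c.dense p hp) b ?_
    intro i
    obtain ⟨φ, hφ⟩ : ∃ φ : Γ(X, c.U.1) ⟶ Γ(Z (c.l i), (c.Wl i).1),
      φ = (k (c.l i)).appLE c.U.1 (c.Wl i).1 (c.hW i) := ⟨_, rfl⟩
    obtain ⟨ψ, hψ⟩ : ∃ ψ : Γ(S, c.U₀.1) ⟶ Γ(Z (c.l i), (c.Wl i).1),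
      ψ = f.appLE c.U₀.1 c.U.1 c.le ≫ φ := ⟨_, rfl⟩
    have hψ' : ψ = (k (c.l i) ≫ f).appLE c.U₀.1 (c.Wl i).1
        ((c.hW i).trans ((TopologicalSpace.Opens.map (k (c.l i)).base).map
          (homOfLE c.le)).le) := by
      rw [hψ, hφ, Scheme.Hom.appLE_comp_appLE]
    rw [← hφ]
    have hψhom : φ.hom.comp (f.appLE c.U₀.1 c.U.1 c.le).hom = ψ.hom := by
      rw [hψ]; rfl
    rw [hψhom]
    let C' : CommRingCat.{u} := CommRingCat.of (Γ(Z (c.l i), (c.Wl i).1) ⧸ I.map ψ.hom)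
    let mk : Γ(Z (c.l i), (c.Wl i).1) ⟶ C' := CommRingCat.ofHom (Ideal.Quotient.mk _)
    have h1 : I ≤ RingHom.ker (ψ ≫ mk).hom := by
      intro a ha
      rw [RingHom.mem_ker]
      change Ideal.Quotient.mk _ (ψ.hom a) = 0
      exact Ideal.Quotient.eq_zero_iff_mem.mpr (Ideal.mem_map_of_mem _ ha)
    have h2 := hI (c.l i) C' (ψ ≫ mk) h1
    have hz : (Spec.map mk ≫ (c.Wl i).2.fromSpec) ≫ (k (c.l i) ≫ f) =
        𝟙 _ ≫ Spec.map (ψ ≫ mk) ≫ c.U₀.2.fromSpec := by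
      rw [Category.id_comp, Spec.map_comp, Category.assoc, Category.assoc, hψ',
        IsAffineOpen.SpecMap_appLE_fromSpec (k (c.l i) ≫ f) c.U₀.2 (c.Wl i).2]
    have h3 := h2 (Spec C') (Spec.map mk ≫ (c.Wl i).2.fromSpec) (𝟙 _) hz
    have h4 : Factors j γ (Spec.map (φ ≫ mk) ≫ c.U.2.fromSpec) := by
      obtain ⟨e, he⟩ := h3
      refine ⟨e, ?_⟩
      rw [he, Spec.map_comp, hφ]
      simp only [Category.assoc]
      rw [IsAffineOpen.SpecMap_appLE_fromSpec_assoc (k (c.l i)) c.U.2 (c.Wl i).2]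
    have h5 := (h𝔶 _ _).mp h4 hb
    rw [RingHom.mem_ker] at h5
    exact Ideal.Quotient.eq_zero_iff_mem.mp h5
  refine key.trans ?_
  rw [Ideal.map_le_iff_le_comap, RingHom.comap_ker]
  exact hζ

section Main

variable [∀ l, IsFinite (k l ≫ f)] [∀ l, Flat (k l ≫ f)]
  [∀ l, LocallyOfFinitePresentation (k l ≫ f)] [IsClosedImmersion j]

/-- the criterion ideals of the finite levels -/
theorem exists_level_ideal (l : Λ) (U₀ : S.affineOpens) :
    ∃ Il : Ideal Γ(S, U₀.1), ∀ (R' : CommRingCat.{u}) (ρ : Γ(S, U₀.1) ⟶ R'),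
      Univ (k l ≫ f) (Factors j (k l ≫ γ)) (Spec.map ρ ≫ U₀.2.fromSpec) ↔
        Il ≤ RingHom.ker ρ.hom :=
  exists_criterion_of_finite_flat (k l ≫ f) (isLocalPred_factors j (k l ≫ γ)) U₀ (by
    obtain ⟨K, -, hK⟩ := exists_cutIdeal_factors (k l ≫ f) j (k l ≫ γ) U₀.2.fromSpec
    exact ⟨K, hK⟩)

variable (charts : Set (Chart f k)) (hcov : ∀ x : X, ∃ c ∈ charts, x ∈ c.U.1)

include hcov in
/-- **density**: the finite levels detect `Univ f (Factors j γ)` -/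
theorem univ_of_forall {S' : Scheme.{u}} (g : S' ⟶ S)
    (H : ∀ l, Univ (k l ≫ f) (Factors j (k l ≫ γ)) g) : Univ f (Factors j γ) g := by
  intro T' z t' hz
  refine of_affine_charts (isLocalPred_factors j γ) {U | ∃ c ∈ charts, c.U = U} ?_ z ?_
  · intro x
    obtain ⟨c, hc, hx⟩ := hcov x
    exact ⟨c.U, ⟨c, hc, rfl⟩, hx⟩
  · rintro U ⟨c, hc, rfl⟩ C w ζ hw
    rw [hw]
    choose Il hIl using fun l => exists_level_ideal f k j γ l c.U₀
    refine chart_main f k j γ c (⨆ l, Il l) ?_ C ζ ?_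
    · intro l R' ρ hρ
      exact (hIl l R' ρ).mpr ((le_iSup Il l).trans hρ)
    · refine iSup_le fun l => ?_
      refine (hIl l C _).mp ?_
      have h1 : Spec.map (f.appLE c.U₀.1 c.U.1 c.le ≫ ζ) ≫ c.U₀.2.fromSpec =
          (w ≫ t') ≫ g := by
        rw [Spec.map_comp, Category.assoc, IsAffineOpen.SpecMap_appLE_fromSpec f c.U₀.2 c.U.2,
          ← Category.assoc, ← hw, Category.assoc, hz, Category.assoc]
      rw [h1]
      exact (isLocalPred_univ (isLocalPred_factors j (k l ≫ γ))).comp _ _ (H l)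

omit [∀ l, IsFinite (k l ≫ f)] [∀ l, Flat (k l ≫ f)]
  [∀ l, LocallyOfFinitePresentation (k l ≫ f)] [IsClosedImmersion j] in
theorem forall_of_univ {S' : Scheme.{u}} (g : S' ⟶ S) (H : Univ f (Factors j γ) g) (l : Λ) :
    Univ (k l ≫ f) (Factors j (k l ≫ γ)) g := by
  intro T' z t' hz
  obtain ⟨e, he⟩ := H T' (z ≫ k l) t' (by rw [Category.assoc, hz])
  exact ⟨e, by rw [he, Category.assoc]⟩

theorem isLocalPred_forall : AbsClosed.IsLocalPred
    (fun (T : Scheme.{u}) (g : T ⟶ S) => ∀ l, Univ (k l ≫ f) (Factors j (k l ≫ γ)) g) where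
  comp := fun _ _ t x hx l =>
    (isLocalPred_univ (isLocalPred_factors j (k l ≫ γ))).comp t x (hx l)
  of_openCover := fun _ x 𝒰 h l =>
    (isLocalPred_univ (isLocalPred_factors j (k l ≫ γ))).of_openCover x 𝒰 fun i => h i l

include hcov in
/-- **Core theorem**: representability by a closed subscheme -/
theorem exists_closed : ∃ (T : Scheme.{u}) (t : T ⟶ S), IsClosedImmersion t ∧
    ∀ (S' : Scheme.{u}) (g : S' ⟶ S), (∃ g' : S' ⟶ T, g' ≫ t = g) ↔ Univ f (Factors j γ) g := by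
  choose Il hIl using fun (U₀ : S.affineOpens) (l : Λ) => exists_level_ideal f k j γ l U₀
  obtain ⟨T, t, ht, hPt, huniv⟩ := AbsClosed.exists_closed_of_criterion
    (isLocalPred_forall f k j γ) (fun U₀ => ⨆ l, Il U₀ l) (fun U₀ R' ρ => by
      rw [iSup_le_iff]
      exact forall_congr' fun l => hIl U₀ l R' ρ)
  refine ⟨T, t, ht, fun S' g => ⟨?_, fun H => ?_⟩⟩
  · rintro ⟨g', rfl⟩
    exact univ_of_forall f k j γ charts hcov _
      ((isLocalPred_forall f k j γ).comp g' t hPt)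
  · exact huniv S' g (forall_of_univ f k j γ g H)

end Main

end Groth.Agent.Lib.helper14.TDense
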