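import Mathlib
import Groth.Agent.Lib.Helper14.TDense5

/-!
# helper14: torsion-dense families: stabilisation over a Noetherian base, and the pullback
formulation of `Univ f (Factors j γ)`
-/

set_option autoImplicit false
set_option linter.style.haveILetI false
universe u w
open CategoryTheory CategoryTheory.Limits AlgebraicGeometry TensorProduct

namespace Groth.Agent.Lib.helper14.TDense

open Groth.Agent.Lib.Helper14 Groth.Agent.Lib.Helper14.WeilClosed

theorem univ_factors_iff_pullback {S X W E S' : Scheme.{u}} (f : X ⟶ S) (j : E ⟶ W) (γ : X ⟶ W)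
    (g : S' ⟶ S) :
    Univ f (Factors j γ) g ↔ ∃ l : pullback f g ⟶ E, l ≫ j = pullback.fst f g ≫ γ := by
  constructor
  · intro H
    exact H _ (pullback.fst f g) (pullback.snd f g) pullback.condition
  · rintro ⟨l, hl⟩ T' z t hz
    exact ⟨pullback.lift z t hz ≫ l, by
      rw [Category.assoc, hl, ← Category.assoc, pullback.lift_fst]⟩

/-- over a Noetherian base, a directed family of closed conditions is attained at a finite
level -/
theorem exists_level_of_noetherian {S : Scheme.{u}} [IsNoetherian S] {Λ : Type w} [Nonempty Λ]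
    (r : Λ → Λ → Prop) (hdir : ∀ a b, ∃ c, r a c ∧ r b c)
    (P : Λ → ∀ ⦃T : Scheme.{u}⦄, (T ⟶ S) → Prop) (hP : ∀ l, AbsClosed.IsLocalPred (P l))
    (hcrit : ∀ (l : Λ) (U₀ : S.affineOpens), ∃ I : Ideal Γ(S, U₀.1),
      ∀ (R' : CommRingCat.{u}) (ρ : Γ(S, U₀.1) ⟶ R'),
        P l (Spec.map ρ ≫ U₀.2.fromSpec) ↔ I ≤ RingHom.ker ρ.hom)
    (hmono : ∀ a b, r a b → ∀ ⦃T : Scheme.{u}⦄ (g : T ⟶ S), P b g → P a g) :
    ∃ l₀, ∀ ⦃T : Scheme.{u}⦄ (g : T ⟶ S), P l₀ g → ∀ l, P l g := by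
  classical
  choose I hI using hcrit
  have hImono : ∀ a b, r a b → ∀ U₀, I a U₀ ≤ I b U₀ := by
    intro a b hab U₀
    have h1 : P b (Spec.map (CommRingCat.ofHom (Ideal.Quotient.mk (I b U₀))) ≫
        U₀.2.fromSpec) := by
      refine (hI b U₀ _ _).mpr ?_
      change I b U₀ ≤ RingHom.ker (Ideal.Quotient.mk (I b U₀))
      rw [Ideal.mk_ker]
    have h3 := (hI a U₀ _ _).mp (hmono a b hab _ h1)
    change I a U₀ ≤ RingHom.ker (Ideal.Quotient.mk (I b U₀)) at h3
    rwa [Ideal.mk_ker] at h3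
  -- stabilisation on each affine open
  have hstab : ∀ U₀ : S.affineOpens, ∃ lU : Λ, ∀ l, I l U₀ ≤ I lU U₀ := by
    intro U₀
    haveI : IsNoetherianRing Γ(S, U₀.1) := IsLocallyNoetherian.component_noetherian U₀
    obtain ⟨m, ⟨lU, rfl⟩, hm⟩ := (wellFounded_gt (α := Ideal Γ(S, U₀.1))).has_min
      (Set.range fun l => I l U₀) (Set.range_nonempty _)
    refine ⟨lU, fun l => ?_⟩
    obtain ⟨c, hlc, hUc⟩ := hdir l lU
    have h1 : I lU U₀ ≤ I c U₀ := hImono _ _ hUc U₀
    have h2 : ¬ (I c U₀ > I lU U₀) := hm _ ⟨c, rfl⟩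
    have h3 : I c U₀ = I lU U₀ := (eq_of_le_of_not_lt h1 h2).symm
    exact (hImono _ _ hlc U₀).trans h3.le
  choose lU hlU using hstab
  -- finite affine cover
  obtain ⟨s, hs⟩ := (TopologicalSpace.IsOpenCover.mk (iSup_affineOpens_eq_top S) :
    TopologicalSpace.IsOpenCover fun U : S.affineOpens => U.1).exists_finite_of_compactSpace
  have hbound : ∀ s' : Finset S.affineOpens, ∃ l₀, ∀ U ∈ s', I (lU U) U ≤ I l₀ U := by
    intro s'
    induction s' using Finset.induction_on with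
    | empty => exact ⟨Classical.arbitrary Λ, fun U hU => absurd hU (Finset.notMem_empty U)⟩
    | insert a s' _ ih =>
      obtain ⟨l', hl'⟩ := ih
      obtain ⟨c, h1, h2⟩ := hdir l' (lU a)
      refine ⟨c, fun U hU => ?_⟩
      rcases Finset.mem_insert.mp hU with rfl | hU
      · exact hImono _ _ h2 _
      · exact (hl' U hU).trans (hImono _ _ h1 U)
  obtain ⟨l₀, hl₀⟩ := hbound s
  refine ⟨l₀, fun T g hg l => ?_⟩
  refine of_affine_charts (hP l) (↑s : Set S.affineOpens) ?_ g ?_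
  · intro x
    obtain ⟨⟨U, hU⟩, hx⟩ := hs.exists_mem x
    exact ⟨U, hU, hx⟩
  · intro U hU C w ζ hw
    rw [hw]
    refine (hI l U C ζ).mpr ?_
    have h1 : P l₀ (Spec.map ζ ≫ U.2.fromSpec) := by
      rw [← hw]
      exact (hP l₀).comp w g hg
    exact ((hlU U l).trans (hl₀ U hU)).trans ((hI l₀ U C ζ).mp h1)

end Groth.Agent.Lib.helper14.TDense
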