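import Mathlib

/-!
# helper14: vanishing in a fibre ring

`κ` a field which is an `A₀`-algebra with kernel `p`, `B₀` an `A₀`-algebra, `b : B₀`. If
`1 ⊗ b = 0` in `κ ⊗[A₀] B₀` then `σ b ∈ p B₀` for some `σ ∉ p`.
-/

set_option autoImplicit false
set_option linter.style.haveILetI false
universe u v
open TensorProduct

namespace Groth.Agent.Lib.helper14.TDense

theorem fiber_one_tmul_eq_zero {A₀ : Type*} {B₀ : Type*} [CommRing A₀] [CommRing B₀]
    [Algebra A₀ B₀] (p : Ideal A₀) [p.IsPrime] (b : B₀)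
    (h : (1 : p.ResidueField) ⊗ₜ[A₀] b = 0) :
    ∃ σ : A₀, σ ∉ p ∧ algebraMap A₀ B₀ σ * b ∈ p.map (algebraMap A₀ B₀) := by
  letI : Algebra B₀ (p.Fiber B₀) := Algebra.TensorProduct.rightAlgebra
  let e := Ideal.Fiber.algEquivAux₁ (S := B₀) p
  have h1 : e (algebraMap B₀ (p.Fiber B₀) b) = 0 := by
    have : algebraMap B₀ (p.Fiber B₀) b = (1 : p.ResidueField) ⊗ₜ[A₀] b := rfl
    rw [this, h, map_zero]
  rw [AlgEquiv.commutes] at h1
  rw [IsScalarTower.algebraMap_apply B₀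
      (Localization (Algebra.algebraMapSubmonoid B₀ p.primeCompl)) _ b,
    Ideal.Quotient.algebraMap_eq, Ideal.Quotient.eq_zero_iff_mem,
    IsLocalization.mem_map_algebraMap_iff (Algebra.algebraMapSubmonoid B₀ p.primeCompl)] at h1
  obtain ⟨⟨⟨i, hi⟩, ⟨m, hm⟩⟩, hx⟩ := h1
  obtain ⟨σ, hσ, rfl⟩ := hm
  rw [← map_mul] at hx
  obtain ⟨⟨m', hm'⟩, hc⟩ := (IsLocalization.eq_iff_exists
    (Algebra.algebraMapSubmonoid B₀ p.primeCompl) _).mp hx
  obtain ⟨σ', hσ', rfl⟩ := hm'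
  refine ⟨σ' * σ, p.primeCompl.mul_mem hσ' hσ, ?_⟩
  simp only at hc
  rw [map_mul, mul_assoc, mul_comm (algebraMap A₀ B₀ σ) b, hc]
  exact Ideal.mul_mem_left _ _ hi

theorem exists_mul_mem_of_one_tmul_eq_zero {A₀ : Type*} {B₀ : Type*} {κ : Type*} [CommRing A₀]
    [CommRing B₀] [Field κ] [Algebra A₀ B₀] [Algebra A₀ κ] (b : B₀)
    (h : (1 : κ) ⊗ₜ[A₀] b = 0) :
    ∃ σ : A₀, σ ∉ RingHom.ker (algebraMap A₀ κ) ∧
      algebraMap A₀ B₀ σ * b ∈ (RingHom.ker (algebraMap A₀ κ)).map (algebraMap A₀ B₀) := by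
  obtain ⟨p, hp⟩ : ∃ p : Ideal A₀, p = RingHom.ker (algebraMap A₀ κ) := ⟨_, rfl⟩
  haveI : p.IsPrime := hp ▸ RingHom.ker_isPrime _
  rw [← hp]
  let ι : p.ResidueField →ₐ[A₀] κ := Ideal.ResidueField.liftₐ p (Algebra.ofId A₀ κ) hp.le (by
    intro a ha
    change IsUnit (algebraMap A₀ κ a)
    rw [isUnit_iff_ne_zero]
    intro h0
    exact ha (hp ▸ (RingHom.mem_ker.mpr h0)))
  letI : Algebra p.ResidueField κ := ι.toRingHom.toAlgebra
  haveI : IsScalarTower A₀ p.ResidueField κ :=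
    IsScalarTower.of_algebraMap_eq fun x => (ι.commutes x).symm
  apply fiber_one_tmul_eq_zero p b
  have hinj : Function.Injective
      (Algebra.TensorProduct.includeRight : p.Fiber B₀ →ₐ[p.ResidueField] κ ⊗[p.ResidueField] p.Fiber B₀) :=
    Algebra.TensorProduct.includeRight_injective (algebraMap p.ResidueField κ).injective
  apply hinj
  rw [map_zero]
  apply (TensorProduct.AlgebraTensorModule.cancelBaseChange A₀ p.ResidueField p.ResidueField κ
    B₀).injective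
  rw [map_zero, Algebra.TensorProduct.includeRight_apply,
    TensorProduct.AlgebraTensorModule.cancelBaseChange_tmul, one_smul]
  exact h

end Groth.Agent.Lib.helper14.TDense
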