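import Mathlib

/-!
# helper14: fibre plumbing for torsion-dense families (part 1)

Residue field points in affine charts, sections killed on a fibre.
-/

set_option autoImplicit false
set_option linter.style.haveILetI false
universe u
open CategoryTheory CategoryTheory.Limits AlgebraicGeometry TensorProduct

namespace Groth.Agent.Lib.helper14.TDense

/-- the residue field point through an affine chart -/
theorem fromSpecResidueField_eq {S : Scheme.{u}} (U₀ : S.affineOpens) (s : S) (hs : s ∈ U₀.1) :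
    S.fromSpecResidueField s = Spec.map (S.evaluation U₀.1 s hs) ≫ U₀.2.fromSpec := by
  rw [Scheme.fromSpecResidueField, ← U₀.2.fromSpecStalk_eq_fromSpecStalk hs,
    IsAffineOpen.fromSpecStalk, Scheme.evaluation, Spec.map_comp, Category.assoc]

theorem fromSpec_mem {S : Scheme.{u}} (U₀ : S.affineOpens) (x : Spec Γ(S, U₀.1)) :
    U₀.2.fromSpec x ∈ U₀.1 := by
  have : U₀.2.fromSpec x ∈ U₀.2.fromSpec.opensRange := ⟨x, rfl⟩
  rwa [U₀.2.opensRange_fromSpec] at this

/-- the kernel of evaluation at the point of a prime -/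
theorem ker_evaluation_fromSpec {S : Scheme.{u}} (U₀ : S.affineOpens) (p : Ideal Γ(S, U₀.1))
    [hp : p.IsPrime] :
    RingHom.ker (S.evaluation U₀.1 (U₀.2.fromSpec ⟨p, hp⟩) (fromSpec_mem U₀ _)).hom = p := by
  ext a
  rw [RingHom.mem_ker]
  change (S.evaluation U₀.1 (U₀.2.fromSpec ⟨p, hp⟩) (fromSpec_mem U₀ _)) a = 0 ↔ _
  rw [Scheme.evaluation_eq_zero_iff_notMem_basicOpen]
  have h1 : U₀.2.fromSpec ⟨p, hp⟩ ∈ S.basicOpen a ↔
      (⟨p, hp⟩ : PrimeSpectrum Γ(S, U₀.1)) ∈ PrimeSpectrum.basicOpen a := by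
    rw [← U₀.2.fromSpec_preimage_basicOpen]
    rfl
  rw [h1, PrimeSpectrum.mem_basicOpen]
  simp

/-- sections of `Spec R' ⟶ U ⊆ X` -/
theorem appLE_specMap_fromSpec {X : Scheme.{u}} (U : X.affineOpens) {R' : CommRingCat.{u}}
    (β : Γ(X, U.1) ⟶ R') (e : ⊤ ≤ (Spec.map β ≫ U.2.fromSpec) ⁻¹ᵁ U.1) :
    (Spec.map β ≫ U.2.fromSpec).appLE U.1 ⊤ e = β ≫ (Scheme.ΓSpecIso R').inv := by
  apply Spec.map_injective
  rw [← cancel_mono U.2.fromSpec,
    IsAffineOpen.SpecMap_appLE_fromSpec _ U.2 (isAffineOpen_top (Spec R')),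
    IsAffineOpen.fromSpec_top, Scheme.isoSpec_Spec_inv, Spec.map_comp, Category.assoc]

theorem top_le_preimage {X : Scheme.{u}} (U : X.affineOpens) {R' : CommRingCat.{u}}
    (β : Γ(X, U.1) ⟶ R') : ⊤ ≤ (Spec.map β ≫ U.2.fromSpec) ⁻¹ᵁ U.1 := by
  intro x _
  change (Spec.map β ≫ U.2.fromSpec) x ∈ U.1
  rw [Scheme.Hom.comp_apply]
  exact fromSpec_mem U _

/-- a section over `U` killed by a point `Spec R' ⟶ U` -/
theorem hom_eq_zero_of_app_eq_zero {X : Scheme.{u}} (U : X.affineOpens) {R' : CommRingCat.{u}}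
    (β : Γ(X, U.1) ⟶ R') (b : Γ(X, U.1)) (h : (Spec.map β ≫ U.2.fromSpec).app U.1 b = 0) :
    β.hom b = 0 := by
  have h1 : ((Spec.map β ≫ U.2.fromSpec).appLE U.1 ⊤ (top_le_preimage U β)).hom b = 0 := by
    rw [Scheme.Hom.appLE]
    change (Spec R').presheaf.map _ ((Spec.map β ≫ U.2.fromSpec).app U.1 b) = 0
    rw [h, map_zero]
  rw [appLE_specMap_fromSpec] at h1
  change (Scheme.ΓSpecIso R').inv (β.hom b) = 0 at h1
  have h2 := congrArg (Scheme.ΓSpecIso R').hom h1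
  rw [map_zero] at h2
  rw [← h2]
  change _ = ((Scheme.ΓSpecIso R').inv ≫ (Scheme.ΓSpecIso R').hom) (β.hom b)
  rw [Iso.inv_hom_id]
  rfl

/-- transfer of vanishing along an equality of morphisms -/
theorem app_eq_zero_congr {T X : Scheme.{u}} {z z' : T ⟶ X} (h : z = z') (U : X.Opens)
    (b : Γ(X, U)) (hb : z.app U b = 0) : z'.app U b = 0 := by
  subst h
  exact hb

/-- vanishing of a pulled back section may be checked on the affine opens -/
theorem app_eq_zero_of_affine_cover {F Z : Scheme.{u}} (ι : F ⟶ Z) (O : Z.Opens) (c : Γ(Z, O))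
    (h : ∀ (W : Z.affineOpens) (hW : W.1 ≤ O), ι.app W.1 (Z.presheaf.map (homOfLE hW).op c) = 0) :
    ι.app O c = 0 := by
  refine F.sheaf.eq_of_locally_eq' (fun W : {W : Z.affineOpens // W.1 ≤ O} => ι ⁻¹ᵁ W.1.1)
    (ι ⁻¹ᵁ O) (fun W => homOfLE (fun x hx => W.2 hx)) ?_ _ _ ?_
  · intro x hx
    obtain ⟨_, ⟨W, hW, rfl⟩, hxW, hWO⟩ := Z.isBasis_affineOpens.exists_subset_of_mem_open
      (show ι x ∈ (O : Set Z) from hx) O.2
    exact TopologicalSpace.Opens.mem_iSup.mpr ⟨⟨⟨W, hW⟩, hWO⟩, hxW⟩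
  · rintro ⟨W, hW⟩
    change F.presheaf.map _ (ι.app O c) = F.presheaf.map _ 0
    rw [map_zero]
    have := ι.naturality (homOfLE hW).op
    have h2 := congrArg (fun φ => φ.hom c) this
    simp only [CommRingCat.hom_comp, RingHom.comp_apply] at h2
    rw [h W hW] at h2
    exact h2.symm

end Groth.Agent.Lib.helper14.TDense
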