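import Mathlib
import Groth.Prelude.Def_MoreMor
import Groth.Agent.Lib.Helper14.TDense2
import Groth.Agent.Lib.Helper14.TDense7
import Groth.Agent.Lib.Helper14.TDense8

/-!
# helper14: fibre plumbing for torsion-dense families (part 2)

From fibrewise schematic density to the ring-level density `DenseAt` on affine charts.
-/

set_option autoImplicit false
set_option linter.style.haveILetI false
universe u w
open CategoryTheory CategoryTheory.Limits AlgebraicGeometry TensorProduct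

namespace Groth.Agent.Lib.helper14.TDense

/-- elements of the kernel of `ev` die on schemes over `Spec κ` -/
theorem appLE_eq_zero_of_fac {T S : Scheme.{u}} (z : T ⟶ S) (U₀ : S.affineOpens)
    {κ : CommRingCat.{u}} (ev : Γ(S, U₀.1) ⟶ κ) (r : T ⟶ Spec κ)
    (hz : z = r ≫ Spec.map ev ≫ U₀.2.fromSpec) (V : T.Opens) (e : V ≤ z ⁻¹ᵁ U₀.1)
    (a : Γ(S, U₀.1)) (ha : ev.hom a = 0) : (z.appLE U₀.1 V e).hom a = 0 := by
  subst hz
  have h1 := Scheme.Hom.appLE_comp_appLE r (Spec.map ev ≫ U₀.2.fromSpec) U₀.1 ⊤ V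
    (top_le_preimage U₀ ev) (fun _ _ => trivial)
  rw [← h1, appLE_specMap_fromSpec]
  change (r.appLE ⊤ V _).hom ((Scheme.ΓSpecIso κ).inv.hom (ev.hom a)) = 0
  rw [ha, map_zero, map_zero]

/-- sections lying in `p ·` on all affine opens of `Z` die on the fibre of `Z` -/
theorem comp_app_eq_zero {X S Z : Scheme.{u}} (k : Z ⟶ X) (f : X ⟶ S) {κ : CommRingCat.{u}}
    (σ : Spec κ ⟶ S) (U₀ : S.affineOpens) (U : X.Opens) (hU : U ≤ f ⁻¹ᵁ U₀.1)
    (ev : Γ(S, U₀.1) ⟶ κ) (hσ : σ = Spec.map ev ≫ U₀.2.fromSpec) (b : Γ(X, U))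
    (hb : ∀ (W : Z.affineOpens) (hW : W.1 ≤ k ⁻¹ᵁ U), (k.appLE U W.1 hW).hom b ∈
      (RingHom.ker ev.hom).map ((k ≫ f).appLE U₀.1 W.1
        (hW.trans (fun _ hx => hU hx))).hom) :
    (pullback.fst (k ≫ f) σ ≫ k).app U b = 0 := by
  rw [Scheme.Hom.comp_app]
  change ((pullback.fst (k ≫ f) σ).app (k ⁻¹ᵁ U)).hom ((k.app U).hom b) = 0
  apply app_eq_zero_of_affine_cover
  intro W hW
  have h1 : (Z.presheaf.map (homOfLE hW).op).hom ((k.app U).hom b) =
      (k.appLE U W.1 hW).hom b := rfl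
  rw [h1]
  have h2 := hb W hW
  have h3 : (RingHom.ker ev.hom).map ((k ≫ f).appLE U₀.1 W.1
      (hW.trans (fun _ hx => hU hx))).hom ≤
      RingHom.ker ((pullback.fst (k ≫ f) σ).app W.1).hom := by
    rw [Ideal.map_le_iff_le_comap, RingHom.comap_ker]
    intro a ha
    rw [RingHom.mem_ker] at ha ⊢
    have h4 : (k ≫ f).appLE U₀.1 W.1 (hW.trans (fun _ hx => hU hx)) ≫
        (pullback.fst (k ≫ f) σ).app W.1 =
        (pullback.fst (k ≫ f) σ ≫ (k ≫ f)).appLE U₀.1 (pullback.fst (k ≫ f) σ ⁻¹ᵁ W.1)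
          (fun _ hx => hU (hW hx)) := by
      rw [Scheme.Hom.app_eq_appLE, Scheme.Hom.appLE_comp_appLE]
    have h5 := appLE_eq_zero_of_fac (pullback.fst (k ≫ f) σ ≫ (k ≫ f)) U₀ ev
      (pullback.snd (k ≫ f) σ) (by rw [pullback.condition, hσ])
      (pullback.fst (k ≫ f) σ ⁻¹ᵁ W.1) (fun _ hx => hU (hW hx)) a ha
    rw [← h4] at h5
    exact h5
  exact h3 h2

/-- a section over an affine chart which vanishes on the fibre is killed by all points of the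
fibre ring -/
theorem hom_eq_zero_of_fst_app_eq_zero {X S : Scheme.{u}} (f : X ⟶ S) {κ : CommRingCat.{u}}
    (σ : Spec κ ⟶ S) (U₀ : S.affineOpens) (U : X.affineOpens) (hU : U.1 ≤ f ⁻¹ᵁ U₀.1)
    (ev : Γ(S, U₀.1) ⟶ κ) (hσ : σ = Spec.map ev ≫ U₀.2.fromSpec) (b : Γ(X, U.1))
    (hb : (pullback.fst f σ).app U.1 b = 0) {R' : CommRingCat.{u}} (β : Γ(X, U.1) ⟶ R')
    (ε : κ ⟶ R') (hcomm : f.appLE U₀.1 U.1 hU ≫ β = ev ≫ ε) : β.hom b = 0 := by
  have compat : (Spec.map β ≫ U.2.fromSpec) ≫ f = Spec.map ε ≫ σ := by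
    rw [Category.assoc, ← IsAffineOpen.SpecMap_appLE_fromSpec f U₀.2 U.2 hU, ← Category.assoc,
      ← Spec.map_comp, hcomm, Spec.map_comp, Category.assoc, hσ]
  apply hom_eq_zero_of_app_eq_zero U β b
  refine app_eq_zero_congr (pullback.lift_fst _ _ compat) U.1 b ?_
  rw [Scheme.Hom.comp_app]
  change ((pullback.lift _ _ compat).app _).hom (((pullback.fst f σ).app U.1).hom b) = 0
  have hb' : ((pullback.fst f σ).app U.1).hom b = 0 := hb
  rw [hb', map_zero]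

/-- **fibrewise density gives ring-level density on affine charts** -/
theorem denseAt_of_fibre {S X : Scheme.{u}} (f : X ⟶ S) {Λ : Type w} {Z : Λ → Scheme.{u}}
    (k : ∀ l, Z l ⟶ X) (U₀ : S.affineOpens) (U : X.affineOpens) (hU : U.1 ≤ f ⁻¹ᵁ U₀.1)
    (p : Ideal Γ(S, U₀.1)) [hp : p.IsPrime]
    (hdense : ∀ (V : (f.fiber (U₀.2.fromSpec ⟨p, hp⟩)).Opens)
      (t : Γ(f.fiber (U₀.2.fromSpec ⟨p, hp⟩), V)),
      (∀ l, (MoreMor.fiberMap (k l) f (U₀.2.fromSpec ⟨p, hp⟩)).app V t = 0) → t = 0) :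
    DenseAt (f.appLE U₀.1 U.1 hU).hom
      (fun i : Σ l : Λ, {W : (Z l).affineOpens // W.1 ≤ (k l) ⁻¹ᵁ U.1} =>
        ((k i.1).appLE U.1 i.2.1.1 i.2.2).hom) p := by
  intro b hb
  obtain ⟨s, hs⟩ : ∃ s : S, s = U₀.2.fromSpec ⟨p, hp⟩ := ⟨_, rfl⟩
  have hsU : s ∈ U₀.1 := hs ▸ fromSpec_mem U₀ _
  have hker : RingHom.ker (S.evaluation U₀.1 s hsU).hom = p := by
    subst hs
    exact ker_evaluation_fromSpec U₀ p
  rw [← hs] at hdense
  have hσ := fromSpecResidueField_eq U₀ s hsU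
  -- the section on the fibre vanishes
  have ht : (pullback.fst f (S.fromSpecResidueField s)).app U.1 b = 0 := by
    apply hdense ((f.fiberι s) ⁻¹ᵁ U.1)
    intro l
    have h1 : pullback.fst (k l ≫ f) (S.fromSpecResidueField s) ≫ k l =
        MoreMor.fiberMap (k l) f s ≫ pullback.fst f (S.fromSpecResidueField s) :=
      (pullback.lift_fst _ _ _).symm
    have h2 := comp_app_eq_zero (k l) f (S.fromSpecResidueField s) U₀ U.1 hU
      (S.evaluation U₀.1 s hsU) hσ b (fun W hW => by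
        have h3 := hb ⟨l, ⟨W, hW⟩⟩
        rw [hker]
        have h4 : ((k l).appLE U.1 W.1 hW).hom.comp (f.appLE U₀.1 U.1 hU).hom =
            ((k l ≫ f).appLE U₀.1 W.1 (hW.trans (fun _ hx => hU hx))).hom := by
          rw [← Scheme.Hom.appLE_comp_appLE]
          rfl
        rw [← h4]
        exact h3)
    have h5 := app_eq_zero_congr h1 U.1 b h2
    rw [Scheme.Hom.comp_app] at h5
    exact h5
  -- the fibre ring
  letI algB : Algebra Γ(S, U₀.1) Γ(X, U.1) := (f.appLE U₀.1 U.1 hU).hom.toAlgebra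
  letI algκ : Algebra Γ(S, U₀.1) (S.residueField s) := (S.evaluation U₀.1 s hsU).hom.toAlgebra
  let β : Γ(X, U.1) ⟶ CommRingCat.of ((S.residueField s) ⊗[Γ(S, U₀.1)] Γ(X, U.1)) :=
    CommRingCat.ofHom (Algebra.TensorProduct.includeRight :
      Γ(X, U.1) →ₐ[Γ(S, U₀.1)] (S.residueField s) ⊗[Γ(S, U₀.1)] Γ(X, U.1)).toRingHom
  let ε : S.residueField s ⟶ CommRingCat.of ((S.residueField s) ⊗[Γ(S, U₀.1)] Γ(X, U.1)) :=
    CommRingCat.ofHom (Algebra.TensorProduct.includeLeft :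
      (S.residueField s) →ₐ[Γ(S, U₀.1)] (S.residueField s) ⊗[Γ(S, U₀.1)] Γ(X, U.1)).toRingHom
  have hcomm : f.appLE U₀.1 U.1 hU ≫ β = S.evaluation U₀.1 s hsU ≫ ε := by
    ext a
    change (1 : S.residueField s) ⊗ₜ[Γ(S, U₀.1)] (algebraMap Γ(S, U₀.1) Γ(X, U.1) a) =
      (algebraMap Γ(S, U₀.1) (S.residueField s) a) ⊗ₜ[Γ(S, U₀.1)] (1 : Γ(X, U.1))
    rw [Algebra.algebraMap_eq_smul_one, Algebra.algebraMap_eq_smul_one, TensorProduct.tmul_smul,
      TensorProduct.smul_tmul']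
  have h0 := hom_eq_zero_of_fst_app_eq_zero f (S.fromSpecResidueField s) U₀ U hU
    (S.evaluation U₀.1 s hsU) hσ b ht β ε hcomm
  have h0' : (1 : S.residueField s) ⊗ₜ[Γ(S, U₀.1)] b = 0 := h0
  obtain ⟨σ', hσ', hmem⟩ := exists_mul_mem_of_one_tmul_eq_zero b h0'
  have hk2 : RingHom.ker (algebraMap Γ(S, U₀.1) (S.residueField s)) = p := hker
  rw [hk2] at hσ' hmem
  exact ⟨σ', hσ', hmem⟩

end Groth.Agent.Lib.helper14.TDense
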