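import Mathlib
import Groth.Prelude.Def_MoreMor
import Groth.Agent.Lib.Helper14.TDense6
import Groth.Agent.Lib.Helper14.TDense9

/-!
# helper14: Weil restriction of a closed condition along a commutative group with dense torsion
(SGA 3 XV 4.x): the assembly for S6065
-/

set_option autoImplicit false
set_option linter.style.haveILetI false
universe u
open CategoryTheory CategoryTheory.Limits AlgebraicGeometry TensorProduct MonoidalCategory
  CartesianMonoidalCategory MonObj GrpObj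

namespace Groth.Agent.Lib.helper14.TDense

open Groth.Agent.Lib.Helper14 Groth.Agent.Lib.Helper14.WeilClosed

theorem lfp_of_lft_noeth' {A B : Scheme.{u}} (F : A ⟶ B) [IsLocallyNoetherian B]
    [LocallyOfFiniteType F] : LocallyOfFinitePresentation F := by
  rw [HasRingHomProperty.iff_appLE (P := @LocallyOfFinitePresentation)]
  intro U V e
  have := IsLocallyNoetherian.component_noetherian U
  exact RingHom.FinitePresentation.of_finiteType.mp (F.finiteType_appLE U.2 V.2 e)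

section Group

variable {S : Scheme.{u}} (H : Over S) [GrpObj H]

/-- `ₐH ⟶ ₐ_qH` over `H` -/
theorem exists_levelMap (a q : ℕ) :
    ∃ m : pullback η[H].left (𝟙 H ^ a : H ⟶ H).left ⟶
        pullback η[H].left (𝟙 H ^ (a * q) : H ⟶ H).left,
      m ≫ pullback.snd _ _ = pullback.snd _ _ := by
  have h1 : (𝟙 H ^ (a * q) : H ⟶ H) = (𝟙 H ^ a : H ⟶ H) ≫ (𝟙 H ^ q : H ⟶ H) := by
    rw [pow_mul, MonObj.comp_pow, Category.comp_id]
  have h2 : η[H] ≫ (𝟙 H ^ q : H ⟶ H) = η[H] := by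
    rw [MonObj.comp_pow, Category.comp_id, MonObj.one_eq_one, one_pow]
  refine ⟨pullback.lift (pullback.fst _ _) (pullback.snd _ _) ?_, pullback.lift_snd _ _ _⟩
  rw [h1, Over.comp_left, ← Category.assoc, ← pullback.condition, Category.assoc,
    ← Over.comp_left, h2]

end Group

/-- the standard charts -/
theorem exists_std_chart {S X : Scheme.{u}} [IsLocallyNoetherian S] (f : X ⟶ S)
    [LocallyOfFiniteType f] {Λ : Type} {Z : Λ → Scheme.{u}} (k : ∀ l, Z l ⟶ X)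
    (hb : ∀ (s : S) (V : (f.fiber s).Opens) (t : Γ(f.fiber s, V)),
      (∀ l, (MoreMor.fiberMap (k l) f s).app V t = 0) → t = 0) (x : X) :
    ∃ c : Chart f k, x ∈ c.U.1 := by
  haveI : IsLocallyNoetherian X := LocallyOfFiniteType.isLocallyNoetherian f
  obtain ⟨_, ⟨U₀, hU₀, rfl⟩, hxU₀, -⟩ := S.isBasis_affineOpens.exists_subset_of_mem_open
    (Set.mem_univ (f x)) isOpen_univ
  obtain ⟨_, ⟨U, hU, rfl⟩, hxU, hUle⟩ := X.isBasis_affineOpens.exists_subset_of_mem_open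
    (show x ∈ ((f ⁻¹ᵁ U₀ : X.Opens) : Set X) from hxU₀) (f ⁻¹ᵁ U₀).2
  refine ⟨Chart.mk ⟨U₀, hU₀⟩ ⟨U, hU⟩ hUle
    (Σ l : Λ, {W : (Z l).affineOpens // W.1 ≤ (k l) ⁻¹ᵁ U}) (fun i => i.1) (fun i => i.2.1)
    (fun i => i.2.2) (IsLocallyNoetherian.component_noetherian ⟨U₀, hU₀⟩)
    (IsLocallyNoetherian.component_noetherian ⟨U, hU⟩) (fun p hp => ?_), hxU⟩
  haveI := hp
  exact denseAt_of_fibre f k ⟨U₀, hU₀⟩ ⟨U, hU⟩ hUle p (hb _)

open CategoryTheory.Limits in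
/-- **SGA 3 XV 4.x (Weil restriction along a group with dense torsion)** -/
theorem weil_main {S : Scheme.{u}} [IsLocallyNoetherian S]
    (H : Over S) [GrpObj H] [LocallyOfFiniteType H.hom]
    (E : Set ℕ) (hE : E.Nonempty) (hEmul : ∀ m ∈ E, ∀ n ∈ E, m * n ∈ E)
    (ha : ∀ n ∈ E, IsFinite ((pullback.snd η[H].left (𝟙 H ^ n : H ⟶ H).left) ≫ H.hom) ∧ Flat ((pullback.snd η[H].left (𝟙 H ^ n : H ⟶ H).left) ≫ H.hom))
    (hb : ∀ (s : S) (V : (H.hom.fiber s).Opens) (t : Γ(H.hom.fiber s, V)),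
      (∀ n ∈ E, (MoreMor.fiberMap (pullback.snd η[H].left (𝟙 H ^ n : H ⟶ H).left) H.hom s).app V t = 0) → t = 0)
    (Y : Scheme.{u}) (y : Y ⟶ H.left) [IsClosedImmersion y] :
    (∃ (T : Scheme.{u}) (t : T ⟶ S), IsClosedImmersion t ∧
      ∀ (S' : Scheme.{u}) (g : S' ⟶ S), (∃ g' : S' ⟶ T, g' ≫ t = g) ↔
        ∃ l : pullback H.hom g ⟶ Y, l ≫ y = pullback.fst H.hom g) ∧
    (AlgebraicGeometry.IsNoetherian S → ∃ n ∈ E, ∀ (S' : Scheme.{u}) (g : S' ⟶ S),
      (∃ l : pullback H.hom g ⟶ Y, l ≫ y = pullback.fst H.hom g) ↔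
        ∃ l : pullback ((pullback.snd η[H].left (𝟙 H ^ n : H ⟶ H).left) ≫ H.hom) g ⟶ Y,
          l ≫ y = pullback.fst ((pullback.snd η[H].left (𝟙 H ^ n : H ⟶ H).left) ≫ H.hom) g ≫ (pullback.snd η[H].left (𝟙 H ^ n : H ⟶ H).left)) := by
  obtain ⟨f, hf⟩ : ∃ f : H.left ⟶ S, f = H.hom := ⟨_, rfl⟩
  let Z : ↥E → Scheme.{u} := fun l => pullback η[H].left (𝟙 H ^ l.1 : H ⟶ H).left
  let k : ∀ l : ↥E, Z l ⟶ H.left := fun l => pullback.snd _ _
  haveI : LocallyOfFiniteType f := hf ▸ inferInstance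
  haveI hfin : ∀ l, IsFinite (k l ≫ f) := fun l => hf ▸ (ha l.1 l.2).1
  haveI hflat : ∀ l, Flat (k l ≫ f) := fun l => hf ▸ (ha l.1 l.2).2
  haveI hfp : ∀ l, LocallyOfFinitePresentation (k l ≫ f) := fun l => lfp_of_lft_noeth' _
  have hb' : ∀ (s : S) (V : (f.fiber s).Opens) (t : Γ(f.fiber s, V)),
      (∀ l : ↥E, (MoreMor.fiberMap (k l) f s).app V t = 0) → t = 0 := by
    subst hf
    exact fun s V t h => hb s V t fun n hn => h ⟨n, hn⟩
  have hcov : ∀ x : H.left, ∃ c ∈ (Set.univ : Set (Chart f k)), x ∈ c.U.1 := fun x => by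
    obtain ⟨c, hc⟩ := exists_std_chart f k hb' x
    exact ⟨c, trivial, hc⟩
  have e1 : ∀ (S' : Scheme.{u}) (g : S' ⟶ S),
      (∃ l : pullback f g ⟶ Y, l ≫ y = pullback.fst f g) ↔
        Univ f (Factors y (𝟙 H.left)) g := by
    intro S' g
    rw [univ_factors_iff_pullback]
    simp only [Category.comp_id]
  have e2 : ∀ (l₀ : ↥E) (S' : Scheme.{u}) (g : S' ⟶ S),
      (∃ l : pullback (k l₀ ≫ f) g ⟶ Y, l ≫ y = pullback.fst (k l₀ ≫ f) g ≫ k l₀) ↔
        Univ (k l₀ ≫ f) (Factors y (k l₀ ≫ 𝟙 H.left)) g := by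
    intro l₀ S' g
    rw [univ_factors_iff_pullback]
    simp only [Category.comp_id]
  subst hf
  refine ⟨?_, ?_⟩
  · obtain ⟨T, t, ht, hT⟩ := exists_closed H.hom k y (𝟙 H.left) Set.univ hcov
    refine ⟨T, t, ht, fun S' g => ?_⟩
    rw [hT S' g]
    exact (e1 S' g).symm
  · intro hN
    haveI := hN
    haveI : Nonempty ↥E := hE.to_subtype
    obtain ⟨l₀, hl₀⟩ := exists_level_of_noetherian (S := S) (Λ := ↥E) (fun a b => a.1 ∣ b.1)
      (fun a b => ⟨⟨a.1 * b.1, hEmul _ a.2 _ b.2⟩, dvd_mul_right _ _, dvd_mul_left _ _⟩)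
      (fun l => Univ (k l ≫ H.hom) (Factors y (k l ≫ 𝟙 H.left)))
      (fun l => isLocalPred_univ (isLocalPred_factors _ _))
      (fun l U₀ => exists_level_ideal H.hom k y (𝟙 _) l U₀)
      (by
        rintro a ⟨n, hn⟩ ⟨q, hq⟩ T g hPb T' z t hz
        simp only at hq
        subst hq
        obtain ⟨m, hm⟩ := exists_levelMap H a.1 q
        obtain ⟨e, he⟩ := hPb T' (z ≫ m) t (by
          rw [Category.assoc, ← Category.assoc m]
          change z ≫ (m ≫ pullback.snd _ _) ≫ H.hom = _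
          rw [hm]
          exact hz)
        refine ⟨e, ?_⟩
        rw [he, Category.assoc, ← Category.assoc m]
        change z ≫ (m ≫ pullback.snd _ _) ≫ 𝟙 H.left = _
        rw [hm])
    refine ⟨l₀.1, l₀.2, fun S' g => ?_⟩
    refine (e1 S' g).trans (Iff.trans ?_ (e2 l₀ S' g).symm)
    exact ⟨fun h => forall_of_univ H.hom k y (𝟙 _) g h l₀,
      fun h => univ_of_forall H.hom k y (𝟙 _) Set.univ hcov g (hl₀ g h)⟩

end Groth.Agent.Lib.helper14.TDense
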