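import Mathlib
import Groth.Agent.Lib.Helper14.TDense5

/-!
# helper14: torsion-dense families, the core theorem with general affine charts

Same as `TDense5`, but the charts are given by morphisms `Spec A₀ ⟶ S`, `Spec B₀ ⟶ X`,
`Spec (C i) ⟶ Z (l i)` (for instance product charts of a fibre product), not by affine opens.
-/

set_option autoImplicit false
set_option linter.style.haveILetI false
universe u w
open CategoryTheory CategoryTheory.Limits AlgebraicGeometry TensorProduct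

namespace Groth.Agent.Lib.helper14.TDense

open Groth.Agent.Lib.Helper14 Groth.Agent.Lib.Helper14.WeilClosed

variable {S X W E : Scheme.{u}} (f : X ⟶ S) {Λ : Type w} {Z : Λ → Scheme.{u}}
  (k : ∀ l, Z l ⟶ X)

/-- a general affine chart of `X` over `S` on which the family `Z l` is dense at every prime -/
structure GChart where
  A₀ : CommRingCat.{u}
  B₀ : CommRingCat.{u}
  a₀ : Spec A₀ ⟶ S
  a : Spec B₀ ⟶ X
  α : A₀ ⟶ B₀
  hα : a ≫ f = Spec.map α ≫ a₀
  ι : Type u
  l : ι → Λ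
  C : ι → CommRingCat.{u}
  wl : ∀ i, Spec (C i) ⟶ Z (l i)
  φ : ∀ i, B₀ ⟶ C i
  hφ : ∀ i, wl i ≫ k (l i) = Spec.map (φ i) ≫ a
  flat : ∀ i, ((φ i).hom.comp α.hom).Flat
  noethA : IsNoetherianRing A₀
  noethB : IsNoetherianRing B₀
  dense : ∀ p : Ideal A₀, p.IsPrime → DenseAt α.hom (fun i => (φ i).hom) p

variable (j : E ⟶ W) (γ : X ⟶ W)

/-- `Factors j γ` on affine points of a chart is cut out by an ideal -/
theorem exists_ideal_factors' [IsClosedImmersion j] {B₀ : CommRingCat.{u}} (a : Spec B₀ ⟶ X) :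
    ∃ K : Ideal B₀, ∀ (C : CommRingCat.{u}) (θ : B₀ ⟶ C),
      Factors j γ (Spec.map θ ≫ a) ↔ K ≤ RingHom.ker θ.hom := by
  obtain ⟨K, -, hK⟩ := exists_ideal_of_closedImmersion (pullback.snd j (a ≫ γ))
  refine ⟨K, fun C θ => ?_⟩
  rw [← hK C θ]
  constructor
  · rintro ⟨e, he⟩
    exact ⟨pullback.lift e (Spec.map θ) (by rw [he, Category.assoc]), pullback.lift_snd _ _ _⟩
  · rintro ⟨l, hl⟩
    refine ⟨l ≫ pullback.fst _ _, ?_⟩
    rw [Category.assoc, pullback.condition, ← Category.assoc, hl, Category.assoc]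

theorem gchart_main (c : GChart f k) [IsClosedImmersion j] (I : Ideal c.A₀)
    (hI : ∀ (l : Λ) (R' : CommRingCat.{u}) (ρ : c.A₀ ⟶ R'), I ≤ RingHom.ker ρ.hom →
       Univ (k l ≫ f) (Factors j (k l ≫ γ)) (Spec.map ρ ≫ c.a₀))
    (C : CommRingCat.{u}) (ζ : c.B₀ ⟶ C) (hζ : I ≤ RingHom.ker (c.α ≫ ζ).hom) :
    Factors j γ (Spec.map ζ ≫ c.a) := by
  obtain ⟨𝔶, h𝔶⟩ := exists_ideal_factors' j γ c.a
  rw [h𝔶]
  haveI := c.noethA
  haveI := c.noethB
  have key : 𝔶 ≤ I.map c.α.hom := by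
    intro b hb
    refine mem_map_of_forall_dense c.flat I (fun p hp _ => c.dense p hp) b ?_
    intro i
    obtain ⟨ψ, hψ⟩ : ∃ ψ : c.A₀ ⟶ c.C i, ψ = c.α ≫ c.φ i := ⟨_, rfl⟩
    have hψhom : (c.φ i).hom.comp c.α.hom = ψ.hom := by
      rw [hψ]; rfl
    rw [hψhom]
    let C' : CommRingCat.{u} := CommRingCat.of (c.C i ⧸ I.map ψ.hom)
    let mk : c.C i ⟶ C' := CommRingCat.ofHom (Ideal.Quotient.mk _)
    have h1 : I ≤ RingHom.ker (ψ ≫ mk).hom := by
      intro a ha
      rw [RingHom.mem_ker]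
      change Ideal.Quotient.mk _ (ψ.hom a) = 0
      exact Ideal.Quotient.eq_zero_iff_mem.mpr (Ideal.mem_map_of_mem _ ha)
    have h2 := hI (c.l i) C' (ψ ≫ mk) h1
    have hz : (Spec.map mk ≫ c.wl i) ≫ (k (c.l i) ≫ f) =
        𝟙 _ ≫ Spec.map (ψ ≫ mk) ≫ c.a₀ := by
      rw [Category.id_comp, Spec.map_comp, hψ, Spec.map_comp]
      simp only [Category.assoc]
      rw [← c.hα, ← Category.assoc (c.wl i), c.hφ i]
      simp only [Category.assoc]
    have h3 := h2 (Spec C') (Spec.map mk ≫ c.wl i) (𝟙 _) hz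
    have h4 : Factors j γ (Spec.map (c.φ i ≫ mk) ≫ c.a) := by
      obtain ⟨e, he⟩ := h3
      refine ⟨e, ?_⟩
      rw [he, Spec.map_comp]
      simp only [Category.assoc]
      rw [← Category.assoc (c.wl i), c.hφ i]
      simp only [Category.assoc]
    have h5 := (h𝔶 _ _).mp h4 hb
    rw [RingHom.mem_ker] at h5
    exact Ideal.Quotient.eq_zero_iff_mem.mp h5
  refine key.trans ?_
  rw [Ideal.map_le_iff_le_comap, RingHom.comap_ker]
  exact hζ

section Main

variable [∀ l, IsFinite (k l ≫ f)] [∀ l, Flat (k l ≫ f)]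
  [∀ l, LocallyOfFinitePresentation (k l ≫ f)] [IsClosedImmersion j]

/-- the criterion ideals of the finite levels, on general affine charts of the base -/
theorem exists_level_ideal' (l : Λ) {A₀ : CommRingCat.{u}} (a₀ : Spec A₀ ⟶ S) :
    ∃ Il : Ideal A₀, ∀ (R' : CommRingCat.{u}) (ρ : A₀ ⟶ R'),
      Univ (k l ≫ f) (Factors j (k l ≫ γ)) (Spec.map ρ ≫ a₀) ↔
        Il ≤ RingHom.ker ρ.hom := by
  have hfin : @Module.Projective A₀ _ (chM (k l ≫ f) a₀) _
        (chφ (k l ≫ f) a₀).hom.toAlgebra.toModule := by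
    have h1 : IsFinite (Spec.map (chφ (k l ≫ f) a₀)) := by
      rw [chφ_spec]; infer_instance
    have h2 : Flat (Spec.map (chφ (k l ≫ f) a₀)) := by
      rw [chφ_spec]; infer_instance
    have h3 : LocallyOfFinitePresentation (Spec.map (chφ (k l ≫ f) a₀)) := by
      rw [chφ_spec]; infer_instance
    rw [IsFinite.SpecMap_iff] at h1
    rw [Flat.SpecMap_iff] at h2
    rw [LocallyOfFinitePresentation.SpecMap_iff] at h3
    algebraize [(chφ (k l ≫ f) a₀).hom]
    haveI : Module.FinitePresentation A₀ (chM (k l ≫ f) a₀) :=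
      Module.FinitePresentation.of_finite_of_finitePresentation _ _
    exact Module.Flat.projective_of_finitePresentation
  letI := (chφ (k l ≫ f) a₀).hom.toAlgebra
  haveI := hfin
  obtain ⟨K, -, hK⟩ := exists_cutIdeal_factors (k l ≫ f) j (k l ≫ γ) a₀
  exact ⟨_, fun R' ρ => chart_criterion (isLocalPred_factors j (k l ≫ γ)) hK rfl ρ⟩

variable (charts : Set (GChart f k))
  (hcov : ∀ (T : Scheme.{u}) (z : T ⟶ X) (t : T), ∃ c ∈ charts, ∃ (C : CommRingCat.{u})
    (v : Spec C ⟶ T) (ζ : c.B₀ ⟶ C), IsOpenImmersion v ∧ t ∈ Set.range v ∧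
      v ≫ z = Spec.map ζ ≫ c.a)

include hcov in
/-- **density**: the finite levels detect `Univ f (Factors j γ)` -/
theorem univ_of_forall' {S' : Scheme.{u}} (g : S' ⟶ S)
    (H : ∀ l, Univ (k l ≫ f) (Factors j (k l ≫ γ)) g) : Univ f (Factors j γ) g := by
  intro T' z t' hz
  choose c hc C v ζ hv hrange hfac using hcov T' z
  let 𝒰 : Scheme.OpenCover.{u} T' := Scheme.Cover.mkOfCovers T' (fun t => Spec (C t))
    (fun t => v t) (fun t => by
      obtain ⟨y, hy⟩ := hrange t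
      exact ⟨t, y, hy⟩) (fun t => hv t)
  refine (isLocalPred_factors j γ).of_openCover z 𝒰 fun t => ?_
  change Factors j γ (v t ≫ z)
  rw [hfac t]
  choose Il hIl using fun l => exists_level_ideal' f k j γ l (c t).a₀
  refine gchart_main f k j γ (c t) (⨆ l, Il l) ?_ (C t) (ζ t) ?_
  · intro l R' ρ hρ
    exact (hIl l R' ρ).mpr ((le_iSup Il l).trans hρ)
  · refine iSup_le fun l => ?_
    refine (hIl l (C t) _).mp ?_
    have h1 : Spec.map ((c t).α ≫ ζ t) ≫ (c t).a₀ = (v t ≫ t') ≫ g := by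
      rw [Spec.map_comp, Category.assoc, ← (c t).hα, ← Category.assoc, ← hfac t, Category.assoc,
        hz, Category.assoc]
    rw [h1]
    exact (isLocalPred_univ (isLocalPred_factors j (k l ≫ γ))).comp _ _ (H l)

include hcov in
/-- **Core theorem** (general charts): representability by a closed subscheme -/
theorem exists_closed' : ∃ (T : Scheme.{u}) (t : T ⟶ S), IsClosedImmersion t ∧
    ∀ (S' : Scheme.{u}) (g : S' ⟶ S), (∃ g' : S' ⟶ T, g' ≫ t = g) ↔ Univ f (Factors j γ) g := by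
  choose Il hIl using fun (U₀ : S.affineOpens) (l : Λ) => exists_level_ideal f k j γ l U₀
  obtain ⟨T, t, ht, hPt, huniv⟩ := AbsClosed.exists_closed_of_criterion
    (isLocalPred_forall f k j γ) (fun U₀ => ⨆ l, Il U₀ l) (fun U₀ R' ρ => by
      rw [iSup_le_iff]
      exact forall_congr' fun l => hIl U₀ l R' ρ)
  refine ⟨T, t, ht, fun S' g => ⟨?_, fun H => ?_⟩⟩
  · rintro ⟨g', rfl⟩
    exact univ_of_forall' f k j γ charts hcov _
      ((isLocalPred_forall f k j γ).comp g' t hPt)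
  · exact huniv S' g (forall_of_univ f k j γ g H)

end Main

end Groth.Agent.Lib.helper14.TDense
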