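import Mathlib
import Groth.Agent.Lib.Helper14.TDense2
import Groth.Agent.Lib.Helper14.TDense7

/-!
# helper14: density on product charts (pure algebra)

`A₀ → B₀`, a family of `A₀`-algebra maps `φ j : B₀ → C j` which is fibrewise dense at the prime
`p` of `A₀` (`FDense`). For an `A₀`-algebra `R` and a prime `𝔓` of `R` over `p`, the family
`R ⊗ φ j : R ⊗ B₀ → R ⊗ C j` of `R`-algebra maps is dense at `𝔓` (`DenseAt`).
-/

set_option autoImplicit false
set_option linter.style.haveILetI false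
universe u v w
open TensorProduct

namespace Groth.Agent.Lib.helper14.TDense

section LemmaB

variable {κ₀ κ₁ : Type*} [Field κ₀] [Field κ₁] [Algebra κ₀ κ₁] {M : Type*} [AddCommGroup M]
  [Module κ₀ M] {ι : Type*} {N : ι → Type*} [∀ j, AddCommGroup (N j)] [∀ j, Module κ₀ (N j)]

/-- a jointly injective family of linear maps stays jointly injective after a field extension -/
theorem lTensor_joint_injective (Φ : ∀ j, M →ₗ[κ₀] N j) (hΦ : ∀ m, (∀ j, Φ j m = 0) → m = 0)
    (x : κ₁ ⊗[κ₀] M) (hx : ∀ j, (Φ j).lTensor κ₁ x = 0) : x = 0 := by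
  let ℬ := Module.Free.chooseBasis κ₀ κ₁
  have hnat : ∀ (j : ι) (x : κ₁ ⊗[κ₀] M) (i),
      TensorProduct.equivFinsuppOfBasisLeft ℬ ((Φ j).lTensor κ₁ x) i =
        Φ j (TensorProduct.equivFinsuppOfBasisLeft ℬ x i) := by
    intro j x i
    induction x using TensorProduct.induction_on with
    | zero => simp
    | tmul c m =>
      rw [LinearMap.lTensor_tmul, TensorProduct.equivFinsuppOfBasisLeft_apply_tmul_apply,
        TensorProduct.equivFinsuppOfBasisLeft_apply_tmul_apply, map_smul]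
    | add x y hx hy =>
      rw [map_add, map_add, Finsupp.add_apply, hx, hy, map_add, Finsupp.add_apply, map_add]
  apply (TensorProduct.equivFinsuppOfBasisLeft ℬ).injective
  rw [map_zero]
  ext i
  rw [Finsupp.zero_apply]
  apply hΦ
  intro j
  rw [← hnat, hx j, map_zero, Finsupp.zero_apply]

end LemmaB

section Fibre

variable {A₀ : Type u} {B₀ : Type v} [CommRing A₀] [CommRing B₀] [Algebra A₀ B₀]

/-- elements of `p B₀` die in the fibre ring -/
theorem one_tmul_eq_zero_of_mem_map {κ : Type*} [Field κ] [Algebra A₀ κ] (x : B₀)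
    (hx : x ∈ (RingHom.ker (algebraMap A₀ κ)).map (algebraMap A₀ B₀)) :
    (1 : κ) ⊗ₜ[A₀] x = 0 := by
  rw [Ideal.map] at hx
  induction hx using Submodule.span_induction with
  | mem x hx =>
    obtain ⟨a, ha, rfl⟩ := hx
    rw [Algebra.algebraMap_eq_smul_one, TensorProduct.tmul_smul, TensorProduct.smul_tmul',
      Algebra.smul_def, mul_one, RingHom.mem_ker.mp ha, TensorProduct.zero_tmul]
  | zero => rw [TensorProduct.tmul_zero]
  | add x y _ _ hx hy => rw [TensorProduct.tmul_add, hx, hy, add_zero]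
  | smul c x _ hx =>
    have : (1 : κ) ⊗ₜ[A₀] (c • x) = ((1 : κ) ⊗ₜ[A₀] c) * ((1 : κ) ⊗ₜ[A₀] x) := by
      rw [Algebra.TensorProduct.tmul_mul_tmul, one_mul, smul_eq_mul]
    rw [this, hx, mul_zero]

/-- the easy direction: `σ b ∈ p B₀` with `σ ∉ p` kills `b` in the fibre ring -/
theorem one_tmul_eq_zero_of_exists {κ : Type*} [Field κ] [Algebra A₀ κ] (b : B₀)
    (h : ∃ σ : A₀, σ ∉ RingHom.ker (algebraMap A₀ κ) ∧
      algebraMap A₀ B₀ σ * b ∈ (RingHom.ker (algebraMap A₀ κ)).map (algebraMap A₀ B₀)) :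
    (1 : κ) ⊗ₜ[A₀] b = 0 := by
  obtain ⟨σ, hσ, hmem⟩ := h
  have h1 := one_tmul_eq_zero_of_mem_map (κ := κ) _ hmem
  rw [← Algebra.smul_def, TensorProduct.tmul_smul, TensorProduct.smul_tmul',
    Algebra.smul_def, mul_one] at h1
  have hu : IsUnit (algebraMap A₀ κ σ) := isUnit_iff_ne_zero.mpr (fun h0 => hσ (RingHom.mem_ker.mpr h0))
  have h2 : ((algebraMap A₀ κ σ) ⊗ₜ[A₀] (1 : B₀)) * ((1 : κ) ⊗ₜ[A₀] b) = 0 := by
    rw [Algebra.TensorProduct.tmul_mul_tmul, mul_one, one_mul]
    exact h1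
  have hu' : IsUnit ((algebraMap A₀ κ σ) ⊗ₜ[A₀] (1 : B₀)) :=
    hu.map (Algebra.TensorProduct.includeLeft : κ →ₐ[A₀] κ ⊗[A₀] B₀)
  exact (hu'.mul_right_eq_zero).mp h2

end Fibre

section Dense

variable {A₀ : Type u} {B₀ : Type v} [CommRing A₀] [CommRing B₀] [Algebra A₀ B₀]
  {ι : Type w} {C : ι → Type v} [∀ j, CommRing (C j)] [∀ j, Algebra A₀ (C j)]
  (φ : ∀ j, B₀ →ₐ[A₀] C j)

/-- fibrewise density at `p` -/
def FDense (p : Ideal A₀) : Prop :=
  ∀ b : B₀, (∀ j, ∃ σ : A₀, σ ∉ p ∧
      algebraMap A₀ (C j) σ * φ j b ∈ p.map (algebraMap A₀ (C j))) →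
    ∃ σ : A₀, σ ∉ p ∧ algebraMap A₀ B₀ σ * b ∈ p.map (algebraMap A₀ B₀)

variable {φ}

/-- strong form over the residue field of `p` -/
theorem fdense_residueField (p : Ideal A₀) [p.IsPrime] (hd : FDense φ p)
    (m : p.ResidueField ⊗[A₀] B₀)
    (hm : ∀ j, (φ j).toLinearMap.baseChange p.ResidueField m = 0) : m = 0 := by
  obtain ⟨r, hr, s, e⟩ := Ideal.Fiber.exists_smul_eq_one_tmul p m
  have h1 : ∀ j, (1 : p.ResidueField) ⊗ₜ[A₀] (φ j s) = 0 := by
    intro j
    have := congrArg ((φ j).toLinearMap.baseChange p.ResidueField) e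
    rw [LinearMap.baseChange_tmul, LinearMap.map_smul_of_tower, hm j, smul_zero] at this
    exact this.symm
  have h2 := hd s (fun j => fiber_one_tmul_eq_zero p (φ j s) (h1 j))
  have h3 : (1 : p.ResidueField) ⊗ₜ[A₀] s = 0 :=
    one_tmul_eq_zero_of_exists s (by rwa [Ideal.ker_algebraMap_residueField])
  rw [h3] at e
  have hu : IsUnit (algebraMap A₀ p.ResidueField r) :=
    isUnit_iff_ne_zero.mpr (fun h0 => hr (Ideal.algebraMap_residueField_eq_zero.mp h0))
  rw [← algebraMap_smul p.ResidueField r m] at e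
  exact (hu.smul_eq_zero).mp e

/-- strong form over any field with kernel `p` -/
theorem fdense_field {κ₁ : Type*} [Field κ₁] [Algebra A₀ κ₁]
    (hd : FDense φ (RingHom.ker (algebraMap A₀ κ₁)))
    (y : κ₁ ⊗[A₀] B₀) (hy : ∀ j, (φ j).toLinearMap.baseChange κ₁ y = 0) : y = 0 := by
  obtain ⟨p, hp⟩ : ∃ p : Ideal A₀, p = RingHom.ker (algebraMap A₀ κ₁) := ⟨_, rfl⟩
  haveI : p.IsPrime := hp ▸ RingHom.ker_isPrime _
  rw [← hp] at hd
  let ι₁ : p.ResidueField →ₐ[A₀] κ₁ := Ideal.ResidueField.liftₐ p (Algebra.ofId A₀ κ₁) hp.le (by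
    intro a ha
    change IsUnit (algebraMap A₀ κ₁ a)
    rw [isUnit_iff_ne_zero]
    intro h0
    exact ha (hp ▸ (RingHom.mem_ker.mpr h0)))
  letI : Algebra p.ResidueField κ₁ := ι₁.toRingHom.toAlgebra
  haveI : IsScalarTower A₀ p.ResidueField κ₁ :=
    IsScalarTower.of_algebraMap_eq fun x => (ι₁.commutes x).symm
  let eB := TensorProduct.AlgebraTensorModule.cancelBaseChange A₀ p.ResidueField p.ResidueField
    κ₁ B₀
  let eC := fun j => TensorProduct.AlgebraTensorModule.cancelBaseChange A₀ p.ResidueField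
    p.ResidueField κ₁ (C j)
  have hnat : ∀ j (x : κ₁ ⊗[p.ResidueField] (p.ResidueField ⊗[A₀] B₀)),
      eC j (((φ j).toLinearMap.baseChange p.ResidueField).lTensor κ₁ x) =
        (φ j).toLinearMap.baseChange κ₁ (eB x) := by
    intro j x
    induction x using TensorProduct.induction_on with
    | zero => simp
    | tmul c m =>
      induction m using TensorProduct.induction_on with
      | zero => simp
      | tmul d b =>
        simp [eB, eC, TensorProduct.AlgebraTensorModule.cancelBaseChange_tmul,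
          LinearMap.baseChange_tmul]
      | add m m' h h' => simp only [TensorProduct.tmul_add, map_add, h, h']
    | add x x' h h' => simp only [map_add, h, h']
  have hx : eB.symm y = 0 := by
    apply lTensor_joint_injective (fun j => (φ j).toLinearMap.baseChange p.ResidueField)
      (fun m hm => fdense_residueField p hd m hm)
    intro j
    apply (eC j).injective
    rw [hnat, LinearEquiv.apply_symm_apply, hy j, map_zero]
  have := congrArg eB hx
  rwa [LinearEquiv.apply_symm_apply, map_zero] at this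

/-- **density on product charts** -/
theorem denseAt_tensor {R : Type v} [CommRing R] [Algebra A₀ R] (𝔓 : Ideal R) [𝔓.IsPrime]
    (hd : FDense φ (𝔓.comap (algebraMap A₀ R))) :
    DenseAt (algebraMap R (R ⊗[A₀] B₀))
      (fun j => (Algebra.TensorProduct.map (AlgHom.id R R) (φ j) :
        R ⊗[A₀] B₀ →ₐ[R] R ⊗[A₀] C j).toRingHom) 𝔓 := by
  intro b' hb'
  have hker : RingHom.ker (algebraMap A₀ 𝔓.ResidueField) = 𝔓.comap (algebraMap A₀ R) := by
    ext a
    rw [RingHom.mem_ker, IsScalarTower.algebraMap_apply A₀ R 𝔓.ResidueField,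
      Ideal.algebraMap_residueField_eq_zero]
    rfl
  let θB : R ⊗[A₀] B₀ →ₐ[A₀] 𝔓.ResidueField ⊗[A₀] B₀ :=
    Algebra.TensorProduct.map (IsScalarTower.toAlgHom A₀ R 𝔓.ResidueField) (AlgHom.id A₀ B₀)
  let θC := fun j => (Algebra.TensorProduct.map (IsScalarTower.toAlgHom A₀ R 𝔓.ResidueField)
    (AlgHom.id A₀ (C j)) : R ⊗[A₀] C j →ₐ[A₀] 𝔓.ResidueField ⊗[A₀] C j)
  have hnat : ∀ j (z : R ⊗[A₀] B₀), (φ j).toLinearMap.baseChange 𝔓.ResidueField (θB z) =
      θC j (Algebra.TensorProduct.map (AlgHom.id R R) (φ j) z) := by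
    intro j z
    induction z using TensorProduct.induction_on with
    | zero => simp
    | tmul r b => simp [θB, θC]
    | add z z' h h' => simp only [map_add, h, h']
  have hkill : ∀ j, 𝔓.map (algebraMap R (R ⊗[A₀] C j)) ≤ RingHom.ker (θC j).toRingHom := by
    intro j
    rw [Ideal.map_le_iff_le_comap]
    intro r hr
    rw [Ideal.mem_comap, RingHom.mem_ker]
    change θC j ((algebraMap R (R ⊗[A₀] C j)) r) = 0
    rw [Algebra.TensorProduct.algebraMap_apply]
    simp only [θC, Algebra.TensorProduct.map_tmul, IsScalarTower.coe_toAlgHom', map_one,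
      Algebra.algebraMap_self, RingHom.id_apply]
    rw [Ideal.algebraMap_residueField_eq_zero.mpr hr, TensorProduct.zero_tmul]
  have hy : θB b' = 0 := by
    refine fdense_field (hker ▸ hd) _ (fun j => ?_)
    rw [hnat]
    have h1 := hb' j
    have h2 : ((Algebra.TensorProduct.map (AlgHom.id R R) (φ j) :
        R ⊗[A₀] B₀ →ₐ[R] R ⊗[A₀] C j).toRingHom).comp (algebraMap R (R ⊗[A₀] B₀)) =
        algebraMap R (R ⊗[A₀] C j) := RingHom.ext fun r =>
      (Algebra.TensorProduct.map (AlgHom.id R R) (φ j) :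
        R ⊗[A₀] B₀ →ₐ[R] R ⊗[A₀] C j).commutes r
    rw [h2] at h1
    exact hkill j h1
  have h1 : (1 : 𝔓.ResidueField) ⊗ₜ[R] b' = 0 := by
    apply (TensorProduct.AlgebraTensorModule.cancelBaseChange A₀ R R 𝔓.ResidueField B₀).injective
    rw [map_zero]
    have h3 : ∀ z : R ⊗[A₀] B₀,
        TensorProduct.AlgebraTensorModule.cancelBaseChange A₀ R R 𝔓.ResidueField B₀
          ((1 : 𝔓.ResidueField) ⊗ₜ[R] z) = θB z := by
      intro z
      induction z using TensorProduct.induction_on with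
      | zero => simp
      | tmul r b =>
        simp [θB, TensorProduct.AlgebraTensorModule.cancelBaseChange_tmul, Algebra.smul_def]
      | add z z' h h' => simp only [TensorProduct.tmul_add, map_add, h, h']
    rw [h3, hy]
  exact fiber_one_tmul_eq_zero 𝔓 b' h1

end Dense

end Groth.Agent.Lib.helper14.TDense
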