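import Mathlib
import Groth.Agent.Lib.Helper14.TDense11
import Groth.Agent.Lib.Helper14.TDense12
import Groth.Agent.Lib.Helper14.TDense13

/-!
# helper14: product charts for the base change of a torsion-dense family
-/

set_option autoImplicit false
set_option linter.style.haveILetI false
universe u w
open CategoryTheory CategoryTheory.Limits AlgebraicGeometry TensorProduct

namespace Groth.Agent.Lib.helper14.TDense

section Tens

variable {A₀ B₀ R : CommRingCat.{u}} (αB : A₀ ⟶ B₀) (αR : A₀ ⟶ R)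

/-- the tensor product `R ⊗[A₀] B₀` -/
noncomputable def tens : CommRingCat.{u} :=
  letI := αB.hom.toAlgebra
  letI := αR.hom.toAlgebra
  CommRingCat.of (R ⊗[A₀] B₀)

noncomputable def tinl : R ⟶ tens αB αR :=
  letI := αB.hom.toAlgebra
  letI := αR.hom.toAlgebra
  CommRingCat.ofHom (algebraMap R (R ⊗[A₀] B₀))

noncomputable def tinr : B₀ ⟶ tens αB αR :=
  letI := αB.hom.toAlgebra
  letI := αR.hom.toAlgebra
  CommRingCat.ofHom (Algebra.TensorProduct.includeRight : B₀ →ₐ[A₀] R ⊗[A₀] B₀).toRingHom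

theorem tens_comm : αR ≫ tinl αB αR = αB ≫ tinr αB αR := by
  letI := αB.hom.toAlgebra
  letI := αR.hom.toAlgebra
  ext a
  change (algebraMap A₀ R a) ⊗ₜ[A₀] (1 : B₀) = (1 : R) ⊗ₜ[A₀] (algebraMap A₀ B₀ a)
  rw [Algebra.algebraMap_eq_smul_one, Algebra.algebraMap_eq_smul_one, TensorProduct.tmul_smul,
    TensorProduct.smul_tmul']

/-- the universal property -/
theorem exists_tdesc {C : CommRingCat.{u}} (ζ₂ : R ⟶ C) (ζ₁ : B₀ ⟶ C)
    (h : αR ≫ ζ₂ = αB ≫ ζ₁) :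
    ∃ ζ : tens αB αR ⟶ C, tinl αB αR ≫ ζ = ζ₂ ∧ tinr αB αR ≫ ζ = ζ₁ := by
  letI := αB.hom.toAlgebra
  letI := αR.hom.toAlgebra
  letI : Algebra A₀ C := (αR ≫ ζ₂).hom.toAlgebra
  have hc : ∀ a : A₀, ζ₁.hom (algebraMap A₀ B₀ a) = algebraMap A₀ C a := fun a => by
    change ζ₁.hom (αB.hom a) = (αR ≫ ζ₂).hom a
    rw [h]
    rfl
  let f : R →ₐ[A₀] C := AlgHom.mk ζ₂.hom (fun _ => rfl)
  let g : B₀ →ₐ[A₀] C := AlgHom.mk ζ₁.hom hc
  refine ⟨CommRingCat.ofHom (Algebra.TensorProduct.lift f g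
    (fun _ _ => Commute.all _ _)).toRingHom, ?_, ?_⟩
  · refine CommRingCat.hom_ext (RingHom.ext fun r => ?_)
    show (Algebra.TensorProduct.lift f g (fun _ _ => Commute.all _ _))
      (algebraMap R (R ⊗[A₀] B₀) r) = ζ₂.hom r
    rw [Algebra.TensorProduct.algebraMap_apply, Algebra.algebraMap_self, RingHom.id_apply,
      Algebra.TensorProduct.lift_tmul, map_one, mul_one]
    rfl
  · refine CommRingCat.hom_ext (RingHom.ext fun b => ?_)
    show (Algebra.TensorProduct.lift f g (fun _ _ => Commute.all _ _))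
      ((1 : R) ⊗ₜ[A₀] b) = ζ₁.hom b
    rw [Algebra.TensorProduct.lift_tmul, map_one, one_mul]
    rfl

/-- functoriality in `B₀` -/
noncomputable def tmap {C : CommRingCat.{u}} (φ : B₀ ⟶ C) : tens αB αR ⟶ tens (αB ≫ φ) αR :=
  letI := αB.hom.toAlgebra
  letI := αR.hom.toAlgebra
  letI : Algebra A₀ C := (αB ≫ φ).hom.toAlgebra
  CommRingCat.ofHom (Algebra.TensorProduct.map (AlgHom.id R R)
    (AlgHom.mk φ.hom (fun _ => rfl) : B₀ →ₐ[A₀] C)).toRingHom

theorem tinl_tmap {C : CommRingCat.{u}} (φ : B₀ ⟶ C) :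
    tinl αB αR ≫ tmap αB αR φ = tinl (αB ≫ φ) αR := by
  letI := αB.hom.toAlgebra
  letI := αR.hom.toAlgebra
  letI : Algebra A₀ C := (αB ≫ φ).hom.toAlgebra
  let φA : B₀ →ₐ[A₀] C := AlgHom.mk φ.hom (fun _ => rfl)
  refine CommRingCat.hom_ext (RingHom.ext fun r => ?_)
  show (Algebra.TensorProduct.map (AlgHom.id R R) φA) (algebraMap R (R ⊗[A₀] B₀) r) =
    algebraMap R (R ⊗[A₀] C) r
  rw [Algebra.TensorProduct.algebraMap_apply, Algebra.TensorProduct.algebraMap_apply,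
    Algebra.TensorProduct.map_tmul, map_one]
  rfl

theorem tinr_tmap {C : CommRingCat.{u}} (φ : B₀ ⟶ C) :
    tinr αB αR ≫ tmap αB αR φ = φ ≫ tinr (αB ≫ φ) αR := by
  letI := αB.hom.toAlgebra
  letI := αR.hom.toAlgebra
  letI : Algebra A₀ C := (αB ≫ φ).hom.toAlgebra
  let φA : B₀ →ₐ[A₀] C := AlgHom.mk φ.hom (fun _ => rfl)
  refine CommRingCat.hom_ext (RingHom.ext fun b => ?_)
  show (Algebra.TensorProduct.map (AlgHom.id R R) φA) ((1 : R) ⊗ₜ[A₀] b) =
    (1 : R) ⊗ₜ[A₀] (φ.hom b)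
  rw [Algebra.TensorProduct.map_tmul, map_one]
  rfl

end Tens

section Charts

variable {S X Y : Scheme.{u}} (f : X ⟶ S) (gS : Y ⟶ S) {Λ : Type w} {Z : Λ → Scheme.{u}}
  (k : ∀ l, Z l ⟶ X)

/-- the base change of the family -/
noncomputable abbrev bcMap (l : Λ) : pullback (k l ≫ f) gS ⟶ pullback f gS :=
  pullback.map (k l ≫ f) gS f gS (k l) (𝟙 Y) (𝟙 S) (by simp) (by simp)

/-- a general affine chart of `X` over `S` on which the family is fibrewise dense -/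
structure FChart where
  A₀ : CommRingCat.{u}
  B₀ : CommRingCat.{u}
  a₀ : Spec A₀ ⟶ S
  a : Spec B₀ ⟶ X
  α : A₀ ⟶ B₀
  hα : a ≫ f = Spec.map α ≫ a₀
  ι : Type u
  l : ι → Λ
  C : ι → CommRingCat.{u}
  wl : ∀ i, Spec (C i) ⟶ Z (l i)
  φ : ∀ i, B₀ ⟶ C i
  hφ : ∀ i, wl i ≫ k (l i) = Spec.map (φ i) ≫ a
  flat : ∀ i, ((φ i).hom.comp α.hom).Flat
  ft : α.hom.FiniteType
  fdense : ∀ p : Ideal A₀, p.IsPrime → DenseAt' α.hom (fun i => (φ i).hom) p

variable {f k}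

theorem FChart.compat_a (c : FChart f k) {R : CommRingCat.{u}} (aY : Spec R ⟶ Y)
    (αR : c.A₀ ⟶ R) (hY : aY ≫ gS = Spec.map αR ≫ c.a₀) :
    (Spec.map (tinr c.α αR) ≫ c.a) ≫ f = (Spec.map (tinl c.α αR) ≫ aY) ≫ gS := by
  rw [Category.assoc, c.hα, Category.assoc, hY, ← Category.assoc, ← Category.assoc,
    ← Spec.map_comp, ← Spec.map_comp, tens_comm]

theorem FChart.compat_w (c : FChart f k) {R : CommRingCat.{u}} (aY : Spec R ⟶ Y)
    (αR : c.A₀ ⟶ R) (hY : aY ≫ gS = Spec.map αR ≫ c.a₀) (i : c.ι) :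
    (Spec.map (tinr (c.α ≫ c.φ i) αR) ≫ c.wl i) ≫ (k (c.l i) ≫ f) =
      (Spec.map (tinl (c.α ≫ c.φ i) αR) ≫ aY) ≫ gS := by
  have h1 : c.wl i ≫ k (c.l i) ≫ f = Spec.map (c.α ≫ c.φ i) ≫ c.a₀ := by
    rw [← Category.assoc, c.hφ i, Category.assoc, c.hα, ← Category.assoc, ← Spec.map_comp]
  rw [Category.assoc, h1, Category.assoc, hY, ← Category.assoc, ← Category.assoc,
    ← Spec.map_comp, ← Spec.map_comp, tens_comm]

/-- the product chart -/
noncomputable def FChart.prod (c : FChart f k) {R : CommRingCat.{u}} (aY : Spec R ⟶ Y)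
    (αR : c.A₀ ⟶ R) (hY : aY ≫ gS = Spec.map αR ≫ c.a₀) (hR : IsNoetherianRing R) :
    GChart (pullback.snd f gS) (bcMap f gS k) where
  A₀ := R
  B₀ := tens c.α αR
  a₀ := aY
  a := pullback.lift (Spec.map (tinr c.α αR) ≫ c.a) (Spec.map (tinl c.α αR) ≫ aY)
    (c.compat_a gS aY αR hY)
  α := tinl c.α αR
  hα := pullback.lift_snd _ _ _
  ι := c.ι
  l := c.l
  C := fun i => tens (c.α ≫ c.φ i) αR
  wl := fun i => pullback.lift (Spec.map (tinr (c.α ≫ c.φ i) αR) ≫ c.wl i)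
    (Spec.map (tinl (c.α ≫ c.φ i) αR) ≫ aY) (c.compat_w gS aY αR hY i)
  φ := fun i => tmap c.α αR (c.φ i)
  hφ := fun i => by
    apply pullback.hom_ext
    · simp only [Category.assoc, pullback.lift_fst, pullback.lift_fst_assoc]
      rw [c.hφ i, ← Category.assoc, ← Spec.map_comp, ← tinr_tmap, Spec.map_comp, Category.assoc]
    · simp only [Category.assoc, pullback.lift_snd, pullback.lift_snd_assoc, Category.comp_id]
      rw [← Category.assoc, ← Spec.map_comp, tinl_tmap]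
  flat := fun i => by
    have e : (tmap c.α αR (c.φ i)).hom.comp (tinl c.α αR).hom =
        (tinl (c.α ≫ c.φ i) αR).hom := by
      rw [← CommRingCat.hom_comp, tinl_tmap]
    rw [e]
    letI := (c.α ≫ c.φ i).hom.toAlgebra
    letI := αR.hom.toAlgebra
    haveI : Module.Flat c.A₀ (c.C i) := c.flat i
    show (algebraMap R (R ⊗[c.A₀] c.C i)).Flat
    rw [RingHom.flat_algebraMap_iff]
    infer_instance
  noethA := hR
  noethB := by
    letI := c.α.hom.toAlgebra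
    letI := αR.hom.toAlgebra
    haveI : Algebra.FiniteType c.A₀ c.B₀ := c.ft
    haveI := hR
    show IsNoetherianRing (R ⊗[c.A₀] c.B₀)
    exact Algebra.FiniteType.isNoetherianRing R _
  dense := fun 𝔓 h𝔓 => by
    letI := c.α.hom.toAlgebra
    letI := αR.hom.toAlgebra
    letI : ∀ i, Algebra c.A₀ (c.C i) := fun i => (c.α ≫ c.φ i).hom.toAlgebra
    let φA : ∀ i, c.B₀ →ₐ[c.A₀] c.C i := fun i => AlgHom.mk (c.φ i).hom (fun _ => rfl)
    haveI := h𝔓
    have hd : FDense φA (𝔓.comap (algebraMap c.A₀ R)) :=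
      c.fdense _ (inferInstance : (𝔓.comap (algebraMap c.A₀ R)).IsPrime)
    exact denseAt_tensor 𝔓 hd

end Charts

end Groth.Agent.Lib.helper14.TDense
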