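import Mathlib
import Groth.Prelude.Def_MoreMor
import Groth.Agent.Lib.Helper14.TDense10
import Groth.Agent.Lib.Helper14.TDense14

/-!
# helper14: the core theorem for the base change of a torsion-dense family
-/

set_option autoImplicit false
set_option linter.style.haveILetI false
universe u
open CategoryTheory CategoryTheory.Limits AlgebraicGeometry TensorProduct

namespace Groth.Agent.Lib.helper14.TDense

open Groth.Agent.Lib.Helper14 Groth.Agent.Lib.Helper14.WeilClosed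

variable {S X Y : Scheme.{u}} (f : X ⟶ S) (gS : Y ⟶ S) {Λ : Type} {Z : Λ → Scheme.{u}}
  (k : ∀ l, Z l ⟶ X)

/-- the standard fibrewise dense charts -/
noncomputable def stdFChart [∀ l, Flat (k l ≫ f)] [LocallyOfFiniteType f]
    (hb : ∀ (s : S) (V : (f.fiber s).Opens) (t : Γ(f.fiber s, V)),
      (∀ l, (MoreMor.fiberMap (k l) f s).app V t = 0) → t = 0)
    (U₀ : S.affineOpens) (U : X.affineOpens) (hU : U.1 ≤ f ⁻¹ᵁ U₀.1) : FChart f k where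
  A₀ := Γ(S, U₀.1)
  B₀ := Γ(X, U.1)
  a₀ := U₀.2.fromSpec
  a := U.2.fromSpec
  α := f.appLE U₀.1 U.1 hU
  hα := (IsAffineOpen.SpecMap_appLE_fromSpec f U₀.2 U.2 hU).symm
  ι := Σ l : Λ, {W : (Z l).affineOpens // W.1 ≤ (k l) ⁻¹ᵁ U.1}
  l := fun i => i.1
  C := fun i => Γ(Z i.1, i.2.1.1)
  wl := fun i => i.2.1.2.fromSpec
  φ := fun i => (k i.1).appLE U.1 i.2.1.1 i.2.2
  hφ := fun i => (IsAffineOpen.SpecMap_appLE_fromSpec (k i.1) U.2 i.2.1.2 i.2.2).symm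
  flat := fun i => by
    have hcomp : ((k i.1).appLE U.1 i.2.1.1 i.2.2).hom.comp (f.appLE U₀.1 U.1 hU).hom =
        ((k i.1 ≫ f).appLE U₀.1 i.2.1.1
          (i.2.2.trans ((TopologicalSpace.Opens.map (k i.1).base).map (homOfLE hU)).le)).hom := by
      rw [← Scheme.Hom.appLE_comp_appLE]
      rfl
    rw [hcomp]
    exact Scheme.Hom.flat_appLE (k i.1 ≫ f) U₀.2 i.2.1.2 _
  ft := f.finiteType_appLE U₀.2 U.2 hU
  fdense := fun p hp => by
    haveI := hp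
    exact denseAt'_of_fibre f k U₀ U hU p (hb _)

theorem exists_prod_cover [IsLocallyNoetherian S] [LocallyOfFiniteType f]
    [LocallyOfFiniteType gS] [∀ l, Flat (k l ≫ f)]
    (hb : ∀ (s : S) (V : (f.fiber s).Opens) (t : Γ(f.fiber s, V)),
      (∀ l, (MoreMor.fiberMap (k l) f s).app V t = 0) → t = 0)
    (T : Scheme.{u}) (z : T ⟶ pullback f gS) (t : T) :
    ∃ c : GChart (pullback.snd f gS) (bcMap f gS k), ∃ (C : CommRingCat.{u}) (v : Spec C ⟶ T)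
      (ζ : c.B₀ ⟶ C), IsOpenImmersion v ∧ t ∈ Set.range v ∧ v ≫ z = Spec.map ζ ≫ c.a := by
  haveI : IsLocallyNoetherian Y := LocallyOfFiniteType.isLocallyNoetherian gS
  obtain ⟨z₁, hz₁⟩ : ∃ z₁ : T ⟶ X, z₁ = z ≫ pullback.fst f gS := ⟨_, rfl⟩
  obtain ⟨z₂, hz₂⟩ : ∃ z₂ : T ⟶ Y, z₂ = z ≫ pullback.snd f gS := ⟨_, rfl⟩
  have hz12 : z₁ ≫ f = z₂ ≫ gS := by
    rw [hz₁, hz₂, Category.assoc, Category.assoc, pullback.condition]
  obtain ⟨_, ⟨U₀, hU₀, rfl⟩, hxU₀, -⟩ := S.isBasis_affineOpens.exists_subset_of_mem_open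
    (Set.mem_univ (f (z₁ t))) isOpen_univ
  obtain ⟨_, ⟨U, hU, rfl⟩, hxU, hUle⟩ := X.isBasis_affineOpens.exists_subset_of_mem_open
    (show z₁ t ∈ ((f ⁻¹ᵁ U₀ : X.Opens) : Set X) from hxU₀) (f ⁻¹ᵁ U₀).2
  have hxG : z₂ t ∈ ((gS ⁻¹ᵁ U₀ : Y.Opens) : Set Y) := by
    change gS (z₂ t) ∈ U₀
    rw [← Scheme.Hom.comp_apply, ← hz12, Scheme.Hom.comp_apply]
    exact hxU₀
  obtain ⟨_, ⟨G₀, hG₀, rfl⟩, hxG₀, hGle⟩ := Y.isBasis_affineOpens.exists_subset_of_mem_open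
    hxG (gS ⁻¹ᵁ U₀).2
  obtain ⟨_, ⟨V, hV, rfl⟩, htV, hVle⟩ := T.isBasis_affineOpens.exists_subset_of_mem_open
    (show t ∈ ((z₁ ⁻¹ᵁ U ⊓ z₂ ⁻¹ᵁ G₀ : T.Opens) : Set T) from ⟨hxU, hxG₀⟩)
    (z₁ ⁻¹ᵁ U ⊓ z₂ ⁻¹ᵁ G₀).2
  have hV1 : V ≤ z₁ ⁻¹ᵁ U := fun x hx => (hVle hx).1
  have hV2 : V ≤ z₂ ⁻¹ᵁ G₀ := fun x hx => (hVle hx).2
  let c₀ : FChart f k := stdFChart f k hb ⟨U₀, hU₀⟩ ⟨U, hU⟩ hUle
  let αR : Γ(S, U₀) ⟶ Γ(Y, G₀) := gS.appLE U₀ G₀ hGle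
  have hY : hG₀.fromSpec ≫ gS = Spec.map αR ≫ hU₀.fromSpec :=
    (IsAffineOpen.SpecMap_appLE_fromSpec gS hU₀ hG₀ hGle).symm
  have hR : IsNoetherianRing Γ(Y, G₀) :=
    IsLocallyNoetherian.component_noetherian ⟨G₀, hG₀⟩
  let ζ₁ : Γ(X, U) ⟶ Γ(T, V) := z₁.appLE U V hV1
  let ζ₂ : Γ(Y, G₀) ⟶ Γ(T, V) := z₂.appLE G₀ V hV2
  have h1 : Spec.map ζ₁ ≫ hU.fromSpec = hV.fromSpec ≫ z₁ :=
    IsAffineOpen.SpecMap_appLE_fromSpec z₁ hU hV hV1
  have h2 : Spec.map ζ₂ ≫ hG₀.fromSpec = hV.fromSpec ≫ z₂ :=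
    IsAffineOpen.SpecMap_appLE_fromSpec z₂ hG₀ hV hV2
  have h : αR ≫ ζ₂ = f.appLE U₀ U hUle ≫ ζ₁ := by
    apply Spec.map_injective
    rw [← cancel_mono hU₀.fromSpec, Spec.map_comp, Category.assoc, ← hY, ← Category.assoc, h2,
      Spec.map_comp]
    simp only [Category.assoc]
    have h3 : Spec.map (f.appLE U₀ U hUle) ≫ hU₀.fromSpec = hU.fromSpec ≫ f :=
      IsAffineOpen.SpecMap_appLE_fromSpec f hU₀ hU hUle
    rw [h3, ← Category.assoc (Spec.map ζ₁), h1, Category.assoc, hz12]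
  obtain ⟨ζ, hζl, hζr⟩ := exists_tdesc c₀.α αR ζ₂ ζ₁ h
  refine ⟨c₀.prod gS hG₀.fromSpec αR hY hR, Γ(T, V), hV.fromSpec, ζ, inferInstance, ?_, ?_⟩
  · rw [hV.range_fromSpec]
    exact htV
  · change _ = Spec.map ζ ≫ pullback.lift (Spec.map (tinr c₀.α αR) ≫ hU.fromSpec)
      (Spec.map (tinl c₀.α αR) ≫ hG₀.fromSpec) _
    apply pullback.hom_ext
    · rw [Category.assoc, ← hz₁, Category.assoc, pullback.lift_fst, ← Category.assoc,
        ← Spec.map_comp, hζr]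
      exact h1.symm
    · rw [Category.assoc, ← hz₂, Category.assoc, pullback.lift_snd, ← Category.assoc,
        ← Spec.map_comp, hζl]
      exact h2.symm

theorem bcMap_snd (l : Λ) :
    bcMap f gS k l ≫ pullback.snd f gS = pullback.snd (k l ≫ f) gS := by
  unfold bcMap
  rw [pullback.lift_snd, Category.comp_id]

/-- **the core theorem for the base changed family** -/
theorem prod_main [IsLocallyNoetherian S] [LocallyOfFiniteType f] [LocallyOfFiniteType gS]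
    [∀ l, IsFinite (k l ≫ f)] [∀ l, Flat (k l ≫ f)]
    (hb : ∀ (s : S) (V : (f.fiber s).Opens) (t : Γ(f.fiber s, V)),
      (∀ l, (MoreMor.fiberMap (k l) f s).app V t = 0) → t = 0)
    {W E : Scheme.{u}} (j : E ⟶ W) [IsClosedImmersion j] (γ : pullback f gS ⟶ W) :
    (∃ (T : Scheme.{u}) (t : T ⟶ Y), IsClosedImmersion t ∧
      ∀ (S' : Scheme.{u}) (g : S' ⟶ Y), (∃ g' : S' ⟶ T, g' ≫ t = g) ↔
        Univ (pullback.snd f gS) (Factors j γ) g) ∧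
    (∀ (S' : Scheme.{u}) (g : S' ⟶ Y), Univ (pullback.snd f gS) (Factors j γ) g ↔
      ∀ l, Univ (bcMap f gS k l ≫ pullback.snd f gS) (Factors j (bcMap f gS k l ≫ γ)) g) := by
  haveI : ∀ l, LocallyOfFinitePresentation (k l ≫ f) := fun l => lfp_of_lft_noeth' _
  haveI : ∀ l, IsFinite (bcMap f gS k l ≫ pullback.snd f gS) := fun l => by
    rw [bcMap_snd]; infer_instance
  haveI : ∀ l, Flat (bcMap f gS k l ≫ pullback.snd f gS) := fun l => by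
    rw [bcMap_snd]; infer_instance
  haveI : ∀ l, LocallyOfFinitePresentation (bcMap f gS k l ≫ pullback.snd f gS) := fun l => by
    rw [bcMap_snd]; infer_instance
  have hcov : ∀ (T : Scheme.{u}) (z : T ⟶ pullback f gS) (t : T),
      ∃ c ∈ (Set.univ : Set (GChart (pullback.snd f gS) (bcMap f gS k))),
        ∃ (C : CommRingCat.{u}) (v : Spec C ⟶ T) (ζ : c.B₀ ⟶ C), IsOpenImmersion v ∧
          t ∈ Set.range v ∧ v ≫ z = Spec.map ζ ≫ c.a := fun T z t => by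
    obtain ⟨c, hc⟩ := exists_prod_cover f gS k hb T z t
    exact ⟨c, trivial, hc⟩
  refine ⟨exists_closed' (pullback.snd f gS) (bcMap f gS k) j γ Set.univ hcov, fun S' g =>
    ⟨fun H l => forall_of_univ (pullback.snd f gS) (bcMap f gS k) j γ g H l,
      fun H => univ_of_forall' (pullback.snd f gS) (bcMap f gS k) j γ Set.univ hcov g H⟩⟩

end Groth.Agent.Lib.helper14.TDense
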