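import Mathlib
import Groth.Prelude.Def_MoreMor
import Groth.Agent.Lib.Helper14.WeilClosed3
import Groth.Agent.Lib.Helper14.TDense15

/-!
# helper14: the transporter of a group with dense torsion (SGA 3 XV): assembly for S6066
-/

set_option autoImplicit false
set_option linter.style.haveILetI false
universe u
open CategoryTheory CategoryTheory.Limits AlgebraicGeometry TensorProduct MonoidalCategory
  CartesianMonoidalCategory MonObj GrpObj

namespace Groth.Agent.Lib.helper14.TDense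

open Groth.Agent.Lib.Helper14 Groth.Agent.Lib.Helper14.WeilClosed

section KerN

variable {S : Scheme.{u}} (H : Over S) [GrpObj H]

/-- `ₙH` as an object over `S` -/
noncomputable abbrev kerN (n : ℕ) : Over S :=
  Over.mk (pullback.snd η[H].left (𝟙 H ^ n : H ⟶ H).left ≫ H.hom)

/-- `ₙH ⟶ H` -/
noncomputable abbrev kerNι (n : ℕ) : kerN H n ⟶ H :=
  Over.homMk (pullback.snd η[H].left (𝟙 H ^ n : H ⟶ H).left) rfl

theorem pow_eq_comp (n : ℕ) {T' : Over S} (h : T' ⟶ H) : h ^ n = h ≫ (𝟙 H ^ n : H ⟶ H) := by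
  rw [MonObj.comp_pow, Category.comp_id]

theorem fst_eq (n : ℕ) : pullback.fst η[H].left (𝟙 H ^ n : H ⟶ H).left ≫ (𝟙_ (Over S)).hom =
    pullback.snd η[H].left (𝟙 H ^ n : H ⟶ H).left ≫ H.hom := by
  rw [← Over.w η[H], ← Category.assoc, pullback.condition, Category.assoc,
    Over.w (𝟙 H ^ n : H ⟶ H)]

theorem pow_eq_one_of_kerN (n : ℕ) {T' : Over S} (a : T' ⟶ kerN H n) :
    (a ≫ kerNι H n) ^ n = 1 := by
  rw [pow_eq_comp, Hom.one_def]
  have h1 : (Over.homMk (a.left ≫ pullback.fst η[H].left (𝟙 H ^ n : H ⟶ H).left) (by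
      rw [Category.assoc, fst_eq]
      exact Over.w a) : T' ⟶ 𝟙_ (Over S)) = toUnit T' := toUnit_unique _ _
  ext
  have h2 := congrArg (fun φ => φ.left) h1
  simp only [Over.homMk_left] at h2
  simp only [Over.comp_left, Over.homMk_left]
  rw [← h2, Category.assoc, Category.assoc, pullback.condition]

theorem exists_kerN_of_pow_eq_one (n : ℕ) {T' : Over S} (h : T' ⟶ H) (hh : h ^ n = 1) :
    ∃ a : T' ⟶ kerN H n, a ≫ kerNι H n = h := by
  rw [pow_eq_comp, Hom.one_def] at hh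
  have h1 := congrArg (fun φ => φ.left) hh
  simp only [Over.comp_left] at h1
  refine ⟨Over.homMk (pullback.lift (toUnit T').left h.left h1.symm) ?_, ?_⟩
  · change pullback.lift _ _ _ ≫ pullback.snd _ _ ≫ H.hom = T'.hom
    rw [← Category.assoc, pullback.lift_snd]
    exact Over.w h
  · ext
    simp only [Over.comp_left, Over.homMk_left]
    exact pullback.lift_snd _ _ _

end KerN

section Trans

variable {S : Scheme.{u}} {H G K : Over S} [GrpObj H] [GrpObj G] [GrpObj K] (u : H ⟶ G)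
  (k : K ⟶ G)

/-- conjugation `(h, g) ↦ g u(h) g⁻¹` -/
noncomputable def conjMap : H ⊗ G ⟶ G := (snd H G) * (fst H G ≫ u) * (snd H G)⁻¹

theorem lift_conjMap {T' : Over S} (a : T' ⟶ H) (b : T' ⟶ G) :
    lift a b ≫ conjMap u = b * (a ≫ u) * b⁻¹ := by
  unfold conjMap
  rw [MonObj.comp_mul, MonObj.comp_mul, GrpObj.comp_inv, lift_snd, ← Category.assoc, lift_fst]

/-- the transporter condition as a `Univ` condition -/
theorem univ_iff_transporter {X : Over S} (g : X ⟶ G) :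
    Univ (pullback.snd H.hom G.hom) (Factors k.left ((conjMap u).left :
      pullback H.hom G.hom ⟶ G.left)) g.left ↔
    ∀ (X' : Over S) (x : X' ⟶ X) (h : X' ⟶ H), ∃ κ : X' ⟶ K,
      (x ≫ g) * (h ≫ u) * (x ≫ g)⁻¹ = κ ≫ k := by
  rw [univ_factors_iff_over (conjMap u) k g]
  constructor
  · intro hyp X' x h
    obtain ⟨e, he⟩ := hyp X' x h
    exact ⟨e, by rw [he, lift_conjMap]⟩
  · intro hyp X' x h
    obtain ⟨e, he⟩ := hyp X' x h
    exact ⟨e, by rw [← he, lift_conjMap]⟩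

/-- the `n`-torsion transporter condition as a `Univ` condition -/
theorem univ_iff_transporter_torsion (n : ℕ) {X : Over S} (g : X ⟶ G) :
    Univ (pullback.map (pullback.snd η[H].left (𝟙 H ^ n : H ⟶ H).left ≫ H.hom) G.hom H.hom G.hom
        (pullback.snd η[H].left (𝟙 H ^ n : H ⟶ H).left) (𝟙 _) (𝟙 _) (by simp) (by simp) ≫
          pullback.snd H.hom G.hom)
      (Factors k.left (pullback.map (pullback.snd η[H].left (𝟙 H ^ n : H ⟶ H).left ≫ H.hom)
        G.hom H.hom G.hom (pullback.snd η[H].left (𝟙 H ^ n : H ⟶ H).left) (𝟙 _) (𝟙 _)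
          (by simp) (by simp) ≫ ((conjMap u).left : pullback H.hom G.hom ⟶ G.left))) g.left ↔
    ∀ (X' : Over S) (x : X' ⟶ X) (h : X' ⟶ H), h ^ n = 1 → ∃ κ : X' ⟶ K,
      (x ≫ g) * (h ≫ u) * (x ≫ g)⁻¹ = κ ≫ k := by
  obtain ⟨γn, hγn⟩ : ∃ γn : kerN H n ⊗ G ⟶ G,
      γn = lift (fst (kerN H n) G ≫ kerNι H n) (snd (kerN H n) G) ≫ conjMap u := ⟨_, rfl⟩
  have hl : (lift (fst (kerN H n) G ≫ kerNι H n) (snd (kerN H n) G)).left =
      pullback.map (pullback.snd η[H].left (𝟙 H ^ n : H ⟶ H).left ≫ H.hom) G.hom H.hom G.hom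
        (pullback.snd η[H].left (𝟙 H ^ n : H ⟶ H).left) (𝟙 _) (𝟙 _) (by simp) (by simp) := by
    apply pullback.hom_ext
    · have := congrArg (fun φ => φ.left)
        (lift_fst (fst (kerN H n) G ≫ kerNι H n) (snd (kerN H n) G))
      rw [pullback.lift_fst]
      exact this
    · have := congrArg (fun φ => φ.left)
        (lift_snd (fst (kerN H n) G ≫ kerNι H n) (snd (kerN H n) G))
      rw [pullback.lift_snd, Category.comp_id]
      exact this
  have hγ : (γn.left : pullback (kerN H n).hom G.hom ⟶ G.left) =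
      pullback.map (pullback.snd η[H].left (𝟙 H ^ n : H ⟶ H).left ≫ H.hom) G.hom H.hom G.hom
        (pullback.snd η[H].left (𝟙 H ^ n : H ⟶ H).left) (𝟙 _) (𝟙 _) (by simp) (by simp) ≫
          ((conjMap u).left : pullback H.hom G.hom ⟶ G.left) := by
    rw [hγn, Over.comp_left, hl]
  have hsnd : pullback.map (pullback.snd η[H].left (𝟙 H ^ n : H ⟶ H).left ≫ H.hom) G.hom H.hom
      G.hom (pullback.snd η[H].left (𝟙 H ^ n : H ⟶ H).left) (𝟙 _) (𝟙 _) (by simp) (by simp) ≫
        pullback.snd H.hom G.hom = pullback.snd (kerN H n).hom G.hom := by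
    rw [pullback.lift_snd, Category.comp_id]
    rfl
  rw [hsnd, ← hγ, univ_factors_iff_over γn k g]
  have key : ∀ {T' : Over S} (a : T' ⟶ kerN H n) (b : T' ⟶ G),
      lift a b ≫ γn = b * ((a ≫ kerNι H n) ≫ u) * b⁻¹ := by
    intro T' a b
    have h1 : lift a b ≫ lift (fst (kerN H n) G ≫ kerNι H n) (snd (kerN H n) G) =
        lift (a ≫ kerNι H n) b := by
      apply CartesianMonoidalCategory.hom_ext
      · simp only [Category.assoc, lift_fst, lift_fst_assoc]
      · simp only [Category.assoc, lift_snd]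
    rw [hγn, ← Category.assoc, h1, lift_conjMap]
  constructor
  · intro hyp X' x h hh
    obtain ⟨a, ha⟩ := exists_kerN_of_pow_eq_one H n h hh
    obtain ⟨e, he⟩ := hyp X' x a
    exact ⟨e, by rw [he, key, ha]⟩
  · intro hyp T' t a
    obtain ⟨κ, hκ⟩ := hyp T' t (a ≫ kerNι H n) (pow_eq_one_of_kerN H n a)
    exact ⟨κ, by rw [key, hκ]⟩

end Trans

section Level

variable {S X Y : Scheme.{u}} (f : X ⟶ S) (gS : Y ⟶ S)

/-- base change of a map between members of the family -/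
theorem exists_bc_levelMap {Za Zb : Scheme.{u}} (ka : Za ⟶ X) (kb : Zb ⟶ X) (m : Za ⟶ Zb)
    (hm : m ≫ kb = ka) :
    ∃ m' : pullback (ka ≫ f) gS ⟶ pullback (kb ≫ f) gS,
      m' ≫ pullback.map (kb ≫ f) gS f gS kb (𝟙 _) (𝟙 _) (by simp) (by simp) =
        pullback.map (ka ≫ f) gS f gS ka (𝟙 _) (𝟙 _) (by simp) (by simp) := by
  refine ⟨pullback.map (ka ≫ f) gS (kb ≫ f) gS m (𝟙 _) (𝟙 _) (by
    rw [Category.comp_id, ← Category.assoc, hm]) (by simp), ?_⟩
  apply pullback.hom_ext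
  · simp only [Category.assoc, pullback.lift_fst, pullback.lift_fst_assoc, hm]
  · simp only [Category.assoc, pullback.lift_snd, pullback.lift_snd_assoc, Category.comp_id]

end Level

open CategoryTheory.Limits in
/-- **SGA 3 XV (transporter of a group with dense torsion into a closed subgroup)** -/
theorem transporter_main {S : Scheme.{u}} [IsLocallyNoetherian S]
    (H : Over S) [GrpObj H] [LocallyOfFiniteType H.hom]
    (E : Set ℕ) (hE : E.Nonempty) (hEmul : ∀ m ∈ E, ∀ n ∈ E, m * n ∈ E)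
    (ha : ∀ n ∈ E, IsFinite ((pullback.snd η[H].left (𝟙 H ^ n : H ⟶ H).left) ≫ H.hom) ∧ Flat ((pullback.snd η[H].left (𝟙 H ^ n : H ⟶ H).left) ≫ H.hom))
    (hb : ∀ (s : S) (V : (H.hom.fiber s).Opens) (t : Γ(H.hom.fiber s, V)),
      (∀ n ∈ E, (MoreMor.fiberMap (pullback.snd η[H].left (𝟙 H ^ n : H ⟶ H).left) H.hom s).app V t = 0) → t = 0)
    (G K : Over S) [GrpObj G] [GrpObj K] [LocallyOfFiniteType G.hom] (u : H ⟶ G)
    (k : K ⟶ G) [IsClosedImmersion k.left] :
    (∃ (T : Over S) (j : T ⟶ G), IsClosedImmersion j.left ∧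
      ∀ (X : Over S) (g : X ⟶ G), (∃ t : X ⟶ T, t ≫ j = g) ↔
        ∀ (X' : Over S) (x : X' ⟶ X) (h : X' ⟶ H), ∃ κ : X' ⟶ K, (x ≫ g) * (h ≫ u) * (x ≫ g)⁻¹ = κ ≫ k) ∧
    (AlgebraicGeometry.IsNoetherian G.left → ∃ n ∈ E, ∀ (X : Over S) (g : X ⟶ G),
      (∀ (X' : Over S) (x : X' ⟶ X) (h : X' ⟶ H), ∃ κ : X' ⟶ K, (x ≫ g) * (h ≫ u) * (x ≫ g)⁻¹ = κ ≫ k) ↔
        ∀ (X' : Over S) (x : X' ⟶ X) (h : X' ⟶ H), h ^ n = 1 → ∃ κ : X' ⟶ K, (x ≫ g) * (h ≫ u) * (x ≫ g)⁻¹ = κ ≫ k) := by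
  let Z : ↥E → Scheme.{u} := fun l => pullback η[H].left (𝟙 H ^ l.1 : H ⟶ H).left
  let kl : ∀ l : ↥E, Z l ⟶ H.left := fun l => pullback.snd _ _
  haveI hfin : ∀ l, IsFinite (kl l ≫ H.hom) := fun l => (ha l.1 l.2).1
  haveI hflat : ∀ l, Flat (kl l ≫ H.hom) := fun l => (ha l.1 l.2).2
  have hb' : ∀ (s : S) (V : (H.hom.fiber s).Opens) (t : Γ(H.hom.fiber s, V)),
      (∀ l : ↥E, (MoreMor.fiberMap (kl l) H.hom s).app V t = 0) → t = 0 :=
    fun s V t h => hb s V t fun n hn => h ⟨n, hn⟩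
  obtain ⟨⟨T, t, ht, hT⟩, hB⟩ := prod_main H.hom G.hom kl hb' k.left
    ((conjMap u).left : pullback H.hom G.hom ⟶ G.left)
  refine ⟨?_, ?_⟩
  · refine ⟨Over.mk (t ≫ G.hom), Over.homMk t rfl, ht, fun X g => ?_⟩
    rw [← univ_iff_transporter u k g, ← hT]
    constructor
    · rintro ⟨t', rfl⟩
      exact ⟨t'.left, rfl⟩
    · rintro ⟨g', hg'⟩
      refine ⟨Over.homMk g' ?_, ?_⟩
      · change g' ≫ t ≫ G.hom = X.hom
        rw [← Category.assoc, hg']
        exact Over.w g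
      · ext
        exact hg'
  · intro hN
    haveI := hN
    haveI : Nonempty ↥E := hE.to_subtype
    haveI : ∀ l, LocallyOfFinitePresentation (kl l ≫ H.hom) := fun l => lfp_of_lft_noeth' _
    haveI : ∀ l, IsFinite (bcMap H.hom G.hom kl l ≫ pullback.snd H.hom G.hom) := fun l => by
      rw [bcMap_snd]; infer_instance
    haveI : ∀ l, Flat (bcMap H.hom G.hom kl l ≫ pullback.snd H.hom G.hom) := fun l => by
      rw [bcMap_snd]; infer_instance
    haveI : ∀ l, LocallyOfFinitePresentation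
        (bcMap H.hom G.hom kl l ≫ pullback.snd H.hom G.hom) := fun l => by
      rw [bcMap_snd]; infer_instance
    obtain ⟨l₀, hl₀⟩ := exists_level_of_noetherian (S := G.left) (Λ := ↥E)
      (fun a b => a.1 ∣ b.1)
      (fun a b => ⟨⟨a.1 * b.1, hEmul _ a.2 _ b.2⟩, dvd_mul_right _ _, dvd_mul_left _ _⟩)
      (fun l => Univ (bcMap H.hom G.hom kl l ≫ pullback.snd H.hom G.hom)
        (Factors k.left (bcMap H.hom G.hom kl l ≫
          ((conjMap u).left : pullback H.hom G.hom ⟶ G.left))))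
      (fun l => isLocalPred_univ (isLocalPred_factors _ _))
      (fun l U₀ => exists_level_ideal (pullback.snd H.hom G.hom) (bcMap H.hom G.hom kl) k.left
        ((conjMap u).left : pullback H.hom G.hom ⟶ G.left) l U₀)
      (by
        rintro a ⟨n, hn⟩ ⟨q, hq⟩ T' g hPb T'' z t' hz
        simp only at hq
        subst hq
        obtain ⟨m, hm⟩ := exists_levelMap H a.1 q
        obtain ⟨m', hm'⟩ := exists_bc_levelMap H.hom G.hom (kl a)
          (pullback.snd η[H].left (𝟙 H ^ (a.1 * q) : H ⟶ H).left) m hm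
        obtain ⟨e, he⟩ := hPb T'' (z ≫ m') t' (by
          rw [Category.assoc, ← Category.assoc m']
          change z ≫ (m' ≫ pullback.map _ _ _ _ _ _ _ _ _) ≫ pullback.snd H.hom G.hom = _
          rw [hm']
          exact hz)
        refine ⟨e, ?_⟩
        rw [he, Category.assoc, ← Category.assoc m']
        change z ≫ (m' ≫ pullback.map _ _ _ _ _ _ _ _ _) ≫ _ = _
        rw [hm'])
    refine ⟨l₀.1, l₀.2, fun X g => ?_⟩
    rw [← univ_iff_transporter u k g, ← univ_iff_transporter_torsion u k l₀.1 g, hB]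
    exact ⟨fun h => h l₀, fun h => hl₀ g.left h⟩

end Groth.Agent.Lib.helper14.TDense
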