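import Groth.Prelude.Def_SGA4c
import Mathlib.CategoryTheory.Sites.Subsheaf
import Mathlib.CategoryTheory.Sites.LocallySurjective
import Mathlib.CategoryTheory.Sites.EpiMono
import Mathlib.CategoryTheory.Sites.Limits
import Mathlib.CategoryTheory.Limits.Types.Pullbacks
import Mathlib.CategoryTheory.Limits.FunctorCategory.Basic

/-!
# Jointly surjective families in a sheaf topos (helper14)
-/

set_option autoImplicit false

universe u w

open CategoryTheory CategoryTheory.Limits Opposite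

namespace Groth.Agent.Lib.Helper14.Topos

open ToposFin

variable {C : Type u} [SmallCategory C] {J : GrothendieckTopology C}

/-- A family of morphisms of sheaves is jointly locally surjective. -/
def JSurj {ι : Type w} {F : ι → Sh J} {X : Sh J} (π : ∀ i, F i ⟶ X) : Prop :=
  ∀ (U : C) (x : X.obj.obj (op U)), ∃ S ∈ J U, ∀ ⦃V : C⦄ (f : V ⟶ U), S f →
    ∃ (i : ι) (y : (F i).obj.obj (op V)), (π i).hom.app (op V) y = X.obj.map f.op x

section

variable {ι : Type w} {F : ι → Sh J} {X : Sh J} {π : ∀ i, F i ⟶ X}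

theorem JSurj.jepi (h : JSurj π) {Z : Sh J} (a b : X ⟶ Z) (hab : ∀ i, π i ≫ a = π i ≫ b) :
    a = b := by
  ext U x
  obtain ⟨S, hS, hx⟩ := h U.unop x
  apply (((isSheaf_iff_isSheaf_of_type _ _).1 Z.2).isSeparated _ hS).ext
  intro V f hf
  obtain ⟨i, y, hy⟩ := hx f hf
  have h₁ := ConcreteCategory.congr_hom (a.hom.naturality f.op) x
  have h₂ := ConcreteCategory.congr_hom (b.hom.naturality f.op) x
  dsimp at h₁ h₂
  have key : Z.obj.map f.op (a.hom.app U x) = Z.obj.map f.op (b.hom.app U x) := by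
    rw [← h₁, ← h₂, ← hy]
    exact ConcreteCategory.congr_hom (congr_app ((sheafToPresheaf J _).congr_map (hab i)) (op V)) y
  exact key

variable (π) in
/-- The subpresheaf of sections which are locally in the union of the images. -/
def imgSub : Subfunctor X.obj := (⨆ i, Subfunctor.range (π i).hom).sheafify J

variable (π) in
/-- The union of the images, as a sheaf. -/
def imgSheaf : Sh J := ⟨(imgSub π).toFunctor, by
  rw [isSheaf_iff_isSheaf_of_type]
  apply Subfunctor.sheafify_isSheaf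
  rw [← isSheaf_iff_isSheaf_of_type]
  exact X.2⟩

variable (π) in
/-- The inclusion of the union of the images. -/
def imgι : imgSheaf π ⟶ X := ⟨(imgSub π).ι⟩

instance : Mono (imgι π) := by
  apply (sheafToPresheaf J _).mono_of_mono_map
  exact inferInstanceAs (Mono (imgSub π).ι)

variable (π) in
/-- Each member of the family factors through the union of the images. -/
def toImg (i : ι) : F i ⟶ imgSheaf π :=
  ⟨Subfunctor.lift (π i).hom
    (le_trans (le_iSup (fun i => Subfunctor.range (π i).hom) i) (Subfunctor.le_sheafify J _))⟩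

theorem toImg_ι (i : ι) : toImg π i ≫ imgι π = π i := by
  ext1
  rfl

theorem jsurj_of_jepi
    (h : ∀ (Z : Sh J) (a b : X ⟶ Z), (∀ i, π i ≫ a = π i ≫ b) → a = b) : JSurj π := by
  have hepi : Epi (imgι π) := ⟨fun {Z} a b hab => h Z a b (fun i => by
    rw [← toImg_ι (π := π) i, Category.assoc, hab, Category.assoc])⟩
  have hiso : IsIso (imgι π) := isIso_of_mono_of_epi _
  intro U x
  have hx : x ∈ (imgSub π).obj (op U) := by
    have h1 : IsIso ((sheafToPresheaf J _).map (imgι π)) := inferInstance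
    have h2 : IsIso (imgSub π).ι := h1
    rw [← Subfunctor.eq_top_iff_isIso] at h2
    rw [h2]
    trivial
  refine ⟨_, hx, fun V f hf => ?_⟩
  simp only [Subfunctor.sieveOfSection_apply, Subfunctor.iSup_obj, Set.mem_iUnion,
    Subfunctor.range_obj, Set.mem_range] at hf
  obtain ⟨i, y, hy⟩ := hf
  exact ⟨i, y, hy⟩

theorem jsurj_iff_jepi :
    JSurj π ↔ ∀ (Z : Sh J) (a b : X ⟶ Z), (∀ i, π i ≫ a = π i ≫ b) → a = b :=
  ⟨fun h _ a b hab => h.jepi a b hab, jsurj_of_jepi⟩

end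

section

variable {ι : Type w} {F : ι → Sh J} [HasCoproduct F] {X : Sh J} {π : ∀ i, F i ⟶ X}

theorem epi_sigmaDesc_iff_jepi :
    Epi (Limits.Sigma.desc π) ↔ ∀ (Z : Sh J) (a b : X ⟶ Z), (∀ i, π i ≫ a = π i ≫ b) → a = b := by
  constructor
  · intro h Z a b hab
    rw [← cancel_epi (Limits.Sigma.desc π)]
    apply Sigma.hom_ext
    intro i
    simp [hab i]
  · intro h
    refine ⟨fun {Z} a b hab => h Z a b (fun i => ?_)⟩
    have := congrArg (fun t => Sigma.ι F i ≫ t) hab
    simpa using this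

theorem epi_sigmaDesc_iff_jsurj : Epi (Limits.Sigma.desc π) ↔ JSurj π := by
  rw [epi_sigmaDesc_iff_jepi, jsurj_iff_jepi]

end

section

theorem exists_section_of_isPullback {P F X' X : Sh J} {p : P ⟶ F} {q : P ⟶ X'} {f : F ⟶ X}
    {g : X' ⟶ X} (h : IsPullback p q f g) (V : C) (y : F.obj.obj (op V)) (x' : X'.obj.obj (op V))
    (hyx : f.hom.app (op V) y = g.hom.app (op V) x') :
    ∃ t : P.obj.obj (op V), p.hom.app (op V) t = y ∧ q.hom.app (op V) t = x' := by
  have h' := h.map (sheafToPresheaf J (Type u) ⋙ (evaluation Cᵒᵖ (Type u)).obj (op V))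
  exact Types.exists_of_isPullback h' y x' hyx

theorem section_ext_of_isPullback {P F X' X : Sh J} {p : P ⟶ F} {q : P ⟶ X'} {f : F ⟶ X}
    {g : X' ⟶ X} (h : IsPullback p q f g) (V : C) (t t' : P.obj.obj (op V))
    (h1 : p.hom.app (op V) t = p.hom.app (op V) t')
    (h2 : q.hom.app (op V) t = q.hom.app (op V) t') : t = t' := by
  have h' := h.map (sheafToPresheaf J (Type u) ⋙ (evaluation Cᵒᵖ (Type u)).obj (op V))
  exact Types.ext_of_isPullback h' h1 h2

variable {ι : Type w} {F : ι → Sh J} {X : Sh J} {π : ∀ i, F i ⟶ X}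

theorem JSurj.base_change (h : JSurj π) {X' : Sh J} (g : X' ⟶ X) {P : ι → Sh J}
    (p : ∀ i, P i ⟶ F i) (q : ∀ i, P i ⟶ X') (hpb : ∀ i, IsPullback (p i) (q i) (π i) g) :
    JSurj q := by
  intro U x'
  obtain ⟨S, hS, hx⟩ := h U (g.hom.app (op U) x')
  refine ⟨S, hS, fun V f hf => ?_⟩
  obtain ⟨i, y, hy⟩ := hx f hf
  have h1 : (π i).hom.app (op V) y = g.hom.app (op V) (X'.obj.map f.op x') := by
    rw [hy]
    exact (ConcreteCategory.congr_hom (g.hom.naturality f.op) x').symm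
  obtain ⟨t, -, ht⟩ := exists_section_of_isPullback (hpb i) V y _ h1
  exact ⟨i, t, ht⟩

theorem JSurj.of_refine (h : JSurj π) {κ : Type*} {F' : κ → Sh J} (π' : ∀ k, F' k ⟶ X)
    (href : ∀ i, ∃ (k : κ) (φ : F i ⟶ F' k), φ ≫ π' k = π i) : JSurj π' := by
  intro U x
  obtain ⟨S, hS, hx⟩ := h U x
  refine ⟨S, hS, fun V f hf => ?_⟩
  obtain ⟨i, y, hy⟩ := hx f hf
  obtain ⟨k, φ, hφ⟩ := href i
  refine ⟨k, φ.hom.app (op V) y, ?_⟩
  rw [← hy, ← hφ]
  rfl

theorem JSurj.comp (h : JSurj π) {κ : ι → Type*} {G : ∀ i, κ i → Sh J}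
    (ρ : ∀ i (k : κ i), G i k ⟶ F i) (hρ : ∀ i, JSurj (ρ i)) :
    JSurj (fun p : Σ i, κ i => ρ p.1 p.2 ≫ π p.1) := by
  intro U x
  obtain ⟨S, hS, hx⟩ := h U x
  choose i y hy using hx
  have hT : ∀ ⦃V : C⦄ (f : V ⟶ U) (hf : S f), ∃ T ∈ J V, ∀ ⦃W : C⦄ (g : W ⟶ V), T g →
      ∃ (k : κ (i f hf)) (z : (G (i f hf) k).obj.obj (op W)),
        (ρ (i f hf) k).hom.app (op W) z = (F (i f hf)).obj.map g.op (y f hf) :=
    fun V f hf => hρ (i f hf) V (y f hf)
  choose T hTJ hTx using hT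
  refine ⟨Sieve.bind S (fun V f hf => T f hf), J.bind_covering hS (fun V f hf => hTJ f hf), ?_⟩
  rintro W h ⟨V, g, f, hf, hg, rfl⟩
  obtain ⟨k, z, hz⟩ := hTx f hf g hg
  refine ⟨⟨i f hf, k⟩, z, ?_⟩
  change (π (i f hf)).hom.app (op W) ((ρ (i f hf) k).hom.app (op W) z) = _
  rw [hz]
  have h1 := ConcreteCategory.congr_hom ((π (i f hf)).hom.naturality g.op) (y f hf)
  dsimp at h1
  rw [h1, hy f hf, op_comp, X.obj.map_comp]
  rfl

end

section

variable {X Y : Sh J}

theorem epi_iff_jsurj (f : X ⟶ Y) : Epi f ↔ JSurj (fun _ : PUnit.{1} => f) := by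
  rw [jsurj_iff_jepi]
  constructor
  · intro h Z a b hab
    rw [← cancel_epi f]
    exact hab PUnit.unit
  · intro h
    exact ⟨fun {Z} a b hab => h Z a b (fun _ => hab)⟩

end

end Groth.Agent.Lib.Helper14.Topos
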