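import Groth.Agent.Lib.Helper14.Topos9
import Mathlib.CategoryTheory.Sites.Pullback

/-!
# Inverse images of the sheaves `eps X` along a continuous functor (helper14)
-/

set_option autoImplicit false

universe u w

open CategoryTheory CategoryTheory.Limits Opposite

namespace Groth.Agent.Lib.Helper14.Topos

open ToposFin Groth.Agent.Lib.helper23.QCHom

variable {C : Type u} [SmallCategory C] {J : GrothendieckTopology C}
variable {D : Type u} [SmallCategory D] {K : GrothendieckTopology D}
variable (G : C ⥤ D) [Functor.IsContinuous.{u} G J K]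

/-- The inverse image functor. -/
noncomputable abbrev pullF : Sh J ⥤ Sh K := G.sheafPullback (Type u) J K

/-- The direct image functor. -/
noncomputable abbrev pushF : Sh K ⥤ Sh J := G.sheafPushforwardContinuous (Type u) J K

/-- The adjunction. -/
noncomputable abbrev pullAdj : pullF (J := J) (K := K) G ⊣ pushF G :=
  G.sheafAdjunctionContinuous (Type u) J K

/-- A section of `H` over `G U`, as a section of the direct image over `U`. -/
def toPush (H : Sh K) {U : C} (s : H.obj.obj (op (G.obj U))) :
    ((pushF (J := J) G).obj H).obj.obj (op U) := s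

/-- A section of the direct image over `U`, as a section of `H` over `G U`. -/
def ofPush (H : Sh K) {U : C} (s : ((pushF (J := J) G).obj H).obj.obj (op U)) :
    H.obj.obj (op (G.obj U)) := s

theorem ofPush_toPush (H : Sh K) {U : C} (s : H.obj.obj (op (G.obj U))) :
    ofPush (J := J) G H (toPush G H s) = s := rfl

theorem toPush_ofPush (H : Sh K) {U : C} (s : ((pushF (J := J) G).obj H).obj.obj (op U)) :
    toPush (J := J) G H (ofPush G H s) = s := rfl

theorem push_map_app {H H' : Sh K} (φ : H ⟶ H') {U : C}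
    (s : ((pushF (J := J) G).obj H).obj.obj (op U)) :
    ((pushF (J := J) G).map φ).hom.app (op U) s =
      toPush G H' (φ.hom.app (op (G.obj U)) (ofPush G H s)) := rfl

/-- `f^* (eps U) ⟶ eps (G U)`. -/
noncomputable def pullEpsHom (U : C) :
    (pullF (J := J) (K := K) G).obj (eps J U) ⟶ eps K (G.obj U) :=
  ((pullAdj G).homEquiv _ _).symm
    (secMap ((pushF (J := J) G).obj (eps K (G.obj U)))
      (toPush G (eps K (G.obj U)) (secOf K (𝟙 (G.obj U)))))

/-- `eps (G U) ⟶ f^* (eps U)`. -/
noncomputable def pullEpsInv (U : C) :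
    eps K (G.obj U) ⟶ (pullF (J := J) (K := K) G).obj (eps J U) :=
  secMap ((pullF (J := J) (K := K) G).obj (eps J U))
    (ofPush G _ (((pullAdj (J := J) (K := K) G).unit.app (eps J U)).hom.app (op U)
      (secOf J (𝟙 U))))

theorem unit_comp_map_pullEpsHom (U : C) :
    (pullAdj (J := J) (K := K) G).unit.app (eps J U) ≫
      (pushF (J := J) G).map (pullEpsHom G U) =
      secMap ((pushF (J := J) G).obj (eps K (G.obj U)))
        (toPush G (eps K (G.obj U)) (secOf K (𝟙 (G.obj U)))) := by
  have := Equiv.apply_symm_apply ((pullAdj (J := J) (K := K) G).homEquiv _ _)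
    (secMap ((pushF (J := J) G).obj (eps K (G.obj U)))
      (toPush G (eps K (G.obj U)) (secOf K (𝟙 (G.obj U)))))
  rw [Adjunction.homEquiv_unit] at this
  exact this

theorem pullEpsInv_hom (U : C) : pullEpsInv (J := J) (K := K) G U ≫ pullEpsHom G U = 𝟙 _ := by
  apply eps_hom_ext
  rw [sec_comp]
  have e1 : (pullEpsInv (J := J) (K := K) G U).hom.app (op (G.obj U)) (secOf K (𝟙 (G.obj U))) =
      ofPush G _ (((pullAdj (J := J) (K := K) G).unit.app (eps J U)).hom.app (op U)
        (secOf J (𝟙 U))) := secMap_secOf_id _ _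
  rw [e1]
  have h2 := sec_congr (unit_comp_map_pullEpsHom (J := J) (K := K) G U) (op U) (secOf J (𝟙 U))
  rw [sec_comp, secMap_secOf_id, push_map_app] at h2
  exact h2

theorem pullEpsHom_inv (U : C) : pullEpsHom (J := J) (K := K) G U ≫ pullEpsInv G U = 𝟙 _ := by
  apply ((pullAdj (J := J) (K := K) G).homEquiv _ _).injective
  rw [Adjunction.homEquiv_id, Adjunction.homEquiv_naturality_right, Adjunction.homEquiv_unit,
    unit_comp_map_pullEpsHom, secMap_comp]
  conv_rhs => rw [eq_secMap ((pullAdj (J := J) (K := K) G).unit.app (eps J U))]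
  congr 1
  rw [push_map_app, ofPush_toPush]
  have e1 : (pullEpsInv (J := J) (K := K) G U).hom.app (op (G.obj U)) (secOf K (𝟙 (G.obj U))) =
      ofPush G _ (((pullAdj (J := J) (K := K) G).unit.app (eps J U)).hom.app (op U)
        (secOf J (𝟙 U))) := secMap_secOf_id _ _
  rw [e1, toPush_ofPush]

/-- `f^* (eps U) ≅ eps (G U)`. -/
noncomputable def pullEpsIso (U : C) :
    (pullF (J := J) (K := K) G).obj (eps J U) ≅ eps K (G.obj U) where
  hom := pullEpsHom G U
  inv := pullEpsInv G U
  hom_inv_id := pullEpsHom_inv G U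
  inv_hom_id := pullEpsInv_hom G U

/-- The set of sheaves isomorphic to some `eps U`. -/
def epsSet (J : GrothendieckTopology C) : Set (Sh J) := {F | ∃ U : C, Nonempty (F ≅ eps J U)}

theorem isGenerating_epsSet : IsGenerating (epsSet J) := by
  intro F
  exact ⟨(Σ U : C, F.obj.obj (op U)), fun p => eps J p.1, fun p => secMap F p.2,
    fun p => ⟨p.1, ⟨Iso.refl _⟩⟩, jsurj_iff_jepi.1 (jsurj_secMap F)⟩

theorem isCoherent_of_iso {X Y : Sh J} (e : X ≅ Y) (hY : IsCoherent Y) : IsCoherent X :=
  ⟨isQC_of_iso e.symm hY.1, isQS_of_iso e hY.2⟩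

/-- S6182. -/
theorem sheafPullback_coherent [HasPullbacks C] [HasPullbacks D]
    (hC : ∀ X : C, IsQCSite J X) (hD : ∀ Y : D, IsQCSite K Y)
    [PreservesFiniteLimits (G.sheafPullback (Type u) J K)] :
    (∀ X : Sh J, IsQC X → IsQC ((G.sheafPullback (Type u) J K).obj X)) ∧
      (∀ X : Sh J, IsQS X → IsQS ((G.sheafPullback (Type u) J K).obj X)) := by
  have hS : ∀ X ∈ epsSet J, IsCoherent X := by
    rintro X ⟨U, ⟨e⟩⟩
    exact isCoherent_of_iso e (isCoherent_eps hC U)
  have hS' : ∀ X ∈ epsSet J, IsCoherent ((pullF (J := J) (K := K) G).obj X) := by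
    rintro X ⟨U, ⟨e⟩⟩
    exact isCoherent_of_iso ((pullF (J := J) (K := K) G).mapIso e ≪≫ pullEpsIso G U)
      (isCoherent_eps hD _)
  refine ⟨fun X hX => ?_, fun X hX => ?_⟩
  · exact isQC_map_of_generators (pullF (J := J) (K := K) G) (pushF G) (pullAdj G)
      isGenerating_epsSet (fun Y hY => (hS' Y hY).1) hX
  · exact isQS_map_of_generators (pullF (J := J) (K := K) G) (pushF G) (pullAdj G)
      (hasQCGenerators_of_site hD) hS isGenerating_epsSet hS' hX

end Groth.Agent.Lib.Helper14.Topos
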