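import Groth.Agent.Lib.Helper14.Topos9
import Mathlib.CategoryTheory.Sites.RegularEpi
import Mathlib.CategoryTheory.FinCategory.Basic
import Mathlib.CategoryTheory.Limits.Shapes.FiniteLimits
import Mathlib.CategoryTheory.Limits.Shapes.SplitCoequalizer

/-!
# Objects of finite presentation and finite colimits in a sheaf topos (helper14)
-/

set_option autoImplicit false

universe u w

open CategoryTheory CategoryTheory.Limits Opposite

namespace Groth.Agent.Lib.Helper14.Topos

open ToposFin Groth.Agent.Lib.helper23.QCHom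

variable {C : Type u} [SmallCategory C] {J : GrothendieckTopology C}

theorem IsFP.exists_factor {X : Sh J} (hX : IsFP X) {I : Type u} [SmallCategory I] [IsFiltered I]
    {D : I ⥤ Sh J} {cc : Cocone D} (hcc : IsColimit cc) (f : X ⟶ cc.pt) :
    ∃ (i : I) (σ : X ⟶ D.obj i), σ ≫ cc.ι.app i = f := by
  let e : colimit D ≅ cc.pt := colimit.isoColimitCocone ⟨cc, hcc⟩
  have he : ∀ i, colimit.ι D i ≫ e.hom = cc.ι.app i := fun i =>
    colimit.isoColimitCocone_ι_hom ⟨cc, hcc⟩ i
  obtain ⟨y, hy⟩ := (hX I D).2 (f ≫ e.inv)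
  obtain ⟨i, σ, rfl⟩ := Types.jointly_surjective' y
  refine ⟨i, σ, ?_⟩
  have h1 := ConcreteCategory.congr_hom (colimit.ι_post D (coyoneda.obj (op X)) i) σ
  have h2 : (σ : X ⟶ D.obj i) ≫ colimit.ι D i = f ≫ e.inv := h1.symm.trans hy
  rw [← he, ← Category.assoc, h2, Category.assoc, e.inv_hom_id, Category.comp_id]

theorem IsFP.exists_eq {X : Sh J} (hX : IsFP X) {I : Type u} [SmallCategory I] [IsFiltered I]
    {D : I ⥤ Sh J} {cc : Cocone D} (hcc : IsColimit cc) {i : I} (α β : X ⟶ D.obj i)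
    (h : α ≫ cc.ι.app i = β ≫ cc.ι.app i) :
    ∃ (j : I) (m : i ⟶ j), α ≫ D.map m = β ≫ D.map m := by
  let e : colimit D ≅ cc.pt := colimit.isoColimitCocone ⟨cc, hcc⟩
  have he : ∀ i, colimit.ι D i ≫ e.hom = cc.ι.app i := fun i =>
    colimit.isoColimitCocone_ι_hom ⟨cc, hcc⟩ i
  have h' : α ≫ colimit.ι D i = β ≫ colimit.ι D i := by
    rw [← cancel_mono e.hom, Category.assoc, Category.assoc, he, h]
  have h1 := fun σ : X ⟶ D.obj i =>
    ConcreteCategory.congr_hom (colimit.ι_post D (coyoneda.obj (op X)) i) σ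
  have h2 : colimit.ι (D ⋙ coyoneda.obj (op X)) i α = colimit.ι (D ⋙ coyoneda.obj (op X)) i β := by
    apply (hX I D).1
    exact (h1 α).trans (Eq.trans h' (h1 β).symm)
  obtain ⟨j, m, hm⟩ := (Types.FilteredColimit.isColimit_eq_iff'
    (colimit.isColimit (D ⋙ coyoneda.obj (op X))) (i := i) α β).1 h2
  exact ⟨j, m, hm⟩

/-- An epimorphism of sheaves of sets is the coequalizer of its kernel pair. -/
theorem exists_desc_of_epi {K X Z : Sh J} (p : K ⟶ X) [Epi p] (z : K ⟶ Z)
    (h : pullback.fst p p ≫ z = pullback.snd p p ≫ z) : ∃ z' : X ⟶ Z, p ≫ z' = z := by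
  have hr : RegularEpi p := regularEpiOfEpi p
  have h1 : hr.left ≫ z = hr.right ≫ z := by
    have e1 := pullback.lift_fst hr.left hr.right hr.w
    have e2 := pullback.lift_snd hr.left hr.right hr.w
    calc hr.left ≫ z = (pullback.lift hr.left hr.right hr.w ≫ pullback.fst p p) ≫ z := by
          rw [e1]
      _ = (pullback.lift hr.left hr.right hr.w ≫ pullback.snd p p) ≫ z := by
          rw [Category.assoc, h, Category.assoc]
      _ = hr.right ≫ z := by rw [e2]
  obtain ⟨l, hl⟩ := RegularEpi.desc' hr z h1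
  exact ⟨l, hl⟩

section PQ

variable {Λ : Type u} {L : Λ → Sh J} {Y : Sh J} (a b : ∀ l, L l ⟶ Y)

/-- The coequalizer of finitely many of the pairs `(a l, b l)`. -/
noncomputable def pq (t : Finset Λ) : Sh J :=
  coequalizer (Limits.Sigma.desc (fun l : t => a l)) (Limits.Sigma.desc (fun l : t => b l))

/-- The projection to the partial quotient. -/
noncomputable def pqπ (t : Finset Λ) : Y ⟶ pq a b t := coequalizer.π _ _

instance (t : Finset Λ) : Epi (pqπ a b t) := coequalizer.π_epi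

theorem pq_cond (t : Finset Λ) {l : Λ} (hl : l ∈ t) : a l ≫ pqπ a b t = b l ≫ pqπ a b t := by
  have h := coequalizer.condition (Limits.Sigma.desc (fun l : t => a l))
    (Limits.Sigma.desc (fun l : t => b l))
  have h2 := congrArg (fun m => Sigma.ι (fun l : t => L l) ⟨l, hl⟩ ≫ m) h
  dsimp only at h2
  rw [Sigma.ι_desc_assoc, Sigma.ι_desc_assoc] at h2
  exact h2

/-- Maps out of the partial quotient. -/
noncomputable def pqDesc (t : Finset Λ) {Z : Sh J} (z : Y ⟶ Z)
    (hz : ∀ l ∈ t, a l ≫ z = b l ≫ z) : pq a b t ⟶ Z :=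
  coequalizer.desc z (by
    apply Sigma.hom_ext
    rintro ⟨l, hl⟩
    rw [Sigma.ι_desc_assoc, Sigma.ι_desc_assoc]
    exact hz l hl)

theorem pqπ_desc (t : Finset Λ) {Z : Sh J} (z : Y ⟶ Z) (hz : ∀ l ∈ t, a l ≫ z = b l ≫ z) :
    pqπ a b t ≫ pqDesc a b t z hz = z :=
  coequalizer.π_desc _ _

/-- The partial quotients form a filtered diagram. -/
noncomputable def pqFunctor : Finset Λ ⥤ Sh J where
  obj := pq a b
  map {t t'} f := pqDesc a b t (pqπ a b t') (fun l hl => pq_cond a b t' (leOfHom f hl))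
  map_id t := by
    rw [← cancel_epi (pqπ a b t), pqπ_desc, Category.comp_id]
  map_comp {t t' t''} f g := by
    rw [← cancel_epi (pqπ a b t), pqπ_desc, ← Category.assoc, pqπ_desc, pqπ_desc]

/-- The projection to the partial quotient, as an object of the diagram. -/
noncomputable def pqP (t : Finset Λ) : Y ⟶ (pqFunctor a b).obj t := pqπ a b t

instance (t : Finset Λ) : Epi (pqP a b t) := inferInstanceAs (Epi (pqπ a b t))

/-- Maps out of the partial quotient, as an object of the diagram. -/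
noncomputable def pqD (t : Finset Λ) {Z : Sh J} (z : Y ⟶ Z)
    (hz : ∀ l ∈ t, a l ≫ z = b l ≫ z) : (pqFunctor a b).obj t ⟶ Z := pqDesc a b t z hz

theorem pqP_D (t : Finset Λ) {Z : Sh J} (z : Y ⟶ Z) (hz : ∀ l ∈ t, a l ≫ z = b l ≫ z) :
    pqP a b t ≫ pqD a b t z hz = z := pqπ_desc a b t z hz

theorem pqP_cond (t : Finset Λ) {l : Λ} (hl : l ∈ t) : a l ≫ pqP a b t = b l ≫ pqP a b t :=
  pq_cond a b t hl

theorem pqP_map {t t' : Finset Λ} (f : t ⟶ t') :
    pqP a b t ≫ (pqFunctor a b).map f = pqP a b t' :=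
  pqπ_desc a b t (pqπ a b t') (fun l hl => pq_cond a b t' (leOfHom f hl))

variable {X : Sh J} (c : Y ⟶ X) (hc : ∀ l, a l ≫ c = b l ≫ c)

/-- The cocone over the partial quotients given by a joint coequalizer. -/
noncomputable def pqCocone : Cocone (pqFunctor a b) where
  pt := X
  ι :=
    { app := fun t => pqD a b t c (fun l _ => hc l)
      naturality := fun t t' f => by
        rw [← cancel_epi (pqP a b t), ← Category.assoc, pqP_map, pqP_D]
        dsimp only [Functor.const_obj_obj, Functor.const_obj_map]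
        rw [Category.comp_id, pqP_D] }

theorem pqP_cocone (t : Finset Λ) : pqP a b t ≫ (pqCocone a b c hc).ι.app t = c :=
  pqP_D a b t c (fun l _ => hc l)

/-- A joint coequalizer is the colimit of the partial quotients. -/
theorem pqCocone_isColimit [Epi c]
    (huniv : ∀ (Z : Sh J) (z : Y ⟶ Z), (∀ l, a l ≫ z = b l ≫ z) → ∃ z' : X ⟶ Z, c ≫ z' = z) :
    Nonempty (IsColimit (pqCocone a b c hc)) := by
  classical
  refine ⟨IsColimit.ofExistsUnique (fun s => ?_)⟩
  have hz0 : ∀ t : Finset Λ, pqP a b t ≫ s.ι.app t = pqP a b ∅ ≫ s.ι.app ∅ := by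
    intro t
    have hw := s.w (homOfLE (Finset.empty_subset t))
    rw [← hw, ← Category.assoc, pqP_map]
  have hz : ∀ l, a l ≫ (pqP a b ∅ ≫ s.ι.app ∅) = b l ≫ (pqP a b ∅ ≫ s.ι.app ∅) := by
    intro l
    rw [← hz0 {l}, ← Category.assoc, ← Category.assoc,
      pqP_cond a b {l} (Finset.mem_singleton_self l)]
  obtain ⟨z', hz'⟩ := huniv s.pt _ hz
  have key1 : ∀ t, pqD a b t c (fun l _ => hc l) ≫ z' = s.ι.app t := by
    intro t
    rw [← cancel_epi (pqP a b t), ← Category.assoc, pqP_D, hz']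
    exact (hz0 t).symm
  have key2 : ∀ m : X ⟶ s.pt, (∀ t, pqD a b t c (fun l _ => hc l) ≫ m = s.ι.app t) → m = z' := by
    intro m hm
    rw [← cancel_epi c, hz', ← pqP_D a b ∅ c (fun l _ => hc l), Category.assoc, hm]
  exact ⟨z', fun t => key1 t, fun m hm => key2 m hm⟩

/-- If finitely many pairs already generate the relation, the partial quotient is everything. -/
theorem pqDesc_isIso [Epi c] (t : Finset Λ) (hc' : ∀ l ∈ t, a l ≫ c = b l ≫ c)
    (huniv : ∀ (Z : Sh J) (z : Y ⟶ Z), (∀ l ∈ t, a l ≫ z = b l ≫ z) → ∃ z' : X ⟶ Z, c ≫ z' = z) :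
    Nonempty (pq a b t ≅ X) := by
  obtain ⟨z', hz'⟩ := huniv (pq a b t) (pqπ a b t) (fun l hl => pq_cond a b t hl)
  refine ⟨⟨pqDesc a b t c hc', z', ?_, ?_⟩⟩
  · rw [← cancel_epi (pqπ a b t), ← Category.assoc, pqπ_desc, hz', Category.comp_id]
  · rw [← cancel_epi c, ← Category.assoc, hz', pqπ_desc, Category.comp_id]

end PQ

/-- An object of finite presentation is quasi-compact. -/
theorem isQC_of_isFP {X : Sh J} (hX : IsFP X) : IsQC X := by
  classical
  rw [isQC_iff]
  intro ι F π hπ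
  let a : ∀ i, F i ⟶ X ⨿ X := fun i => π i ≫ coprod.inl
  let b : ∀ i, F i ⟶ X ⨿ X := fun i => π i ≫ coprod.inr
  let c : X ⨿ X ⟶ X := coprod.desc (𝟙 X) (𝟙 X)
  have hc : ∀ i, a i ≫ c = b i ≫ c := by
    intro i
    simp only [a, b, c, Category.assoc, coprod.inl_desc, coprod.inr_desc]
  have : Epi c := ⟨fun {Z} u v huv => by
    have h := congrArg (fun m => coprod.inl ≫ m) huv
    dsimp only [c] at h
    rw [coprod.inl_desc_assoc, coprod.inl_desc_assoc, Category.id_comp, Category.id_comp] at h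
    exact h⟩
  have huniv : ∀ (Z : Sh J) (z : X ⨿ X ⟶ Z), (∀ l, a l ≫ z = b l ≫ z) →
      ∃ z' : X ⟶ Z, c ≫ z' = z := by
    intro Z z hz
    have h1 : coprod.inl ≫ z = coprod.inr ≫ z := by
      apply hπ.jepi
      intro i
      have := hz i
      simpa only [a, b, Category.assoc] using this
    refine ⟨coprod.inl ≫ z, ?_⟩
    apply coprod.hom_ext
    · simp only [c, coprod.inl_desc_assoc, Category.id_comp]
    · simp only [c, coprod.inr_desc_assoc, Category.id_comp, h1]
  obtain ⟨hcol⟩ := pqCocone_isColimit a b c hc huniv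
  have e0 : (coprod.inl : X ⟶ X ⨿ X) ≫ c = coprod.inr ≫ c := by
    dsimp only [c]
    rw [coprod.inl_desc, coprod.inr_desc]
  obtain ⟨s, m, hm⟩ := IsFP.exists_eq hX hcol (i := ∅) (coprod.inl ≫ pqP a b ∅) (coprod.inr ≫ pqP a b ∅)
    (by
      rw [Category.assoc, Category.assoc, pqP_cocone]
      exact e0)
  rw [Category.assoc, Category.assoc, pqP_map] at hm
  refine ⟨s, ?_⟩
  rw [jsurj_iff_jepi]
  intro Z u v huv
  have hd : ∀ l ∈ s, a l ≫ coprod.desc u v = b l ≫ coprod.desc u v := by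
    intro l hl
    simp only [a, b, Category.assoc, coprod.inl_desc, coprod.inr_desc]
    exact huv ⟨l, hl⟩
  have := congrArg (fun m => m ≫ pqD a b s (coprod.desc u v) hd) hm
  simpa only [Category.assoc, pqP_D, coprod.inl_desc, coprod.inr_desc] using this

end Groth.Agent.Lib.Helper14.Topos
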