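import Groth.Agent.Lib.Helper14.Topos11

/-!
# Generating sets closed under finite colimits and fibre products (helper14)
-/

set_option autoImplicit false

universe u w

open CategoryTheory CategoryTheory.Limits Opposite

namespace Groth.Agent.Lib.Helper14.Topos

open ToposFin Groth.Agent.Lib.helper23.QCHom

variable {C : Type u} [SmallCategory C] {J : GrothendieckTopology C}

section FinColim

variable (S : Set (Sh J))
  (hiso : ∀ ⦃K L : Sh J⦄, K ∈ S → Nonempty (K ≅ L) → L ∈ S)
  (hcolim : ∀ (K : Type) [SmallCategory K] [FinCategory K] (D : K ⥤ Sh J),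
    (∀ k, D.obj k ∈ S) → colimit D ∈ S)

include hcolim in
theorem sigma_fin_mem {n : ℕ} (G : Fin n → Sh J) (hG : ∀ k, G k ∈ S) : ∐ G ∈ S :=
  hcolim (Discrete (Fin n)) (Discrete.functor G) (fun ⟨k⟩ => hG k)

include hiso hcolim in
theorem sigma_finset_mem {Λ : Type u} (L : Λ → Sh J) (hL : ∀ l, L l ∈ S) (t : Finset Λ) :
    ∐ (fun l : t => L l) ∈ S := by
  have h := sigma_fin_mem S hcolim (fun k : Fin t.card => L (t.equivFin.symm k)) (fun k => hL _)
  exact hiso h ⟨Sigma.reindex t.equivFin.symm (fun l : t => L l)⟩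

include hcolim in
theorem coequalizer_mem {A B : Sh J} (f g : A ⟶ B) (hA : A ∈ S) (hB : B ∈ S) :
    coequalizer f g ∈ S :=
  hcolim WalkingParallelPair (parallelPair f g) (by
    rintro (_ | _)
    · exact hA
    · exact hB)

include hiso hcolim in
theorem pq_mem {Λ : Type u} {L : Λ → Sh J} {Y : Sh J} (a b : ∀ l, L l ⟶ Y) (hL : ∀ l, L l ∈ S)
    (hY : Y ∈ S) (t : Finset Λ) : pq a b t ∈ S :=
  coequalizer_mem S hcolim _ _ (sigma_finset_mem S hiso hcolim L hL t) hY

include hiso hcolim in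
theorem retract_mem {X Q : Sh J} (hQ : Q ∈ S) (σ : X ⟶ Q) (r : Q ⟶ X) (h : σ ≫ r = 𝟙 X) :
    X ∈ S := by
  have hs : IsSplitCoequalizer (r ≫ σ) (𝟙 Q) r :=
    { rightSection := σ
      leftSection := 𝟙 Q
      condition := by rw [Category.assoc, h, Category.comp_id, Category.id_comp]
      rightSection_π := h
      leftSection_bottom := Category.id_comp _
      leftSection_top := Category.id_comp _ }
  have hco := coequalizer_mem S hcolim (r ≫ σ) (𝟙 Q) hQ hQ
  exact hiso hco ⟨(colimit.isColimit _).coconePointUniqueUpToIso hs.isCoequalizer⟩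

variable (hqc : ∀ K ∈ S, IsQC K) (hgen : IsGenerating S)

/-- The kernel pair of an epimorphism, covered by a family. -/
theorem exists_desc_of_cover {K X : Sh J} (p : K ⟶ X) [Epi p] {ι : Type w} {L : ι → Sh J}
    (q : ∀ l, L l ⟶ pullback p p) (hq : JSurj q) {Z : Sh J} (z : K ⟶ Z)
    (hz : ∀ l, (q l ≫ pullback.fst p p) ≫ z = (q l ≫ pullback.snd p p) ≫ z) :
    ∃ z' : X ⟶ Z, p ≫ z' = z := by
  apply exists_desc_of_epi p z
  apply hq.jepi
  intro l
  have := hz l
  simpa only [Category.assoc] using this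

include hiso hcolim hqc hgen in
theorem mem_of_isCoherent {X : Sh J} (hX : IsCoherent X) : X ∈ S := by
  obtain ⟨n, G, π, hG, hπ⟩ := exists_finite_cover_mem hgen hX.1
  have hK : ∐ G ∈ S := sigma_fin_mem S hcolim G hG
  have hp : Epi (Limits.Sigma.desc π) := epi_sigmaDesc_iff_jsurj.2 hπ
  have hR : IsQC (pullback (Limits.Sigma.desc π) (Limits.Sigma.desc π)) :=
    hX.2 _ _ _ _ (hqc _ hK) (hqc _ hK)
  obtain ⟨Λ, L, q, hL, hq⟩ := isGenerating_jsurj hgen
    (pullback (Limits.Sigma.desc π) (Limits.Sigma.desc π))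
  obtain ⟨t, ht⟩ := (isQC_iff _).1 hR Λ L q hq
  obtain ⟨e⟩ := pqDesc_isIso (fun l => q l ≫ pullback.fst _ _) (fun l => q l ≫ pullback.snd _ _)
    (Limits.Sigma.desc π) t
    (fun l _ => by rw [Category.assoc, Category.assoc, pullback.condition])
    (fun Z z hz => exists_desc_of_cover (Limits.Sigma.desc π) (fun l : t => q l) ht z
      (fun l => hz l.1 l.2))
  exact hiso (pq_mem S hiso hcolim _ _ hL hK t) ⟨e⟩

include hiso hcolim hgen in
theorem mem_of_isFP {X : Sh J} (hX : IsFP X) : X ∈ S := by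
  classical
  obtain ⟨n, G, π, hG, hπ⟩ := exists_finite_cover_mem hgen (isQC_of_isFP hX)
  have hK : ∐ G ∈ S := sigma_fin_mem S hcolim G hG
  have hp : Epi (Limits.Sigma.desc π) := epi_sigmaDesc_iff_jsurj.2 hπ
  obtain ⟨Λ, L, q, hL, hq⟩ := isGenerating_jsurj hgen
    (pullback (Limits.Sigma.desc π) (Limits.Sigma.desc π))
  have hc : ∀ l, (q l ≫ pullback.fst _ _) ≫ Limits.Sigma.desc π =
      (q l ≫ pullback.snd _ _) ≫ Limits.Sigma.desc π := fun l => by
    rw [Category.assoc, Category.assoc, pullback.condition]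
  obtain ⟨hcol⟩ := pqCocone_isColimit (fun l => q l ≫ pullback.fst _ _)
    (fun l => q l ≫ pullback.snd _ _) (Limits.Sigma.desc π) hc
    (fun Z z hz => exists_desc_of_cover (Limits.Sigma.desc π) q hq z hz)
  obtain ⟨t, σ, hσ⟩ := IsFP.exists_factor hX hcol (𝟙 X)
  have hmem : pq (fun l => q l ≫ pullback.fst (Limits.Sigma.desc π) (Limits.Sigma.desc π))
      (fun l => q l ≫ pullback.snd (Limits.Sigma.desc π) (Limits.Sigma.desc π)) t ∈ S :=
    pq_mem S hiso hcolim _ _ hL hK t
  exact retract_mem S hiso hcolim hmem σ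
    (pqD (fun l => q l ≫ pullback.fst (Limits.Sigma.desc π) (Limits.Sigma.desc π))
      (fun l => q l ≫ pullback.snd (Limits.Sigma.desc π) (Limits.Sigma.desc π)) t
      (Limits.Sigma.desc π) (fun l _ => hc l)) hσ

include hiso hcolim hqc hgen in
/-- S5588. -/
theorem eq_coherent_of_generating_closed (hpb : ClosedUnderPullbacks S) :
    (∀ X : Sh J, X ∈ S ↔ IsCoherent X) ∧ (∀ X : Sh J, IsFP X → IsCoherent X) :=
  ⟨fun _ => ⟨fun h => isCoherent_of_mem hqc hgen hpb h,
      fun h => mem_of_isCoherent S hiso hcolim hqc hgen h⟩,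
    fun _ hX => isCoherent_of_mem hqc hgen hpb (mem_of_isFP S hiso hcolim hgen hX)⟩

end FinColim

end Groth.Agent.Lib.Helper14.Topos
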