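import Groth.Agent.Lib.Helper14.Topos9
import Groth.Agent.Lib.Helper5.SheafCoprodVK
import Mathlib.CategoryTheory.Limits.Shapes.StrictInitial

/-!
# Coproducts in a sheaf topos and quasi-compactness (helper14)
-/

set_option autoImplicit false

universe u w

open CategoryTheory CategoryTheory.Limits Opposite

namespace Groth.Agent.Lib.Helper14.Topos

open ToposFin Groth.Agent.Lib.helper23.QCHom

variable {C : Type u} [SmallCategory C] {J : GrothendieckTopology C}

/-- An object mapping to the initial sheaf is initial. -/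
theorem isInitial_of_hom_to_initial {A : Sh J} (f : A ⟶ ⊥_ (Sh J)) : Nonempty (IsInitial A) := by
  let F : Discrete PEmpty.{u + 1} ⥤ Sh J := Discrete.functor (fun e => e.elim)
  let c : Cocone F := ⟨⊥_ (Sh J), Discrete.natTrans (fun e => e.as.elim)⟩
  have hc : IsColimit c :=
    { desc := fun s => initial.to s.pt
      fac := fun s e => e.as.elim
      uniq := fun s m _ => initialIsInitial.hom_ext _ _ }
  have hvk := Groth.Agent.Lib.helper5.SheafVK.isVanKampenColimit_discrete_sheaf J c hc
  let c' : Cocone F := ⟨A, Discrete.natTrans (fun e => e.as.elim)⟩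
  obtain ⟨hc'⟩ := (hvk c' (𝟙 F) f (by ext e; exact e.as.elim) (NatTrans.Equifibered.of_discrete _)).2
    (fun e => e.as.elim)
  exact ⟨IsInitial.ofUniqueHom
    (fun Z => hc'.desc ⟨Z, Discrete.natTrans (fun e => e.as.elim)⟩)
    (fun Z m => hc'.hom_ext (fun e => e.as.elim))⟩

instance : HasStrictInitialObjects (Sh J) :=
  hasStrictInitialObjects_of_initial_is_strict (fun A f => by
    obtain ⟨hA⟩ := isInitial_of_hom_to_initial f
    exact ⟨⟨initial.to A, hA.hom_ext _ _, initialIsInitial.hom_ext _ _⟩⟩)

/-- An initial object is quasi-compact. -/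
theorem isQC_of_isInitial {A : Sh J} (hA : IsInitial A) : IsQC A := by
  rw [isQC_iff]
  intro ι F π _
  refine ⟨∅, ?_⟩
  rw [jsurj_iff_jepi]
  intro Z a b _
  exact hA.hom_ext a b

/-- An object mapping to an initial object is quasi-compact. -/
theorem isQC_of_hom_to_isInitial {A I : Sh J} (hI : IsInitial I) (f : A ⟶ I) : IsQC A := by
  have := hI.isIso_to f
  exact isQC_of_isInitial (hI.ofIso (asIso f).symm)

section Cofan

variable {ι : Type u} {X : ι → Sh J} (c : Cofan X) (hc : IsColimit c)

include hc

theorem cofan_vk : IsVanKampenColimit c :=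
  Groth.Agent.Lib.helper5.SheafVK.isVanKampenColimit_discrete_sheaf J c hc

theorem cofan_jsurj : JSurj c.inj :=
  jsurj_iff_jepi.2 (fun _ a b h => Cofan.IsColimit.hom_ext hc a b h)

theorem cofan_mono (i : ι) : Mono (c.inj i) :=
  mono_of_cofan_isVanKampen (cofan_vk c hc) ⟨i⟩

theorem cofan_disjoint {i j : ι} (h : i ≠ j) :
    IsPullback (initial.to _) (initial.to _) (c.inj i) (c.inj j) :=
  isPullback_initial_to_of_cofan_isVanKampen (cofan_vk c hc) ⟨i⟩ ⟨j⟩
    (fun e => h (congrArg Discrete.as e))

/-- Two maps to different summands with the same image have initial source. -/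
theorem isInitial_of_cofan_ne {i j : ι} (h : i ≠ j) {P : Sh J} (p : P ⟶ X i) (q : P ⟶ X j)
    (hpq : p ≫ c.inj i = q ≫ c.inj j) : Nonempty (IsInitial P) :=
  isInitial_of_hom_to_initial ((cofan_disjoint c hc h).lift p q hpq)

/-- The base change of a coproduct decomposition. -/
theorem cofan_pullback_isColimit {T : Sh J} (g : T ⟶ c.pt) :
    Nonempty (IsColimit (Cofan.mk T (fun i => pullback.fst g (c.inj i)))) := by
  refine (cofan_vk c hc).isUniversal (Cofan.mk T (fun i => pullback.fst g (c.inj i)))
    (Discrete.natTrans (fun i => pullback.snd g (c.inj i.as))) g ?_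
    (NatTrans.Equifibered.of_discrete _) (fun i => IsPullback.of_hasPullback g (c.inj i.as))
  apply NatTrans.ext
  funext i
  exact (pullback.condition (f := g) (g := c.inj i.as)).symm

/-- A summand of a quasi-compact object is quasi-compact. -/
theorem isQC_of_cofan_pt (hT : IsQC c.pt) (i : ι) : IsQC (X i) := by
  classical
  have hmono := cofan_mono c hc i
  rw [isQC_iff]
  intro κ G π hπ
  let G' : κ ⊕ {j // j ≠ i} → Sh J := Sum.elim G (fun j => X j.1)
  let π' : ∀ k, G' k ⟶ c.pt := fun k => match k with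
    | Sum.inl k => π k ≫ c.inj i
    | Sum.inr j => c.inj j.1
  have hπ' : JSurj π' := by
    rw [jsurj_iff_jepi]
    intro Z a b hab
    apply Cofan.IsColimit.hom_ext hc
    intro j
    by_cases hj : j = i
    · subst hj
      apply hπ.jepi
      intro k
      have h2 : (π k ≫ c.inj j) ≫ a = (π k ≫ c.inj j) ≫ b := hab (Sum.inl k)
      rw [Category.assoc, Category.assoc] at h2
      exact h2
    · exact hab (Sum.inr ⟨j, hj⟩)
  obtain ⟨s, hs⟩ := (isQC_iff _).1 hT _ G' π' hπ'
  have hbc := hs.base_change (c.inj i) (fun k => pullback.fst (π' k.1) (c.inj i))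
    (fun k => pullback.snd (π' k.1) (c.inj i)) (fun k => IsPullback.of_hasPullback _ _)
  refine ⟨s.preimage Sum.inl (Sum.inl_injective.injOn), ?_⟩
  rw [jsurj_iff_jepi]
  intro Z a b hab
  apply hbc.jepi
  rintro ⟨k, hk⟩
  match k, hk with
  | Sum.inl k, hk =>
    have h1 : pullback.snd (π' (Sum.inl k)) (c.inj i) = pullback.fst (π' (Sum.inl k)) (c.inj i) ≫ π k := by
      rw [← cancel_mono (c.inj i), ← pullback.condition, Category.assoc]
    change pullback.snd (π' (Sum.inl k)) (c.inj i) ≫ a = pullback.snd (π' (Sum.inl k)) (c.inj i) ≫ b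
    rw [h1, Category.assoc, Category.assoc]
    congr 1
    exact hab ⟨k, by simpa using hk⟩
  | Sum.inr j, hk =>
    obtain ⟨hP⟩ := isInitial_of_cofan_ne c hc j.2 (pullback.fst (π' (Sum.inr j)) (c.inj i))
      (pullback.snd (π' (Sum.inr j)) (c.inj i)) pullback.condition
    exact hP.hom_ext _ _

/-- The summand inclusions are quasi-compact morphisms. -/
theorem isQCHom_cofan_inj (i : ι) : IsQCHom (c.inj i) := by
  intro T t hT
  obtain ⟨hcT⟩ := cofan_pullback_isColimit c hc t
  have := isQC_of_cofan_pt _ hcT hT i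
  exact isQC_of_iso (pullbackSymmetry _ _) this

end Cofan

end Groth.Agent.Lib.Helper14.Topos
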