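import Groth.Agent.Lib.Helper14.Topos13

/-!
# Coproducts and quasi-compact / quasi-separated objects (helper14)
-/

set_option autoImplicit false

universe u w

open CategoryTheory CategoryTheory.Limits Opposite

namespace Groth.Agent.Lib.Helper14.Topos

open ToposFin Groth.Agent.Lib.helper23.QCHom

variable {C : Type u} [SmallCategory C] {J : GrothendieckTopology C}

section Cofan

variable {ι : Type u} {X : ι → Sh J} (c : Cofan X) (hc : IsColimit c)

include hc

/-- Only finitely many summands of a quasi-compact object are non-initial. -/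
theorem exists_finset_isInitial_of_isQC (hT : IsQC c.pt) :
    ∃ s : Finset ι, JSurj (fun i : s => c.inj i.1) ∧ ∀ i ∉ s, Nonempty (IsInitial (X i)) := by
  classical
  obtain ⟨s, hs⟩ := (isQC_iff _).1 hT ι X c.inj (cofan_jsurj c hc)
  refine ⟨s, hs, fun i his => ?_⟩
  have hbc := hs.base_change (c.inj i) (fun k => pullback.fst (c.inj k.1) (c.inj i))
    (fun k => pullback.snd (c.inj k.1) (c.inj i)) (fun k => IsPullback.of_hasPullback _ _)
  have huniq : ∀ (Z : Sh J) (a b : X i ⟶ Z), a = b := by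
    intro Z a b
    apply hbc.jepi
    rintro ⟨k, hk⟩
    have hki : k ≠ i := by
      rintro rfl
      exact his hk
    obtain ⟨hP⟩ := isInitial_of_cofan_ne c hc hki (pullback.fst (c.inj k) (c.inj i))
      (pullback.snd (c.inj k) (c.inj i)) pullback.condition
    exact hP.hom_ext _ _
  have h1 : Epi (initial.to (X i)) := ⟨fun a b _ => huniq _ a b⟩
  have h2 : Mono (initial.to (X i)) := inferInstance
  have h3 : IsIso (initial.to (X i)) := isIso_of_mono_of_epi _
  exact ⟨initialIsInitial.ofIso (asIso (initial.to (X i)))⟩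

theorem isQC_cofan_pt_iff :
    IsQC c.pt ↔ (∀ i, IsQC (X i)) ∧ {i | IsEmpty (X i ≅ ⊥_ (Sh J))}.Finite := by
  classical
  constructor
  · intro h
    refine ⟨fun i => isQC_of_cofan_pt c hc h i, ?_⟩
    obtain ⟨s, -, hs⟩ := exists_finset_isInitial_of_isQC c hc h
    refine s.finite_toSet.subset ?_
    intro i hi
    by_contra his
    obtain ⟨hI⟩ := hs i his
    exact hi.false (hI.uniqueUpToIso initialIsInitial)
  · rintro ⟨hqc, hfin⟩
    have := hfin.to_subtype
    refine isQC_of_jsurj_finite (fun i : {i | IsEmpty (X i ≅ ⊥_ (Sh J))} => X i.1)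
      (fun i => c.inj i.1) ?_ (fun i => hqc i.1)
    rw [jsurj_iff_jepi]
    intro Z a b hab
    apply Cofan.IsColimit.hom_ext hc
    intro i
    by_cases hi : IsEmpty (X i ≅ ⊥_ (Sh J))
    · exact hab ⟨i, hi⟩
    · rw [not_isEmpty_iff] at hi
      obtain ⟨e⟩ := hi
      exact (initialIsInitial.ofIso e.symm).hom_ext _ _

theorem isQC_pullback_cofan_inj (hF : ∀ i, IsQS (X i)) {A B : Sh J} (hA : IsQC A) (hB : IsQC B)
    (i j : ι) (α : A ⟶ X i) (β : B ⟶ X j) : IsQC (pullback (α ≫ c.inj i) (β ≫ c.inj j)) := by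
  by_cases h : i = j
  · subst h
    have := cofan_mono c hc i
    exact isQC_of_iso (IsPullback.of_isLimit (pullbackIsPullbackOfCompMono α β (c.inj i))).isoPullback
      (hF i _ _ α β hA hB)
  · obtain ⟨hP⟩ := isInitial_of_cofan_ne c hc h
      (pullback.fst (α ≫ c.inj i) (β ≫ c.inj j) ≫ α) (pullback.snd (α ≫ c.inj i) (β ≫ c.inj j) ≫ β)
      (by rw [Category.assoc, Category.assoc, pullback.condition])
    exact isQC_of_isInitial hP

theorem isQS_cofan_pt_iff : IsQS c.pt ↔ ∀ i, IsQS (X i) := by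
  classical
  constructor
  · intro h i
    have := cofan_mono c hc i
    exact isQS_of_mono (c.inj i) h
  · intro hF A B a b hA hB
    obtain ⟨hcA⟩ := cofan_pullback_isColimit c hc a
    obtain ⟨hcB⟩ := cofan_pullback_isColimit c hc b
    obtain ⟨s, hs, -⟩ := exists_finset_isInitial_of_isQC _ hcA hA
    obtain ⟨t, ht, -⟩ := exists_finset_isInitial_of_isQC _ hcB hB
    refine isQC_pullback_of_finite_cover_left a b _ _ hs (fun i => ?_)
    refine isQC_pullback_of_finite_cover _ b _ _ ht (fun j => ?_)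
    have e1 : pullback.fst a (c.inj i.1) ≫ a = pullback.snd a (c.inj i.1) ≫ c.inj i.1 :=
      pullback.condition
    have e2 : pullback.fst b (c.inj j.1) ≫ b = pullback.snd b (c.inj j.1) ≫ c.inj j.1 :=
      pullback.condition
    refine isQC_pullback_congr e1.symm e2.symm ?_
    exact isQC_pullback_cofan_inj c hc hF (isQC_of_cofan_pt _ hcA hA i.1)
      (isQC_of_cofan_pt _ hcB hB j.1) i.1 j.1 _ _

end Cofan

/-- S3058. -/
theorem isQC_sigma_iff {ι : Type u} (F : ι → Sh J) :
    IsQC (∐ F) ↔ (∀ i, IsQC (F i)) ∧ {i | IsEmpty (F i ≅ ⊥_ (Sh J))}.Finite :=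
  isQC_cofan_pt_iff (Cofan.mk (∐ F) (Sigma.ι F)) (coproductIsCoproduct F)

/-- S3074 (second part). -/
theorem isQS_sigma_iff {ι : Type u} (F : ι → Sh J) : IsQS (∐ F) ↔ ∀ i, IsQS (F i) :=
  isQS_cofan_pt_iff (Cofan.mk (∐ F) (Sigma.ι F)) (coproductIsCoproduct F)

end Groth.Agent.Lib.Helper14.Topos
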