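import Groth.Agent.Lib.Helper14.Topos14
import Mathlib.CategoryTheory.Limits.Shapes.Pullback.Iso

/-!
# Coproducts and quasi-compact / quasi-separated morphisms (helper14)
-/

set_option autoImplicit false

universe u w

open CategoryTheory CategoryTheory.Limits Opposite

namespace Groth.Agent.Lib.Helper14.Topos

open ToposFin Groth.Agent.Lib.helper23.QCHom

variable {C : Type u} [SmallCategory C] {J : GrothendieckTopology C}

theorem isQCHom_of_isIso {A B : Sh J} (e : A ⟶ B) [IsIso e] : IsQCHom e := by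
  intro T t hT
  exact isQC_of_iso (asIso (pullback.snd e t)).symm hT

theorem isQSHom_of_mono {A B : Sh J} (m : A ⟶ B) [Mono m] : IsQSHom m :=
  isQCHom_of_isIso (pullback.diagonal m)

/-- The diagonal of a monomorphic restriction is a base change of the diagonal. -/
theorem isPullback_diagonal_of_mono' {A X Y : Sh J} (m : A ⟶ X) [Mono m] (f : X ⟶ Y)
    (μ : pullback (m ≫ f) (m ≫ f) ⟶ pullback f f)
    (hμ1 : μ ≫ pullback.fst f f = pullback.fst (m ≫ f) (m ≫ f) ≫ m)
    (hμ2 : μ ≫ pullback.snd f f = pullback.snd (m ≫ f) (m ≫ f) ≫ m) :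
    IsPullback m (pullback.diagonal (m ≫ f)) (pullback.diagonal f) μ := by
  have hw : m ≫ pullback.diagonal f = pullback.diagonal (m ≫ f) ≫ μ := by
    apply pullback.hom_ext
    · rw [Category.assoc, Category.assoc, pullback.diagonal_fst, Category.comp_id, hμ1,
        ← Category.assoc, pullback.diagonal_fst, Category.id_comp]
    · rw [Category.assoc, Category.assoc, pullback.diagonal_snd, Category.comp_id, hμ2,
        ← Category.assoc, pullback.diagonal_snd, Category.id_comp]
  have key1 : ∀ s : PullbackCone (pullback.diagonal f) μ,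
      s.fst = (s.snd ≫ pullback.fst (m ≫ f) (m ≫ f)) ≫ m := by
    intro s
    have h' := congrArg (fun r => r ≫ pullback.fst f f) s.condition
    beta_reduce at h'
    rw [Category.assoc, Category.assoc, pullback.diagonal_fst, Category.comp_id, hμ1] at h'
    rw [h', Category.assoc]
  have key2 : ∀ s : PullbackCone (pullback.diagonal f) μ,
      s.fst = (s.snd ≫ pullback.snd (m ≫ f) (m ≫ f)) ≫ m := by
    intro s
    have h' := congrArg (fun r => r ≫ pullback.snd f f) s.condition
    beta_reduce at h'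
    rw [Category.assoc, Category.assoc, pullback.diagonal_snd, Category.comp_id, hμ2] at h'
    rw [h', Category.assoc]
  refine ⟨⟨hw⟩, ⟨PullbackCone.IsLimit.mk hw (fun s => s.snd ≫ pullback.fst (m ≫ f) (m ≫ f))
    (fun s => ?_) (fun s => ?_) (fun s l h1 _ => ?_)⟩⟩
  · exact (key1 s).symm
  · have h3 : s.snd ≫ pullback.fst (m ≫ f) (m ≫ f) = s.snd ≫ pullback.snd (m ≫ f) (m ≫ f) := by
      rw [← cancel_mono m, ← key1 s, ← key2 s]
    apply pullback.hom_ext
    · rw [Category.assoc, pullback.diagonal_fst, Category.comp_id]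
    · rw [Category.assoc, pullback.diagonal_snd, Category.comp_id, h3]
  · rw [← cancel_mono m, h1]
    exact key1 s

theorem isPullback_diagonal_of_mono {A X Y : Sh J} (m : A ⟶ X) [Mono m] (f : X ⟶ Y) :
    IsPullback m (pullback.diagonal (m ≫ f)) (pullback.diagonal f)
      (pullback.map (m ≫ f) (m ≫ f) f f m m (𝟙 Y) (by rw [Category.comp_id])
        (by rw [Category.comp_id])) :=
  isPullback_diagonal_of_mono' m f _ (pullback.lift_fst _ _ _) (pullback.lift_snd _ _ _)

section Cofan

variable {ι : Type u} {X : ι → Sh J} (c : Cofan X) (hc : IsColimit c)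

include hc

theorem isQC_pullback_diagonal_cofan {Y : Sh J} (f : c.pt ⟶ Y)
    (hf : ∀ i, IsQSHom (c.inj i ≫ f)) {T : Sh J} (hT : IsQC T)
    (τ : T ⟶ pullback.diagonalObj f) (i j : ι) (u : T ⟶ X i) (v : T ⟶ X j)
    (hu : τ ≫ pullback.fst f f = u ≫ c.inj i) (hv : τ ≫ pullback.snd f f = v ≫ c.inj j) :
    IsQC (pullback (pullback.diagonal f) τ) := by
  by_cases h : i = j
  · subst h
    have := cofan_mono c hc i
    have huv : u ≫ c.inj i ≫ f = v ≫ c.inj i ≫ f := by
      rw [← Category.assoc, ← hu, ← Category.assoc, ← hv, Category.assoc, Category.assoc,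
        pullback.condition]
    have hτ : τ = pullback.lift u v huv ≫
        pullback.map (c.inj i ≫ f) (c.inj i ≫ f) f f (c.inj i) (c.inj i) (𝟙 Y)
          (by rw [Category.comp_id]) (by rw [Category.comp_id]) := by
      apply pullback.hom_ext
      · rw [Category.assoc]
        erw [pullback.lift_fst]
        rw [pullback.lift_fst_assoc, hu]
      · rw [Category.assoc]
        erw [pullback.lift_snd]
        rw [pullback.lift_snd_assoc, hv]
    refine isQC_pullback_congr rfl hτ.symm ?_
    exact isQC_pullback_comp_of_isPullback (isPullback_diagonal_of_mono (c.inj i) f) (hf i) _ hT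
  · have e1 : pullback.fst (pullback.diagonal f) τ =
        (pullback.snd (pullback.diagonal f) τ ≫ u) ≫ c.inj i := by
      rw [Category.assoc, ← hu, ← pullback.condition_assoc, pullback.diagonal_fst,
        Category.comp_id]
    have e2 : pullback.fst (pullback.diagonal f) τ =
        (pullback.snd (pullback.diagonal f) τ ≫ v) ≫ c.inj j := by
      rw [Category.assoc, ← hv, ← pullback.condition_assoc, pullback.diagonal_snd,
        Category.comp_id]
    obtain ⟨hP⟩ := isInitial_of_cofan_ne c hc h _ _ (e1.symm.trans e2)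
    exact isQC_of_isInitial hP

/-- S5581. -/
theorem isQSHom_cofan_desc_iff {Y : Sh J} (f : c.pt ⟶ Y) :
    IsQSHom f ↔ ∀ i, IsQSHom (c.inj i ≫ f) := by
  classical
  constructor
  · intro hf i
    have := cofan_mono c hc i
    exact isQSHom_comp (isQSHom_of_mono (c.inj i)) hf
  · intro hf T t hT
    obtain ⟨hc1⟩ := cofan_pullback_isColimit c hc (t ≫ pullback.fst f f)
    obtain ⟨s1, hs1, -⟩ := exists_finset_isInitial_of_isQC _ hc1 hT
    refine isQC_pullback_of_finite_cover (pullback.diagonal f) t _ _ hs1 (fun i => ?_)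
    have hTi := isQC_of_cofan_pt _ hc1 hT i.1
    obtain ⟨hc2⟩ := cofan_pullback_isColimit c hc
      (pullback.fst (t ≫ pullback.fst f f) (c.inj i.1) ≫ t ≫ pullback.snd f f)
    obtain ⟨s2, hs2, -⟩ := exists_finset_isInitial_of_isQC _ hc2 hTi
    refine isQC_pullback_of_finite_cover (pullback.diagonal f) _ _ _ hs2 (fun j => ?_)
    have hTij := isQC_of_cofan_pt _ hc2 hTi j.1
    refine isQC_pullback_diagonal_cofan c hc f hf hTij _ i.1 j.1
      (pullback.fst _ (c.inj j.1) ≫ pullback.snd (t ≫ pullback.fst f f) (c.inj i.1))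
      (pullback.snd _ (c.inj j.1)) ?_ ?_
    · simp only [cofan_mk_inj, Category.assoc]
      rw [pullback.condition]
    · simp only [cofan_mk_inj, Category.assoc]
      exact pullback.condition

end Cofan

/-- S5580. -/
theorem isQCHom_cofan_desc_iff_of_finite {Y : Sh J} {n : ℕ} (X : Fin n → Sh J) (c : Cofan X)
    (hc : IsColimit c) (f : c.pt ⟶ Y) :
    (IsQCHom f ↔ ∀ i, IsQCHom (c.inj i ≫ f)) ∧ (IsCohHom f ↔ ∀ i, IsCohHom (c.inj i ≫ f)) := by
  let X' : ULift.{u} (Fin n) → Sh J := fun k => X k.down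
  let c' : Cofan X' := Cofan.mk c.pt (fun k => c.inj k.down)
  have hc' : IsColimit c' := mkCofanColimit c'
    (fun t => Cofan.IsColimit.desc hc (fun k => t.inj ⟨k⟩))
    (fun t k => Cofan.IsColimit.fac hc _ k.down)
    (fun t m hm => Cofan.IsColimit.hom_ext hc _ _ (fun k => by
      rw [Cofan.IsColimit.fac]
      exact hm ⟨k⟩))
  have hjs : JSurj c.inj := jsurj_iff_jepi.2 (fun _ a b h => Cofan.IsColimit.hom_ext hc a b h)
  have hqc : IsQCHom f ↔ ∀ i, IsQCHom (c.inj i ≫ f) :=
    ⟨fun hf i => isQCHom_comp (isQCHom_cofan_inj c' hc' ⟨i⟩) hf,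
      fun h => isQCHom_of_finite_jsurj f X c.inj hjs h⟩
  have hqs : IsQSHom f ↔ ∀ i, IsQSHom (c.inj i ≫ f) :=
    ⟨fun hf i => (isQSHom_cofan_desc_iff c' hc' f).1 hf ⟨i⟩,
      fun h => (isQSHom_cofan_desc_iff c' hc' f).2 (fun k => h k.down)⟩
  refine ⟨hqc, ?_⟩
  constructor
  · intro hf i
    exact ⟨hqc.1 hf.1 i, hqs.1 hf.2 i⟩
  · intro h
    exact ⟨hqc.2 (fun i => (h i).1), hqs.2 (fun i => (h i).2)⟩

end Groth.Agent.Lib.Helper14.Topos
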