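import Groth.Agent.Lib.Helper14.Topos16
import Mathlib.CategoryTheory.Sites.Canonical
import Mathlib.CategoryTheory.Limits.Preserves.Shapes.Products
import Mathlib.CategoryTheory.Limits.Preserves.Shapes.Terminal
import Mathlib.CategoryTheory.Limits.Constructions.EpiMono

/-!
# Subcanonical topologies, the canonical topology and coproducts (helper14)
-/

set_option autoImplicit false

universe u w

open CategoryTheory CategoryTheory.Limits Opposite

namespace Groth.Agent.Lib.Helper14.Topos

open ToposFin Groth.Agent.Lib.helper23.QCHom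

variable {C : Type u} [SmallCategory C] {J : GrothendieckTopology C}

/-- An object all of whose outgoing maps coincide is initial. -/
theorem isInitial_of_forall_hom_eq {A : Sh J} (h : ∀ (Z : Sh J) (a b : A ⟶ Z), a = b) :
    Nonempty (IsInitial A) := by
  have h1 : Epi (initial.to A) := ⟨fun a b _ => h _ a b⟩
  have h2 : Mono (initial.to A) := inferInstance
  have h3 : IsIso (initial.to A) := isIso_of_mono_of_epi _
  exact ⟨initialIsInitial.ofIso (asIso (initial.to A))⟩

/-- A jointly surjective family of disjoint monomorphisms is a coproduct decomposition. -/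
theorem isColimit_cofan_of_jsurj_mono_disjoint {ι : Type u} {A : ι → Sh J} {B : Sh J}
    (m : ∀ i, A i ⟶ B) (hm : JSurj m) (hmono : ∀ i, Mono (m i))
    (hdis : ∀ i j, i ≠ j → ∀ (P : Sh J) (p : P ⟶ A i) (q : P ⟶ A j), p ≫ m i = q ≫ m j →
      Nonempty (IsInitial P)) :
    Nonempty (IsColimit (Cofan.mk B m)) := by
  classical
  let c : Cofan A := Cofan.mk (∐ A) (Sigma.ι A)
  have hc : IsColimit c := coproductIsCoproduct A
  have hepi : Epi (Limits.Sigma.desc m) := epi_sigmaDesc_iff_jsurj.2 hm
  have hmonoσ : Mono (Limits.Sigma.desc m) := by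
    refine ⟨fun {T} u v huv => ?_⟩
    obtain ⟨hc1⟩ := cofan_pullback_isColimit c hc u
    have hj1 := cofan_jsurj _ hc1
    have hj2 : ∀ i, JSurj (fun j => pullback.fst (pullback.fst u (c.inj i) ≫ v) (c.inj j)) := by
      intro i
      obtain ⟨hc2⟩ := cofan_pullback_isColimit c hc (pullback.fst u (c.inj i) ≫ v)
      exact cofan_jsurj _ hc2
    have hj := hj1.comp (fun i j => pullback.fst (pullback.fst u (c.inj i) ≫ v) (c.inj j)) hj2
    apply hj.jepi
    rintro ⟨i, j⟩
    dsimp only [cofan_mk_inj]
    have e1 : pullback.fst u (c.inj i) ≫ u = pullback.snd u (c.inj i) ≫ Sigma.ι A i :=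
      pullback.condition
    have e2 : pullback.fst (pullback.fst u (c.inj i) ≫ v) (c.inj j) ≫
        (pullback.fst u (c.inj i) ≫ v) =
        pullback.snd (pullback.fst u (c.inj i) ≫ v) (c.inj j) ≫ Sigma.ι A j := pullback.condition
    have e3 : (pullback.fst (pullback.fst u (c.inj i) ≫ v) (c.inj j) ≫ pullback.snd u (c.inj i)) ≫
        m i = pullback.snd (pullback.fst u (c.inj i) ≫ v) (c.inj j) ≫ m j := by
      have h1 : Sigma.ι A i ≫ Limits.Sigma.desc m = m i := Sigma.ι_desc _ _
      have h2 : Sigma.ι A j ≫ Limits.Sigma.desc m = m j := Sigma.ι_desc _ _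
      rw [← h1, ← h2, Category.assoc, ← Category.assoc (pullback.snd u (c.inj i)), ← e1,
        Category.assoc, huv, ← Category.assoc (pullback.snd _ (c.inj j)), ← e2]
      simp only [Category.assoc]
    by_cases hij : i = j
    · subst hij
      have := hmono i
      have e4 := (cancel_mono (m i)).1 e3
      rw [Category.assoc, e1, ← Category.assoc, e4, e2.symm]
      simp only [Category.assoc]
    · obtain ⟨hP⟩ := hdis i j hij _ _ _ e3
      exact hP.hom_ext _ _
  have hiso : IsIso (Limits.Sigma.desc m) := isIso_of_mono_of_epi _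
  let e : ∐ A ≅ B := @asIso _ _ _ _ (Limits.Sigma.desc m) hiso
  refine ⟨IsColimit.ofIsoColimit hc (Cofan.ext e (fun i => ?_))⟩
  exact Sigma.ι_desc _ _

section Subcanonical

variable (J)

/-- The canonical functor from the site to its topos. -/
noncomputable abbrev epsF : C ⥤ Sh J := yoneda ⋙ presheafToSheaf J (Type u)

theorem epsF_map {U V : C} (g : U ⟶ V) : (epsF J).map g = epsMap J g := rfl

variable [J.Subcanonical]

theorem secOf_bijective (U X : C) : Function.Bijective (secOf J : (U ⟶ X) → _) := by
  have hP : Presheaf.IsSheaf J (yoneda.obj X) :=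
    (isSheaf_iff_isSheaf_of_type _ _).2 (GrothendieckTopology.Subcanonical.isSheaf_of_isRepresentable _)
  have h1 : IsIso (toSheafify J (yoneda.obj X)) := isIso_toSheafify J hP
  have h2 : IsIso ((toSheafify J (yoneda.obj X)).app (op U)) := inferInstance
  exact (isIso_iff_bijective _).1 h2

instance : (epsF J).Faithful where
  map_injective {U X} a b h := by
    apply (secOf_bijective J U X).1
    have := sec_congr h (op U) (secOf J (𝟙 U))
    rw [epsF_map, epsF_map, epsMap_secOf, epsMap_secOf, Category.id_comp, Category.id_comp] at this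
    exact this

instance : (epsF J).Full where
  map_surjective {U X} φ := by
    obtain ⟨a, ha⟩ := (secOf_bijective J U X).2 (φ.hom.app (op U) (secOf J (𝟙 U)))
    refine ⟨a, ?_⟩
    apply eps_hom_ext
    rw [epsF_map, epsMap_secOf, Category.id_comp, ha]

end Subcanonical

end Groth.Agent.Lib.Helper14.Topos
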