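import Groth.Agent.Lib.Helper14.Topos17

/-!
# Coproducts and the canonical topology (helper14)
-/

set_option autoImplicit false

universe u w

open CategoryTheory CategoryTheory.Limits Opposite

namespace Groth.Agent.Lib.Helper14.Topos

open ToposFin Groth.Agent.Lib.helper23.QCHom

variable {C : Type u} [SmallCategory C]

section

variable {X : C} {ι : Type u} (Y : ι → C) (s : ∀ i, Y i ⟶ X)
  [∀ (i : ι) (Z : C) (g : Z ⟶ X), HasPullback (s i) g]

/-- The base change of a universal coproduct decomposition. -/
theorem nonempty_isColimit_pullback_cofan (huniv : IsUniversalColimit (Cofan.mk X s)) {W : C}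
    (g : W ⟶ X) : Nonempty (IsColimit (Cofan.mk W (fun i => pullback.snd (s i) g))) := by
  refine huniv (Cofan.mk W (fun i => pullback.snd (s i) g))
    (Discrete.natTrans (fun i => pullback.fst (s i.as) g)) g ?_
    (NatTrans.Equifibered.of_discrete _) (fun i => (IsPullback.of_hasPullback (s i.as) g).flip)
  apply NatTrans.ext
  funext i
  exact pullback.condition (f := s i.as) (g := g)

/-- A universal coproduct decomposition is a covering for the canonical topology. -/
theorem ofArrows_mem_canonical (huniv : IsUniversalColimit (Cofan.mk X s)) :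
    Sieve.ofArrows Y s ∈ Sheaf.canonicalTopology C X := by
  apply Sheaf.mem_finestTopology_of_forall_isSheafFor
  rintro P ⟨Z, rfl⟩ W g
  obtain ⟨hcW⟩ := nonempty_isColimit_pullback_cofan Y s huniv g
  have hmem : ∀ i, ((Sieve.ofArrows Y s).pullback g).arrows (pullback.snd (s i) g) := by
    intro i
    change (Sieve.ofArrows Y s).arrows (pullback.snd (s i) g ≫ g)
    rw [← pullback.condition]
    exact Sieve.downward_closed _ (Sieve.ofArrows_mk Y s i) _
  intro x hx
  refine ⟨Cofan.IsColimit.desc hcW (fun i => x (pullback.snd (s i) g) (hmem i)), ?_, ?_⟩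
  · intro V f hf
    obtain ⟨i, m, hm⟩ := (Sieve.mem_ofArrows_iff _ _ _).1 hf
    have hl : pullback.lift m f hm.symm ≫ pullback.snd (s i) g = f := pullback.lift_snd _ _ _
    have h1 := Presieve.FamilyOfElements.comp_of_compatible _ hx (hmem i)
      (pullback.lift m f hm.symm)
    have h2 : x (pullback.lift m f hm.symm ≫ pullback.snd (s i) g)
        (Sieve.downward_closed _ (hmem i) _) = x f hf := by
      congr 1
    change f ≫ Cofan.IsColimit.desc hcW _ = x f hf
    rw [← h2, h1]
    have h3 : f ≫ Cofan.IsColimit.desc hcW (fun i => x (pullback.snd (s i) g) (hmem i)) =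
        pullback.lift m f hm.symm ≫ x (pullback.snd (s i) g) (hmem i) := by
      conv_lhs => rw [← hl]
      rw [Category.assoc]
      congr 1
      exact Cofan.IsColimit.fac hcW _ i
    exact h3
  · intro d hd
    apply Cofan.IsColimit.hom_ext hcW
    intro i
    rw [Cofan.IsColimit.fac]
    exact hd _ (hmem i)

variable (hc0 : IsColimit (Cofan.mk X s)) (hdis : CoproductDisjoint Y)
  (huniv : IsUniversalColimit (Cofan.mk X s))

include hc0 hdis huniv

/-- Strictness: any object over a pairwise intersection is initial. -/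
theorem isInitial_of_hom_to_pullback {i j : ι} (hij : i ≠ j) {W : C}
    (g : W ⟶ pullback (s i) (s j)) : Nonempty (IsInitial W) := by
  classical
  have hmi : Mono (s i) := hdis.mono_inj hc0 i
  have hmj : Mono (s j) := hdis.mono_inj hc0 j
  have hP' : Nonempty (IsInitial (pullback (s i) (s j))) :=
    hdis.nonempty_isInitial_of_ne hc0 hij
      (PullbackCone.mk (pullback.fst (s i) (s j)) (pullback.snd (s i) (s j)) pullback.condition :
        PullbackCone (s i) (s j))
      (pullbackIsPullback (s i) (s j))
  obtain ⟨hP⟩ := hP'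
  obtain ⟨hcW⟩ := nonempty_isColimit_pullback_cofan Y s huniv
    ((g ≫ pullback.fst (s i) (s j)) ≫ s i)
  have hi : IsIso (pullback.snd (s i) ((g ≫ pullback.fst (s i) (s j)) ≫ s i)) := inferInstance
  have hj : IsIso (pullback.snd (s j) ((g ≫ pullback.fst (s i) (s j)) ≫ s i)) := by
    have e : (g ≫ pullback.fst (s i) (s j)) ≫ s i = (g ≫ pullback.snd (s i) (s j)) ≫ s j := by
      rw [Category.assoc, Category.assoc, pullback.condition]
    rw [e]
    infer_instance
  refine ⟨IsInitial.ofUniqueHom (fun Z => g ≫ hP.to Z) (fun Z a => ?_)⟩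
  let t : ∀ k, pullback (s k) ((g ≫ pullback.fst (s i) (s j)) ≫ s i) ⟶ Z := fun k =>
    if k = j then pullback.snd (s k) _ ≫ (g ≫ hP.to Z) else pullback.snd (s k) _ ≫ a
  have h1 := Cofan.IsColimit.fac hcW t i
  have h2 := Cofan.IsColimit.fac hcW t j
  simp only [t, if_neg hij, if_true, cofan_mk_inj] at h1 h2
  have h3 := (cancel_epi _).1 h1
  have h4 := (cancel_epi _).1 h2
  exact h3.symm.trans h4

/-- The empty sieve covers a pairwise intersection for the canonical topology. -/
theorem bot_mem_canonical_pullback {i j : ι} (hij : i ≠ j) :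
    (⊥ : Sieve (pullback (s i) (s j))) ∈ Sheaf.canonicalTopology C (pullback (s i) (s j)) := by
  apply Sheaf.mem_finestTopology_of_forall_isSheafFor
  rintro P ⟨Z, rfl⟩ W g
  obtain ⟨hW⟩ := isInitial_of_hom_to_pullback Y s hc0 hdis huniv hij g
  intro x _
  refine ⟨hW.to Z, ?_, fun d _ => hW.hom_ext _ _⟩
  intro V f hf
  exact hf.elim

/-- S6143, the implication from the site to the topos. -/
theorem isColimit_eps_of_cofan :
    Nonempty (IsColimit (Cofan.mk (eps (Sheaf.canonicalTopology C) X)
      (fun i => epsMap (Sheaf.canonicalTopology C) (s i)))) := by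
  have hjs := jsurj_epsMap_of_mem Y s (ofArrows_mem_canonical Y s huniv)
  refine isColimit_cofan_of_jsurj_mono_disjoint _ hjs (fun i => ?_) (fun i j hij P p q hpq => ?_)
  · have hmi : Mono (s i) := hdis.mono_inj hc0 i
    have hk := isPullback_epsMap (J := Sheaf.canonicalTopology C) (IsKernelPair.id_of_mono (s i))
    have hid : IsIso (epsMap (Sheaf.canonicalTopology C) (𝟙 (Y i))) := by
      have : epsMap (Sheaf.canonicalTopology C) (𝟙 (Y i)) = 𝟙 _ :=
        (epsF (Sheaf.canonicalTopology C)).map_id (Y i)
      rw [this]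
      infer_instance
    exact IsKernelPair.mono_of_isIso_fst hk
  · have hpb := isPullback_epsMap (J := Sheaf.canonicalTopology C)
      (IsPullback.of_hasPullback (s i) (s j))
    have hbot := bot_mem_canonical_pullback Y s hc0 hdis huniv hij
    have hje : JSurj (fun e : PEmpty.{1} => (e.elim :
        eps (Sheaf.canonicalTopology C) (pullback (s i) (s j)) ⟶
          eps (Sheaf.canonicalTopology C) (pullback (s i) (s j)))) := by
      have := jsurj_epsMap_of_mem (J := Sheaf.canonicalTopology C) (ι := PEmpty.{1})
        (X := pullback (s i) (s j)) (fun e => e.elim) (fun e => e.elim) (by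
          convert hbot
          ext V f
          simp only [Sieve.bot_apply, iff_false]
          rintro ⟨W, h, k, ⟨e⟩, -⟩
          exact e.elim)
      intro U x
      obtain ⟨S, hS, hx⟩ := this U x
      exact ⟨S, hS, fun V f hf => by
        obtain ⟨e, -, -⟩ := hx f hf
        exact e.elim⟩
    obtain ⟨hI⟩ := isInitial_of_forall_hom_eq (fun Z a b => hje.jepi a b (fun e => e.elim))
    have hiso := hI.isIso_to (hpb.lift p q hpq)
    exact ⟨hI.ofIso (@asIso _ _ _ _ _ hiso).symm⟩

end

end Groth.Agent.Lib.Helper14.Topos
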