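import Groth.Agent.Lib.Helper14.Topos18

/-!
# Coproducts and the canonical topology, converse direction (helper14)
-/

set_option autoImplicit false

universe u w

open CategoryTheory CategoryTheory.Limits Opposite

namespace Groth.Agent.Lib.Helper14.Topos

open ToposFin Groth.Agent.Lib.helper23.QCHom

variable {C : Type u} [SmallCategory C]

section

variable {X : C} {ι : Type u} (Y : ι → C) (s : ∀ i, Y i ⟶ X)
  [∀ (i : ι) (Z : C) (g : Z ⟶ X), HasPullback (s i) g]

/-- S6143, the implication from the topos to the site. -/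
theorem cofan_of_isColimit_eps
    (h : IsColimit (Cofan.mk (eps (Sheaf.canonicalTopology C) X)
      (fun i => epsMap (Sheaf.canonicalTopology C) (s i)))) :
    Nonempty (IsColimit (Cofan.mk X s)) ∧ CoproductDisjoint Y ∧
      IsUniversalColimit (Cofan.mk X s) := by
  let G := epsF (Sheaf.canonicalTopology C)
  have hmap : IsColimit (G.mapCocone (Cofan.mk X s)) :=
    (isColimitMapCoconeCofanMkEquiv G Y s).symm h
  have hc0 : IsColimit (Cofan.mk X s) := isColimitOfReflects G hmap
  have hvk := Groth.Agent.Lib.helper5.SheafVK.isVanKampenColimit_discrete_sheaf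
    (Sheaf.canonicalTopology C) _ hmap
  have huniv : IsUniversalColimit (Cofan.mk X s) :=
    IsUniversalColimit.of_mapCocone G hvk.isUniversal
  refine ⟨⟨hc0⟩, ?_, huniv⟩
  have hm : ∀ i, Mono ((Cofan.mk X s).inj i) := by
    intro i
    have : Mono (G.map (s i)) := cofan_mono _ h i
    exact G.mono_of_mono_map this
  refine CoproductDisjoint.of_cofan hc0
    (fun {i j} _ => (PullbackCone.mk (pullback.fst (s i) (s j)) (pullback.snd (s i) (s j))
      pullback.condition : PullbackCone (s i) (s j)))
    (fun {i j} _ => pullbackIsPullback (s i) (s j)) (fun {i j} hij => ?_)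
  have hI : Nonempty (IsInitial (G.obj (pullback (s i) (s j)))) :=
    isInitial_of_cofan_ne _ h hij (G.map (pullback.fst (s i) (s j)))
      (G.map (pullback.snd (s i) (s j))) (by
        change G.map _ ≫ G.map (s i) = G.map _ ≫ G.map (s j)
        rw [← G.map_comp, pullback.condition, G.map_comp])
  exact IsInitial.isInitialOfObj G _ hI.some

/-- S6143. -/
theorem isColimit_cofan_canonical_iff :
    Nonempty (IsColimit (Cofan.mk
        ((presheafToSheaf (Sheaf.canonicalTopology C) (Type u)).obj (yoneda.obj X))
        (fun i => (presheafToSheaf (Sheaf.canonicalTopology C) (Type u)).map (yoneda.map (s i))))) ↔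
      (Nonempty (IsColimit (Cofan.mk X s)) ∧ CoproductDisjoint Y ∧
        IsUniversalColimit (Cofan.mk X s)) :=
  ⟨fun ⟨h⟩ => cofan_of_isColimit_eps Y s h,
    fun ⟨⟨hc0⟩, hdis, huniv⟩ => isColimit_eps_of_cofan Y s hc0 hdis huniv⟩

end

end Groth.Agent.Lib.Helper14.Topos
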