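import Groth.Agent.Lib.Helper14.Topos1
import Groth.Agent.Lib.Helper23.QCHom

/-!
# Quasi-compact objects via jointly surjective families (helper14)
-/

set_option autoImplicit false

universe u w

open CategoryTheory CategoryTheory.Limits Opposite

namespace Groth.Agent.Lib.Helper14.Topos

open ToposFin

variable {C : Type u} [SmallCategory C] {J : GrothendieckTopology C}

theorem isQC_iff (X : Sh J) :
    IsQC X ↔ ∀ (ι : Type u) (F : ι → Sh J) (π : ∀ i, F i ⟶ X), JSurj π →
      ∃ s : Finset ι, JSurj (fun i : s => π i) := by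
  constructor
  · intro h ι F π hπ
    obtain ⟨s, hs⟩ := h ι F π (epi_sigmaDesc_iff_jsurj.2 hπ)
    exact ⟨s, epi_sigmaDesc_iff_jsurj.1 hs⟩
  · intro h ι F π hπ
    obtain ⟨s, hs⟩ := h ι F π (epi_sigmaDesc_iff_jsurj.1 hπ)
    exact ⟨s, epi_sigmaDesc_iff_jsurj.2 hs⟩

/-- A finite jointly surjective family with quasi-compact sources has quasi-compact target. -/
theorem isQC_of_jsurj_finite {κ : Type w} [Finite κ] {X : Sh J} (F : κ → Sh J)
    (π : ∀ k, F k ⟶ X) (hπ : JSurj π) (hF : ∀ k, IsQC (F k)) : IsQC X := by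
  classical
  have := Fintype.ofFinite κ
  rw [isQC_iff]
  intro ι G ρ hρ
  have h1 : ∀ k, ∃ s : Finset ι, JSurj (fun i : s => pullback.snd (ρ i) (π k)) := by
    intro k
    have hq : JSurj (fun i => pullback.snd (ρ i) (π k)) :=
      hρ.base_change (π k) (fun i => pullback.fst (ρ i) (π k)) _
        (fun i => IsPullback.of_hasPullback (ρ i) (π k))
    exact (isQC_iff (F k)).1 (hF k) ι _ _ hq
  choose s hs using h1
  refine ⟨Finset.univ.biUnion s, ?_⟩
  have hcomp := hπ.comp (fun k (i : s k) => pullback.snd (ρ i) (π k)) hs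
  refine hcomp.of_refine _ ?_
  rintro ⟨k, i, hi⟩
  refine ⟨⟨i, Finset.mem_biUnion.2 ⟨k, Finset.mem_univ k, hi⟩⟩, pullback.fst (ρ i) (π k), ?_⟩
  exact pullback.condition

/-- The image of a quasi-compact object under an epimorphism is quasi-compact. -/
theorem isQC_of_epi {X Y : Sh J} (f : X ⟶ Y) [Epi f] (hX : IsQC X) : IsQC Y :=
  isQC_of_jsurj_finite (fun _ : PUnit.{1} => X) (fun _ => f) ((epi_iff_jsurj f).1 inferInstance)
    (fun _ => hX)

end Groth.Agent.Lib.Helper14.Topos
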