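import Groth.Agent.Lib.Helper14.Topos19
import Groth.Agent.Lib.Helper14.Topos11
import Mathlib.CategoryTheory.Sites.EffectiveEpimorphic
import Mathlib.CategoryTheory.Limits.Preserves.Shapes.Equalizers

/-!
# Equivalence relations and the canonical topology (helper14)
-/

set_option autoImplicit false

universe u w

open CategoryTheory CategoryTheory.Limits Opposite

namespace Groth.Agent.Lib.Helper14.Topos

open ToposFin Groth.Agent.Lib.helper23.QCHom

section General

variable {D : Type*} [Category D]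

/-- The coequalizer of a reflexive pair is a pushout. -/
theorem isPushout_of_isColimit_cofork {R A B : D} {p₁ p₂ : R ⟶ A} {π : A ⟶ B}
    (w : p₁ ≫ π = p₂ ≫ π) (h : IsColimit (Cofork.ofπ π w)) (δ : A ⟶ R) (h1 : δ ≫ p₁ = 𝟙 A)
    (h2 : δ ≫ p₂ = 𝟙 A) : IsPushout p₁ p₂ π π := by
  have hinl : ∀ s : PushoutCocone p₁ p₂, s.inl = s.inr := by
    intro s
    calc s.inl = δ ≫ p₁ ≫ s.inl := by rw [← Category.assoc, h1, Category.id_comp]
      _ = δ ≫ p₂ ≫ s.inr := by rw [s.condition]
      _ = s.inr := by rw [← Category.assoc, h2, Category.id_comp]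
  have hcoeq : ∀ s : PushoutCocone p₁ p₂, p₁ ≫ s.inl = p₂ ≫ s.inl := by
    intro s
    refine s.condition.trans ?_
    rw [← hinl s]
  exact ⟨⟨w⟩, ⟨PushoutCocone.IsColimit.mk _
    (fun s => (Cofork.IsColimit.desc' h s.inl (hcoeq s)).1)
    (fun s => (Cofork.IsColimit.desc' h s.inl (hcoeq s)).2)
    (fun s => ((Cofork.IsColimit.desc' h s.inl (hcoeq s)).2).trans (hinl s))
    (fun s m hm _ => Cofork.IsColimit.hom_ext h
      (hm.trans (Cofork.IsColimit.desc' h s.inl (hcoeq s)).2.symm))⟩⟩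

/-- A pushout square with equal legs is a coequalizer. -/
noncomputable def isColimitCoforkOfIsPushout {R A B : D} {p₁ p₂ : R ⟶ A} {π : A ⟶ B}
    (h : IsPushout p₁ p₂ π π) : IsColimit (Cofork.ofπ π h.w) :=
  Cofork.IsColimit.mk' _ (fun s =>
    ⟨h.desc s.π s.π s.condition, h.inl_desc _ _ _, fun {m} hm =>
      h.hom_ext (hm.trans (h.inl_desc _ _ _).symm) (hm.trans (h.inr_desc _ _ _).symm)⟩)

end General

variable {C : Type u} [SmallCategory C]

section Sh

variable {J : GrothendieckTopology C}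

/-- An epimorphism of sheaves is the coequalizer of any kernel pair. -/
theorem isColimit_cofork_of_epi_of_isPullback {R A B : Sh J} {p₁ p₂ : R ⟶ A} {π : A ⟶ B} [Epi π]
    (hpb : IsPullback p₁ p₂ π π) : Nonempty (IsColimit (Cofork.ofπ π hpb.w)) := by
  refine ⟨Cofork.IsColimit.mk' _ (fun s => ?_)⟩
  have h : pullback.fst π π ≫ s.π = pullback.snd π π ≫ s.π := by
    rw [← hpb.isoPullback_inv_fst, ← hpb.isoPullback_inv_snd, Category.assoc, Category.assoc,
      s.condition]
  have hex := exists_desc_of_epi π s.π h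
  exact ⟨Classical.choose hex, Classical.choose_spec hex, fun {m} hm => by
    rw [← cancel_epi π]
    exact hm.trans (Classical.choose_spec hex).symm⟩

theorem epsMap_comp {U V W : C} (a : U ⟶ V) (b : V ⟶ W) :
    epsMap J (a ≫ b) = epsMap J a ≫ epsMap J b := (epsF J).map_comp a b

/-- The canonical functor preserves equivalence relations. -/
theorem isEquivRel_epsMap [HasPullbacks C] [J.Subcanonical] {R X : C} (p₁ p₂ : R ⟶ X)
    (hR : SGA4.IsEquivRel p₁ p₂) : SGA4.IsEquivRel (epsMap J p₁) (epsMap J p₂) := by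
  intro T
  constructor
  · intro f f' hff
    simp only [Prod.mk.injEq] at hff
    ext U t
    obtain ⟨r, hr⟩ := (secOf_bijective J U.unop R).2 (f.hom.app U t)
    obtain ⟨r', hr'⟩ := (secOf_bijective J U.unop R).2 (f'.hom.app U t)
    have h1 := sec_congr hff.1 U t
    have h2 := sec_congr hff.2 U t
    rw [sec_comp, sec_comp] at h1 h2
    change _ = f'.hom.app U t
    rw [← hr'] at h1 h2 ⊢
    change f.hom.app U t = _
    rw [← hr] at h1 h2 ⊢
    rw [epsMap_secOf, epsMap_secOf] at h1 h2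
    have e1 := (secOf_bijective J U.unop X).1 h1
    have e2 := (secOf_bijective J U.unop X).1 h2
    have := (hR U.unop).1 (a₁ := r) (a₂ := r') (by simp only [e1, e2])
    rw [this]
  · obtain ⟨δ, hδ1, hδ2⟩ := (hR X).2.refl (𝟙 X)
    obtain ⟨σ, hσ1, hσ2⟩ := (hR R).2.symm ⟨𝟙 R, Category.id_comp p₁, Category.id_comp p₂⟩
    obtain ⟨τ, hτ1, hτ2⟩ := (hR (pullback p₂ p₁)).2.trans
      ⟨pullback.fst p₂ p₁, rfl, rfl⟩ ⟨pullback.snd p₂ p₁, pullback.condition.symm, rfl⟩
    have hpbG := isPullback_epsMap (J := J) (IsPullback.of_hasPullback p₂ p₁)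
    refine ⟨fun a => ⟨a ≫ epsMap J δ, ?_, ?_⟩, ?_, ?_⟩
    · rw [Category.assoc, ← epsMap_comp, hδ1]
      exact (congrArg (a ≫ ·) ((epsF J).map_id X)).trans (Category.comp_id a)
    · rw [Category.assoc, ← epsMap_comp, hδ2]
      exact (congrArg (a ≫ ·) ((epsF J).map_id X)).trans (Category.comp_id a)
    · rintro a b ⟨f, h1, h2⟩
      refine ⟨f ≫ epsMap J σ, ?_, ?_⟩
      · rw [Category.assoc, ← epsMap_comp, hσ1, h2]
      · rw [Category.assoc, ← epsMap_comp, hσ2, h1]
    · rintro a b c ⟨f, h1, h2⟩ ⟨g, h3, h4⟩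
      refine ⟨hpbG.lift f g (h2.trans h3.symm) ≫ epsMap J τ, ?_, ?_⟩
      · rw [Category.assoc, ← epsMap_comp, hτ1, epsMap_comp, ← Category.assoc, hpbG.lift_fst, h1]
      · rw [Category.assoc, ← epsMap_comp, hτ2, epsMap_comp, ← Category.assoc, hpbG.lift_snd, h4]

end Sh

/-- A morphism generating a canonical covering is an effective epimorphism. -/
theorem effectiveEpi_of_mem_canonical {V W : C} (q : V ⟶ W)
    (h : Sieve.ofArrows (fun _ : PUnit.{1} => V) (fun _ => q) ∈ Sheaf.canonicalTopology C W) :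
    EffectiveEpi q := by
  rw [← Sieve.effectiveEpimorphic_singleton]
  change (Sieve.generate (Presieve.singleton q)).EffectiveEpimorphic
  rw [Sieve.EffectiveEpimorphic.iff_forall_isSheafFor_yoneda]
  intro Z
  have := Sheaf.isSheaf_yoneda_obj Z _ h
  rwa [Sieve.ofArrows, Presieve.ofArrows_pUnit] at this

/-- A universally effective epimorphism generates a canonical covering. -/
theorem mem_canonical_of_universally_effectiveEpi [HasPullbacks C] {X B : C} (π : X ⟶ B)
    (h : ∀ (B' : C) (g : B' ⟶ B), EffectiveEpi (pullback.snd π g)) :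
    Sieve.ofArrows (fun _ : PUnit.{1} => X) (fun _ => π) ∈ Sheaf.canonicalTopology C B := by
  rw [Sieve.ofArrows, Presieve.ofArrows_pUnit]
  apply Sheaf.mem_finestTopology_of_forall_isSheafFor
  rintro P ⟨Z, rfl⟩ W g
  rw [← Sieve.pullbackArrows_comm, Presieve.pullback_singleton]
  have h1 := (Sieve.effectiveEpimorphic_singleton (pullback.snd π g)).2 (h W g)
  exact (Sieve.EffectiveEpimorphic.iff_forall_isSheafFor_yoneda _).1 h1 Z

end Groth.Agent.Lib.Helper14.Topos
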