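import Groth.Agent.Lib.Helper14.Topos20

/-!
# Effective universal equivalence relations and the canonical topology (helper14)
-/

set_option autoImplicit false

universe u w

open CategoryTheory CategoryTheory.Limits Opposite

namespace Groth.Agent.Lib.Helper14.Topos

open ToposFin Groth.Agent.Lib.helper23.QCHom

variable {C : Type u} [SmallCategory C] [HasPullbacks C] {R X : C} (p₁ p₂ : R ⟶ X)

/-- S6140, from the site to the topos. -/
theorem isColimit_mapCocone_of_isEffectiveUniversalEquivRel (c : Cofork p₁ p₂) (hc : IsColimit c)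
    (h : SGA4.IsEffectiveUniversalEquivRel p₁ p₂) :
    Nonempty (IsColimit ((epsF (Sheaf.canonicalTopology C)).mapCocone c)) := by
  obtain ⟨B, π, hpb, hpo, heff⟩ := h
  let G := epsF (Sheaf.canonicalTopology C)
  have hB : IsColimit (Cofork.ofπ π hpo.w) := isColimitCoforkOfIsPushout hpo
  have hcov := mem_canonical_of_universally_effectiveEpi π heff
  have hjs := jsurj_epsMap_of_mem (J := Sheaf.canonicalTopology C) _ _ hcov
  have hepi : Epi (G.map π) := (epi_iff_jsurj _).2 hjs
  have hpbG : IsPullback (G.map p₁) (G.map p₂) (G.map π) (G.map π) :=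
    isPullback_epsMap (J := Sheaf.canonicalTopology C) hpb
  obtain ⟨hcolG⟩ := isColimit_cofork_of_epi_of_isPullback hpbG
  have h1 : IsColimit (G.mapCocone (Cofork.ofπ π hpo.w)) :=
    (isColimitMapCoconeCoforkEquiv G hpo.w).symm hcolG
  exact ⟨IsColimit.ofIsoColimit h1
    ((Cocones.functoriality _ G).mapIso (IsColimit.uniqueUpToIso hB hc))⟩

/-- S6140, from the topos to the site. -/
theorem isEffectiveUniversalEquivRel_of_isColimit_mapCocone (hR : SGA4.IsEquivRel p₁ p₂)
    (c : Cofork p₁ p₂) (hc : IsColimit c)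
    (hG : IsColimit ((epsF (Sheaf.canonicalTopology C)).mapCocone c)) :
    SGA4.IsEffectiveUniversalEquivRel p₁ p₂ := by
  let G := epsF (Sheaf.canonicalTopology C)
  have hc' : IsColimit (Cofork.ofπ c.π c.condition) :=
    IsColimit.ofIsoColimit hc (Cofork.isoCoforkOfπ c)
  have hG' : IsColimit (G.mapCocone (Cofork.ofπ c.π c.condition)) :=
    IsColimit.ofIsoColimit hG ((Cocones.functoriality _ G).mapIso (Cofork.isoCoforkOfπ c))
  have hcoeq := isColimitMapCoconeCoforkEquiv G c.condition hG'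
  have hepi : Epi (G.map c.π) := epi_of_isColimit_cofork hcoeq
  have hjs : JSurj (fun _ : PUnit.{1} => G.map c.π) := (epi_iff_jsurj _).1 hepi
  have hRG := isEquivRel_epsMap (J := Sheaf.canonicalTopology C) p₁ p₂ hR
  refine ⟨c.pt, c.π, ?_, ?_, ?_⟩
  · -- kernel pair
    refine IsPullback.of_map G c.condition ?_
    have hq := isPullback_quotπ (G.map p₁) (G.map p₂) hRG
    obtain ⟨d', hd'⟩ := quotπ_desc (G.map p₁) (G.map p₂) (G.map c.π)
      (by rw [← G.map_comp, c.condition, G.map_comp])
    obtain ⟨d, hd⟩ : {d : G.obj c.pt ⟶ quotSh (G.map p₁) (G.map p₂) //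
        G.map c.π ≫ d = quotπ (G.map p₁) (G.map p₂)} :=
      Cofork.IsColimit.desc' hcoeq (quotπ (G.map p₁) (G.map p₂)) (quotπ_condition _ _)
    have e1 : d' ≫ d = 𝟙 (quotSh (G.map p₁) (G.map p₂)) := by
      rw [← cancel_epi (quotπ (G.map p₁) (G.map p₂)), ← Category.assoc, hd', hd, Category.comp_id]
    have e2 : d ≫ d' = 𝟙 (G.obj c.pt) := by
      rw [← cancel_epi (G.map c.π), ← Category.assoc, hd, hd', Category.comp_id]
    exact hq.of_iso (Iso.refl _) (Iso.refl _) (Iso.refl _) ⟨d', d, e1, e2⟩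
      (by simp) (by simp) (by simpa using hd') (by simpa using hd')
  · obtain ⟨δ, hδ1, hδ2⟩ := (hR X).2.refl (𝟙 X)
    exact isPushout_of_isColimit_cofork c.condition hc' δ hδ1 hδ2
  · intro B' g
    have hpbG := isPullback_epsMap (J := Sheaf.canonicalTopology C)
      (IsPullback.of_hasPullback c.π g)
    have hbc := hjs.base_change (G.map g) (fun _ => G.map (pullback.fst c.π g))
      (fun _ => G.map (pullback.snd c.π g)) (fun _ => hpbG)
    exact effectiveEpi_of_mem_canonical _ (mem_of_jsurj_epsMap _ _ hbc)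

/-- S6140. -/
theorem isEffectiveUniversalEquivRel_iff (hR : SGA4.IsEquivRel p₁ p₂) (c : Cofork p₁ p₂)
    (hc : IsColimit c) :
    SGA4.IsEffectiveUniversalEquivRel p₁ p₂ ↔
      Nonempty (IsColimit
        ((yoneda ⋙ presheafToSheaf (Sheaf.canonicalTopology C) (Type u)).mapCocone c)) :=
  ⟨fun h => isColimit_mapCocone_of_isEffectiveUniversalEquivRel p₁ p₂ c hc h,
    fun ⟨h⟩ => isEffectiveUniversalEquivRel_of_isColimit_mapCocone p₁ p₂ hR c hc h⟩

end Groth.Agent.Lib.Helper14.Topos
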