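import Groth.Agent.Lib.Helper14.Topos21
import Mathlib.CategoryTheory.Adhesive.Basic

/-!
# Open subtopos and its closed complement: basics (helper14)
-/

set_option autoImplicit false

universe u w

open CategoryTheory CategoryTheory.Limits Opposite

namespace Groth.Agent.Lib.Helper14.Topos

open ToposFin Groth.Agent.Lib.helper23.QCHom

variable {C : Type u} [SmallCategory C] {J : GrothendieckTopology C}

/-- The category of sheaves of sets on a small site is adhesive. -/
instance adhesive_sheaf : Adhesive (Sheaf J (Type u)) :=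
  adhesive_of_reflective (sheafificationAdjunction J (Type u))

section

variable {E : Type w} [Category.{u} E] [HasTerminal E] {U : E}

/-- Two maps into a subterminal object agree. -/
theorem isOpen_hom_ext (hU : SGA4.IsOpen U) {T : E} (a b : T ⟶ U) : a = b :=
  (cancel_mono (terminal.from U)).1 (terminal.hom_ext _ _)

variable [HasBinaryProducts E]

theorem mono_prod_snd (hU : SGA4.IsOpen U) (X : E) : Mono (prod.snd : U ⨯ X ⟶ X) :=
  ⟨fun _ _ h => Limits.prod.hom_ext (isOpen_hom_ext hU _ _) h⟩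

/-- The square `U ⨯ X ⟶ X`, `U ⨯ X' ⟶ X'` is cartesian. -/
theorem isPullback_prod_snd (U : E) {X X' : E} (m : X ⟶ X') :
    IsPullback (prod.snd : U ⨯ X ⟶ X) (prod.map (𝟙 U) m) m (prod.snd : U ⨯ X' ⟶ X') := by
  have hb : IsPullback (prod.snd : U ⨯ X' ⟶ X') prod.fst (terminal.from X') (terminal.from U) :=
    (IsPullback.of_hasBinaryProduct' U X').flip
  have ho : IsPullback (prod.snd : U ⨯ X ⟶ X) (prod.map (𝟙 U) m ≫ prod.fst)
      (m ≫ terminal.from X') (terminal.from U) := by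
    have h1 : prod.map (𝟙 U) m ≫ (prod.fst : U ⨯ X' ⟶ U) = prod.fst := by
      rw [prod.map_fst, Category.comp_id]
    rw [h1, terminal.comp_from]
    exact (IsPullback.of_hasBinaryProduct' U X).flip
  exact IsPullback.of_bot ho (prod.map_snd _ _).symm hb

omit [HasTerminal E] in
/-- Maps from an object over `U` into an object of the closed complement are unique. -/
theorem closedCompl_hom_ext {Y : E} (hY : SGA4.closedCompl U Y) {T : E} (t : T ⟶ U)
    (a b : T ⟶ Y) : a = b := by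
  have : IsIso (prod.fst : U ⨯ Y ⟶ U) := hY
  have h : prod.lift t a = prod.lift t b := by
    rw [← cancel_mono (prod.fst : U ⨯ Y ⟶ U), prod.lift_fst, prod.lift_fst]
  have h2 : prod.lift t a ≫ (prod.snd : U ⨯ Y ⟶ Y) = prod.lift t b ≫ prod.snd := by rw [h]
  rwa [prod.lift_snd, prod.lift_snd] at h2

/-- The map from an object over `U` into an object of the closed complement. -/
noncomputable def closedComplHom {Y : E} (hY : SGA4.closedCompl U Y) {T : E} (t : T ⟶ U) : T ⟶ Y :=
  haveI : IsIso (prod.fst : U ⨯ Y ⟶ U) := hY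
  t ≫ inv (prod.fst : U ⨯ Y ⟶ U) ≫ prod.snd

omit [HasTerminal E] in
theorem closedCompl_of_unique {Y : E} (y : U ⟶ Y) (huniq : ∀ a b : U ⨯ Y ⟶ Y, a = b) :
    SGA4.closedCompl U Y := by
  change IsIso (prod.fst : U ⨯ Y ⟶ U)
  refine ⟨prod.lift (𝟙 U) y, ?_, prod.lift_fst _ _⟩
  apply Limits.prod.hom_ext
  · rw [Category.assoc, prod.lift_fst, Category.comp_id, Category.id_comp]
  · exact huniq _ _

end

section

variable (U : Sheaf J (Type u)) (X : Sheaf J (Type u))

/-- The closed-complement reflection of `X`: the pushout `U ⨿_{U × X} X`. -/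
noncomputable abbrev cu : Sheaf J (Type u) :=
  pushout (prod.fst : U ⨯ X ⟶ U) (prod.snd : U ⨯ X ⟶ X)

variable {U X}

/-- Every map from an object over `U` to `U ⨿_{U × X} X` factors through `U`. -/
theorem cu_hom_eq (hU : SGA4.IsOpen U) {T : Sheaf J (Type u)} (t : T ⟶ U) (a : T ⟶ cu U X) :
    a = t ≫ pushout.inl _ _ := by
  have := mono_prod_snd hU X
  have H : IsPushout (prod.snd : U ⨯ X ⟶ X) (prod.fst : U ⨯ X ⟶ U)
      (pushout.inr _ _) (pushout.inl _ _) := (IsPushout.of_hasPushout _ _).flip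
  refine Adhesive.isPushout_isPullback_isPullback_hom_ext H
    (IsPullback.of_hasPullback a (pushout.inr _ _))
    (IsPullback.of_hasPullback a (pushout.inl _ _)) ?_ ?_
  · rw [pullback.condition]
    have h1 : pullback.snd a (pushout.inr (prod.fst : U ⨯ X ⟶ U) (prod.snd : U ⨯ X ⟶ X)) =
        prod.lift (pullback.fst a (pushout.inr _ _) ≫ t) (pullback.snd a (pushout.inr _ _)) ≫
          prod.snd := (prod.lift_snd _ _).symm
    rw [h1, Category.assoc, ← pushout.condition, ← Category.assoc, prod.lift_fst, Category.assoc]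
  · rw [pullback.condition]
    rw [isOpen_hom_ext hU (pullback.snd a (pushout.inl _ _)) (pullback.fst a (pushout.inl _ _) ≫ t),
      Category.assoc]

theorem cu_hom_ext (hU : SGA4.IsOpen U) {T : Sheaf J (Type u)} (t : T ⟶ U) (a b : T ⟶ cu U X) :
    a = b := by
  rw [cu_hom_eq hU t a, cu_hom_eq hU t b]

theorem closedCompl_cu (hU : SGA4.IsOpen U) : SGA4.closedCompl U (cu U X) :=
  closedCompl_of_unique (pushout.inl _ _) (fun a b => cu_hom_ext hU prod.fst a b)

/-- S12107, first half. -/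
theorem isPullback_cu_of_isIso (hU : SGA4.IsOpen U) {X X' : Sheaf J (Type u)} (m : X ⟶ X')
    (k : cu U X ⟶ cu U X')
    (hk₁ : pushout.inl (prod.fst : U ⨯ X ⟶ U) (prod.snd : U ⨯ X ⟶ X) ≫ k =
      pushout.inl (prod.fst : U ⨯ X' ⟶ U) (prod.snd : U ⨯ X' ⟶ X'))
    (hk₂ : pushout.inr (prod.fst : U ⨯ X ⟶ U) (prod.snd : U ⨯ X ⟶ X) ≫ k =
      m ≫ pushout.inr (prod.fst : U ⨯ X' ⟶ U) (prod.snd : U ⨯ X' ⟶ X'))
    (hm : IsIso (prod.map (𝟙 U) m)) :
    IsPullback m (pushout.inr (prod.fst : U ⨯ X ⟶ U) (prod.snd : U ⨯ X ⟶ X))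
        (pushout.inr (prod.fst : U ⨯ X' ⟶ U) (prod.snd : U ⨯ X' ⟶ X')) k := by
  have := mono_prod_snd hU X'
  have H : IsPushout (prod.fst : U ⨯ X' ⟶ U) (prod.snd : U ⨯ X' ⟶ X')
      (pushout.inl _ _) (pushout.inr _ _) := IsPushout.of_hasPushout _ _
  have hvk := Adhesive.van_kampen' H
  have h1 : IsPullback (prod.fst : U ⨯ X ⟶ U) (prod.map (𝟙 U) m) (𝟙 U) (prod.fst : U ⨯ X' ⟶ U) :=
    IsPullback.of_vert_isIso ⟨by rw [prod.map_fst]⟩
  have h2 := isPullback_prod_snd U m
  have h3 := (hvk (prod.fst : U ⨯ X ⟶ U) (prod.snd : U ⨯ X ⟶ X) (pushout.inl _ _) (pushout.inr _ _)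
    (prod.map (𝟙 U) m) (𝟙 U) m k h1 h2 ⟨by rw [hk₁, Category.id_comp]⟩ ⟨hk₂⟩
    ⟨pushout.condition⟩).1 (IsPushout.of_hasPushout _ _)
  exact h3.2.flip

/-- S12107, second half. -/
theorem isIso_of_isPullback_cu {X X' : Sheaf J (Type u)} (m : X ⟶ X')
    (k : cu U X ⟶ cu U X')
    (hk₁ : pushout.inl (prod.fst : U ⨯ X ⟶ U) (prod.snd : U ⨯ X ⟶ X) ≫ k =
      pushout.inl (prod.fst : U ⨯ X' ⟶ U) (prod.snd : U ⨯ X' ⟶ X'))
    (h : IsPullback m (pushout.inr (prod.fst : U ⨯ X ⟶ U) (prod.snd : U ⨯ X ⟶ X))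
        (pushout.inr (prod.fst : U ⨯ X' ⟶ U) (prod.snd : U ⨯ X' ⟶ X')) k) :
    IsIso (prod.map (𝟙 U) m) := by
  have w : (prod.snd : U ⨯ X' ⟶ X') ≫ pushout.inr (prod.fst : U ⨯ X' ⟶ U) (prod.snd : U ⨯ X' ⟶ X') =
      ((prod.fst : U ⨯ X' ⟶ U) ≫ pushout.inl (prod.fst : U ⨯ X ⟶ U) (prod.snd : U ⨯ X ⟶ X)) ≫ k := by
    rw [Category.assoc, hk₁, pushout.condition]
  refine ⟨prod.lift prod.fst (h.lift prod.snd (prod.fst ≫ pushout.inl _ _) w), ?_, ?_⟩
  · apply Limits.prod.hom_ext
    · rw [Category.assoc, prod.lift_fst, prod.map_fst, Category.comp_id, Category.id_comp]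
    · rw [Category.assoc, prod.lift_snd, Category.id_comp]
      apply h.hom_ext
      · rw [Category.assoc, h.lift_fst, prod.map_snd]
      · rw [Category.assoc, h.lift_snd, ← Category.assoc, prod.map_fst, Category.comp_id,
          pushout.condition]
  · apply Limits.prod.hom_ext
    · rw [Category.assoc, prod.map_fst, Category.comp_id, prod.lift_fst, Category.id_comp]
    · rw [Category.assoc, prod.map_snd, ← Category.assoc, prod.lift_snd, h.lift_fst,
        Category.id_comp]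

/-- The map induced on closed-complement reflections. -/
noncomputable def cuMap (U : Sheaf J (Type u)) {X X' : Sheaf J (Type u)} (m : X ⟶ X') :
    cu U X ⟶ cu U X' :=
  pushout.desc (pushout.inl _ _) (m ≫ pushout.inr _ _) (by
    have h1 : (prod.snd : U ⨯ X ⟶ X) ≫ m = prod.map (𝟙 U) m ≫ prod.snd := (prod.map_snd _ _).symm
    have h2 : (prod.fst : U ⨯ X ⟶ U) = prod.map (𝟙 U) m ≫ prod.fst := by
      rw [prod.map_fst, Category.comp_id]
    rw [← Category.assoc, h1, Category.assoc, ← pushout.condition, ← Category.assoc, ← h2])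

theorem inl_cuMap (U : Sheaf J (Type u)) {X X' : Sheaf J (Type u)} (m : X ⟶ X') :
    pushout.inl (prod.fst : U ⨯ X ⟶ U) (prod.snd : U ⨯ X ⟶ X) ≫ cuMap U m = pushout.inl _ _ :=
  pushout.inl_desc _ _ _

theorem inr_cuMap (U : Sheaf J (Type u)) {X X' : Sheaf J (Type u)} (m : X ⟶ X') :
    pushout.inr (prod.fst : U ⨯ X ⟶ U) (prod.snd : U ⨯ X ⟶ X) ≫ cuMap U m =
      m ≫ pushout.inr _ _ :=
  pushout.inr_desc _ _ _

/-- If precomposition with `m` is bijective on maps to objects of the closed complement, then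
`cuMap U m` is an isomorphism. -/
theorem isIso_cuMap (hU : SGA4.IsOpen U) {X X' : Sheaf J (Type u)} (m : X ⟶ X')
    (hex : ∀ (Y : Sheaf J (Type u)), SGA4.closedCompl U Y → ∀ x : X ⟶ Y, ∃ n : X' ⟶ Y, m ≫ n = x)
    (huniq : ∀ (Y : Sheaf J (Type u)), SGA4.closedCompl U Y → ∀ n n' : X' ⟶ Y,
      m ≫ n = m ≫ n' → n = n') : IsIso (cuMap U m) := by
  obtain ⟨n, hn⟩ := hex (cu U X) (closedCompl_cu hU) (pushout.inr _ _)
  refine ⟨pushout.desc (pushout.inl _ _) n (cu_hom_ext hU prod.fst _ _), ?_, ?_⟩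
  · apply pushout.hom_ext
    · rw [← Category.assoc, inl_cuMap, pushout.inl_desc, Category.comp_id]
    · rw [← Category.assoc, inr_cuMap, Category.assoc, pushout.inr_desc, hn, Category.comp_id]
  · apply pushout.hom_ext
    · rw [← Category.assoc, pushout.inl_desc, inl_cuMap, Category.comp_id]
    · rw [← Category.assoc, pushout.inr_desc, Category.comp_id]
      apply huniq _ (closedCompl_cu hU)
      rw [← Category.assoc, hn, inr_cuMap]

/-- S3084 for an arbitrary reflector onto the closed complement. -/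
theorem isIso_iff_of_adj (hU : SGA4.IsOpen U)
    (L : Sheaf J (Type u) ⥤ (SGA4.closedCompl U).FullSubcategory)
    (adj : L ⊣ (SGA4.closedCompl U).ι) {X Y : Sheaf J (Type u)} (m : X ⟶ Y) :
    IsIso m ↔ IsIso ((Over.star U).map m) ∧ IsIso (L.map m) := by
  constructor
  · intro h
    exact ⟨inferInstance, inferInstance⟩
  · rintro ⟨h1, h2⟩
    have h1' : IsIso (prod.map (𝟙 U) m) := by
      have : IsIso ((Over.forget U).map ((Over.star U).map m)) := inferInstance
      exact this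
    have hk : IsIso (cuMap U m) := by
      apply isIso_cuMap hU
      · intro Z hZ x
        refine ⟨adj.homEquiv Y ⟨Z, hZ⟩ (inv (L.map m) ≫ (adj.homEquiv X ⟨Z, hZ⟩).symm x), ?_⟩
        rw [← adj.homEquiv_naturality_left, IsIso.hom_inv_id_assoc, Equiv.apply_symm_apply]
      · intro Z hZ n n' hnn
        have h3 := congrArg (adj.homEquiv X ⟨Z, hZ⟩).symm hnn
        rw [adj.homEquiv_naturality_left_symm, adj.homEquiv_naturality_left_symm,
          cancel_epi] at h3
        exact (adj.homEquiv Y ⟨Z, hZ⟩).symm.injective h3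
    exact (isPullback_cu_of_isIso hU m (cuMap U m) (inl_cuMap U m) (inr_cuMap U m)
      h1').isIso_fst_of_isIso

end

end Groth.Agent.Lib.Helper14.Topos
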