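import Groth.Agent.Lib.Helper14.Topos22

/-!
# The closed complement of an open subtopos as a category of sheaves (helper14)
-/

set_option autoImplicit false

universe u w

open CategoryTheory CategoryTheory.Limits Opposite

namespace Groth.Agent.Lib.Helper14.Topos

open ToposFin Groth.Agent.Lib.helper23.QCHom

variable {C : Type u} [SmallCategory C] {J : GrothendieckTopology C} (U : Sheaf J (Type u))

/-- The sieve of arrows whose source carries a section of `U`. -/
def openSieve (c : C) : Sieve c where
  arrows d _ := Nonempty (U.obj.obj (op d))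
  downward_closed := by
    rintro d e f ⟨s⟩ g
    exact ⟨U.obj.map g.op s⟩

/-- The closed topology attached to the open `U`: a sieve is covering when it becomes covering after
adding the arrows whose source carries a section of `U`. -/
def closedTopology : GrothendieckTopology C where
  sieves c := {S | S ⊔ openSieve U c ∈ J c}
  top_mem' c := by
    change ⊤ ⊔ openSieve U c ∈ J c
    rw [top_sup_eq]
    exact J.top_mem c
  pullback_stable' := by
    intro c d S f hS
    change S.pullback f ⊔ openSieve U d ∈ J d
    refine J.superset_covering ?_ (J.pullback_stable f hS)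
    rintro e g (hg | hg)
    · exact Or.inl hg
    · exact Or.inr hg
  transitive' := by
    intro c S hS R hR
    change R ⊔ openSieve U c ∈ J c
    refine J.transitive hS _ ?_
    rintro d f (hf | hf)
    · refine J.superset_covering ?_ (hR hf)
      rintro e g (hg | hg)
      · exact Or.inl hg
      · exact Or.inr hg
    · refine J.superset_covering ?_ (J.top_mem d)
      rintro e g -
      obtain ⟨s⟩ := hf
      exact Or.inr ⟨U.obj.map g.op s⟩

theorem mem_closedTopology {c : C} (S : Sieve c) :
    S ∈ closedTopology U c ↔ S ⊔ openSieve U c ∈ J c := Iff.rfl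

theorem le_closedTopology : J ≤ closedTopology U := by
  intro c S hS
  exact J.superset_covering le_sup_left hS

theorem bot_mem_closedTopology {c : C} (s : U.obj.obj (op c)) : ⊥ ∈ closedTopology U c := by
  rw [mem_closedTopology]
  refine J.superset_covering ?_ (J.top_mem c)
  intro d f _
  exact Or.inr ⟨U.obj.map f.op s⟩

/-- A sheaf for the closed topology has exactly one section over an object carrying a section of `U`. -/
theorem existsUnique_of_isSheaf_closed (P : Cᵒᵖ ⥤ Type u)
    (hP : Presieve.IsSheaf (closedTopology U) P) {c : C} (s : U.obj.obj (op c)) :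
    ∃ x : P.obj (op c), ∀ y : P.obj (op c), y = x := by
  have h := hP _ (bot_mem_closedTopology U s)
  let x : Presieve.FamilyOfElements P (⊥ : Sieve c).arrows := fun d f hf => False.elim hf
  have hx : x.Compatible := by
    intro d₁ d₂ e g₁ g₂ f₁ f₂ h₁ h₂ _
    exact False.elim h₁
  obtain ⟨t, -, ht⟩ := h x hx
  refine ⟨t, fun y => ht y ?_⟩
  intro d f hf
  exact False.elim hf

variable {U}

theorem closedCompl_section_ext {X : Sheaf J (Type u)} (hX : SGA4.closedCompl U X) {d : C}
    (s : U.obj.obj (op d)) (x x' : X.obj.obj (op d)) : x = x' := by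
  have e := closedCompl_hom_ext hX (secMap U s) (secMap X x) (secMap X x')
  have := sec_congr e (op d) (secOf J (𝟙 d))
  rwa [secMap_secOf_id, secMap_secOf_id] at this

theorem closedCompl_section_exists {X : Sheaf J (Type u)} (hX : SGA4.closedCompl U X) {d : C}
    (s : U.obj.obj (op d)) : Nonempty (X.obj.obj (op d)) :=
  ⟨(closedComplHom hX (secMap U s)).hom.app (op d) (secOf J (𝟙 d))⟩

theorem isSheafFor_of_closedCompl {X : Sheaf J (Type u)} (hX : SGA4.closedCompl U X) {d : C}
    (s : U.obj.obj (op d)) (T : Presieve d) : Presieve.IsSheafFor X.obj T := by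
  intro x _
  obtain ⟨x₀⟩ := closedCompl_section_exists hX s
  refine ⟨x₀, ?_, ?_⟩
  · intro e g hg
    exact closedCompl_section_ext hX (U.obj.map g.op s) _ _
  · intro y _
    exact closedCompl_section_ext hX s _ _

/-- Objects of the closed complement are sheaves for the closed topology. -/
theorem isSheaf_closed_of_closedCompl {X : Sheaf J (Type u)} (hX : SGA4.closedCompl U X) :
    Presieve.IsSheaf (closedTopology U) X.obj := by
  have hXJ : Presieve.IsSheaf J X.obj := (isSheaf_iff_isSheaf_of_type _ _).1 X.2
  intro c S hS
  rw [mem_closedTopology] at hS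
  refine Presieve.isSheafFor_trans X.obj (S ⊔ openSieve U c) S (hXJ _ hS) ?_ ?_
  · intro d f _
    exact (hXJ _ (J.pullback_stable f hS)).isSeparatedFor
  · rintro d f (hf | hf)
    · rw [Sieve.pullback_eq_top_of_mem S hf]
      rw [Sieve.arrows_top]
      exact Presieve.isSheafFor_top _
    · obtain ⟨s⟩ := hf
      exact isSheafFor_of_closedCompl hX s _

/-- Sheaves for the closed topology are objects of the closed complement. -/
theorem closedCompl_of_isSheaf_closed {X : Sheaf J (Type u)}
    (hX : Presieve.IsSheaf (closedTopology U) X.obj) : SGA4.closedCompl U X := by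
  have key : ∀ {c : C} (s : U.obj.obj (op c)) (y y' : X.obj.obj (op c)), y = y' := by
    intro c s y y'
    obtain ⟨x, hx⟩ := existsUnique_of_isSheaf_closed U X.obj hX s
    rw [hx y, hx y']
  let y : U ⟶ X :=
    ⟨{ app := fun c => ↾(fun s => (existsUnique_of_isSheaf_closed U X.obj hX (c := c.unop) s).choose)
       naturality := fun c d f => by
        ext s
        exact key (c := d.unop) (U.obj.map f s) _ _ }⟩
  refine closedCompl_of_unique y (fun a b => ?_)
  ext c t
  exact key (c := c.unop) ((prod.fst : U ⨯ X ⟶ U).hom.app c t) _ _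

variable (U)

/-- A sheaf for the closed topology, regarded as a sheaf for `J`. -/
noncomputable def closedInc : Sheaf (closedTopology U) (Type u) ⥤ Sheaf J (Type u) where
  obj Y := ⟨Y.obj, (isSheaf_iff_isSheaf_of_type _ _).2
    (Presieve.isSheaf_of_le _ (le_closedTopology U) ((isSheaf_iff_isSheaf_of_type _ _).1 Y.2))⟩
  map f := ⟨f.hom⟩

instance : PreservesFiniteLimits (closedInc U) := by
  have : PreservesFiniteLimits (closedInc U ⋙ sheafToPresheaf J (Type u)) :=
    (inferInstance : PreservesFiniteLimits (sheafToPresheaf (closedTopology U) (Type u)))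
  exact preservesFiniteLimits_of_reflects_of_preserves (closedInc U) (sheafToPresheaf J (Type u))

/-- The closed-complement reflector, as an endofunctor of the topos. -/
noncomputable def cuFunctor₀ : Sheaf J (Type u) ⥤ Sheaf J (Type u) :=
  sheafToPresheaf J (Type u) ⋙ presheafToSheaf (closedTopology U) (Type u) ⋙ closedInc U

instance : PreservesFiniteLimits (cuFunctor₀ U) := by
  unfold cuFunctor₀
  infer_instance

theorem closedCompl_cuFunctor₀ (X : Sheaf J (Type u)) :
    SGA4.closedCompl U ((cuFunctor₀ U).obj X) :=
  closedCompl_of_isSheaf_closed (X := (cuFunctor₀ U).obj X)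
    ((isSheaf_iff_isSheaf_of_type _ _).1
      ((presheafToSheaf (closedTopology U) (Type u)).obj X.obj).2)

/-- The closed-complement reflector. -/
noncomputable def cuFunctor : Sheaf J (Type u) ⥤ (SGA4.closedCompl U).FullSubcategory :=
  (SGA4.closedCompl U).lift (cuFunctor₀ U) (closedCompl_cuFunctor₀ U)

instance : PreservesFiniteLimits (cuFunctor U) := by
  have : PreservesFiniteLimits (cuFunctor U ⋙ (SGA4.closedCompl U).ι) :=
    (inferInstance : PreservesFiniteLimits (cuFunctor₀ U))
  exact preservesFiniteLimits_of_reflects_of_preserves (cuFunctor U) (SGA4.closedCompl U).ι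

/-- The reflector is left adjoint to the inclusion of the closed complement. -/
noncomputable def cuAdj : cuFunctor U ⊣ (SGA4.closedCompl U).ι :=
  Adjunction.mkOfHomEquiv
    { homEquiv := fun X Y =>
        { toFun := fun φ => ⟨toSheafify (closedTopology U) X.obj ≫ φ.hom.hom⟩
          invFun := fun ψ => ObjectProperty.homMk ⟨sheafifyLift (closedTopology U) ψ.hom
            ((isSheaf_iff_isSheaf_of_type _ _).2 (isSheaf_closed_of_closedCompl Y.property))⟩
          left_inv := fun φ => by
            apply ObjectProperty.hom_ext
            ext1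
            exact (sheafifyLift_unique _ _ _ _ rfl).symm
          right_inv := fun ψ => by
            ext1
            exact toSheafify_sheafifyLift _ _ _ }
      homEquiv_naturality_left_symm := fun {X' X Y} f g => by
        apply ObjectProperty.hom_ext
        ext1
        exact (sheafifyMap_sheafifyLift (closedTopology U) f.hom g.hom _).symm
      homEquiv_naturality_right := fun {X Y Y'} f g => by
        ext1
        exact (Category.assoc _ _ _).symm }

variable {U}

/-- For any reflector onto the closed complement, the reflection of `X` is `U ⨿_{U × X} X`. -/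
noncomputable def cuIso (hU : SGA4.IsOpen U)
    (L : Sheaf J (Type u) ⥤ (SGA4.closedCompl U).FullSubcategory)
    (adj : L ⊣ (SGA4.closedCompl U).ι) (X : Sheaf J (Type u)) :
    (SGA4.closedCompl U).ι.obj (L.obj X) ≅ cu U X where
  hom := ((adj.homEquiv X ⟨cu U X, closedCompl_cu hU⟩).symm (pushout.inr _ _)).hom
  inv := pushout.desc (closedComplHom (L.obj X).property (𝟙 U)) (adj.unit.app X)
    (closedCompl_hom_ext (L.obj X).property prod.fst _ _)
  hom_inv_id := by
    let α' : (⟨cu U X, closedCompl_cu hU⟩ : (SGA4.closedCompl U).FullSubcategory) ⟶ L.obj X :=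
      ObjectProperty.homMk (pushout.desc (closedComplHom (L.obj X).property (𝟙 U)) (adj.unit.app X)
        (closedCompl_hom_ext (L.obj X).property prod.fst _ _))
    have h : (adj.homEquiv X ⟨cu U X, closedCompl_cu hU⟩).symm (pushout.inr _ _) ≫ α' = 𝟙 (L.obj X) := by
      apply (adj.homEquiv X (L.obj X)).injective
      rw [adj.homEquiv_naturality_right, Equiv.apply_symm_apply, adj.homEquiv_unit,
        CategoryTheory.Functor.map_id]
      exact (pushout.inr_desc _ _ _).trans (Category.comp_id _).symm
    exact congrArg (fun k => k.hom) h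
  inv_hom_id := by
    apply pushout.hom_ext
    · exact cu_hom_ext hU (𝟙 U) _ _
    · rw [← Category.assoc, pushout.inr_desc, Category.comp_id]
      have := adj.homEquiv_unit (f := (adj.homEquiv X ⟨cu U X, closedCompl_cu hU⟩).symm
        (pushout.inr _ _))
      rw [Equiv.apply_symm_apply] at this
      exact this.symm

/-- S3083. -/
theorem exists_closed_reflector (hU : SGA4.IsOpen U) :
    ∃ (L : Sheaf J (Type u) ⥤ (SGA4.closedCompl U).FullSubcategory)
      (_ : L ⊣ (SGA4.closedCompl U).ι), PreservesFiniteLimits L ∧
      ∀ X : Sheaf J (Type u), Nonempty (((SGA4.closedCompl U).ι).obj (L.obj X) ≅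
        pushout (prod.fst : U ⨯ X ⟶ U) (prod.snd : U ⨯ X ⟶ X)) :=
  ⟨cuFunctor U, cuAdj U, inferInstance, fun X => ⟨cuIso hU (cuFunctor U) (cuAdj U) X⟩⟩

end Groth.Agent.Lib.Helper14.Topos
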