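import Mathlib.CategoryTheory.Comma.Basic
import Mathlib.CategoryTheory.Adjunction.FullyFaithful
import Mathlib.CategoryTheory.Limits.Shapes.Pullback.IsPullback.Basic
import Mathlib.CategoryTheory.Limits.Preserves.Shapes.Pullbacks
import Mathlib.CategoryTheory.Equivalence

/-!
# Abstract Artin gluing: recovering a category from an "open" and a "closed" localisation (helper14)
-/

set_option autoImplicit false

universe v₁ v₂ v₃ u₁ u₂ u₃

open CategoryTheory CategoryTheory.Limits

namespace Groth.Agent.Lib.Helper14.Glue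

variable {E : Type u₁} [Category.{v₁} E] {A : Type u₂} [Category.{v₂} A]
  {F : Type u₃} [Category.{v₃} F]
  {jS : E ⥤ A} {jP : A ⥤ E} (adj₁ : jS ⊣ jP) {L : E ⥤ F} {ι : F ⥤ E} (adj₂ : L ⊣ ι)

variable (L) in
/-- The comparison functor to the glued category. -/
def Φ : E ⥤ Comma (𝟭 F) (jP ⋙ L) where
  obj X := { left := L.obj X, right := jS.obj X, hom := L.map (adj₁.unit.app X) }
  map {X Y} f :=
    { left := L.map f
      right := jS.map f
      w := by
        change L.map f ≫ L.map (adj₁.unit.app Y) = L.map (adj₁.unit.app X) ≫ L.map (jP.map (jS.map f))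
        rw [← L.map_comp, ← L.map_comp]
        exact congrArg L.map (adj₁.unit.naturality f) }
  map_id X := by
    ext
    · exact L.map_id X
    · exact jS.map_id X
  map_comp f g := by
    ext
    · exact L.map_comp f g
    · exact jS.map_comp f g

section

variable [IsIso adj₁.counit] [IsIso adj₂.counit]

include adj₁ in
theorem isIso_map_unit (X : E) : IsIso (jS.map (adj₁.unit.app X)) := by
  have h1 : IsIso (𝟙 (jS.obj X)) := inferInstance
  have h2 : IsIso (adj₁.counit.app (jS.obj X)) := inferInstance
  exact IsIso.of_isIso_fac_right (adj₁.left_triangle_components X)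

end

section

variable [IsIso adj₁.counit] [IsIso adj₂.counit] [HasPullbacks E]
  [PreservesLimitsOfShape WalkingCospan jS] [PreservesLimitsOfShape WalkingCospan L]
  (hterm : ∀ (Y Y' : F) (g : jS.obj (ι.obj Y) ⟶ jS.obj (ι.obj Y')), IsIso g)
  (hcons : ∀ {X X' : E} (m : X ⟶ X'), IsIso (jS.map m) → IsIso (L.map m) → IsIso m)

include adj₁ adj₂ hterm hcons

/-- The gluing square: `X` is the fibre product of `j_* j^* X` and `i_* i^* X` over
`i_* i^* j_* j^* X`. -/
theorem isPullback_units (X : E) :
    IsPullback (adj₁.unit.app X) (adj₂.unit.app X) (adj₂.unit.app (jP.obj (jS.obj X)))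
      (ι.map (L.map (adj₁.unit.app X))) := by
  have w : adj₁.unit.app X ≫ adj₂.unit.app (jP.obj (jS.obj X)) =
      adj₂.unit.app X ≫ ι.map (L.map (adj₁.unit.app X)) := adj₂.unit.naturality (adj₁.unit.app X)
  let f := adj₂.unit.app (jP.obj (jS.obj X))
  let g := ι.map (L.map (adj₁.unit.app X))
  let l : X ⟶ pullback f g := pullback.lift (adj₁.unit.app X) (adj₂.unit.app X) w
  have hP : IsPullback (pullback.fst f g) (pullback.snd f g) f g := IsPullback.of_hasPullback f g
  have h1 : IsIso (jS.map l) := by
    have hg : IsIso (jS.map g) := hterm _ _ _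
    have hfst : IsIso (jS.map (pullback.fst f g)) := (hP.map jS).isIso_fst_of_isIso
    have hu : IsIso (jS.map (adj₁.unit.app X)) := isIso_map_unit adj₁ X
    have e : jS.map l ≫ jS.map (pullback.fst f g) = jS.map (adj₁.unit.app X) := by
      rw [← jS.map_comp, pullback.lift_fst]
    exact IsIso.of_isIso_fac_right e
  have h2 : IsIso (L.map l) := by
    have hf : IsIso (L.map f) := isIso_map_unit adj₂ _
    have hsnd : IsIso (L.map (pullback.snd f g)) := (hP.map L).isIso_snd_of_isIso
    have hu : IsIso (L.map (adj₂.unit.app X)) := isIso_map_unit adj₂ X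
    have e : L.map l ≫ L.map (pullback.snd f g) = L.map (adj₂.unit.app X) := by
      rw [← L.map_comp, pullback.lift_snd]
    exact IsIso.of_isIso_fac_right e
  have h3 : IsIso l := hcons l h1 h2
  exact IsPullback.of_iso_pullback ⟨w⟩ (asIso l) (pullback.lift_fst _ _ _) (pullback.lift_snd _ _ _)

theorem Φ_faithful : (Φ adj₁ L).Faithful where
  map_injective {X Y} f g h := by
    have hL : L.map f = L.map g := congrArg CommaMorphism.left h
    have hj : jS.map f = jS.map g := congrArg CommaMorphism.right h
    apply (isPullback_units adj₁ adj₂ hterm hcons Y).hom_ext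
    · rw [← adj₁.unit_naturality f, ← adj₁.unit_naturality g, hj]
    · rw [← adj₂.unit_naturality f, ← adj₂.unit_naturality g, hL]

theorem Φ_full : (Φ adj₁ L).Full where
  map_surjective {X Y} φ := by
    let a : L.obj X ⟶ L.obj Y := φ.left
    let b : jS.obj X ⟶ jS.obj Y := φ.right
    have hw : a ≫ L.map (adj₁.unit.app Y) = L.map (adj₁.unit.app X) ≫ L.map (jP.map b) := φ.w
    have n1 : adj₂.unit.app X ≫ ι.map (L.map (adj₁.unit.app X ≫ jP.map b)) =
        (adj₁.unit.app X ≫ jP.map b) ≫ adj₂.unit.app (jP.obj (jS.obj Y)) :=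
      adj₂.unit_naturality _
    have compat : (adj₁.unit.app X ≫ jP.map b) ≫ adj₂.unit.app (jP.obj (jS.obj Y)) =
        (adj₂.unit.app X ≫ ι.map a) ≫ ι.map (L.map (adj₁.unit.app Y)) := by
      rw [← n1, Category.assoc, ← ι.map_comp, hw, ← L.map_comp]
    let f := (isPullback_units adj₁ adj₂ hterm hcons Y).lift _ _ compat
    have hf1 : f ≫ adj₁.unit.app Y = adj₁.unit.app X ≫ jP.map b :=
      (isPullback_units adj₁ adj₂ hterm hcons Y).lift_fst _ _ compat
    have hf2 : f ≫ adj₂.unit.app Y = adj₂.unit.app X ≫ ι.map a :=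
      (isPullback_units adj₁ adj₂ hterm hcons Y).lift_snd _ _ compat
    refine ⟨f, ?_⟩
    apply CommaMorphism.ext
    · apply (adj₂.homEquiv X (L.obj Y)).injective
      rw [adj₂.homEquiv_unit, adj₂.homEquiv_unit]
      exact (adj₂.unit_naturality f).trans hf2
    · apply (adj₁.homEquiv X (jS.obj Y)).injective
      rw [adj₁.homEquiv_unit, adj₁.homEquiv_unit]
      exact (adj₁.unit_naturality f).trans hf1

omit hcons in
theorem Φ_essSurj : (Φ adj₁ L).EssSurj where
  mem_essImage Z := by
    let Y : F := Z.left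
    let X' : A := Z.right
    let u : Y ⟶ L.obj (jP.obj X') := Z.hom
    let f := adj₂.unit.app (jP.obj X')
    let g := ι.map u
    have hP : IsPullback (pullback.fst f g) (pullback.snd f g) f g := IsPullback.of_hasPullback f g
    have hf : IsIso (L.map f) := isIso_map_unit adj₂ _
    have hsnd : IsIso (L.map (pullback.snd f g)) := (hP.map L).isIso_snd_of_isIso
    have hg : IsIso (jS.map g) := hterm _ _ _
    have hfst : IsIso (jS.map (pullback.fst f g)) := (hP.map jS).isIso_fst_of_isIso
    let l : L.obj (pullback f g) ≅ Y := asIso (L.map (pullback.snd f g)) ≪≫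
      asIso (adj₂.counit.app Y)
    let r : jS.obj (pullback f g) ≅ X' := asIso (jS.map (pullback.fst f g)) ≪≫
      asIso (adj₁.counit.app X')
    have n2 : adj₁.unit.app (pullback f g) ≫ jP.map (jS.map (pullback.fst f g)) =
        pullback.fst f g ≫ adj₁.unit.app (jP.obj X') := adj₁.unit_naturality _
    have t1 : adj₁.unit.app (jP.obj X') ≫ jP.map (adj₁.counit.app X') = 𝟙 _ :=
      adj₁.right_triangle_components _
    have e1 : adj₁.unit.app (pullback f g) ≫
        jP.map (jS.map (pullback.fst f g) ≫ adj₁.counit.app X') = pullback.fst f g := by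
      rw [jP.map_comp, ← Category.assoc, n2, Category.assoc, t1]
      exact Category.comp_id _
    have n3 : L.map (ι.map u) ≫ adj₂.counit.app (L.obj (jP.obj X')) =
        adj₂.counit.app Y ≫ u := adj₂.counit_naturality _
    have t2 : L.map (adj₂.unit.app (jP.obj X')) ≫ adj₂.counit.app (L.obj (jP.obj X')) = 𝟙 _ :=
      adj₂.left_triangle_components _
    have e2 : pullback.snd f g ≫ ι.map u = pullback.fst f g ≫ adj₂.unit.app (jP.obj X') :=
      pullback.condition.symm
    have key : (L.map (pullback.snd f g) ≫ adj₂.counit.app Y) ≫ u =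
        L.map (adj₁.unit.app (pullback f g)) ≫
          L.map (jP.map (jS.map (pullback.fst f g) ≫ adj₁.counit.app X')) := by
      rw [← L.map_comp, e1, Category.assoc, ← n3, ← Category.assoc, ← L.map_comp, e2, L.map_comp,
        Category.assoc, t2]
      exact Category.comp_id _
    exact ⟨pullback f g, ⟨Comma.isoMk l r key⟩⟩

/-- Abstract Artin gluing. -/
theorem nonempty_equivalence : Nonempty (E ≌ Comma (𝟭 F) (jP ⋙ L)) := by
  have h1 := Φ_faithful adj₁ adj₂ hterm hcons
  have h2 := Φ_full adj₁ adj₂ hterm hcons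
  have h3 := Φ_essSurj adj₁ adj₂ hterm
  have : (Φ adj₁ L).IsEquivalence := { }
  exact ⟨(Φ adj₁ L).asEquivalence⟩

end

end Groth.Agent.Lib.Helper14.Glue
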