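import Groth.Agent.Lib.Helper14.Topos23
import Groth.Agent.Lib.Helper14.Topos24
import Mathlib.CategoryTheory.Adjunction.Triple

/-!
# Gluing a sheaf topos from an open subtopos and its closed complement (helper14)
-/

set_option autoImplicit false

universe u w

open CategoryTheory CategoryTheory.Limits Opposite

namespace Groth.Agent.Lib.Helper14.Topos

open ToposFin Groth.Agent.Lib.helper23.QCHom

variable {C : Type u} [SmallCategory C] {J : GrothendieckTopology C} {U : Sheaf J (Type u)}

theorem isIso_prod_lift_hom (hU : SGA4.IsOpen U) {A : Sheaf J (Type u)} (a : A ⟶ U) :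
    IsIso (prod.lift a (𝟙 A)) := by
  refine ⟨prod.snd, prod.lift_snd _ _, ?_⟩
  apply Limits.prod.hom_ext
  · exact isOpen_hom_ext hU _ _
  · rw [Category.assoc, prod.lift_snd, Category.id_comp, Category.comp_id]

theorem star_obj_hom_eq (Z : Sheaf J (Type u)) :
    ((Over.star U).obj Z).hom = (prod.fst : U ⨯ Z ⟶ U) :=
  (Over.star_obj_hom U Z).trans (prod.lift_fst _ _)

theorem isIso_forgetAdjStar_unit (hU : SGA4.IsOpen U) : IsIso (Over.forgetAdjStar U).unit := by
  have h : ∀ Y : Over U, IsIso ((Over.forgetAdjStar U).unit.app Y) := by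
    intro Y
    have h1 : IsIso ((Over.forget U).map ((Over.forgetAdjStar U).unit.app Y)) := by
      change IsIso ((Over.forgetAdjStar U).unit.app Y).left
      rw [Over.forgetAdjStar_unit_app_left]
      exact isIso_prod_lift_hom hU Y.hom
    exact isIso_of_reflects_iso _ (Over.forget U)
  exact NatIso.isIso_of_isIso_app _

theorem isIso_of_comp_fst {Y Y' : Sheaf J (Type u)} (hY : SGA4.closedCompl U Y)
    (hY' : SGA4.closedCompl U Y') (k : U ⨯ Y ⟶ U ⨯ Y')
    (e : k ≫ (prod.fst : U ⨯ Y' ⟶ U) = (prod.fst : U ⨯ Y ⟶ U)) : IsIso k := by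
  have h1 : IsIso (prod.fst : U ⨯ Y ⟶ U) := hY
  have h2 : IsIso (prod.fst : U ⨯ Y' ⟶ U) := hY'
  exact IsIso.of_isIso_fac_right e

theorem isIso_star_closedCompl (Y Y' : (SGA4.closedCompl U).FullSubcategory)
    (g : (Over.star U).obj ((SGA4.closedCompl U).ι.obj Y) ⟶
      (Over.star U).obj ((SGA4.closedCompl U).ι.obj Y')) : IsIso g := by
  have h1 : IsIso ((Over.forget U).map g) := by
    have e1 := Over.w g
    have e2 := star_obj_hom_eq (U := U) Y.obj
    have e3 := star_obj_hom_eq (U := U) Y'.obj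
    have e : g.left ≫ (prod.fst : U ⨯ Y'.obj ⟶ U) = (prod.fst : U ⨯ Y.obj ⟶ U) :=
      ((congrArg (fun z => g.left ≫ z) e3.symm).trans e1).trans e2
    exact isIso_of_comp_fst Y.property Y'.property g.left e
  exact isIso_of_reflects_iso _ (Over.forget U)

/-- S3085. -/
theorem nonempty_gluing (hU : SGA4.IsOpen U) [(Over.star U).IsLeftAdjoint]
    (L : Sheaf J (Type u) ⥤ (SGA4.closedCompl U).FullSubcategory)
    (adj : L ⊣ (SGA4.closedCompl U).ι) :
    Nonempty (Sheaf J (Type u) ≌
      Comma (𝟭 (SGA4.closedCompl U).FullSubcategory) ((Over.star U).rightAdjoint ⋙ L)) := by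
  let adj₁ : Over.star U ⊣ (Over.star U).rightAdjoint := Adjunction.ofIsLeftAdjoint (Over.star U)
  let t : Adjunction.Triple (Over.forget U) (Over.star U) (Over.star U).rightAdjoint :=
    ⟨Over.forgetAdjStar U, adj₁⟩
  have h1 : IsIso adj₁.counit := t.isIso_unit_iff_isIso_counit.1 (isIso_forgetAdjStar_unit hU)
  have h2 : IsIso adj.counit := inferInstance
  have h3 : PreservesLimitsOfShape WalkingCospan (Over.star U) :=
    have := (Over.forgetAdjStar U).rightAdjoint_preservesLimits
    inferInstance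
  have h4 : PreservesLimitsOfShape WalkingCospan L :=
    preservesLimitsOfShape_of_natIso ((cuAdj U).leftAdjointUniq adj)
  exact Glue.nonempty_equivalence adj₁ adj isIso_star_closedCompl
    (fun m hm1 hm2 => (isIso_iff_of_adj hU L adj m).2 ⟨hm1, hm2⟩)

end Groth.Agent.Lib.Helper14.Topos
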