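import Groth.Agent.Lib.Helper14.Topos2

/-!
# Quasi-compact / quasi-separated calculus in a sheaf topos (helper14)
-/

set_option autoImplicit false

universe u w

open CategoryTheory CategoryTheory.Limits Opposite

namespace Groth.Agent.Lib.Helper14.Topos

open ToposFin Groth.Agent.Lib.helper23.QCHom

variable {C : Type u} [SmallCategory C] {J : GrothendieckTopology C}

/-- The base change of a family along `pullback.snd f g`. -/
theorem isPullback_lift_snd {X Y Y' G : Sh J} (f : X ⟶ Y) (g : Y' ⟶ Y) (ρ : G ⟶ Y') :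
    IsPullback (pullback.snd f (ρ ≫ g))
      (pullback.lift (pullback.fst f (ρ ≫ g)) (pullback.snd f (ρ ≫ g) ≫ ρ)
        (by rw [pullback.condition, Category.assoc]))
      ρ (pullback.snd f g) := by
  have houter : IsPullback (pullback.lift (pullback.fst f (ρ ≫ g)) (pullback.snd f (ρ ≫ g) ≫ ρ)
        (by rw [pullback.condition, Category.assoc]) ≫ pullback.fst f g)
      (pullback.snd f (ρ ≫ g)) f (ρ ≫ g) := by
    rw [pullback.lift_fst]
    exact IsPullback.of_hasPullback f (ρ ≫ g)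
  exact (IsPullback.of_right houter (by rw [pullback.lift_snd])
    (IsPullback.of_hasPullback f g)).flip

/-- The base change of a family along `pullback.fst f g`. -/
theorem isPullback_lift_fst {X Y Y' G : Sh J} (f : X ⟶ Y) (g : Y' ⟶ Y) (ρ : G ⟶ X) :
    IsPullback (pullback.fst (ρ ≫ f) g)
      (pullback.lift (pullback.fst (ρ ≫ f) g ≫ ρ) (pullback.snd (ρ ≫ f) g)
        (by rw [Category.assoc, pullback.condition]))
      ρ (pullback.fst f g) := by
  have houter : IsPullback (pullback.fst (ρ ≫ f) g)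
      (pullback.lift (pullback.fst (ρ ≫ f) g ≫ ρ) (pullback.snd (ρ ≫ f) g)
        (by rw [Category.assoc, pullback.condition]) ≫ pullback.snd f g) (ρ ≫ f) g := by
    rw [pullback.lift_snd]
    exact IsPullback.of_hasPullback (ρ ≫ f) g
  exact IsPullback.of_bot houter (by rw [pullback.lift_fst])
    (IsPullback.of_hasPullback f g)

theorem isQC_pullback_of_finite_cover {κ : Type w} [Finite κ] {X Y Y' : Sh J} (f : X ⟶ Y)
    (g : Y' ⟶ Y) (G : κ → Sh J) (ρ : ∀ k, G k ⟶ Y') (hρ : JSurj ρ)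
    (h : ∀ k, IsQC (pullback f (ρ k ≫ g))) : IsQC (pullback f g) :=
  isQC_of_jsurj_finite _ _
    (hρ.base_change (pullback.snd f g) _ _ (fun k => isPullback_lift_snd f g (ρ k))) h

theorem isQC_pullback_of_finite_cover_left {κ : Type w} [Finite κ] {X Y Y' : Sh J} (f : X ⟶ Y)
    (g : Y' ⟶ Y) (G : κ → Sh J) (ρ : ∀ k, G k ⟶ X) (hρ : JSurj ρ)
    (h : ∀ k, IsQC (pullback (ρ k ≫ f) g)) : IsQC (pullback f g) :=
  isQC_of_jsurj_finite _ _
    (hρ.base_change (pullback.fst f g) _ _ (fun k => isPullback_lift_fst f g (ρ k))) h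

/-- `IsQS` in terms of arbitrary pullback squares. -/
theorem isQC_of_isPullback_of_isQS {X : Sh J} (hX : IsQS X) {P Y Z : Sh J} {fst : P ⟶ Y}
    {snd : P ⟶ Z} {a : Y ⟶ X} {b : Z ⟶ X} (hp : IsPullback fst snd a b) (hY : IsQC Y)
    (hZ : IsQC Z) : IsQC P :=
  isQC_of_iso hp.isoPullback.symm (hX Y Z a b hY hZ)

/-- Jointly surjective form of `HasQCGenerators`. -/
theorem hasQCGenerators_iff :
    HasQCGenerators J ↔ ∀ X : Sh J, ∃ (ι : Type u) (F : ι → Sh J) (π : ∀ i, F i ⟶ X),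
      (∀ i, IsQC (F i)) ∧ JSurj π := by
  constructor
  · intro h X
    obtain ⟨ι, F, π, hF, hπ⟩ := h X
    exact ⟨ι, F, π, hF, epi_sigmaDesc_iff_jsurj.1 hπ⟩
  · intro h X
    obtain ⟨ι, F, π, hF, hπ⟩ := h X
    exact ⟨ι, F, π, hF, epi_sigmaDesc_iff_jsurj.2 hπ⟩

/-- A finite subfamily, reindexed by `Fin n`. -/
theorem JSurj.exists_fin {ι : Type u} {F : ι → Sh J} {X : Sh J} {π : ∀ i, F i ⟶ X}
    (hπ : JSurj π) (hX : IsQC X) :
    ∃ (n : ℕ) (i : Fin n → ι), JSurj (fun k => π (i k)) := by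
  obtain ⟨s, hs⟩ := (isQC_iff X).1 hX ι F π hπ
  refine ⟨s.card, fun k => (s.equivFin.symm k).1, ?_⟩
  refine hs.of_refine _ ?_
  intro j
  refine ⟨s.equivFin j, eqToHom (by simp), ?_⟩
  have : ∀ (a b : ι) (h : a = b), eqToHom (congrArg F h) ≫ π b = π a := by
    intro a b h; subst h; simp
  exact this _ _ (by simp)

/-- Refining a jointly surjective family over a quasi-compact object by finitely many
quasi-compact generators. -/
theorem JSurj.exists_finite_qc_refinement (hE : HasQCGenerators J) {ι : Type u} {Y : ι → Sh J}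
    {X : Sh J} {ρ : ∀ i, Y i ⟶ X} (hρ : JSurj ρ) (hX : IsQC X) :
    ∃ (n : ℕ) (i : Fin n → ι) (G : Fin n → Sh J) (φ : ∀ k, G k ⟶ Y (i k)),
      (∀ k, IsQC (G k)) ∧ JSurj (fun k => φ k ≫ ρ (i k)) := by
  have h1 := fun i => (hasQCGenerators_iff.1 hE) (Y i)
  choose κ G φ hG hφ using h1
  have hcomp := hρ.comp φ hφ
  obtain ⟨n, p, hp⟩ := hcomp.exists_fin hX
  exact ⟨n, fun k => (p k).1, fun k => G (p k).1 (p k).2, fun k => φ (p k).1 (p k).2,
    fun k => hG _ _, hp⟩

end Groth.Agent.Lib.Helper14.Topos
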