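import Groth.Agent.Lib.Helper14.Topos3

/-!
# More quasi-compact / quasi-separated calculus (helper14)
-/

set_option autoImplicit false

universe u w

open CategoryTheory CategoryTheory.Limits Opposite

namespace Groth.Agent.Lib.Helper14.Topos

open ToposFin Groth.Agent.Lib.helper23.QCHom

variable {C : Type u} [SmallCategory C] {J : GrothendieckTopology C}

theorem isQC_pullback_congr {X Y Z : Sh J} {f f' : X ⟶ Y} {g g' : Z ⟶ Y} (hf : f = f')
    (hg : g = g') (h : IsQC (pullback f g)) : IsQC (pullback f' g') := by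
  subst hf; subst hg; exact h

/-- S3075: a jointly surjective family of quasi-compact maps from quasi-separated objects. -/
theorem isQS_of_jsurj_qs_qcHom (hE : HasQCGenerators J) {Y : Sh J} {ι : Type u} (Yi : ι → Sh J)
    (g : ∀ i, Yi i ⟶ Y) (hg : JSurj g) (hqs : ∀ i, IsQS (Yi i)) (hqc : ∀ i, IsQCHom (g i)) :
    IsQS Y := by
  intro A B a b hA hB
  have h1 : JSurj (fun i => pullback.snd (g i) a) :=
    hg.base_change a (fun i => pullback.fst (g i) a) _ (fun i => IsPullback.of_hasPullback (g i) a)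
  obtain ⟨n, i, G, φ, hG, hφ⟩ := h1.exists_finite_qc_refinement hE hA
  refine isQC_pullback_of_finite_cover_left a b G _ hφ (fun k => ?_)
  have e : (φ k ≫ pullback.snd (g (i k)) a) ≫ a = (φ k ≫ pullback.fst (g (i k)) a) ≫ g (i k) := by
    rw [Category.assoc, Category.assoc, pullback.condition]
  refine isQC_pullback_congr e.symm rfl ?_
  exact isQC_of_isPullback_of_isQS (hqs (i k))
    (isPullback_lift_fst (g (i k)) b (φ k ≫ pullback.fst (g (i k)) a)) (hG k)
    (hqc (i k) B b hB)

/-- If `X ×_Y Y_j` is quasi-compact for a jointly surjective family of quasi-separated `Y_j`,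
then `f : X ⟶ Y` is quasi-compact. -/
theorem isQCHom_of_cover_pullbacks_qc (hE : HasQCGenerators J) {X Y : Sh J} (f : X ⟶ Y)
    {ι : Type u} (Yi : ι → Sh J) (g : ∀ i, Yi i ⟶ Y) (hg : JSurj g) (hqs : ∀ j, IsQS (Yi j))
    (h : ∀ j, IsQC (pullback f (g j))) : IsQCHom f := by
  intro Y' t hY'
  have h1 : JSurj (fun j => pullback.snd (g j) t) :=
    hg.base_change t (fun j => pullback.fst (g j) t) _ (fun j => IsPullback.of_hasPullback (g j) t)
  obtain ⟨n, j, G, φ, hG, hφ⟩ := h1.exists_finite_qc_refinement hE hY'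
  refine isQC_pullback_of_finite_cover f t G _ hφ (fun k => ?_)
  have e : (φ k ≫ pullback.snd (g (j k)) t) ≫ t = (φ k ≫ pullback.fst (g (j k)) t) ≫ g (j k) := by
    rw [Category.assoc, Category.assoc, pullback.condition]
  refine isQC_pullback_congr rfl e.symm ?_
  exact isQC_of_isPullback_of_isQS (hqs (j k))
    (isPullback_lift_snd f (g (j k)) (φ k ≫ pullback.fst (g (j k)) t)) (hG k) (h (j k))

section Adj

variable {D : Type u} [SmallCategory D] {K : GrothendieckTopology D}
  (F : Sh K ⥤ Sh J) (R : Sh J ⥤ Sh K) (adj : F ⊣ R)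

include adj in
theorem JSurj.map_of_adj {ι : Type w} {G : ι → Sh K} {X : Sh K} {π : ∀ i, G i ⟶ X}
    (h : JSurj π) : JSurj (fun i => F.map (π i)) := by
  rw [jsurj_iff_jepi] at h ⊢
  intro Z a b hab
  apply (adj.homEquiv X Z).injective
  apply h
  intro i
  rw [← adj.homEquiv_naturality_left, ← adj.homEquiv_naturality_left, hab i]

end Adj

end Groth.Agent.Lib.Helper14.Topos
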