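import Groth.Agent.Lib.Helper14.Topos7
import Groth.Prelude.Def_ToposFin2

/-!
# Generating sets, algebraic topoi (helper14)
-/

set_option autoImplicit false

universe u w

open CategoryTheory CategoryTheory.Limits Opposite

namespace Groth.Agent.Lib.Helper14.Topos

open ToposFin Groth.Agent.Lib.helper23.QCHom

variable {C : Type u} [SmallCategory C] {J : GrothendieckTopology C}

theorem isGenerating_jsurj {S : Set (Sh J)} (hgen : IsGenerating S) (X : Sh J) :
    ∃ (ι : Type u) (G : ι → Sh J) (π : ∀ i, G i ⟶ X), (∀ i, G i ∈ S) ∧ JSurj π := by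
  obtain ⟨ι, G, π, hGS, hπ⟩ := hgen X
  exact ⟨ι, G, π, hGS, jsurj_iff_jepi.2 hπ⟩

theorem hasQCGenerators_of_isGenerating {S : Set (Sh J)} (hqc : ∀ K ∈ S, IsQC K)
    (hgen : IsGenerating S) : HasQCGenerators J := by
  rw [hasQCGenerators_iff]
  intro X
  obtain ⟨ι, G, π, hGS, hπ⟩ := isGenerating_jsurj hgen X
  exact ⟨ι, G, π, fun i => hqc _ (hGS i), hπ⟩

/-- A finite cover of a quasi-compact object by members of a generating set. -/
theorem exists_finite_cover_mem {S : Set (Sh J)} (hgen : IsGenerating S) {X : Sh J}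
    (hX : IsQC X) :
    ∃ (n : ℕ) (G : Fin n → Sh J) (π : ∀ k, G k ⟶ X), (∀ k, G k ∈ S) ∧ JSurj π := by
  obtain ⟨ι, G, π, hGS, hπ⟩ := isGenerating_jsurj hgen X
  obtain ⟨n, i, hn⟩ := hπ.exists_fin hX
  exact ⟨n, fun k => G (i k), fun k => π (i k), fun k => hGS _, hn⟩

/-- Members of a generating set of quasi-compact objects closed under fibre products are
quasi-separated (hence coherent). -/
theorem isQS_of_mem {S : Set (Sh J)} (hqc : ∀ K ∈ S, IsQC K) (hgen : IsGenerating S)
    (hpb : ClosedUnderPullbacks S) {K : Sh J} (hK : K ∈ S) : IsQS K := by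
  intro A B a b hA hB
  obtain ⟨n, G, α, hG, hα⟩ := exists_finite_cover_mem hgen hA
  obtain ⟨m, H, β, hH, hβ⟩ := exists_finite_cover_mem hgen hB
  refine isQC_pullback_of_finite_cover_left a b G α hα (fun k => ?_)
  refine isQC_pullback_of_finite_cover (α k ≫ a) b H β hβ (fun l => ?_)
  obtain ⟨P, p, q, hP, hpq⟩ := hpb (α k ≫ a) (β l ≫ b) (hG k) (hH l) hK
  exact isQC_of_iso hpq.isoPullback (hqc P hP)

theorem isCoherent_of_mem {S : Set (Sh J)} (hqc : ∀ K ∈ S, IsQC K) (hgen : IsGenerating S)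
    (hpb : ClosedUnderPullbacks S) {K : Sh J} (hK : K ∈ S) : IsCoherent K :=
  ⟨hqc K hK, isQS_of_mem hqc hgen hpb hK⟩

theorem isQS_of_iso {X Y : Sh J} (e : X ≅ Y) (hY : IsQS Y) : IsQS X :=
  isQS_of_mono e.hom hY

/-- A morphism from a quasi-compact object to a quasi-separated object is quasi-compact. -/
theorem isQCHom_of_isQC_of_isQS {X Y : Sh J} (f : X ⟶ Y) (hX : IsQC X) (hY : IsQS Y) :
    IsQCHom f := fun Y' t hY' => hY _ _ f t hX hY'

/-- In a locally coherent topos, a morphism from a quasi-separated object to a member of the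
generating set is quasi-separated. -/
theorem isQSHom_of_isQS_of_mem {S : Set (Sh J)} (hqc : ∀ K ∈ S, IsQC K) (hgen : IsGenerating S)
    (hpb : ClosedUnderPullbacks S) {X K : Sh J} (φ : X ⟶ K) (hX : IsQS X) (hK : K ∈ S) :
    IsQSHom φ := by
  have hE := hasQCGenerators_of_isGenerating hqc hgen
  obtain ⟨ι, L, h, hL, hh⟩ := isGenerating_jsurj hgen X
  refine isQSHom_of_jsurj_qcHom hE φ L h hh
    (fun α => isQCHom_of_isQC_of_isQS (h α) (hqc _ (hL α)) hX) (fun α => ?_)
  obtain ⟨P, p, q, hP, hpq⟩ := hpb (h α ≫ φ) (h α ≫ φ) (hL α) (hL α) hK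
  have hQS : IsQS (pullback (h α ≫ φ) (h α ≫ φ)) :=
    isQS_of_iso hpq.isoPullback.symm (isQS_of_mem hqc hgen hpb hP)
  exact isQCHom_of_isQC_of_isQS _ (hqc _ (hL α)) hQS

/-- S5587. -/
theorem isQSHom_iff_pullback_qs {S : Set (Sh J)} (hqc : ∀ K ∈ S, IsQC K) (hgen : IsGenerating S)
    (hpb : ClosedUnderPullbacks S) {X Y : Sh J} (f : X ⟶ Y) :
    IsQSHom f ↔ ∀ (Y' : Sh J) (g : Y' ⟶ Y), IsQS Y' → IsQS (pullback f g) := by
  have hE := hasQCGenerators_of_isGenerating hqc hgen
  constructor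
  · intro hf Y' g hY'
    exact isQS_of_isQSHom (pullback.snd f g)
      (isQSHom_of_isPullback (IsPullback.of_hasPullback f g) hf) hY'
  · intro h
    obtain ⟨ι, K, g, hK, hg⟩ := isGenerating_jsurj hgen Y
    refine isQSHom_of_jsurj_target hE f K g hg (fun i => ?_)
    exact isQSHom_of_isQS_of_mem hqc hgen hpb _ (h _ (g i) (isQS_of_mem hqc hgen hpb (hK i)))
      (hK i)

/-- In an algebraic topos, every morphism out of a member of the generating set is
quasi-separated. -/
theorem isQSHom_of_mem_source {S : Set (Sh J)} (hqc : ∀ K ∈ S, IsQC K) (hgen : IsGenerating S)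
    (heq : ClosedUnderEqualizers S) {L Y : Sh J} (φ : L ⟶ Y) (hL : L ∈ S) : IsQSHom φ := by
  intro T t hT
  obtain ⟨n, G, τ, hG, hτ⟩ := exists_finite_cover_mem hgen hT
  refine isQC_pullback_of_finite_cover (pullback.diagonal φ) t G τ hτ (fun k => ?_)
  obtain ⟨P, e, w, hP, ⟨hl⟩⟩ := heq ((τ k ≫ t) ≫ pullback.fst φ φ) ((τ k ≫ t) ≫ pullback.snd φ φ)
    (hG k) hL
  exact isQC_of_iso (isPullback_diagonal_of_isLimit_fork φ (τ k ≫ t) e w hl).isoPullback
    (hqc P hP)

/-- In an algebraic topos, every morphism out of a quasi-separated object is quasi-separated. -/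
theorem isQSHom_of_isQS_source {S : Set (Sh J)} (hqc : ∀ K ∈ S, IsQC K) (hgen : IsGenerating S)
    (heq : ClosedUnderEqualizers S) {X Y : Sh J} (f : X ⟶ Y) (hX : IsQS X) : IsQSHom f := by
  have hE := hasQCGenerators_of_isGenerating hqc hgen
  obtain ⟨ι, L, h, hL, hh⟩ := isGenerating_jsurj hgen X
  exact isQSHom_of_jsurj_qcHom hE f L h hh
    (fun α => isQCHom_of_isQC_of_isQS (h α) (hqc _ (hL α)) hX)
    (fun α => isQSHom_of_mem_source hqc hgen heq (h α ≫ f) (hL α))

section Adj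

variable {D : Type u} [SmallCategory D] {K : GrothendieckTopology D}
  (F : Sh K ⥤ Sh J) (R : Sh J ⥤ Sh K) (adj : F ⊣ R)

include adj in
theorem isQC_map_of_generators {S : Set (Sh K)} (hgen : IsGenerating S)
    (hS' : ∀ X ∈ S, IsQC (F.obj X)) {X : Sh K} (hX : IsQC X) : IsQC (F.obj X) := by
  obtain ⟨ι, G, π, hGS, hπ⟩ := isGenerating_jsurj hgen X
  obtain ⟨n, i, hn⟩ := hπ.exists_fin hX
  exact isQC_of_jsurj_finite (fun k => F.obj (G (i k))) (fun k => F.map (π (i k)))
    (hn.map_of_adj F R adj) (fun k => hS' _ (hGS _))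

include adj in
/-- A left exact left adjoint preserving quasi-compactness of a generating family of coherent
objects preserves quasi-separated objects. -/
theorem isQS_map_of_generators [PreservesFiniteLimits F] (hE' : HasQCGenerators J)
    {S : Set (Sh K)} (hS : ∀ X ∈ S, IsCoherent X) (hgen : IsGenerating S)
    (hS' : ∀ X ∈ S, IsCoherent (F.obj X)) {X : Sh K} (hX : IsQS X) : IsQS (F.obj X) := by
  obtain ⟨ι, G, π, hGS, hπ⟩ := isGenerating_jsurj hgen X
  have hFπ : JSurj (fun i => F.map (π i)) := hπ.map_of_adj F R adj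
  have hqc : ∀ i, IsQCHom (F.map (π i)) := by
    intro i
    refine isQCHom_of_cover_pullbacks_qc hE' (F.map (π i)) (fun j => F.obj (G j))
      (fun j => F.map (π j)) hFπ (fun j => (hS' _ (hGS j)).2) (fun j => ?_)
    have h1 : IsQC (pullback (π i) (π j)) := hX _ _ (π i) (π j) (hS _ (hGS i)).1 (hS _ (hGS j)).1
    have h2 : IsQC (F.obj (pullback (π i) (π j))) :=
      isQC_map_of_generators F R adj hgen (fun Y hY => (hS' Y hY).1) h1
    exact isQC_of_iso (PreservesPullback.iso F (π i) (π j)) h2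
  exact isQS_of_jsurj_qs_qcHom hE' _ _ hFπ (fun i => (hS' _ (hGS i)).2) hqc

end Adj

end Groth.Agent.Lib.Helper14.Topos
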