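import Groth.Agent.Lib.Helper14.Topos4
import Mathlib.CategoryTheory.MorphismProperty.Limits

/-!
# Quasi-compact / quasi-separated morphisms (helper14)
-/

set_option autoImplicit false

universe u w

open CategoryTheory CategoryTheory.Limits Opposite

namespace Groth.Agent.Lib.Helper14.Topos

open ToposFin Groth.Agent.Lib.helper23.QCHom

variable {C : Type u} [SmallCategory C] {J : GrothendieckTopology C}

variable (J) in
/-- Quasi-compact morphisms as a morphism property. -/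
def qcP : MorphismProperty (Sh J) := fun _ _ f => IsQCHom f

instance : (qcP J).IsStableUnderBaseChange where
  of_isPullback sq hg := isQCHom_of_isPullback sq hg

theorem isQSHom_iff_diagonal {X Y : Sh J} (f : X ⟶ Y) : IsQSHom f ↔ (qcP J).diagonal f := Iff.rfl

/-- Quasi-separated morphisms are stable under base change. -/
theorem isQSHom_of_isPullback {X Y X' Y' : Sh J} {f : X ⟶ Y} {f' : X' ⟶ Y'} {a : X' ⟶ X}
    {b : Y' ⟶ Y} (hp : IsPullback a f' f b) (hf : IsQSHom f) : IsQSHom f' :=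
  (qcP J).diagonal.of_isPullback hp hf

theorem isQSHom_comp {X Y Z : Sh J} {f : X ⟶ Y} {g : Y ⟶ Z} (hf : IsQSHom f) (hg : IsQSHom g) :
    IsQSHom (f ≫ g) := by
  have : (qcP J).IsStableUnderComposition := ⟨fun f g hf hg => isQCHom_comp hf hg⟩
  exact (qcP J).diagonal.comp_mem f g hf hg

theorem isQC_pullback_comp_of_isPullback {A B D E T : Sh J} {p : A ⟶ B} {m : A ⟶ D} {d : B ⟶ E}
    {n : D ⟶ E} (h : IsPullback p m d n) (hm : IsQCHom m) (c : T ⟶ D) (hT : IsQC T) :
    IsQC (pullback d (c ≫ n)) := by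
  let l := h.lift (pullback.fst d (c ≫ n)) (pullback.snd d (c ≫ n) ≫ c)
    (by rw [pullback.condition, Category.assoc])
  have left : IsPullback l (pullback.snd d (c ≫ n)) m c :=
    IsPullback.of_right (by rw [h.lift_fst]; exact IsPullback.of_hasPullback d (c ≫ n))
      (h.lift_snd _ _ _) h
  exact isQC_of_isPullback hm left hT

/-- The comparison `X₁ ×_Y X₂ ⟶ X₁ ×_Z X₂` is quasi-compact when `f₁` is quasi-compact and
`f₁ ≫ g` is quasi-separated. -/
theorem isQCHom_map_of_qc_qs {X₁ X₂ Y Z : Sh J} (f₁ : X₁ ⟶ Y) (f₂ : X₂ ⟶ Y) (g : Y ⟶ Z)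
    (h1 : IsQCHom f₁) (h2 : IsQSHom (f₁ ≫ g)) :
    IsQCHom (pullback.map f₁ f₂ (f₁ ≫ g) (f₂ ≫ g) (𝟙 _) (𝟙 _) g (Category.id_comp _).symm
      (Category.id_comp _).symm) := by
  have hs : IsQSHom (pullback.snd (f₁ ≫ g) (f₂ ≫ g)) :=
    isQSHom_of_isPullback (IsPullback.of_hasPullback (f₁ ≫ g) (f₂ ≫ g)) h2
  apply isQCHom_of_comp_of_isQSHom _ _ hs
  rw [pullback.lift_snd, Category.comp_id]
  exact isQCHom_of_isPullback (IsPullback.of_hasPullback f₁ f₂) h1

theorem isQC_pullback_diagonal_aux {Y Z X₁ X₂ T G : Sh J} (g : Y ⟶ Z) (f₁ : X₁ ⟶ Y) (f₂ : X₂ ⟶ Y)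
    (t : T ⟶ pullback.diagonalObj g) (a : G ⟶ X₁) (b : G ⟶ X₂) (ρ : G ⟶ T)
    (ha : a ≫ f₁ = ρ ≫ (t ≫ pullback.fst g g)) (hb : b ≫ f₂ = ρ ≫ (t ≫ pullback.snd g g))
    (hG : IsQC G) (hqc : IsQCHom f₁) (hqs : IsQSHom (f₁ ≫ g)) :
    IsQC (pullback (pullback.diagonal g) (ρ ≫ t)) := by
  have h12 : (t ≫ pullback.fst g g) ≫ g = (t ≫ pullback.snd g g) ≫ g := by
    rw [Category.assoc, Category.assoc, pullback.condition]
  have hc : a ≫ f₁ ≫ g = b ≫ f₂ ≫ g := by
    rw [← Category.assoc a, ha, ← Category.assoc b, hb, Category.assoc ρ, Category.assoc ρ, h12]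
  have hρ : ρ ≫ t = pullback.lift a b hc ≫
      pullback.map (f₁ ≫ g) (f₂ ≫ g) g g f₁ f₂ (𝟙 _)
        (Category.comp_id _) (Category.comp_id _) := by
    apply pullback.hom_ext
    · rw [Category.assoc, Category.assoc]
      erw [pullback.lift_fst]
      rw [pullback.lift_fst_assoc, ha]
    · rw [Category.assoc, Category.assoc]
      erw [pullback.lift_snd]
      rw [pullback.lift_snd_assoc, hb]
  refine isQC_pullback_congr rfl hρ.symm ?_
  exact isQC_pullback_comp_of_isPullback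
    (pullback_map_diagonal_isPullback f₁ f₂ g)
    (isQCHom_map_of_qc_qs f₁ f₂ g hqc hqs) _ hG

/-- S3076 (first part). -/
theorem isQSHom_of_jsurj_qcHom (hE : HasQCGenerators J) {Y Z : Sh J} (g : Y ⟶ Z) {ι : Type u}
    (X : ι → Sh J) (f : ∀ i, X i ⟶ Y) (hf : JSurj f) (hqc : ∀ i, IsQCHom (f i))
    (hqs : ∀ i, IsQSHom (f i ≫ g)) : IsQSHom g := by
  intro T t hT
  have hA : JSurj (fun i => pullback.snd (f i) (t ≫ pullback.fst g g)) :=
    hf.base_change _ (fun i => pullback.fst (f i) _) _ (fun i => IsPullback.of_hasPullback _ _)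
  have hB : ∀ i, JSurj (fun j => pullback.snd (f j)
      (pullback.snd (f i) (t ≫ pullback.fst g g) ≫ (t ≫ pullback.snd g g))) :=
    fun i => hf.base_change _ (fun j => pullback.fst (f j) _) _
      (fun j => IsPullback.of_hasPullback _ _)
  have hAB := hA.comp (fun i j => pullback.snd (f j)
      (pullback.snd (f i) (t ≫ pullback.fst g g) ≫ (t ≫ pullback.snd g g))) hB
  obtain ⟨n, p, G, φ, hG, hφ⟩ := hAB.exists_finite_qc_refinement hE hT
  refine isQC_pullback_of_finite_cover (pullback.diagonal g) t G _ hφ (fun k => ?_)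
  refine isQC_pullback_diagonal_aux g (f (p k).1) (f (p k).2) t
    (φ k ≫ pullback.snd (f (p k).2)
      (pullback.snd (f (p k).1) (t ≫ pullback.fst g g) ≫ (t ≫ pullback.snd g g)) ≫
      pullback.fst (f (p k).1) (t ≫ pullback.fst g g))
    (φ k ≫ pullback.fst (f (p k).2)
      (pullback.snd (f (p k).1) (t ≫ pullback.fst g g) ≫ (t ≫ pullback.snd g g)))
    _ ?_ ?_ (hG k) (hqc _) (hqs _)
  · simp only [Category.assoc]
    rw [pullback.condition]
  · simp only [Category.assoc]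
    rw [pullback.condition]

/-- S3065. -/
theorem isQCHom_of_finite_jsurj {κ : Type w} [Finite κ] {Y Z : Sh J} (g : Y ⟶ Z)
    (X : κ → Sh J) (f : ∀ k, X k ⟶ Y) (hf : JSurj f) (h : ∀ k, IsQCHom (f k ≫ g)) :
    IsQCHom g := fun Z' t hZ' =>
  isQC_pullback_of_finite_cover_left g t X f hf (fun k => h k Z' t hZ')

end Groth.Agent.Lib.Helper14.Topos
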