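import Groth.Agent.Lib.Helper14.Topos6
import Groth.Agent.Lib.Helper14.DiagPB

/-!
# Locality on the target for quasi-compact / quasi-separated morphisms (helper14)
-/

set_option autoImplicit false

universe u w

open CategoryTheory CategoryTheory.Limits Opposite

namespace Groth.Agent.Lib.Helper14.Topos

open ToposFin Groth.Agent.Lib.helper23.QCHom

variable {C : Type u} [SmallCategory C] {J : GrothendieckTopology C}

theorem sec_comp {A B D : Sh J} (φ : A ⟶ B) (ψ : B ⟶ D) (U : Cᵒᵖ) (a : A.obj.obj U) :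
    (φ ≫ ψ).hom.app U a = ψ.hom.app U (φ.hom.app U a) := rfl

theorem sec_naturality {A B : Sh J} (φ : A ⟶ B) {U V : Cᵒᵖ} (r : U ⟶ V) (a : A.obj.obj U) :
    φ.hom.app V (A.obj.map r a) = B.obj.map r (φ.hom.app U a) :=
  ConcreteCategory.congr_hom (φ.hom.naturality r) a

theorem sec_congr {A B : Sh J} {φ ψ : A ⟶ B} (h : φ = ψ) (U : Cᵒᵖ) (a : A.obj.obj U) :
    φ.hom.app U a = ψ.hom.app U a := by rw [h]

/-- General form of locality on the target for quasi-compact morphisms. -/
theorem isQCHom_of_jsurj_target' (hE : HasQCGenerators J) {X Y : Sh J} (f : X ⟶ Y) {ι : Type u}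
    (Yi : ι → Sh J) (g : ∀ i, Yi i ⟶ Y) (hg : JSurj g) (Xi : ι → Sh J) (p : ∀ i, Xi i ⟶ X)
    (f' : ∀ i, Xi i ⟶ Yi i) (hsq : ∀ i, IsPullback (p i) (f' i) f (g i))
    (h : ∀ i, IsQCHom (f' i)) : IsQCHom f := by
  intro Y' t hY'
  have h1 : JSurj (fun j => pullback.snd (g j) t) :=
    hg.base_change t (fun j => pullback.fst (g j) t) _ (fun j => IsPullback.of_hasPullback (g j) t)
  obtain ⟨n, j, G, φ, hG, hφ⟩ := h1.exists_finite_qc_refinement hE hY'
  refine isQC_pullback_of_finite_cover f t G _ hφ (fun k => ?_)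
  have e : (φ k ≫ pullback.snd (g (j k)) t) ≫ t = (φ k ≫ pullback.fst (g (j k)) t) ≫ g (j k) := by
    rw [Category.assoc, Category.assoc, pullback.condition]
  refine isQC_pullback_congr rfl e.symm ?_
  exact isQC_pullback_comp_of_isPullback (hsq (j k)) (h (j k)) _ (hG k)

theorem isQCHom_of_jsurj_target (hE : HasQCGenerators J) {X Y : Sh J} (f : X ⟶ Y) {ι : Type u}
    (Yi : ι → Sh J) (g : ∀ i, Yi i ⟶ Y) (hg : JSurj g)
    (h : ∀ i, IsQCHom (pullback.snd f (g i))) : IsQCHom f :=
  isQCHom_of_jsurj_target' hE f Yi g hg _ _ _ (fun i => IsPullback.of_hasPullback f (g i)) h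

theorem jsurj_diagonalObj_map {X Y : Sh J} (f : X ⟶ Y) {ι : Type w} (Yi : ι → Sh J)
    (g : ∀ i, Yi i ⟶ Y) (hg : JSurj g) :
    JSurj (fun i => pullback.map (pullback.snd f (g i)) (pullback.snd f (g i)) f f
      (pullback.fst f (g i)) (pullback.fst f (g i)) (g i) pullback.condition.symm
      pullback.condition.symm) := by
  intro V w
  have hx : f.hom.app (op V) ((pullback.fst f f).hom.app (op V) w) =
      f.hom.app (op V) ((pullback.snd f f).hom.app (op V) w) :=
    sec_congr (pullback.condition (f := f) (g := f)) (op V) w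
  obtain ⟨S, hS, hy⟩ := hg V (f.hom.app (op V) ((pullback.fst f f).hom.app (op V) w))
  refine ⟨S, hS, fun W r hr => ?_⟩
  obtain ⟨i, y', hy'⟩ := hy r hr
  obtain ⟨u, hu1, hu2⟩ := exists_section_of_isPullback (IsPullback.of_hasPullback f (g i)) W
    (X.obj.map r.op ((pullback.fst f f).hom.app (op V) w)) y' (by
      rw [sec_naturality, hy'])
  obtain ⟨v, hv1, hv2⟩ := exists_section_of_isPullback (IsPullback.of_hasPullback f (g i)) W
    (X.obj.map r.op ((pullback.snd f f).hom.app (op V) w)) y' (by
      rw [sec_naturality, ← hx, hy'])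
  obtain ⟨z, hz1, hz2⟩ := exists_section_of_isPullback
    (IsPullback.of_hasPullback (pullback.snd f (g i)) (pullback.snd f (g i))) W u v (by
      rw [hu2, hv2])
  refine ⟨i, z, ?_⟩
  apply section_ext_of_isPullback (IsPullback.of_hasPullback f f)
  · rw [← sec_comp, sec_naturality]
    have := sec_congr (pullback.lift_fst (pullback.fst (pullback.snd f (g i))
      (pullback.snd f (g i)) ≫ pullback.fst f (g i)) (pullback.snd (pullback.snd f (g i))
      (pullback.snd f (g i)) ≫ pullback.fst f (g i)) (by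
        rw [Category.assoc, Category.assoc, pullback.condition, pullback.condition_assoc]))
      (op W) z
    erw [this]
    rw [sec_comp, hz1, hu1]
  · rw [← sec_comp, sec_naturality]
    have := sec_congr (pullback.lift_snd (pullback.fst (pullback.snd f (g i))
      (pullback.snd f (g i)) ≫ pullback.fst f (g i)) (pullback.snd (pullback.snd f (g i))
      (pullback.snd f (g i)) ≫ pullback.fst f (g i)) (by
        rw [Category.assoc, Category.assoc, pullback.condition, pullback.condition_assoc]))
      (op W) z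
    erw [this]
    rw [sec_comp, hz2, hv1]

/-- Locality on the target for quasi-separated morphisms. -/
theorem isQSHom_of_jsurj_target (hE : HasQCGenerators J) {X Y : Sh J} (f : X ⟶ Y) {ι : Type u}
    (Yi : ι → Sh J) (g : ∀ i, Yi i ⟶ Y) (hg : JSurj g)
    (h : ∀ i, IsQSHom (pullback.snd f (g i))) : IsQSHom f :=
  isQCHom_of_jsurj_target' hE (pullback.diagonal f) _ _ (jsurj_diagonalObj_map f Yi g hg) _ _ _
    (fun i => isPullback_diagonal_snd f (g i)) h

end Groth.Agent.Lib.Helper14.Topos
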