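import Groth.Agent.Lib.Helper14.Topos5
import Mathlib.CategoryTheory.Sites.LocallySurjective
import Mathlib.CategoryTheory.Sites.LocallyInjective
import Mathlib.CategoryTheory.Sites.LeftExact
import Mathlib.CategoryTheory.Limits.Yoneda

/-!
# Sheaves associated to representable presheaves (helper14)
-/

set_option autoImplicit false

universe u w

open CategoryTheory CategoryTheory.Limits Opposite

namespace Groth.Agent.Lib.Helper14.Topos

open ToposFin Groth.Agent.Lib.helper23.QCHom

variable {C : Type u} [SmallCategory C] (J : GrothendieckTopology C)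

/-- The functor `X ↦ eps J X` on morphisms. -/
noncomputable def epsMap {V X : C} (g : V ⟶ X) : eps J V ⟶ eps J X :=
  (presheafToSheaf J (Type u)).map (yoneda.map g)

/-- The section of `eps J X` over `U` attached to an arrow `a : U ⟶ X`. -/
noncomputable def secOf {U X : C} (a : U ⟶ X) : (eps J X).obj.obj (op U) :=
  (toSheafify J (yoneda.obj X)).app (op U) a

theorem map_secOf {U V X : C} (f : V ⟶ U) (a : U ⟶ X) :
    (eps J X).obj.map f.op (secOf J a) = secOf J (f ≫ a) := by
  have h := ConcreteCategory.congr_hom ((toSheafify J (yoneda.obj X)).naturality f.op) a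
  exact h.symm

theorem epsMap_secOf {U X X' : C} (g : X ⟶ X') (a : U ⟶ X) :
    (epsMap J g).hom.app (op U) (secOf J a) = secOf J (a ≫ g) := by
  have h := congr_app (toSheafify_naturality J (yoneda.map g)) (op U)
  have h2 := ConcreteCategory.congr_hom h a
  exact h2.symm

theorem exists_cover_secOf {U X : C} (x : (eps J X).obj.obj (op U)) :
    ∃ S ∈ J U, ∀ ⦃V : C⦄ (f : V ⟶ U), S f → ∃ a : V ⟶ X, secOf J a = (eps J X).obj.map f.op x := by
  refine ⟨_, Presheaf.imageSieve_mem J (toSheafify J (yoneda.obj X)) (U := op U) x, ?_⟩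
  intro V f hf
  exact hf

theorem exists_cover_of_secOf_eq {U X : C} (a b : U ⟶ X) (h : secOf J a = secOf J b) :
    ∃ S ∈ J U, ∀ ⦃V : C⦄ (f : V ⟶ U), S f → f ≫ a = f ≫ b := by
  refine ⟨_, Presheaf.equalizerSieve_mem J (toSheafify J (yoneda.obj X)) (X := op U) a b h, ?_⟩
  intro V f hf
  exact hf

variable {J}

/-- The morphism `eps J U ⟶ F` attached to a section of `F` over `U`. -/
noncomputable def secMap (F : Sh J) {U : C} (s : F.obj.obj (op U)) : eps J U ⟶ F :=
  ⟨sheafifyLift J (yonedaEquiv.symm s) F.2⟩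

theorem secMap_secOf (F : Sh J) {U V : C} (s : F.obj.obj (op U)) (a : V ⟶ U) :
    (secMap F s).hom.app (op V) (secOf J a) = F.obj.map a.op s := by
  have h := congr_app (toSheafify_sheafifyLift J (yonedaEquiv.symm s) F.2) (op V)
  have h2 := ConcreteCategory.congr_hom h a
  refine h2.trans ?_
  exact yonedaEquiv_symm_app_apply s (op V) a

theorem secMap_secOf_id (F : Sh J) {U : C} (s : F.obj.obj (op U)) :
    (secMap F s).hom.app (op U) (secOf J (𝟙 U)) = s := by
  rw [secMap_secOf]
  simp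

theorem eps_hom_ext {U : C} {F : Sh J} (φ ψ : eps J U ⟶ F)
    (h : φ.hom.app (op U) (secOf J (𝟙 U)) = ψ.hom.app (op U) (secOf J (𝟙 U))) : φ = ψ := by
  ext1
  apply sheafify_hom_ext J _ _ F.2
  apply yonedaEquiv.injective
  exact h

theorem eq_secMap {U : C} {F : Sh J} (φ : eps J U ⟶ F) :
    φ = secMap F (φ.hom.app (op U) (secOf J (𝟙 U))) :=
  eps_hom_ext _ _ (secMap_secOf_id F _).symm

theorem epsMap_eq_secMap {V X : C} (g : V ⟶ X) : epsMap J g = secMap (eps J X) (secOf J g) := by
  apply eps_hom_ext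
  rw [epsMap_secOf, secMap_secOf_id, Category.id_comp]

theorem secMap_comp {F G : Sh J} (φ : F ⟶ G) {U : C} (s : F.obj.obj (op U)) :
    secMap F s ≫ φ = secMap G (φ.hom.app (op U) s) := by
  apply eps_hom_ext
  rw [sec_comp, secMap_secOf_id, secMap_secOf_id]

/-- The family of all sections of a sheaf, as maps from the `eps J U`, is jointly surjective. -/
theorem jsurj_secMap (F : Sh J) :
    JSurj (fun p : (Σ U : C, F.obj.obj (op U)) => secMap F p.2) := by
  intro U x
  refine ⟨⊤, J.top_mem U, fun V f _ => ?_⟩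
  refine ⟨⟨V, F.obj.map f.op x⟩, secOf J (𝟙 V), ?_⟩
  exact secMap_secOf_id F _

/-- A covering family of arrows induces a jointly surjective family of sheaves. -/
theorem jsurj_epsMap_of_mem {ι : Type w} {X : C} (V : ι → C) (g : ∀ i, V i ⟶ X)
    (h : Sieve.ofArrows V g ∈ J X) : JSurj (fun i => epsMap J (g i)) := by
  intro U x
  obtain ⟨T, hT, hx⟩ := exists_cover_secOf J x
  choose a ha using hx
  refine ⟨Sieve.bind T (fun W t ht => (Sieve.ofArrows V g).pullback (a t ht)),
    J.bind_covering hT (fun W t ht => J.pullback_stable (a t ht) h), ?_⟩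
  rintro W' r ⟨W, q, t, ht, hq, rfl⟩
  obtain ⟨i, m, hm⟩ := (Sieve.mem_ofArrows_iff _ _ _).1 hq
  refine ⟨i, secOf J m, ?_⟩
  rw [epsMap_secOf, ← hm, ← map_secOf, ha t ht, op_comp, Functor.map_comp]
  rfl

/-- Conversely, a family of arrows inducing a jointly surjective family of sheaves is covering. -/
theorem mem_of_jsurj_epsMap {ι : Type w} {X : C} (V : ι → C) (g : ∀ i, V i ⟶ X)
    (h : JSurj (fun i => epsMap J (g i))) : Sieve.ofArrows V g ∈ J X := by
  obtain ⟨T, hT, hx⟩ := h X (secOf J (𝟙 X))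
  refine J.transitive hT _ (fun W t ht => ?_)
  obtain ⟨i, y, hy⟩ := hx t ht
  obtain ⟨R, hR, hy'⟩ := exists_cover_secOf J y
  refine J.transitive hR _ (fun W' r hr => ?_)
  obtain ⟨b, hb⟩ := hy' r hr
  have hkey : secOf J (b ≫ g i) = secOf J (r ≫ t) := by
    rw [← epsMap_secOf, hb, sec_naturality, hy, map_secOf, map_secOf, Category.comp_id]
  obtain ⟨Q, hQ, hq⟩ := exists_cover_of_secOf_eq J _ _ hkey
  refine J.superset_covering ?_ hQ
  intro W'' q hqQ
  change Sieve.ofArrows V g ((q ≫ r) ≫ t)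
  rw [Category.assoc, ← hq q hqQ, ← Category.assoc]
  exact Sieve.downward_closed _ (Sieve.ofArrows_mk V g i) _

theorem mem_iff_jsurj_epsMap {ι : Type w} {X : C} (V : ι → C) (g : ∀ i, V i ⟶ X) :
    Sieve.ofArrows V g ∈ J X ↔ JSurj (fun i => epsMap J (g i)) :=
  ⟨jsurj_epsMap_of_mem V g, mem_of_jsurj_epsMap V g⟩

/-- S3056. -/
theorem isQCSite_iff_isQC_eps (X : C) : IsQCSite J X ↔ IsQC (eps J X) := by
  constructor
  · intro hX
    rw [isQC_iff]
    intro ι F π hπ
    classical
    obtain ⟨S, hS, hx⟩ := hπ X (secOf J (𝟙 X))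
    obtain ⟨n, V, g, hgS, hg⟩ := hX S hS
    choose i y hy using fun k => hx (g k) (hgS k)
    refine ⟨Finset.univ.image i, ?_⟩
    refine (jsurj_epsMap_of_mem V g hg).of_refine _ (fun k => ?_)
    refine ⟨⟨i k, Finset.mem_image.2 ⟨k, Finset.mem_univ k, rfl⟩⟩, secMap (F (i k)) (y k), ?_⟩
    rw [secMap_comp, epsMap_eq_secMap, hy k, map_secOf, Category.comp_id]
  · intro hX S hS
    let ι := Σ V : C, {f : V ⟶ X // S f}
    have hcov : Sieve.ofArrows (fun p : ι => p.1) (fun p => p.2.1) ∈ J X := by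
      refine J.superset_covering ?_ hS
      intro V f hf
      exact Sieve.ofArrows_mk (fun p : ι => p.1) (fun p => p.2.1) ⟨V, f, hf⟩
    obtain ⟨n, p, hp⟩ := (jsurj_epsMap_of_mem _ _ hcov).exists_fin hX
    exact ⟨n, fun k => (p k).1, fun k => (p k).2.1, fun k => (p k).2.2,
      mem_of_jsurj_epsMap _ _ hp⟩

end Groth.Agent.Lib.Helper14.Topos
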