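import Groth.Agent.Lib.Helper14.Topos8

/-!
# Sites with fibre products all of whose objects are quasi-compact (helper14)
-/

set_option autoImplicit false

universe u w

open CategoryTheory CategoryTheory.Limits Opposite

namespace Groth.Agent.Lib.Helper14.Topos

open ToposFin Groth.Agent.Lib.helper23.QCHom

variable {C : Type u} [SmallCategory C] {J : GrothendieckTopology C}

theorem epsMap_eq_map {V X : C} (g : V ⟶ X) :
    epsMap J g = (yoneda ⋙ presheafToSheaf J (Type u)).map g := rfl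

/-- `eps` preserves pullback squares. -/
theorem isPullback_epsMap {P U V X : C} {p : P ⟶ U} {q : P ⟶ V} {f : U ⟶ X} {g : V ⟶ X}
    (h : IsPullback p q f g) :
    IsPullback (epsMap J p) (epsMap J q) (epsMap J f) (epsMap J g) := by
  have := h.map (yoneda ⋙ presheafToSheaf J (Type u))
  exact this

theorem hasQCGenerators_of_site (hC : ∀ X : C, IsQCSite J X) : HasQCGenerators J := by
  rw [hasQCGenerators_iff]
  intro F
  exact ⟨(Σ U : C, F.obj.obj (op U)), fun p => eps J p.1, fun p => secMap F p.2,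
    fun p => (isQCSite_iff_isQC_eps p.1).1 (hC p.1), jsurj_secMap F⟩

/-- Every morphism `eps U ⟶ eps X` is, on a finite cover of `U`, induced by arrows of the site. -/
theorem exists_finite_cover_epsMap {U X : C} (hU : IsQCSite J U) (φ : eps J U ⟶ eps J X) :
    ∃ (n : ℕ) (V : Fin n → C) (g : ∀ k, V k ⟶ U) (a : ∀ k, V k ⟶ X),
      JSurj (fun k => epsMap J (g k)) ∧ ∀ k, epsMap J (g k) ≫ φ = epsMap J (a k) := by
  obtain ⟨S, hS, hx⟩ := exists_cover_secOf J (φ.hom.app (op U) (secOf J (𝟙 U)))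
  obtain ⟨n, V, g, hgS, hg⟩ := hU S hS
  choose a ha using fun k => hx (g k) (hgS k)
  refine ⟨n, V, g, a, jsurj_epsMap_of_mem V g hg, fun k => ?_⟩
  apply eps_hom_ext
  rw [sec_comp, epsMap_secOf, epsMap_secOf, Category.id_comp, Category.id_comp, ha k,
    ← sec_naturality, map_secOf, Category.comp_id]

variable [HasPullbacks C]

theorem isQC_pullback_epsMap (hC : ∀ X : C, IsQCSite J X) {U V X : C} (a : U ⟶ X) (b : V ⟶ X) :
    IsQC (pullback (epsMap J a) (epsMap J b)) :=
  isQC_of_iso (isPullback_epsMap (IsPullback.of_hasPullback a b)).isoPullback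
    ((isQCSite_iff_isQC_eps _).1 (hC _))

theorem isQC_pullback_eps (hC : ∀ X : C, IsQCSite J X) {U V X : C} (φ : eps J U ⟶ eps J X)
    (ψ : eps J V ⟶ eps J X) : IsQC (pullback φ ψ) := by
  obtain ⟨n, U', g, a, hg, hga⟩ := exists_finite_cover_epsMap (hC U) φ
  obtain ⟨m, V', h, b, hh, hhb⟩ := exists_finite_cover_epsMap (hC V) ψ
  refine isQC_pullback_of_finite_cover_left φ ψ _ _ hg (fun k => ?_)
  refine isQC_pullback_of_finite_cover _ ψ _ _ hh (fun l => ?_)
  exact isQC_pullback_congr (hga k).symm (hhb l).symm (isQC_pullback_epsMap hC (a k) (b l))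

/-- S3069: the sheaves `eps X` are quasi-separated. -/
theorem isQS_eps (hC : ∀ X : C, IsQCSite J X) (X : C) : IsQS (eps J X) := by
  intro A B a b hA hB
  obtain ⟨n, p, hp⟩ := (jsurj_secMap A).exists_fin hA
  obtain ⟨m, q, hq⟩ := (jsurj_secMap B).exists_fin hB
  refine isQC_pullback_of_finite_cover_left a b _ _ hp (fun k => ?_)
  refine isQC_pullback_of_finite_cover _ b _ _ hq (fun l => ?_)
  exact isQC_pullback_eps hC _ _

theorem isCoherent_eps (hC : ∀ X : C, IsQCSite J X) (X : C) : IsCoherent (eps J X) :=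
  ⟨(isQCSite_iff_isQC_eps X).1 (hC X), isQS_eps hC X⟩

/-- Morphisms of sheaves induced by arrows of the site are quasi-separated. -/
theorem isQSHom_epsMap (hC : ∀ X : C, IsQCSite J X) {V X : C} (a : V ⟶ X) :
    IsQSHom (epsMap J a) := by
  refine isQCHom_of_isQC_of_isQS _ ((isQCSite_iff_isQC_eps V).1 (hC V)) ?_
  exact isQS_of_iso (isPullback_epsMap (IsPullback.of_hasPullback a a)).isoPullback.symm
    (isQS_eps hC _)

/-- All morphisms `eps U ⟶ eps X` are quasi-separated. -/
theorem isQSHom_eps (hC : ∀ X : C, IsQCSite J X) {U X : C} (φ : eps J U ⟶ eps J X) :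
    IsQSHom φ := by
  obtain ⟨n, V, g, a, hg, hga⟩ := exists_finite_cover_epsMap (hC U) φ
  have hg' : JSurj (fun k : ULift.{u} (Fin n) => epsMap J (g k.down)) :=
    hg.of_refine _ (fun k => ⟨⟨k⟩, 𝟙 _, Category.id_comp _⟩)
  refine isQSHom_of_jsurj_qcHom (hasQCGenerators_of_site hC) φ _ _ hg' (fun k => ?_) (fun k => ?_)
  · exact isQCHom_of_isQC_of_isQS _ ((isQCSite_iff_isQC_eps _).1 (hC _)) (isQS_eps hC U)
  · rw [hga]
    exact isQSHom_epsMap hC _

/-- S5584 (first part): morphisms from quasi-separated objects to `eps X` are quasi-separated. -/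
theorem isQSHom_to_eps (hC : ∀ X : C, IsQCSite J X) {X : C} {G : Sh J} (g : G ⟶ eps J X)
    (hG : IsQS G) : IsQSHom g := by
  refine isQSHom_of_jsurj_qcHom (hasQCGenerators_of_site hC) g _ _ (jsurj_secMap G)
    (fun p => ?_) (fun p => ?_)
  · exact isQCHom_of_isQC_of_isQS _ ((isQCSite_iff_isQC_eps _).1 (hC _)) hG
  · exact isQSHom_eps hC _

/-- S5584 (second part). -/
theorem isQS_pullback_over_eps (hC : ∀ X : C, IsQCSite J X) {X : C} {G H : Sh J}
    (g : G ⟶ eps J X) (h : H ⟶ eps J X) (hG : IsQS G) (hH : IsQS H) : IsQS (pullback g h) :=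
  isQS_of_isQSHom (pullback.snd g h)
    (isQSHom_of_isPullback (IsPullback.of_hasPullback g h) (isQSHom_to_eps hC g hG)) hH

/-- The comparison `G ×_F H ⟶ G ×_E H`. -/
noncomputable def pbDesc {G H F E : Sh J} (a : G ⟶ F) (b : H ⟶ F) (w : F ⟶ E) :
    pullback a b ⟶ pullback (a ≫ w) (b ≫ w) :=
  pullback.lift (pullback.fst a b) (pullback.snd a b)
    (by rw [← Category.assoc, pullback.condition, Category.assoc])

instance mono_pbDesc {G H F E : Sh J} (a : G ⟶ F) (b : H ⟶ F) (w : F ⟶ E) :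
    Mono (pbDesc a b w) := by
  refine ⟨fun {T} s t hst => ?_⟩
  apply pullback.hom_ext
  · have := congrArg (fun r => r ≫ pullback.fst (a ≫ w) (b ≫ w)) hst
    dsimp only [pbDesc] at this
    rw [Category.assoc, Category.assoc, pullback.lift_fst] at this
    exact this
  · have := congrArg (fun r => r ≫ pullback.snd (a ≫ w) (b ≫ w)) hst
    dsimp only [pbDesc] at this
    rw [Category.assoc, Category.assoc, pullback.lift_snd] at this
    exact this

/-- S5583. -/
theorem isCoherent_pullback_over_eps (hC : ∀ X : C, IsQCSite J X) {G H F : Sh J} (a : G ⟶ F)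
    (b : H ⟶ F) (hG : IsCoherent G) (hH : IsCoherent H) (hF : IsCoherent F) (X : C)
    (w : F ⟶ eps J X) : IsCoherent (pullback a b) :=
  ⟨hF.2 _ _ a b hG.1 hH.1,
    isQS_of_mono (pbDesc a b w) (isQS_pullback_over_eps hC _ _ hG.2 hH.2)⟩

end Groth.Agent.Lib.Helper14.Topos
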