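import Groth.Agent.Lib.Helper14.Topos12
import Groth.Agent.Lib.Helper14.Topos14
import Groth.Agent.Lib.Helper14.CanTop3

set_option autoImplicit false
universe u w
open CategoryTheory CategoryTheory.Limits Opposite

namespace Groth.Agent.Lib.Helper14.Topos

open ToposFin Groth.Agent.Lib.Helper14.CanTop

variable {C : Type u} [SmallCategory C] {J : GrothendieckTopology C}

/-- sections of an equalizer -/
theorem exists_section_equalizer {X Y : Sh J} (a b : X ⟶ Y) {V : C} (x : X.obj.obj (op V))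
    (h : a.hom.app (op V) x = b.hom.app (op V) x) :
    ∃ z : (equalizer a b).obj.obj (op V), (equalizer.ι a b).hom.app (op V) z = x := by
  have hc : secMap X x ≫ a = secMap X x ≫ b := by
    rw [secMap_comp, secMap_comp, h]
  refine ⟨(equalizer.lift (secMap X x) hc).hom.app (op V) (secOf J (𝟙 V)), ?_⟩
  rw [← sec_comp, equalizer.lift_ι, secMap_secOf_id]

/-- the legs of a colimit cocone are jointly surjective -/
theorem jsurj_cocone_ι {I : Type u} [SmallCategory I] {K : I ⥤ Sh J} (c : Cocone K)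
    (hc : IsColimit c) : JSurj (fun i => c.ι.app i) := by
  rw [jsurj_iff_jepi]
  intro Z a b hab
  exact hc.hom_ext hab

theorem exists_common_arrow {I : Type u} [SmallCategory I] [IsFiltered I] {i : I}
    (S : Finset (Σ k : I, (i ⟶ k))) :
    ∃ (k : I) (s : i ⟶ k), ∀ t ∈ S, ∃ r : t.1 ⟶ k, t.2 ≫ r = s := by
  classical
  induction S using Finset.induction_on with
  | empty => exact ⟨i, 𝟙 i, fun t ht => absurd ht (Finset.notMem_empty t)⟩
  | insert t0 S _ ih =>
    obtain ⟨k, s, hs⟩ := ih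
    let k1 := IsFiltered.max k t0.1
    let a : i ⟶ k1 := s ≫ IsFiltered.leftToMax k t0.1
    let b : i ⟶ k1 := t0.2 ≫ IsFiltered.rightToMax k t0.1
    let m := IsFiltered.coeqHom a b
    have hm : a ≫ m = b ≫ m := IsFiltered.coeq_condition a b
    refine ⟨IsFiltered.coeq a b, a ≫ m, fun t ht => ?_⟩
    rcases Finset.mem_insert.1 ht with rfl | ht
    · exact ⟨IsFiltered.rightToMax k t.1 ≫ m, by rw [hm]; simp [b]⟩
    · obtain ⟨r, hr⟩ := hs t ht
      exact ⟨r ≫ IsFiltered.leftToMax k t0.1 ≫ m, by simp [a, ← hr]⟩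

theorem exists_eq_of_isQC {X : Sh J} (hX : IsQC X) {I : Type u} [SmallCategory I] [IsFiltered I]
    (D : I ⥤ Sh J) {i : I} (f g : X ⟶ D.obj i)
    (h : f ≫ colimit.ι D i = g ≫ colimit.ι D i) :
    ∃ (k : I) (s : i ⟶ k), f ≫ D.map s = g ≫ D.map s := by
  classical
  -- the family of equalizers
  let T := Σ k : I, (i ⟶ k)
  let E : T → Sh J := fun t => equalizer (f ≫ D.map t.2) (g ≫ D.map t.2)
  let π : ∀ t, E t ⟶ X := fun t => equalizer.ι _ _
  have hπ : JSurj π := by
    intro U x
    have hxy : (colimit.ι D i).hom.app (op U) (f.hom.app (op U) x) =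
        (colimit.ι D i).hom.app (op U) (g.hom.app (op U) x) := by
      rw [← sec_comp, ← sec_comp, h]
    obtain ⟨S, hS, hS'⟩ := exists_cover_of_colimit_eq (colimit.cocone D) (colimit.isColimit D)
      (i := i) (j := i) (f.hom.app (op U) x) (g.hom.app (op U) x) hxy
    refine ⟨S, hS, fun V r hr => ?_⟩
    -- use the colimit of sections over V as the invariant
    let Dv : I ⥤ Type u := D ⋙ (sheafSections J (Type u)).obj (op V)
    have hinv := hS' r hr (M := colimit Dv) (fun k z => colimit.ι Dv k z)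
      (fun k k' φ z => ConcreteCategory.congr_hom (colimit.w Dv φ) z)
    obtain ⟨k, s, s', hss⟩ := (Types.FilteredColimit.colimit_eq_iff Dv).1 hinv
    -- coequalize
    let k' := IsFiltered.coeq s s'
    let m := IsFiltered.coeqHom s s'
    have hm : s ≫ m = s' ≫ m := IsFiltered.coeq_condition s s'
    have hss' : (D.map (s ≫ m)).hom.app (op V) ((D.obj i).obj.map r.op (f.hom.app (op U) x)) =
        (D.map (s ≫ m)).hom.app (op V) ((D.obj i).obj.map r.op (g.hom.app (op U) x)) := by
      have h1 : (D.map s).hom.app (op V) ((D.obj i).obj.map r.op (f.hom.app (op U) x)) =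
        (D.map s').hom.app (op V) ((D.obj i).obj.map r.op (g.hom.app (op U) x)) := hss
      conv_rhs => rw [hm]
      rw [D.map_comp, D.map_comp, sec_comp, sec_comp, h1]
    let t : T := ⟨k', s ≫ m⟩
    have hx : (f ≫ D.map t.2).hom.app (op V) (X.obj.map r.op x) =
        (g ≫ D.map t.2).hom.app (op V) (X.obj.map r.op x) := by
      have e1 : f.hom.app (op V) (X.obj.map r.op x) =
          (D.obj i).obj.map r.op (f.hom.app (op U) x) := sec_naturality f r.op x
      have e2 : g.hom.app (op V) (X.obj.map r.op x) =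
          (D.obj i).obj.map r.op (g.hom.app (op U) x) := sec_naturality g r.op x
      rw [sec_comp, sec_comp, e1, e2]
      exact hss'
    obtain ⟨z, hz⟩ := exists_section_equalizer _ _ (X.obj.map r.op x) hx
    exact ⟨t, z, hz⟩
  obtain ⟨S, hS⟩ := (isQC_iff X).1 hX T E π hπ
  -- common refinement
  obtain ⟨k, s, hs⟩ := exists_common_arrow (i := i) S
  refine ⟨k, s, ?_⟩
  apply hS.jepi
  rintro ⟨t, ht⟩
  obtain ⟨r, hr⟩ := hs t ht
  have h1 : π t ≫ f ≫ D.map t.2 = π t ≫ g ≫ D.map t.2 := equalizer.condition _ _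
  rw [← hr, D.map_comp]
  simp only [← Category.assoc] at h1 ⊢
  rw [h1]


theorem jsurj_sigma_ι {n : ℕ} (G : Fin n → Sh J) : JSurj (fun k => Limits.Sigma.ι G k) := by
  rw [← epi_sigmaDesc_iff_jsurj]
  have : Limits.Sigma.desc (fun k => Limits.Sigma.ι G k) = 𝟙 _ := by
    apply Limits.Sigma.hom_ext
    intro k
    simp
  rw [this]
  infer_instance

theorem exists_factor_of_isCoherent (hE : HasQCGenerators J) {X : Sh J} (hX : IsCoherent X)
    {I : Type u} [SmallCategory I] [IsFiltered I] (D : I ⥤ Sh J) (φ : X ⟶ colimit D) :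
    ∃ (k : I) (f : X ⟶ D.obj k), f ≫ colimit.ι D k = φ := by
  classical
  have hι : JSurj (fun i => colimit.ι D i) :=
    jsurj_cocone_ι (colimit.cocone D) (colimit.isColimit D)
  have hρ : JSurj (fun i => pullback.snd (colimit.ι D i) φ) :=
    hι.base_change φ (fun i => pullback.fst (colimit.ι D i) φ) _
      (fun i => IsPullback.of_hasPullback (colimit.ι D i) φ)
  obtain ⟨n, i, G, γ, hG, hγ⟩ := hρ.exists_finite_qc_refinement hE hX.1
  obtain ⟨i0, hi0⟩ := IsFiltered.sup_objs_exists (Finset.univ.image i)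
  have hmap : ∀ k : Fin n, Nonempty (i k ⟶ i0) := fun k =>
    hi0 (Finset.mem_image_of_mem i (Finset.mem_univ k))
  let τ : ∀ k : Fin n, i k ⟶ i0 := fun k => (hmap k).some
  -- the coproduct
  let p : ∐ G ⟶ X := Limits.Sigma.desc (fun k => γ k ≫ pullback.snd (colimit.ι D (i k)) φ)
  haveI hp : Epi p := epi_sigmaDesc_iff_jsurj.2 hγ
  have hGqc : IsQC (∐ G) := isQC_of_jsurj_finite G _ (jsurj_sigma_ι G) hG
  let ψ : ∐ G ⟶ D.obj i0 :=
    Limits.Sigma.desc (fun k => γ k ≫ pullback.fst (colimit.ι D (i k)) φ ≫ D.map (τ k))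
  have hψ : ψ ≫ colimit.ι D i0 = p ≫ φ := by
    apply Limits.Sigma.hom_ext
    intro k
    simp only [ψ, p, Limits.Sigma.ι_desc_assoc, Category.assoc, colimit.w]
    rw [pullback.condition]
  -- kernel pair
  have hR : IsQC (pullback p p) := hX.2 _ _ p p hGqc hGqc
  have hab : (pullback.fst p p ≫ ψ) ≫ colimit.ι D i0 = (pullback.snd p p ≫ ψ) ≫ colimit.ι D i0 := by
    rw [Category.assoc, Category.assoc, hψ, ← Category.assoc, ← Category.assoc, pullback.condition]
  obtain ⟨k, s, hs⟩ := exists_eq_of_isQC hR D _ _ hab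
  obtain ⟨f, hf⟩ := exists_desc_of_epi p (ψ ≫ D.map s) (by
    simpa only [Category.assoc] using hs)
  refine ⟨k, f, ?_⟩
  rw [← cancel_epi p, ← Category.assoc, hf, Category.assoc, colimit.w, hψ]

/-- S3060-type statement. -/
theorem post_bijective_of_isCoherent (hE : HasQCGenerators J) {X : Sh J} (hX : IsCoherent X)
    (I : Type u) [SmallCategory I] [IsFiltered I] (D : I ⥤ Sh J) :
    Function.Bijective (colimit.post D (coyoneda.obj (op X))) := by
  have h1 := fun (i : I) (σ : X ⟶ D.obj i) =>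
    ConcreteCategory.congr_hom (colimit.ι_post D (coyoneda.obj (op X)) i) σ
  constructor
  · intro y y' hyy
    obtain ⟨i, α, β, rfl, rfl⟩ := Types.FilteredColimit.jointly_surjective_of_isColimit₂
      (colimit.isColimit (D ⋙ coyoneda.obj (op X))) y y'
    have h2 : (α : X ⟶ D.obj i) ≫ colimit.ι D i = (β : X ⟶ D.obj i) ≫ colimit.ι D i :=
      (h1 i α).symm.trans (hyy.trans (h1 i β))
    obtain ⟨k, s, hs⟩ := exists_eq_of_isQC hX.1 D α β h2
    exact (Types.FilteredColimit.isColimit_eq_iff'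
      (colimit.isColimit (D ⋙ coyoneda.obj (op X))) (i := i) α β).2 ⟨k, s, hs⟩
  · intro φ
    obtain ⟨k, f, hf⟩ := exists_factor_of_isCoherent hE hX D φ
    exact ⟨colimit.ι (D ⋙ coyoneda.obj (op X)) k f, (h1 k f).trans hf⟩

theorem post_injective_of_isQC {X : Sh J} (hX : IsQC X)
    (I : Type u) [SmallCategory I] [IsFiltered I] (D : I ⥤ Sh J) :
    Function.Injective (colimit.post D (coyoneda.obj (op X))) := by
  have h1 := fun (i : I) (σ : X ⟶ D.obj i) =>
    ConcreteCategory.congr_hom (colimit.ι_post D (coyoneda.obj (op X)) i) σ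
  intro y y' hyy
  obtain ⟨i, α, β, rfl, rfl⟩ := Types.FilteredColimit.jointly_surjective_of_isColimit₂
    (colimit.isColimit (D ⋙ coyoneda.obj (op X))) y y'
  have h2 : (α : X ⟶ D.obj i) ≫ colimit.ι D i = (β : X ⟶ D.obj i) ≫ colimit.ι D i :=
    (h1 i α).symm.trans (hyy.trans (h1 i β))
  obtain ⟨k, s, hs⟩ := exists_eq_of_isQC hX D α β h2
  exact (Types.FilteredColimit.isColimit_eq_iff'
    (colimit.isColimit (D ⋙ coyoneda.obj (op X))) (i := i) α β).2 ⟨k, s, hs⟩

end Groth.Agent.Lib.Helper14.Topos
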