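import Groth.Agent.Lib.Helper14.ToposFP1

set_option autoImplicit false
universe u w
open CategoryTheory CategoryTheory.Limits Opposite

namespace Groth.Agent.Lib.Helper14.Topos

open ToposFin Groth.Agent.Lib.Helper14.CanTop

variable {C : Type u} [SmallCategory C] {J : GrothendieckTopology C}

theorem exists_eq_of_post_injective {X : Sh J}
    (hX : ∀ (I : Type u) [SmallCategory I] [IsFiltered I] (D : I ⥤ Sh J),
      Function.Injective (colimit.post D (coyoneda.obj (op X))))
    {I : Type u} [SmallCategory I] [IsFiltered I]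
    {D : I ⥤ Sh J} {cc : Cocone D} (hcc : IsColimit cc) {i : I} (α β : X ⟶ D.obj i)
    (h : α ≫ cc.ι.app i = β ≫ cc.ι.app i) :
    ∃ (j : I) (m : i ⟶ j), α ≫ D.map m = β ≫ D.map m := by
  let e : colimit D ≅ cc.pt := colimit.isoColimitCocone ⟨cc, hcc⟩
  have he : ∀ i, colimit.ι D i ≫ e.hom = cc.ι.app i := fun i =>
    colimit.isoColimitCocone_ι_hom ⟨cc, hcc⟩ i
  have h' : α ≫ colimit.ι D i = β ≫ colimit.ι D i := by
    rw [← cancel_mono e.hom, Category.assoc, Category.assoc, he, h]
  have h1 := fun σ : X ⟶ D.obj i =>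
    ConcreteCategory.congr_hom (colimit.ι_post D (coyoneda.obj (op X)) i) σ
  have h2 : colimit.ι (D ⋙ coyoneda.obj (op X)) i α = colimit.ι (D ⋙ coyoneda.obj (op X)) i β := by
    apply hX I D
    exact (h1 α).trans (Eq.trans h' (h1 β).symm)
  obtain ⟨j, m, hm⟩ := (Types.FilteredColimit.isColimit_eq_iff'
    (colimit.isColimit (D ⋙ coyoneda.obj (op X))) (i := i) α β).1 h2
  exact ⟨j, m, hm⟩

theorem isQC_of_post_injective {X : Sh J}
    (hX : ∀ (I : Type u) [SmallCategory I] [IsFiltered I] (D : I ⥤ Sh J),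
      Function.Injective (colimit.post D (coyoneda.obj (op X)))) : IsQC X := by
  classical
  rw [isQC_iff]
  intro ι F π hπ
  let a : ∀ i, F i ⟶ X ⨿ X := fun i => π i ≫ coprod.inl
  let b : ∀ i, F i ⟶ X ⨿ X := fun i => π i ≫ coprod.inr
  let c : X ⨿ X ⟶ X := coprod.desc (𝟙 X) (𝟙 X)
  have hc : ∀ i, a i ≫ c = b i ≫ c := by
    intro i
    simp only [a, b, c, Category.assoc, coprod.inl_desc, coprod.inr_desc]
  have : Epi c := ⟨fun {Z} u v huv => by
    have h := congrArg (fun m => coprod.inl ≫ m) huv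
    dsimp only [c] at h
    rw [coprod.inl_desc_assoc, coprod.inl_desc_assoc, Category.id_comp, Category.id_comp] at h
    exact h⟩
  have huniv : ∀ (Z : Sh J) (z : X ⨿ X ⟶ Z), (∀ l, a l ≫ z = b l ≫ z) →
      ∃ z' : X ⟶ Z, c ≫ z' = z := by
    intro Z z hz
    have h1 : coprod.inl ≫ z = coprod.inr ≫ z := by
      apply hπ.jepi
      intro i
      have := hz i
      simpa only [a, b, Category.assoc] using this
    refine ⟨coprod.inl ≫ z, ?_⟩
    apply coprod.hom_ext
    · simp only [c, coprod.inl_desc_assoc, Category.id_comp]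
    · simp only [c, coprod.inr_desc_assoc, Category.id_comp, h1]
  obtain ⟨hcol⟩ := pqCocone_isColimit a b c hc huniv
  have e0 : (coprod.inl : X ⟶ X ⨿ X) ≫ c = coprod.inr ≫ c := by
    dsimp only [c]
    rw [coprod.inl_desc, coprod.inr_desc]
  obtain ⟨s, m, hm⟩ := exists_eq_of_post_injective hX hcol (i := ∅)
    (coprod.inl ≫ pqP a b ∅) (coprod.inr ≫ pqP a b ∅)
    (by
      rw [Category.assoc, Category.assoc, pqP_cocone]
      exact e0)
  rw [Category.assoc, Category.assoc, pqP_map] at hm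
  refine ⟨s, ?_⟩
  rw [jsurj_iff_jepi]
  intro Z u v huv
  have hd : ∀ l ∈ s, a l ≫ coprod.desc u v = b l ≫ coprod.desc u v := by
    intro l hl
    simp only [a, b, Category.assoc, coprod.inl_desc, coprod.inr_desc]
    exact huv ⟨l, hl⟩
  have := congrArg (fun m => m ≫ pqD a b s (coprod.desc u v) hd) hm
  simpa only [Category.assoc, pqP_D, coprod.inl_desc, coprod.inr_desc] using this

end Groth.Agent.Lib.Helper14.Topos
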