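import Groth.Agent.Lib.Helper14.ToposFP2
import Mathlib.CategoryTheory.Presentable.StrongGenerator
import Mathlib.CategoryTheory.Presentable.Retracts

set_option autoImplicit false
universe u w
open CategoryTheory CategoryTheory.Limits Opposite

namespace Groth.Agent.Lib.Helper14.Topos

open ToposFin Groth.Agent.Lib.Helper14.CanTop

variable {C : Type u} [SmallCategory C] {J : GrothendieckTopology C}

instance : Fact (Cardinal.aleph0.{u}).IsRegular := Cardinal.fact_isRegular_aleph0

theorem isFP_iff_isCardinalPresentable (X : Sh J) :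
    IsFP X ↔ IsCardinalPresentable X Cardinal.aleph0.{u} := by
  constructor
  · intro hX
    refine ⟨fun I _ _ => ?_⟩
    haveI : IsFiltered I := isFiltered_of_isCardinalFiltered I Cardinal.aleph0.{u}
    refine ⟨fun {D} => ?_⟩
    haveI : IsIso (colimit.post D (coyoneda.obj (op X))) := by
      rw [isIso_iff_bijective]
      exact hX I D
    exact preservesColimit_of_isIso_post _ _
  · intro hX I _ _ D
    haveI : IsCardinalFiltered I Cardinal.aleph0.{u} :=
      (isCardinalFiltered_aleph0_iff.{u} I).2 inferInstance
    haveI := preservesColimitsOfShape_of_isCardinalPresentable X Cardinal.aleph0.{u} I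
    rw [← isIso_iff_bijective]
    infer_instance

theorem isFP_coequalizer {A B : Sh J} (a b : A ⟶ B) (hA : IsFP A) (hB : IsFP B) :
    IsFP (coequalizer a b) := by
  rw [isFP_iff_isCardinalPresentable] at hA hB ⊢
  haveI : ∀ k, IsCardinalPresentable ((parallelPair a b).obj k) Cardinal.aleph0.{u} := by
    rintro (_ | _)
    · exact hA
    · exact hB
  refine isCardinalPresentable_of_isColimit (colimit.cocone (parallelPair a b))
    (colimit.isColimit _) Cardinal.aleph0.{u} ?_
  rw [hasCardinalLT_aleph0_iff]
  infer_instance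

theorem isFP_of_retract {X Q : Sh J} (hQ : IsFP Q) (σ : X ⟶ Q) (r : Q ⟶ X) (h : σ ≫ r = 𝟙 X) :
    IsFP X := by
  rw [isFP_iff_isCardinalPresentable] at hQ ⊢
  exact Retract.isCardinalPresentable ⟨σ, r, h⟩ Cardinal.aleph0.{u}

end Groth.Agent.Lib.Helper14.Topos
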