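import Groth.Agent.Lib.Helper14.ToposFP3

set_option autoImplicit false
universe u w
open CategoryTheory CategoryTheory.Limits Opposite

namespace Groth.Agent.Lib.Helper14.Topos

open ToposFin Groth.Agent.Lib.Helper14.CanTop Groth.Agent.Lib.helper23.QCHom

variable {C : Type u} [SmallCategory C] {J : GrothendieckTopology C}

theorem hasCoherentGenerators_jsurj (hE : HasCoherentGenerators J) (X : Sh J) :
    ∃ (ι : Type u) (F : ι → Sh J) (π : ∀ i, F i ⟶ X), (∀ i, IsCoherent (F i)) ∧ JSurj π := by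
  obtain ⟨ι, F, π, hF, hπ⟩ := hE X
  exact ⟨ι, F, π, hF, epi_sigmaDesc_iff_jsurj.1 hπ⟩

theorem hasQCGenerators_of_hasCoherentGenerators (hE : HasCoherentGenerators J) :
    HasQCGenerators J := by
  intro X
  obtain ⟨ι, F, π, hF, hπ⟩ := hE X
  exact ⟨ι, F, π, fun i => (hF i).1, hπ⟩

theorem isFP_of_isCoherent (hE : HasCoherentGenerators J) {X : Sh J} (hX : IsCoherent X) :
    IsFP X := fun I _ _ D =>
  post_bijective_of_isCoherent (hasQCGenerators_of_hasCoherentGenerators hE) hX I D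

theorem isCoherent_of_retract {X Q : Sh J} (hQ : IsCoherent Q) (σ : X ⟶ Q) (r : Q ⟶ X)
    (h : σ ≫ r = 𝟙 X) : IsCoherent X := by
  haveI : IsSplitEpi r := ⟨⟨σ, h⟩⟩
  haveI : IsSplitMono σ := ⟨⟨r, h⟩⟩
  exact ⟨isQC_of_epi r hQ.1, isQS_of_mono σ hQ.2⟩

theorem isCoherent_sigma_finset {Λ : Type u} (L : Λ → Sh J) (hL : ∀ l, IsCoherent (L l))
    (t : Finset Λ) : IsCoherent (∐ (fun l : t => L l)) := by
  refine ⟨(isQC_sigma_iff _).2 ⟨fun l => (hL l).1, Set.toFinite _⟩,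
    (isQS_sigma_iff _).2 fun l => (hL l).2⟩

/-- S3072, forward direction. -/
theorem exists_retract_of_isFP (hE : HasCoherentGenerators J) {X : Sh J} (hX : IsFP X) :
    ∃ (X₀ X₁ : Sh J) (a b : X₁ ⟶ X₀) (i : X ⟶ coequalizer a b)
      (p : coequalizer a b ⟶ X), IsCoherent X₀ ∧ IsCoherent X₁ ∧ i ≫ p = 𝟙 X := by
  classical
  obtain ⟨ι, G, π, hG, hπ⟩ := hasCoherentGenerators_jsurj hE X
  obtain ⟨s, hs⟩ := (isQC_iff X).1 (isQC_of_isFP hX) ι G π hπ
  let K : Sh J := ∐ (fun i : s => G i)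
  have hK : IsCoherent K := isCoherent_sigma_finset G hG s
  let p : K ⟶ X := Limits.Sigma.desc (fun i : s => π i)
  haveI hp : Epi p := epi_sigmaDesc_iff_jsurj.2 hs
  obtain ⟨Λ, L, q, hL, hq⟩ := hasCoherentGenerators_jsurj hE (pullback p p)
  have hc : ∀ l, (q l ≫ pullback.fst _ _) ≫ p = (q l ≫ pullback.snd _ _) ≫ p := fun l => by
    rw [Category.assoc, Category.assoc, pullback.condition]
  obtain ⟨hcol⟩ := pqCocone_isColimit (fun l => q l ≫ pullback.fst _ _)
    (fun l => q l ≫ pullback.snd _ _) p hc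
    (fun Z z hz => exists_desc_of_cover p q hq z hz)
  obtain ⟨t, σ, hσ⟩ := IsFP.exists_factor hX hcol (𝟙 X)
  exact ⟨K, ∐ (fun l : t => L l), Limits.Sigma.desc (fun l : t => q l ≫ pullback.fst p p),
    Limits.Sigma.desc (fun l : t => q l ≫ pullback.snd p p), σ,
    pqD (fun l => q l ≫ pullback.fst p p) (fun l => q l ≫ pullback.snd p p) t p (fun l _ => hc l),
    hK, isCoherent_sigma_finset L hL t, hσ⟩

end Groth.Agent.Lib.Helper14.Topos
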