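import Groth.Agent.Lib.Helper14.ToposFP4

set_option autoImplicit false
universe u w
open CategoryTheory CategoryTheory.Limits Opposite

namespace Groth.Agent.Lib.Helper14.Topos

open ToposFin Groth.Agent.Lib.Helper14.CanTop Groth.Agent.Lib.helper23.QCHom

variable {C : Type u} [SmallCategory C] {J : GrothendieckTopology C}

/-- every object is a small filtered colimit of finitely presentable objects -/
theorem exists_filtered_colimit_isFP (hE : HasCoherentGenerators J) (X : Sh J) :
    ∃ (I : Type u) (_ : SmallCategory I) (_ : IsFiltered I) (D : I ⥤ Sh J),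
      (∀ i, IsFP (D.obj i)) ∧ Nonempty (X ≅ colimit D) := by
  classical
  -- choose coherent covers of the generators eps J U
  have h1 := fun U : C => hasCoherentGenerators_jsurj hE (eps J U)
  choose ι F π hF hπ using h1
  let P : ObjectProperty (Sh J) := ObjectProperty.ofObj (fun x : Σ U : C, ι U => F x.1 x.2)
  have hPle : P ≤ isCardinalPresentable (Sh J) Cardinal.aleph0.{u} := by
    rintro _ ⟨x⟩
    exact (isFP_iff_isCardinalPresentable _).1 (isFP_of_isCoherent hE (hF x.1 x.2))
  have hPsg : P.IsStrongGenerator := by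
    apply ObjectProperty.IsStrongGenerator.mk_of_exists_extremalEpi.{u}
    intro Y
    let T := Σ (p : Σ U : C, Y.obj.obj (op U)), ι p.1
    let s : T → Sh J := fun t => F t.1.1 t.2
    let ρ : ∀ t : T, s t ⟶ Y := fun t => π t.1.1 t.2 ≫ secMap Y t.1.2
    have hρ : JSurj ρ := (jsurj_secMap Y).comp (fun p a => π p.1 a) (fun p => hπ p.1)
    haveI : Epi (Limits.Sigma.desc ρ) := epi_sigmaDesc_iff_jsurj.2 hρ
    haveI : ExtremalEpi (Limits.Sigma.desc ρ) :=
      { isIso := fun {Z} p i fac _ => by
          haveI : Epi (p ≫ i) := by rw [fac]; infer_instance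
          haveI : Epi i := epi_of_epi p i
          exact isIso_of_mono_of_epi i }
    exact ⟨T, s, fun t => ObjectProperty.ofObj_apply (fun x : Σ U : C, ι U => F x.1 x.2)
      ⟨t.1.1, t.2⟩, Cofan.mk (∐ s) (Limits.Sigma.ι s),
      coproductIsCoproduct s, Limits.Sigma.desc ρ, inferInstance⟩
  haveI : ObjectProperty.Small.{u} P := inferInstance
  have hdense := hPsg.isDense_colimitsCardinalClosure_ι hPle
  have hgen := IsCardinalFilteredGenerator.of_isDense_ι
    (P.colimitsCardinalClosure Cardinal.aleph0.{u}) Cardinal.aleph0.{u}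
    (P.colimitsCardinalClosure_le_isCardinalPresentable hPle)
  obtain ⟨I, hI, hIf, ⟨pres⟩⟩ := hgen.exists_colimitsOfShape X
  haveI : IsFiltered I := isFiltered_of_isCardinalFiltered I Cardinal.aleph0.{u}
  refine ⟨I, hI, inferInstance, pres.diag, fun i => ?_, ⟨?_⟩⟩
  · exact (isFP_iff_isCardinalPresentable _).2
      (P.colimitsCardinalClosure_le_isCardinalPresentable hPle _ (pres.prop_diag_obj i))
  · exact pres.isColimit.coconePointUniqueUpToIso (colimit.isColimit pres.diag)

end Groth.Agent.Lib.Helper14.Topos
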