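import Mathlib
import Groth.Prelude.Def_PiSp
import Groth.Agent.Lib.Helper14.TorsTrans1
import Groth.Agent.Lib.Helper14.GrpDiscrete1

/-!
# helper14: multiplication by `n` on an abelian variety over an algebraically closed field is a
Galois cover whose automorphisms are the translations by `n`-torsion points
-/

set_option autoImplicit false
universe u
open CategoryTheory MonoidalCategory CartesianMonoidalCategory MonObj GrpObj AlgebraicGeometry Limits

namespace Groth.Agent.Lib.Helper14.TorsTrans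

open Groth.Agent.Lib.Helper14.GrpDiscrete

section grp
variable {S : Scheme.{u}} (G : Over S) [GrpObj G]

theorem unit_eq_one : (η[G] : 𝟙_ (Over S) ⟶ G) = 1 := by
  rw [Hom.one_def, toUnit_unique (toUnit (𝟙_ (Over S))) (𝟙 _), Category.id_comp]

theorem rtrans_comp_zpow [IsCommMonObj G] (a : 𝟙_ (Over S) ⟶ G) (n : ℤ) (ha : a ^ n = 1) :
    rtrans G a ≫ (𝟙 G : G ⟶ G) ^ n = (𝟙 G : G ⟶ G) ^ n := by
  have hc : Commute (𝟙 G : G ⟶ G) (toUnit G ≫ a) := by
    letI := Hom.commMonoid (M := G) (X := G)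
    exact mul_comm _ _
  rw [GrpObj.comp_zpow, Category.comp_id]
  unfold rtrans
  rw [hc.mul_zpow, ← GrpObj.comp_zpow, ha, MonObj.comp_one, _root_.mul_one]

theorem comp_rtrans {W : Over S} (f : W ⟶ G) (a : 𝟙_ (Over S) ⟶ G) :
    f ≫ rtrans G a = f * (toUnit W ≫ a) := by
  unfold rtrans
  rw [MonObj.comp_mul, Category.comp_id, ← Category.assoc, toUnit_unique (f ≫ toUnit G) (toUnit W)]

theorem zpow_eq_comp {W : Over S} (f : W ⟶ G) (n : ℤ) : f ^ n = f ≫ (𝟙 G : G ⟶ G) ^ n := by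
  rw [GrpObj.comp_zpow, Category.comp_id]

end grp

section main
variable {k : Type u} [Field k] [IsAlgClosed k] (A : Over (Spec (CommRingCat.of k))) [GrpObj A]

/-- the finite étale cover `[n] : A ⟶ A` -/
noncomputable abbrev cov (n : ℤ) (hF : IsFinite ((𝟙 A : A ⟶ A) ^ n).left)
    (hE : Etale ((𝟙 A : A ⟶ A) ^ n).left) : FEt.Cat A.left :=
  MorphismProperty.Over.mk ⊤ ((𝟙 A : A ⟶ A) ^ n).left ⟨hF, hE⟩

/-- translation by an `n`-torsion point as an automorphism of the cover `[n]` -/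
noncomputable def autOfTors [IsCommMonObj A] (n : ℤ) (hF : IsFinite ((𝟙 A : A ⟶ A) ^ n).left)
    (hE : Etale ((𝟙 A : A ⟶ A) ^ n).left) (a : 𝟙_ (Over (Spec (CommRingCat.of k))) ⟶ A)
    (ha : a ^ n = 1) : Aut (cov A n hF hE) :=
  MorphismProperty.Over.isoMk ((Over.forget _).mapIso (rtransIso A a))
    (by
      show (rtrans A a).left ≫ ((𝟙 A : A ⟶ A) ^ n).left = ((𝟙 A : A ⟶ A) ^ n).left
      rw [← Over.comp_left, rtrans_comp_zpow A a n ha])

theorem autOfTors_hom_left [IsCommMonObj A] (n : ℤ) (hF : IsFinite ((𝟙 A : A ⟶ A) ^ n).left)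
    (hE : Etale ((𝟙 A : A ⟶ A) ^ n).left) (a : 𝟙_ (Over (Spec (CommRingCat.of k))) ⟶ A)
    (ha : a ^ n = 1) : (autOfTors A n hF hE a ha).hom.left = (rtrans A a).left := rfl

/-- an endomorphism of the cover `[n]` (with `A` connected) is the translation by the image of the
unit section -/
theorem endo_eq_rtrans [IsCommMonObj A] [PreconnectedSpace A.left] (n : ℤ)
    (hF : IsFinite ((𝟙 A : A ⟶ A) ^ n).left) (hE : Etale ((𝟙 A : A ⟶ A) ^ n).left)
    (t : A.left ⟶ A.left) (ht : t ≫ ((𝟙 A : A ⟶ A) ^ n).left = ((𝟙 A : A ⟶ A) ^ n).left) :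
    ∃ a : 𝟙_ (Over (Spec (CommRingCat.of k))) ⟶ A, a ^ n = 1 ∧ t = (rtrans A a).left := by
  have hk : t ≫ A.hom = A.hom := by
    have h1 : ((𝟙 A : A ⟶ A) ^ n).left ≫ A.hom = A.hom := Over.w _
    calc t ≫ A.hom = t ≫ ((𝟙 A : A ⟶ A) ^ n).left ≫ A.hom := by rw [h1]
      _ = A.hom := by rw [← Category.assoc, ht, h1]
  let Θ : A ⟶ A := Over.homMk t hk
  have hΘ : Θ ≫ (𝟙 A : A ⟶ A) ^ n = (𝟙 A : A ⟶ A) ^ n := by
    apply Over.OverMorphism.ext
    rw [Over.comp_left]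
    exact ht
  let a : 𝟙_ (Over (Spec (CommRingCat.of k))) ⟶ A := η[A] ≫ Θ
  have ha : a ^ n = 1 := by
    rw [zpow_eq_comp, Category.assoc, hΘ, GrpObj.comp_zpow, Category.comp_id, unit_eq_one,
      one_zpow]
  refine ⟨a, ha, ?_⟩
  haveI : Nonempty ↥(𝟙_ (Over (Spec (CommRingCat.of k)))).left :=
    inferInstanceAs (Nonempty ↥(Spec (CommRingCat.of k)))
  refine eq_of_preconnected ((𝟙 A : A ⟶ A) ^ n).left t (rtrans A a).left ?_ (η[A]).left ?_
  · rw [ht, ← Over.comp_left, rtrans_comp_zpow A a n ha]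
  · rw [← Over.comp_left, unit_rtrans]
    rfl

/-- a geometric point of `A` killed by `n` comes from a rational `n`-torsion point -/
theorem exists_tors_of_geomPoint [LocallyOfFiniteType A.hom] (n : ℤ)
    (hF : IsFinite ((𝟙 A : A ⟶ A) ^ n).left)
    {Ω : Type u} [Field Ω] (p : Spec (CommRingCat.of Ω) ⟶ Spec (CommRingCat.of k))
    (D : Over.mk p ⟶ A) (hD : D ^ n = 1) :
    ∃ a : 𝟙_ (Over (Spec (CommRingCat.of k))) ⟶ A, a ^ n = 1 ∧ D = toUnit (Over.mk p) ≫ a := by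
  have hsub : ∀ z : ↥(Spec (CommRingCat.of k)), z = IsLocalRing.closedPoint k :=
    fun z => Subsingleton.elim (α := PrimeSpectrum k) _ _
  -- the unit point is closed
  have he0 : IsClosed ({(η[A]).left (IsLocalRing.closedPoint k)} : Set A.left) :=
    ((pointEquivClosedPoint A.hom) ⟨(η[A]).left, Over.w η[A]⟩).2
  have hDn : D.left ≫ ((𝟙 A : A ⟶ A) ^ n).left = p ≫ (η[A]).left := by
    rw [← Over.comp_left, ← zpow_eq_comp, hD, Hom.one_def, Over.comp_left]
    rfl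
  haveI : LocallyQuasiFinite ((𝟙 A : A ⟶ A) ^ n).left := inferInstance
  have hw : IsClosed ({D.left (IsLocalRing.closedPoint Ω)} : Set A.left) := by
    refine isClosed_singleton_of_fibre ((𝟙 A : A ⟶ A) ^ n).left _ he0 _ ?_
    rw [← Scheme.Hom.comp_apply, hDn, Scheme.Hom.comp_apply, hsub (p _)]
  obtain ⟨a₀, ha₀, hfac⟩ := exists_point_factor A.hom D.left hw
  let a : 𝟙_ (Over (Spec (CommRingCat.of k))) ⟶ A := Over.homMk a₀ (by simpa using ha₀)
  have hDa : D = toUnit (Over.mk p) ≫ a := by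
    apply Over.OverMorphism.ext
    rw [Over.comp_left, ← hfac, Over.w D]
    rfl
  refine ⟨a, ?_, hDa⟩
  apply Over.OverMorphism.ext
  refine ext_of_apply_closedPoint_eq A.hom (Over.w (a ^ n)) (Over.w (1 : 𝟙_ _ ⟶ A)) ?_
  have h1 : toUnit (Over.mk p) ≫ a ^ n = toUnit (Over.mk p) ≫ 1 := by
    rw [GrpObj.comp_zpow, ← hDa, hD, MonObj.comp_one]
  have h2 := congrArg (fun f => f.left (IsLocalRing.closedPoint Ω)) h1
  simp only [Over.comp_left, Scheme.Hom.comp_apply] at h2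
  rwa [hsub ((toUnit (Over.mk p)).left _)] at h2

/-- transitivity of the translations by `n`-torsion points on the geometric fibres of `[n]` -/
theorem exists_tors_of_fibre [IsCommMonObj A] [LocallyOfFiniteType A.hom] (n : ℤ)
    (hF : IsFinite ((𝟙 A : A ⟶ A) ^ n).left)
    {Ω : Type u} [Field Ω] (s t : Spec (CommRingCat.of Ω) ⟶ A.left)
    (hst : s ≫ ((𝟙 A : A ⟶ A) ^ n).left = t ≫ ((𝟙 A : A ⟶ A) ^ n).left) :
    ∃ a : 𝟙_ (Over (Spec (CommRingCat.of k))) ⟶ A, a ^ n = 1 ∧ s ≫ (rtrans A a).left = t := by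
  have h1 : ((𝟙 A : A ⟶ A) ^ n).left ≫ A.hom = A.hom := Over.w _
  have hp : t ≫ A.hom = s ≫ A.hom := by
    calc t ≫ A.hom = (t ≫ ((𝟙 A : A ⟶ A) ^ n).left) ≫ A.hom := by rw [Category.assoc, h1]
      _ = s ≫ A.hom := by rw [← hst, Category.assoc, h1]
  let S : Over.mk (s ≫ A.hom) ⟶ A := Over.homMk s rfl
  let T : Over.mk (s ≫ A.hom) ⟶ A := Over.homMk t hp
  have hST : S ^ n = T ^ n := by
    rw [zpow_eq_comp A S, zpow_eq_comp A T]
    apply Over.OverMorphism.ext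
    rw [Over.comp_left, Over.comp_left]
    exact hst
  have hc : Commute S⁻¹ T := by
    letI := Hom.commMonoid (M := A) (X := Over.mk (s ≫ A.hom))
    exact mul_comm _ _
  have hD : (S⁻¹ * T) ^ n = 1 := by
    rw [hc.mul_zpow, inv_zpow, hST, inv_mul_cancel]
  obtain ⟨a, ha, hDa⟩ := exists_tors_of_geomPoint A n hF (s ≫ A.hom) (S⁻¹ * T) hD
  refine ⟨a, ha, ?_⟩
  have h2 : S ≫ rtrans A a = T := by
    rw [comp_rtrans, ← hDa, mul_inv_cancel_left]
  exact congrArg (fun f => f.left) h2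

theorem main (k : Type u) [Field k] [IsAlgClosed k]
    (A : Over (Spec (CommRingCat.of k))) [GrpObj A] [IsProper A.hom] [GeometricallyIntegral A.hom]
    (n : ℤ) (hF : IsFinite ((𝟙 A : A ⟶ A) ^ n).left) (hE : Etale ((𝟙 A : A ⟶ A) ^ n).left) :
    PiSp.IsGaloisCover (MorphismProperty.Over.mk ⊤ ((𝟙 A : A ⟶ A) ^ n).left ⟨hF, hE⟩ :
        FEt.Cat A.left) ∧
      (∀ θ : Aut (MorphismProperty.Over.mk ⊤ ((𝟙 A : A ⟶ A) ^ n).left ⟨hF, hE⟩ : FEt.Cat A.left),
        ∃! a : 𝟙_ (Over (Spec (CommRingCat.of k))) ⟶ A, a ^ n = 1 ∧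
          θ.hom.left = ((𝟙 A) * (toUnit A ≫ a)).left) ∧
      (∀ a : 𝟙_ (Over (Spec (CommRingCat.of k))) ⟶ A, a ^ n = 1 →
        ∃ θ : Aut (MorphismProperty.Over.mk ⊤ ((𝟙 A : A ⟶ A) ^ n).left ⟨hF, hE⟩ :
            FEt.Cat A.left),
          θ.hom.left = ((𝟙 A) * (toUnit A ≫ a)).left) := by
  haveI : IsCommMonObj A := isCommMonObj_of_isProper_of_geometricallyIntegral A
  haveI : IsIntegral A.left := GeometricallyIntegral.isIntegral_of_subsingleton A.hom
  haveI : ConnectedSpace A.left := inferInstance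
  refine ⟨⟨inferInstanceAs (ConnectedSpace A.left), ?_⟩, ?_, ?_⟩
  · intro Ω _ _ ξ s t
    obtain ⟨a, ha, hst⟩ := exists_tors_of_fibre A n hF s.1 t.1 (s.2.trans t.2.symm)
    exact ⟨autOfTors A n hF hE a ha, Subtype.ext hst⟩
  · intro θ
    obtain ⟨a, ha, hta⟩ := endo_eq_rtrans A n hF hE θ.hom.left
      (MorphismProperty.Over.w θ.hom)
    refine ⟨a, ⟨ha, hta⟩, ?_⟩
    rintro b ⟨-, hb⟩
    have h1 : rtrans A b = rtrans A a := by
      apply Over.OverMorphism.ext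
      exact (hb.symm.trans hta)
    rw [← unit_rtrans A b, h1, unit_rtrans]
  · intro a ha
    exact ⟨autOfTors A n hF hE a ha, rfl⟩

end main

end Groth.Agent.Lib.Helper14.TorsTrans
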