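import Mathlib

/-!
# Units of group algebras `R[G]` over a domain, for `G` with two unique sums (helper14)
-/

set_option autoImplicit false

namespace Groth.Agent.Lib.Helper14.TorusUnits

open AddMonoidAlgebra

section Alg

variable {R : Type*} [CommRing R] {G : Type*} [AddCommGroup G]

/-- The augmentation `R[G] → R`. -/
noncomputable def aug (R : Type*) [CommRing R] (G : Type*) [AddCommGroup G] :
    AddMonoidAlgebra R G →+* R :=
  (AddMonoidAlgebra.lift R R G 1 : AddMonoidAlgebra R G →ₐ[R] R)

@[simp] theorem aug_single (e : G) (r : R) : aug R G (single e r) = r := by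
  simp [aug, AddMonoidAlgebra.lift_single]

theorem single_eq_single_iff {e e' : G} {r r' : R} (hr : r ≠ 0) :
    (single e r : AddMonoidAlgebra R G) = single e' r' ↔ e = e' ∧ r = r' := by
  constructor
  · intro h
    have h1 := congrArg (fun f : AddMonoidAlgebra R G => f.coeff e) h
    simp only [coeff_single, Finsupp.single_eq_same] at h1
    by_cases hee : e = e'
    · subst hee
      refine ⟨rfl, ?_⟩
      simpa using h1
    · exfalso
      rw [Finsupp.single_eq_of_ne hee] at h1
      exact hr h1
  · rintro ⟨rfl, rfl⟩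
    rfl

variable [IsDomain R] [TwoUniqueSums G]

theorem exists_single_of_mul_eq_one {f g : AddMonoidAlgebra R G} (h : f * g = 1) :
    ∃ (e : G) (r : R), f = single e r ∧ IsUnit r := by
  classical
  have hf : f ≠ 0 := by
    rintro rfl
    rw [zero_mul] at h
    exact zero_ne_one h
  have hg : g ≠ 0 := by
    rintro rfl
    rw [mul_zero] at h
    exact zero_ne_one h
  have hA : f.coeff.support.Nonempty := by
    rwa [Finsupp.support_nonempty_iff, Ne, coeff_eq_zero]
  have hB : g.coeff.support.Nonempty := by
    rwa [Finsupp.support_nonempty_iff, Ne, coeff_eq_zero]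
  have hone : ∀ x : G, (f * g).coeff x ≠ 0 → x = 0 := by
    intro x hx
    rw [h, one_def, coeff_single] at hx
    by_contra hx0
    exact hx (Finsupp.single_eq_of_ne hx0)
  have hcard : f.coeff.support.card * g.coeff.support.card ≤ 1 := by
    by_contra hc
    push_neg at hc
    obtain ⟨p1, hp1, p2, hp2, hne, hu1, hu2⟩ := TwoUniqueSums.uniqueAdd_of_one_lt_card hc
    rw [Finset.mem_product] at hp1 hp2
    have e1 : p1.1 + p1.2 = 0 := by
      apply hone
      rw [coeff_mul_add_of_uniqueAdd hu1]
      exact mul_ne_zero (Finsupp.mem_support_iff.mp hp1.1) (Finsupp.mem_support_iff.mp hp1.2)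
    have e2 : p2.1 + p2.2 = 0 := by
      apply hone
      rw [coeff_mul_add_of_uniqueAdd hu2]
      exact mul_ne_zero (Finsupp.mem_support_iff.mp hp2.1) (Finsupp.mem_support_iff.mp hp2.2)
    have := hu1 hp2.1 hp2.2 (e2.trans e1.symm)
    exact hne (Prod.ext this.1 this.2).symm
  have hA1 : f.coeff.support.card = 1 := by
    have h1 := Finset.card_pos.mpr hA
    have h2 := Finset.card_pos.mpr hB
    nlinarith
  obtain ⟨e, he⟩ := Finset.card_eq_one.mp hA1
  have hfe : f = single e (f.coeff e) := by
    apply coeff_injective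
    rw [coeff_single]
    exact (Finsupp.support_subset_singleton.mp he.subset) |> fun h => by
      obtain ⟨b, hb⟩ := Finsupp.support_subset_singleton'.mp he.subset
      rw [hb, Finsupp.single_eq_same]
  refine ⟨e, f.coeff e, hfe, ?_⟩
  have h3 := congrArg (aug R G) h
  rw [map_mul, map_one, hfe, aug_single] at h3
  exact IsUnit.of_mul_eq_one _ h3

theorem isUnit_iff_single {f : AddMonoidAlgebra R G} :
    IsUnit f ↔ ∃ (e : G) (r : R), f = single e r ∧ IsUnit r := by
  constructor
  · rintro ⟨⟨f, g, h, -⟩, rfl⟩
    exact exists_single_of_mul_eq_one h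
  · rintro ⟨e, r, rfl, ⟨u, rfl⟩⟩
    refine IsUnit.of_mul_eq_one (single (-e) (↑u⁻¹ : R)) ?_
    rw [single_mul_single, add_neg_cancel, Units.mul_inv]
    rfl

end Alg

end Groth.Agent.Lib.Helper14.TorusUnits
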