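import Mathlib
import Groth.Agent.Lib.Helper14.TorusUnits1

/-!
# `Spec R[ℤⁿ]` is the product of `Spec R` and the split torus (helper14)
-/

set_option autoImplicit false

namespace Groth.Agent.Lib.Helper14.TorusUnits

universe u

open AlgebraicGeometry CategoryTheory Limits AddMonoidAlgebra

section Cat

variable {C : Type*} [Category C]

/-- If `Q` is a product of `A` and `T`, then `Q` is the pullback of `X ⨯ T → X` along `A → X`. -/
theorem isPullback_of_isLimit_binaryFan {A T X Q : C} [HasBinaryProduct X T]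
    (q1 : Q ⟶ A) (q2 : Q ⟶ T) (hQ : IsLimit (BinaryFan.mk q1 q2)) (g : A ⟶ X) :
    IsPullback (prod.lift (q1 ≫ g) q2) q1 (prod.fst : X ⨯ T ⟶ X) g := by
  have key : ∀ s : PullbackCone (prod.fst : X ⨯ T ⟶ X) g,
      ∃ l : s.pt ⟶ Q, l ≫ q1 = s.snd ∧ l ≫ q2 = s.fst ≫ prod.snd := fun s =>
    ⟨(BinaryFan.IsLimit.lift' hQ s.snd (s.fst ≫ prod.snd)).1,
      (BinaryFan.IsLimit.lift' hQ s.snd (s.fst ≫ prod.snd)).2.1,
      (BinaryFan.IsLimit.lift' hQ s.snd (s.fst ≫ prod.snd)).2.2⟩
  refine ⟨⟨prod.lift_fst _ _⟩, ⟨PullbackCone.IsLimit.mk _ (fun s => (key s).choose) ?_ ?_ ?_⟩⟩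
  · intro s
    obtain ⟨h1, h2⟩ := (key s).choose_spec
    apply Limits.prod.hom_ext
    · rw [Category.assoc, prod.lift_fst, ← Category.assoc, h1, s.condition]
    · rw [Category.assoc, prod.lift_snd, h2]
  · intro s
    exact (key s).choose_spec.1
  · intro s m hm1 hm2
    obtain ⟨h1, h2⟩ := (key s).choose_spec
    apply BinaryFan.IsLimit.hom_ext hQ
    · change m ≫ q1 = (key s).choose ≫ q1
      rw [hm2, h1]
    · change m ≫ q2 = (key s).choose ≫ q2
      rw [h2, ← hm1, Category.assoc, prod.lift_snd]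

end Cat

variable (n : ℕ)

/-- The coordinate ring of the split torus of rank `n`, in universe `u`. -/
noncomputable abbrev LRing : CommRingCat.{u} :=
  CommRingCat.of (ULift.{u} (AddMonoidAlgebra ℤ (Fin n → ℤ)))

/-- The group algebra `R[ℤⁿ]` as a commutative ring object. -/
noncomputable abbrev RG (R : CommRingCat.{u}) : CommRingCat.{u} :=
  CommRingCat.of (AddMonoidAlgebra R (Fin n → ℤ))

/-- `R → R[ℤⁿ]`. -/
noncomputable def ιR (R : CommRingCat.{u}) : R ⟶ RG n R :=
  CommRingCat.ofHom AddMonoidAlgebra.singleZeroRingHom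

/-- `ℤ[ℤⁿ] → R[ℤⁿ]`. -/
noncomputable def ιL (R : CommRingCat.{u}) : LRing.{u} n ⟶ RG n R :=
  CommRingCat.ofHom ((AddMonoidAlgebra.mapRingHom (Fin n → ℤ) (Int.castRingHom R)).comp
    (ULift.ringEquiv : ULift.{u} (AddMonoidAlgebra ℤ (Fin n → ℤ)) ≃+* _).toRingHom)

@[simp] theorem ιR_apply (R : CommRingCat.{u}) (r : R) :
    (ιR n R).hom r = single (0 : Fin n → ℤ) r := rfl

@[simp] theorem ιL_single (R : CommRingCat.{u}) (e : Fin n → ℤ) (a : ℤ) :
    (ιL n R).hom (ULift.up (single e a)) = single e (a : R) := by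
  change (AddMonoidAlgebra.mapRingHom (Fin n → ℤ) (Int.castRingHom R)) (single e a) = _
  rw [AddMonoidAlgebra.mapRingHom_single]
  rfl

/-- Two ring homs out of `ULift ℤ[G]` agreeing on monomials are equal. -/
theorem ringHom_ext_L {S : Type*} [Ring S]
    {f g : ULift.{u} (AddMonoidAlgebra ℤ (Fin n → ℤ)) →+* S}
    (h : ∀ e : Fin n → ℤ, f (ULift.up (single e 1)) = g (ULift.up (single e 1))) : f = g := by
  have key : f.comp (ULift.ringEquiv : ULift.{u} (AddMonoidAlgebra ℤ (Fin n → ℤ)) ≃+* _).symm.toRingHom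
      = g.comp (ULift.ringEquiv : ULift.{u} (AddMonoidAlgebra ℤ (Fin n → ℤ)) ≃+* _).symm.toRingHom := by
    apply AddMonoidAlgebra.ringHom_ext
    · intro r
      have : (single (0 : Fin n → ℤ) r : AddMonoidAlgebra ℤ (Fin n → ℤ)) =
          ((r : ℤ) : AddMonoidAlgebra ℤ (Fin n → ℤ)) :=
        eq_intCast (AddMonoidAlgebra.singleZeroRingHom (R := ℤ) (M := Fin n → ℤ)) r
      rw [this, map_intCast, map_intCast]
    · intro e
      exact h e
  ext x
  have := congrArg (fun φ => φ x.down) key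
  exact this

section Desc

variable {n}
variable {R S : Type u} [CommRing R] [CommRing S]

/-- The ring hom `R[ℤⁿ] → S` induced by `R → S` and `ℤ[ℤⁿ] → S`. -/
noncomputable def descHom (f : R →+* S) (h : ULift.{u} (AddMonoidAlgebra ℤ (Fin n → ℤ)) →+* S) :
    AddMonoidAlgebra R (Fin n → ℤ) →+* S :=
  AddMonoidAlgebra.liftNCRingHom f
    ((h.comp (ULift.ringEquiv : ULift.{u} (AddMonoidAlgebra ℤ (Fin n → ℤ)) ≃+* _).symm.toRingHom :
      AddMonoidAlgebra ℤ (Fin n → ℤ) →* S).comp (AddMonoidAlgebra.of ℤ (Fin n → ℤ)))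
    (fun _ _ => Commute.all _ _)

theorem descHom_single (f : R →+* S) (h : ULift.{u} (AddMonoidAlgebra ℤ (Fin n → ℤ)) →+* S)
    (e : Fin n → ℤ) (r : R) :
    descHom f h (single e r) = f r * h (ULift.up (single e 1)) := by
  rw [descHom, AddMonoidAlgebra.liftNCRingHom_single]
  rfl

end Desc

/-- `R[ℤⁿ]` is the coproduct of `R` and `ℤ[ℤⁿ]`. -/
noncomputable def isColimitCofan (R : CommRingCat.{u}) :
    IsColimit (BinaryCofan.mk (ιR n R) (ιL n R)) := by
  refine BinaryCofan.IsColimit.mk _ (fun {S} f h => CommRingCat.ofHom (descHom f.hom h.hom))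
    ?_ ?_ ?_
  · intro S f h
    ext r
    change descHom f.hom h.hom (single 0 r) = f.hom r
    rw [descHom_single]
    have : (ULift.up (single (0 : Fin n → ℤ) (1 : ℤ)) : ULift.{u} (AddMonoidAlgebra ℤ (Fin n → ℤ))) = 1 := rfl
    rw [this, map_one, mul_one]
  · intro S f h
    apply CommRingCat.hom_ext
    apply ringHom_ext_L
    intro e
    change descHom f.hom h.hom ((ιL n R).hom (ULift.up (single e 1))) = _
    rw [ιL_single, descHom_single, Int.cast_one, map_one, one_mul]
    rfl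
  · intro S f h m hm1 hm2
    apply CommRingCat.hom_ext
    apply AddMonoidAlgebra.ringHom_ext
    · intro r
      have h1 : m.hom (single 0 r) = f.hom r := congrArg (fun φ => φ.hom r) hm1
      change m.hom (single 0 r) = descHom f.hom h.hom (single 0 r)
      rw [h1, descHom_single]
      have : (ULift.up (single (0 : Fin n → ℤ) (1 : ℤ)) : ULift.{u} (AddMonoidAlgebra ℤ (Fin n → ℤ))) = 1 := rfl
      rw [this, map_one, mul_one]
    · intro e
      have h2 : m.hom ((ιL n R).hom (ULift.up (single e 1))) = h.hom (ULift.up (single e 1)) :=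
        congrArg (fun φ => φ.hom (ULift.up (single e 1))) hm2
      rw [ιL_single, Int.cast_one] at h2
      change m.hom (single e 1) = descHom f.hom h.hom (single e 1)
      rw [h2, descHom_single, map_one, one_mul]

/-- `Spec R[ℤⁿ]` is the product of `Spec R` and the torus. -/
noncomputable def isLimitFan (R : CommRingCat.{u}) :
    IsLimit (BinaryFan.mk (Spec.map (ιR n R)) (Spec.map (ιL n R))) := by
  have h1 : IsPushout (CommRingCat.isInitial.to R) (CommRingCat.isInitial.to (LRing.{u} n))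
      (ιR n R) (ιL n R) :=
    IsPushout.of_is_coproduct' (isColimitCofan n R) CommRingCat.isInitial
  have h2 := isPullback_SpecMap_of_isPushout _ _ _ _ h1
  exact isProductOfIsTerminalIsPullback _ _ _ _ specULiftZIsTerminal h2.isLimit

end Groth.Agent.Lib.Helper14.TorusUnits
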