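import Mathlib
import Groth.Agent.Lib.Helper14.TorusUnits2

/-!
# Units on `X × 𝔾_mⁿ` for an integral scheme `X` (helper14)
-/

set_option autoImplicit false
set_option linter.style.haveILetI false

namespace Groth.Agent.Lib.Helper14.TorusUnits

universe u

open AlgebraicGeometry CategoryTheory Limits AddMonoidAlgebra

section Ev

/-- Evaluation of global sections along a morphism from an affine scheme. -/
noncomputable def evΓ {A : CommRingCat.{u}} {Y : Scheme.{u}} (h : Spec A ⟶ Y) : Γ(Y, ⊤) →+* A :=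
  (Scheme.ΓSpecIso A).hom.hom.comp h.appTop.hom

theorem evΓ_comp {A : CommRingCat.{u}} {Y Z : Scheme.{u}} (h : Spec A ⟶ Y) (k : Y ⟶ Z)
    (s : Γ(Z, ⊤)) : evΓ (h ≫ k) s = evΓ h (k.appTop s) := by
  simp [evΓ, Scheme.Hom.comp_appTop]

theorem evΓ_specMap_comp {A A' : CommRingCat.{u}} {Y : Scheme.{u}} (φ : A ⟶ A') (h : Spec A ⟶ Y)
    (s : Γ(Y, ⊤)) : evΓ (Spec.map φ ≫ h) s = φ.hom (evΓ h s) := by
  have := congr($(Scheme.ΓSpecIso_naturality φ).hom (h.appTop s))
  simp only [evΓ, Scheme.Hom.comp_appTop, CommRingCat.hom_comp, RingHom.comp_apply] at this ⊢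
  exact this

theorem evΓ_specMap {A A' : CommRingCat.{u}} (φ : A ⟶ A') (a : A) :
    evΓ (Spec.map φ) ((Scheme.ΓSpecIso A).inv a) = φ.hom a := by
  have := congr($(Scheme.ΓSpecIso_naturality φ).hom ((Scheme.ΓSpecIso A).inv a))
  simp only [evΓ, CommRingCat.hom_comp, RingHom.comp_apply] at this ⊢
  rw [this]
  congr 1
  exact congr($((Scheme.ΓSpecIso A).inv_hom_id).hom a)

theorem appTop_eq_of_evΓ_eq {A : CommRingCat.{u}} {Y : Scheme.{u}} (h : Spec A ⟶ Y)
    {s s' : Γ(Y, ⊤)} (hh : evΓ h s = evΓ h s') : h.appTop s = h.appTop s' := by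
  have hinj : Function.Injective (Scheme.ΓSpecIso A).hom.hom :=
    ((ConcreteCategory.isIso_iff_bijective (Scheme.ΓSpecIso A).hom).mp inferInstance).1
  exact hinj hh

end Ev

variable (n : ℕ)

section Theta

variable {X : Scheme.{u}} {R R' : CommRingCat.{u}}

/-- The morphism `Spec R[ℤⁿ] ⟶ X ⨯ T` induced by `g : Spec R ⟶ X`. -/
noncomputable def θ (g : Spec R ⟶ X) : Spec (RG n R) ⟶ X ⨯ Spec (LRing.{u} n) :=
  prod.lift (Spec.map (ιR n R) ≫ g) (Spec.map (ιL n R))

theorem evΓ_θ_fst (g : Spec R ⟶ X) (s : Γ(X, ⊤)) :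
    evΓ (θ n g) ((prod.fst : X ⨯ Spec (LRing.{u} n) ⟶ X).appTop s) =
      single (0 : Fin n → ℤ) (evΓ g s) := by
  rw [← evΓ_comp, θ, prod.lift_fst, evΓ_specMap_comp]
  rfl

theorem evΓ_θ_snd (g : Spec R ⟶ X) (l : LRing.{u} n) :
    evΓ (θ n g) ((prod.snd : X ⨯ Spec (LRing.{u} n) ⟶ Spec (LRing.{u} n)).appTop
      ((Scheme.ΓSpecIso (LRing.{u} n)).inv l)) = (ιL n R).hom l := by
  rw [← evΓ_comp, θ, prod.lift_snd, evΓ_specMap]

/-- Functoriality of `R ↦ R[ℤⁿ]`. -/
noncomputable def mapRG (φ : R ⟶ R') : RG n R ⟶ RG n R' :=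
  CommRingCat.ofHom (AddMonoidAlgebra.mapRingHom (Fin n → ℤ) φ.hom)

theorem mapRG_single (φ : R ⟶ R') (e : Fin n → ℤ) (r : R) :
    (mapRG n φ).hom (single e r) = single e (φ.hom r) :=
  AddMonoidAlgebra.mapRingHom_single _ _ _

theorem θ_specMap_comp (φ : R ⟶ R') (g : Spec R ⟶ X) :
    θ n (Spec.map φ ≫ g) = Spec.map (mapRG n φ) ≫ θ n g := by
  apply Limits.prod.hom_ext
  · simp only [θ, prod.lift_fst, Category.assoc]
    rw [← Spec.map_comp_assoc, ← Spec.map_comp_assoc]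
    congr 2
    apply CommRingCat.hom_ext
    apply RingHom.ext
    intro r
    change single (0 : Fin n → ℤ) (φ.hom r) = (mapRG n φ).hom (single 0 r)
    rw [mapRG_single]
  · simp only [θ, prod.lift_snd, Category.assoc]
    rw [← Spec.map_comp]
    congr 1
    apply CommRingCat.hom_ext
    apply ringHom_ext_L
    intro e
    change (ιL n R').hom (ULift.up (single e 1)) = (mapRG n φ).hom ((ιL n R).hom (ULift.up (single e 1)))
    rw [ιL_single, ιL_single, mapRG_single, Int.cast_one, Int.cast_one, map_one]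

/-- Augmentation of the torus ring. -/
noncomputable def augL : LRing.{u} n ⟶ CommRingCat.of (ULift.{u} ℤ) :=
  CommRingCat.ofHom (((ULift.ringEquiv : ULift.{u} ℤ ≃+* ℤ).symm.toRingHom).comp
    ((aug ℤ (Fin n → ℤ)).comp
      (ULift.ringEquiv : ULift.{u} (AddMonoidAlgebra ℤ (Fin n → ℤ)) ≃+* _).toRingHom))

theorem augL_single (e : Fin n → ℤ) : (augL.{u} n).hom (ULift.up (single e 1)) = 1 := by
  change ULift.up (aug ℤ (Fin n → ℤ) (single e 1)) = 1
  rw [aug_single]
  rfl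

/-- The unit section of `X ⨯ T → X`. -/
noncomputable def σ (X : Scheme.{u}) : X ⟶ X ⨯ Spec (LRing.{u} n) :=
  prod.lift (𝟙 X) (specULiftZIsTerminal.from X ≫ Spec.map (augL n))

/-- Augmentation `R[ℤⁿ] → R`. -/
noncomputable def augR (R : CommRingCat.{u}) : RG n R ⟶ R :=
  CommRingCat.ofHom (aug R (Fin n → ℤ))

theorem comp_σ (g : Spec R ⟶ X) : g ≫ σ n X = Spec.map (augR n R) ≫ θ n g := by
  apply Limits.prod.hom_ext
  · simp only [σ, θ, Category.assoc, prod.lift_fst, Category.comp_id]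
    rw [← Spec.map_comp_assoc]
    have : ιR n R ≫ augR n R = 𝟙 R := by
      apply CommRingCat.hom_ext
      apply RingHom.ext
      intro r
      change aug R (Fin n → ℤ) (single 0 r) = r
      rw [aug_single]
    rw [this, Spec.map_id, Category.id_comp]
  · simp only [σ, θ, Category.assoc, prod.lift_snd]
    rw [← Spec.map_comp]
    have h1 : g ≫ specULiftZIsTerminal.from X = Spec.map (CommRingCat.isInitial.to R) :=
      specULiftZIsTerminal.hom_ext _ _
    rw [← Category.assoc, h1, ← Spec.map_comp]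
    congr 1
    apply CommRingCat.hom_ext
    apply ringHom_ext_L
    intro e
    change (CommRingCat.isInitial.to R).hom ((augL n).hom (ULift.up (single e 1))) =
      aug R (Fin n → ℤ) ((ιL n R).hom (ULift.up (single e 1)))
    rw [augL_single, map_one, ιL_single, aug_single, Int.cast_one]

theorem evΓ_σ (g : Spec R ⟶ X) (s : Γ(X ⨯ Spec (LRing.{u} n), ⊤)) :
    evΓ g ((σ n X).appTop s) = aug R (Fin n → ℤ) (evΓ (θ n g) s) := by
  rw [← evΓ_comp, comp_σ, evΓ_specMap_comp]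
  rfl

theorem σ_appTop_fst (s : Γ(X, ⊤)) :
    (σ n X).appTop ((prod.fst : X ⨯ Spec (LRing.{u} n) ⟶ X).appTop s) = s := by
  rw [← CommRingCat.comp_apply, ← Scheme.Hom.comp_appTop, σ, prod.lift_fst]
  simp

theorem σ_appTop_snd (e : Fin n → ℤ) :
    (σ n X).appTop ((prod.snd : X ⨯ Spec (LRing.{u} n) ⟶ Spec (LRing.{u} n)).appTop
      ((Scheme.ΓSpecIso (LRing.{u} n)).inv (ULift.up (single e 1)))) = 1 := by
  rw [← CommRingCat.comp_apply, ← Scheme.Hom.comp_appTop, σ, prod.lift_snd,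
    Scheme.Hom.comp_appTop, CommRingCat.comp_apply]
  have h1 : (Spec.map (augL.{u} n)).appTop ((Scheme.ΓSpecIso (LRing.{u} n)).inv
      (ULift.up (single e 1))) =
      (Scheme.ΓSpecIso (CommRingCat.of (ULift.{u} ℤ))).inv ((augL.{u} n).hom (ULift.up (single e 1))) :=
    (congr($(Scheme.ΓSpecIso_inv_naturality (augL.{u} n)).hom (ULift.up (single e 1)))).symm
  rw [h1, augL_single, map_one, map_one]

/-- The pullback square exhibiting `Spec R[ℤⁿ]` as the preimage of `Spec R` in `X ⨯ T`. -/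
theorem isPullback_θ (g : Spec R ⟶ X) :
    IsPullback (θ n g) (Spec.map (ιR n R)) (prod.fst : X ⨯ Spec (LRing.{u} n) ⟶ X) g :=
  isPullback_of_isLimit_binaryFan _ _ (isLimitFan n R) g

end Theta

end Groth.Agent.Lib.Helper14.TorusUnits
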