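import Mathlib
import Groth.Agent.Lib.Helper14.TorusUnits3

/-!
# Units on `X × 𝔾_mⁿ` for an integral scheme `X`: main theorem (helper14)
-/

set_option autoImplicit false
set_option linter.style.haveILetI false

namespace Groth.Agent.Lib.Helper14.TorusUnits

universe u

open AlgebraicGeometry CategoryTheory Limits AddMonoidAlgebra

theorem units_torus (X : Scheme.{u}) [IsIntegral X] (n : ℕ)
    (v : Γ(X ⨯ Spec (LRing.{u} n), ⊤)) (hv : IsUnit v) :
    ∃! p : (Γ(X, ⊤))ˣ × (Fin n → ℤ),
      v = (prod.fst : X ⨯ Spec (LRing.{u} n) ⟶ X).appTop (p.1 : Γ(X, ⊤)) *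
        (prod.snd : X ⨯ Spec (LRing.{u} n) ⟶ Spec (LRing.{u} n)).appTop
          ((Scheme.ΓSpecIso (LRing.{u} n)).inv (ULift.up (single p.2 1))) := by
  -- the generic point
  let ξ := genericPoint X
  let K : CommRingCat.{u} := X.residueField ξ
  let gη : Spec K ⟶ X := X.fromSpecResidueField ξ
  have hK : IsUnit (evΓ (θ n gη) v) := hv.map _
  obtain ⟨e, c, hec, hc⟩ := isUnit_iff_single.mp hK
  have hc0 : c ≠ 0 := hc.ne_zero
  let u : (Γ(X, ⊤))ˣ := (hv.map (σ n X).appTop.hom).unit
  have hu : (u : Γ(X, ⊤)) = (σ n X).appTop v := rfl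
  -- the key local computation
  have key : ∀ i : X.affineOpenCover.I₀, evΓ (θ n (X.affineOpenCover.f i)) v =
      single e (evΓ (X.affineOpenCover.f i) (u : Γ(X, ⊤))) := by
    intro i
    obtain ⟨R, hR⟩ : ∃ R, R = X.affineOpenCover.X i := ⟨_, rfl⟩
    obtain ⟨g, hg⟩ : ∃ g : Spec (X.affineOpenCover.X i) ⟶ X, g = X.affineOpenCover.f i := ⟨_, rfl⟩
    haveI : IsOpenImmersion g := hg ▸ inferInstance
    rw [← hg]
    by_cases hne : Nonempty (Spec (X.affineOpenCover.X i))
    · haveI : IsIntegral (Spec (X.affineOpenCover.X i)) := isIntegral_of_isOpenImmersion g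
      haveI : IsDomain (X.affineOpenCover.X i) := (affine_isIntegral_iff _).mp inferInstance
      obtain ⟨ei, ri, hei, hri⟩ := isUnit_iff_single.mp (hv.map (evΓ (θ n g)))
      have hξ : ξ ∈ Set.range g := by
        have hopen : IsOpen (Set.range g) := g.isOpenEmbedding.isOpen_range
        rw [(genericPoint_spec X).mem_open_set_iff hopen]
        obtain ⟨x⟩ := hne
        exact ⟨g x, trivial, x, rfl⟩
      have hsub : Set.range gη ⊆ Set.range g := by
        rw [Scheme.range_fromSpecResidueField]
        exact Set.singleton_subset_iff.mpr hξ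
      let l : Spec K ⟶ Spec (X.affineOpenCover.X i) := IsOpenImmersion.lift g gη hsub
      have hl : l ≫ g = gη := IsOpenImmersion.lift_fac _ _ _
      let φ : X.affineOpenCover.X i ⟶ K := Spec.preimage l
      have hφ : Spec.map φ ≫ g = gη := by rw [Spec.map_preimage]; exact hl
      have h1 : evΓ (θ n gη) v = (mapRG n φ).hom (evΓ (θ n g) v) := by
        rw [← hφ, θ_specMap_comp, evΓ_specMap_comp]
      rw [hec, hei, mapRG_single] at h1
      obtain ⟨hee, -⟩ := (single_eq_single_iff hc0).mp h1
      have h3 : evΓ g (u : Γ(X, ⊤)) = ri := by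
        rw [hu, evΓ_σ, hei, aug_single]
      rw [hei, h3, hee]
    · haveI : Subsingleton (X.affineOpenCover.X i) := by
        by_contra hns
        rw [not_subsingleton_iff_nontrivial] at hns
        exact hne (inferInstanceAs (Nonempty (PrimeSpectrum (X.affineOpenCover.X i))))
      haveI : Subsingleton (AddMonoidAlgebra (X.affineOpenCover.X i) (Fin n → ℤ)) :=
        coeff_injective.subsingleton
      exact Subsingleton.elim _ _
  refine ⟨(u, e), ?_, ?_⟩
  · -- existence
    apply Scheme.OpenCover.ext_elem _ _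
      (X.affineOpenCover.openCover.pullback₁ (prod.fst : X ⨯ Spec (LRing.{u} n) ⟶ X))
    intro (i : X.affineOpenCover.I₀)
    have sq := isPullback_θ n (X.affineOpenCover.f i)
    have hfi : (X.affineOpenCover.openCover.pullback₁
        (prod.fst : X ⨯ Spec (LRing.{u} n) ⟶ X)).f i =
        sq.isoPullback.inv ≫ θ n (X.affineOpenCover.f i) :=
      (IsPullback.isoPullback_inv_fst _).symm
    have hθ : (θ n (X.affineOpenCover.f i)).appTop v =
        (θ n (X.affineOpenCover.f i)).appTop
          ((prod.fst : X ⨯ Spec (LRing.{u} n) ⟶ X).appTop (u : Γ(X, ⊤)) *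
            (prod.snd : X ⨯ Spec (LRing.{u} n) ⟶ Spec (LRing.{u} n)).appTop
              ((Scheme.ΓSpecIso (LRing.{u} n)).inv (ULift.up (single e 1)))) := by
      apply appTop_eq_of_evΓ_eq
      rw [map_mul, evΓ_θ_fst, evΓ_θ_snd, ιL_single, key i, single_mul_single, zero_add,
        Int.cast_one, mul_one]
    change ((X.affineOpenCover.openCover.pullback₁
        (prod.fst : X ⨯ Spec (LRing.{u} n) ⟶ X)).f i).appTop _ =
      ((X.affineOpenCover.openCover.pullback₁
        (prod.fst : X ⨯ Spec (LRing.{u} n) ⟶ X)).f i).appTop _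
    rw [hfi, Scheme.Hom.comp_appTop]
    exact congrArg (ConcreteCategory.hom (Scheme.Hom.appTop sq.isoPullback.inv)) hθ
  · -- uniqueness
    rintro ⟨u', e'⟩ h'
    simp only at h'
    have hu' : u' = u := by
      apply Units.ext
      rw [hu, h', map_mul, σ_appTop_fst, σ_appTop_snd, mul_one]
    have he' : e' = e := by
      have h2 : evΓ (θ n gη) v = single e' (evΓ gη (u' : Γ(X, ⊤))) := by
        rw [h', map_mul, evΓ_θ_fst, evΓ_θ_snd, ιL_single, single_mul_single, zero_add,
          Int.cast_one, mul_one]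
      rw [hec] at h2
      exact ((single_eq_single_iff hc0).mp h2).1.symm
    rw [hu', he']

end Groth.Agent.Lib.Helper14.TorusUnits
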