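import Mathlib
import Groth.Prelude.Def_RedSub

/-!
# helper14: the exchange lemma for Weyl groups of reduced root pairings over `ℤ`

* `reflectionPerm_reflectionPerm`: `s_{s_a(c)} = s_a s_c s_a` as permutations of the index set.
* `mem_posRoots_iff`, `mem_negRoots_iff`: `RedSub.posRoots`/`negRoots` in terms of `Base.IsPos`.
* `exchange`: if `c` is positive and `w⁻¹ c` is negative, `w = s_{a₁} ⋯ s_{a_ℓ}` a word in simple
  reflections, then `s_c s_{a₁} ⋯ s_{a_{i+1}} = s_{a₁} ⋯ s_{a_i}` for some `i < ℓ`.
-/

set_option autoImplicit false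
open RedSub

namespace Groth.Agent.Lib.Helper14.WeylExch

variable {idx M N : Type} [AddCommGroup M] [AddCommGroup N]

theorem reflectionPerm_reflectionPerm (P : RootPairing idx ℤ M N) (a c : idx) :
    P.reflectionPerm (P.reflectionPerm a c) =
      P.reflectionPerm a * P.reflectionPerm c * P.reflectionPerm a := by
  apply Equiv.ext
  intro k
  apply P.root.injective
  rw [RootPairing.root_reflectionPerm, RootPairing.reflection_reflectionPerm]
  simp only [Equiv.Perm.coe_mul, Function.comp_apply, RootPairing.root_reflectionPerm]
  rfl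

variable [Finite idx] (P : RootPairing idx ℤ M N) [P.IsReduced] (b : P.Base)

/-- elements of the closure of the simple roots are nonnegative combinations -/
theorem exists_nonneg_of_mem_closure (x : M)
    (hx : x ∈ AddSubmonoid.closure (P.root '' (b.support : Set idx))) :
    ∃ f : idx → ℤ, (∀ j, 0 ≤ f j) ∧ x = ∑ j ∈ b.support, f j • P.root j := by
  classical
  induction hx using AddSubmonoid.closure_induction with
  | mem x hx =>
    obtain ⟨j, hj, rfl⟩ := hx
    refine ⟨Pi.single j 1, fun k => ?_, ?_⟩
    · by_cases hk : k = j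
      · subst hk; simp
      · simp [Pi.single_eq_of_ne hk]
    · rw [Finset.sum_eq_single_of_mem j hj (fun k _ hk => by simp [Pi.single_eq_of_ne hk])]
      simp
  | zero => exact ⟨0, fun _ => le_rfl, by simp⟩
  | add x y _ _ hx hy =>
    obtain ⟨f, hf, rfl⟩ := hx
    obtain ⟨g, hg, rfl⟩ := hy
    refine ⟨f + g, fun j => add_nonneg (hf j) (hg j), ?_⟩
    simp only [Pi.add_apply, add_smul, Finset.sum_add_distrib]

theorem isPos_of_mem_posRoots {c : idx} (hc : c ∈ posRoots P b) : b.IsPos c := by
  obtain ⟨f, hf, hfc⟩ := exists_nonneg_of_mem_closure P b _ hc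
  rw [RootPairing.Base.isPos_iff', RootPairing.Base.height_eq_sum hfc]
  exact Finset.sum_nonneg fun j _ => hf j

theorem not_isPos_of_mem_negRoots {c : idx} (hc : c ∈ negRoots P b) : ¬ b.IsPos c := by
  obtain ⟨f, hf, hfc⟩ := exists_nonneg_of_mem_closure P b _ hc
  have h2 : P.root c = ∑ j ∈ b.support, (-f) j • P.root j := by
    rw [← neg_neg (P.root c), hfc]
    simp [Finset.sum_neg_distrib]
  rw [RootPairing.Base.isPos_iff, RootPairing.Base.height_eq_sum h2]
  simp only [Pi.neg_apply, Finset.sum_neg_distrib, not_lt, Left.neg_nonpos_iff]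
  exact Finset.sum_nonneg fun j _ => hf j

theorem mem_posRoots_of_isPos {c : idx} (hc : b.IsPos c) : c ∈ posRoots P b := by
  rcases b.root_mem_or_neg_mem c with h | h
  · exact h
  · exact absurd hc (not_isPos_of_mem_negRoots P b h)

theorem wordPerm_cons (a : idx) (l : List idx) :
    wordPerm P (a :: l) = P.reflectionPerm a * wordPerm P l := by
  simp [wordPerm]

theorem wordPerm_nil : wordPerm P ([] : List idx) = 1 := by
  simp [wordPerm]

theorem exchange (l : List idx) (hl : ∀ a ∈ l, a ∈ b.support) :
    ∀ c : idx, b.IsPos c → ¬ b.IsPos ((wordPerm P l).symm c) →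
      ∃ i : ℕ, i < l.length ∧
        P.reflectionPerm c * wordPerm P (l.take (i + 1)) = wordPerm P (l.take i) := by
  induction l with
  | nil =>
    intro c hc hneg
    rw [wordPerm_nil] at hneg
    exact absurd hc hneg
  | cons a l ih =>
    intro c hc hneg
    have ha : a ∈ b.support := hl a (List.mem_cons_self ..)
    have hl' : ∀ a' ∈ l, a' ∈ b.support := fun a' ha' => hl a' (List.mem_cons_of_mem _ ha')
    by_cases hca : c = a
    · subst hca
      refine ⟨0, by simp, ?_⟩
      simp only [zero_add, List.take_succ_cons, List.take_zero, wordPerm_cons, wordPerm_nil,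
        mul_one]
      rw [← sq, RootPairing.reflectionPerm_sq]
    · have hc' : b.IsPos (P.reflectionPerm a c) := hc.reflectionPerm ha hca
      have hneg' : ¬ b.IsPos ((wordPerm P l).symm (P.reflectionPerm a c)) := by
        intro h
        apply hneg
        rw [wordPerm_cons]
        have : (P.reflectionPerm a * wordPerm P l).symm c =
            (wordPerm P l).symm (P.reflectionPerm a c) := by
          show (P.reflectionPerm a * wordPerm P l)⁻¹ c = (wordPerm P l)⁻¹ (P.reflectionPerm a c)
          rw [mul_inv_rev, Equiv.Perm.mul_apply, RootPairing.reflectionPerm_inv]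
        rw [this]
        exact h
      obtain ⟨i, hi, hEq⟩ := ih hl' (P.reflectionPerm a c) hc' hneg'
      refine ⟨i + 1, by simpa using hi, ?_⟩
      simp only [List.take_succ_cons, wordPerm_cons]
      rw [← hEq, reflectionPerm_reflectionPerm]
      have hsq : P.reflectionPerm a * P.reflectionPerm a = 1 := by
        rw [← sq, RootPairing.reflectionPerm_sq]
      calc P.reflectionPerm c * (P.reflectionPerm a * wordPerm P (List.take (i + 1) l))
          = (P.reflectionPerm a * P.reflectionPerm a) * P.reflectionPerm c *
              (P.reflectionPerm a * wordPerm P (List.take (i + 1) l)) := by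
            rw [hsq, one_mul]
        _ = P.reflectionPerm a * (P.reflectionPerm a * P.reflectionPerm c * P.reflectionPerm a *
              wordPerm P (List.take (i + 1) l)) := by
            simp only [mul_assoc]

end Groth.Agent.Lib.Helper14.WeylExch
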