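import Mathlib
import Groth.Agent.Lib.Helper14.AlgClosedPts

/-!
# helper14: rational points lying under words, over an algebraically closed field

* `exists_power`: the `n`-fold product of an `S`-scheme with its projections (weak universal property).
* `exists_point_fibre`: over an algebraically closed field, if a rational point `z` of `G` lies in the
  image of `m : A ⟶ G` with `A` locally of finite type then `z = m(y)` for a rational point `y` of `A`.
* `words_eq_closure`: the rational points lying under words in `f : X ⟶ G` are the subgroup generated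
  by the rational points lying in the image of `f`.
-/

set_option autoImplicit false
universe u
open CategoryTheory CategoryTheory.Limits AlgebraicGeometry MonoidalCategory
  CartesianMonoidalCategory MonObj

namespace Groth.Agent.Lib.Helper14.WordPts

noncomputable section

/-- the signed word in the points `x j ≫ f` -/
def word {S : Scheme.{u}} {G X T : Over S} [GrpObj G] (f : X ⟶ G) {n : ℕ} (x : Fin n → (T ⟶ X))
    (ε : Fin n → Bool) : T ⟶ G :=
  (List.ofFn fun j : Fin n => if ε j then x j ≫ f else (x j ≫ f)⁻¹).prod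

theorem comp_list_prod {S : Scheme.{u}} {G T T' : Over S} [GrpObj G] (u : T' ⟶ T)
    (l : List (T ⟶ G)) : u ≫ l.prod = (l.map (fun a => u ≫ a)).prod := by
  induction l with
  | nil => simp only [List.map_nil, List.prod_nil, MonObj.comp_one]
  | cons a l ih => simp only [List.map_cons, List.prod_cons, MonObj.comp_mul, ih]

theorem comp_word {S : Scheme.{u}} {G X T T' : Over S} [GrpObj G] (f : X ⟶ G) (u : T' ⟶ T) {n : ℕ}
    (x : Fin n → (T ⟶ X)) (ε : Fin n → Bool) :
    u ≫ word f x ε = word f (fun j => u ≫ x j) ε := by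
  unfold word
  rw [comp_list_prod, List.map_ofFn]
  congr 2
  funext j
  simp only [Function.comp_apply]
  split_ifs
  · rw [Category.assoc]
  · rw [GrpObj.comp_inv, Category.assoc]

/-- the `n`-fold product -/
theorem exists_power {S : Scheme.{u}} (X : Over S) [LocallyOfFiniteType X.hom] (n : ℕ) :
    ∃ (P : Over S) (_ : LocallyOfFiniteType P.hom) (π : Fin n → (P ⟶ X)),
      ∀ (T : Over S) (x : Fin n → (T ⟶ X)), ∃ u : T ⟶ P, ∀ j, u ≫ π j = x j := by
  induction n with
  | zero =>
    refine ⟨𝟙_ _, inferInstanceAs (LocallyOfFiniteType (𝟙 S)), Fin.elim0, fun T x => ⟨toUnit T, ?_⟩⟩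
    intro j
    exact Fin.elim0 j
  | succ n ih =>
    obtain ⟨P, hP, π, hπ⟩ := ih
    haveI := hP
    refine ⟨X ⊗ P, inferInstanceAs (LocallyOfFiniteType (pullback.fst X.hom P.hom ≫ X.hom)),
      Fin.cons (fst X P) (fun j => snd X P ≫ π j), fun T x => ?_⟩
    obtain ⟨u, hu⟩ := hπ T (fun j => x j.succ)
    refine ⟨lift (x 0) u, ?_⟩
    intro j
    refine Fin.cases ?_ (fun i => ?_) j
    · rw [Fin.cons_zero, lift_fst]
    · rw [Fin.cons_succ, lift_snd_assoc, hu]

variable {k : Type u} [Field k] [IsAlgClosed k]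

/-- a rational point of `G` in the image of `m : A ⟶ G` is the image of a rational point -/
theorem exists_point_fibre {G A : Over (Spec (CommRingCat.of k))} [LocallyOfFiniteType A.hom]
    (m : A ⟶ G) (z : 𝟙_ (Over (Spec (CommRingCat.of k))) ⟶ G) (a₀ : ↥A.left)
    (p₀ : ↥(𝟙_ (Over (Spec (CommRingCat.of k)))).left)
    (h : m.left.base a₀ = z.left.base p₀) :
    ∃ y : 𝟙_ (Over (Spec (CommRingCat.of k))) ⟶ A, y ≫ m = z := by
  haveI : LocallyOfFiniteType z.left := by
    haveI : LocallyOfFiniteType (z.left ≫ G.hom) := by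
      rw [Over.w z]
      exact inferInstanceAs (LocallyOfFiniteType (𝟙 (Spec (CommRingCat.of k))))
    exact locallyOfFiniteType_of_comp z.left G.hom
  let Q : Over (Spec (CommRingCat.of k)) := Over.mk (pullback.fst m.left z.left ≫ A.hom)
  let a : Q ⟶ A := Over.homMk (pullback.fst m.left z.left) rfl
  let b : Q ⟶ 𝟙_ (Over (Spec (CommRingCat.of k))) := Over.homMk (pullback.snd m.left z.left) (by
    change pullback.snd m.left z.left ≫ (𝟙_ (Over (Spec (CommRingCat.of k)))).hom =
      pullback.fst m.left z.left ≫ A.hom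
    rw [← Over.w z, ← Over.w m, ← Category.assoc, ← Category.assoc, pullback.condition])
  have hab : a ≫ m = b ≫ z := by
    ext1
    exact pullback.condition
  haveI : LocallyOfFiniteType Q.hom :=
    inferInstanceAs (LocallyOfFiniteType (pullback.fst m.left z.left ≫ A.hom))
  obtain ⟨q₀, -, -⟩ := Scheme.Pullback.exists_preimage_pullback (f := m.left) (g := z.left) a₀ p₀ h
  haveI : Nonempty ↥Q.left := ⟨q₀⟩
  obtain ⟨q⟩ := Groth.Agent.Lib.Helper14.AlgClosedPts.exists_point Q
  refine ⟨q ≫ a, ?_⟩
  rw [Category.assoc, hab, ← Category.assoc, toUnit_unique (q ≫ b) (𝟙 _), Category.id_comp]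

theorem words_eq_closure (G X : Over (Spec (CommRingCat.of k))) [GrpObj G]
    [LocallyOfFiniteType X.hom] (f : X ⟶ G) :
    {g : 𝟙_ (Over (Spec (CommRingCat.of k))) ⟶ G | ∃ (n : ℕ) (T : Over (Spec (CommRingCat.of k)))
        (p : T.left) (p₀ : (𝟙_ (Over (Spec (CommRingCat.of k)))).left)
        (x : Fin n → (T ⟶ X)) (ε : Fin n → Bool),
        (word f x ε).left.base p = g.left.base p₀} =
      ((Subgroup.closure {g : 𝟙_ (Over (Spec (CommRingCat.of k))) ⟶ G |
        ∃ p₀ : (𝟙_ (Over (Spec (CommRingCat.of k)))).left, g.left.base p₀ ∈ Set.range f.left.base} :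
        Subgroup (𝟙_ (Over (Spec (CommRingCat.of k))) ⟶ G)) :
        Set (𝟙_ (Over (Spec (CommRingCat.of k))) ⟶ G)) := by
  haveI : Unique ↥(𝟙_ (Over (Spec (CommRingCat.of k)))).left :=
    inferInstanceAs (Unique (PrimeSpectrum k))
  set s : Set (𝟙_ (Over (Spec (CommRingCat.of k))) ⟶ G) := {g |
    ∃ p₀ : (𝟙_ (Over (Spec (CommRingCat.of k)))).left, g.left.base p₀ ∈ Set.range f.left.base}
    with hs
  apply Set.eq_of_subset_of_subset
  · rintro g ⟨n, T, p, p₀, x, ε, h⟩
    obtain ⟨P, hP, π, hπ⟩ := exists_power X n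
    haveI := hP
    obtain ⟨u, hu⟩ := hπ T x
    have hW : u ≫ word f π ε = word f x ε := by
      rw [comp_word]
      congr 1
      funext j
      exact hu j
    obtain ⟨y, hy⟩ := exists_point_fibre (word f π ε) g (u.left.base p) p₀ (by
      rw [← h, ← hW]
      rfl)
    rw [← hy, comp_word]
    unfold word
    refine Subgroup.list_prod_mem _ ?_
    intro a ha
    rw [List.mem_ofFn] at ha
    obtain ⟨j, rfl⟩ := ha
    have hmem : (y ≫ π j) ≫ f ∈ s := ⟨default, ⟨(y ≫ π j).left.base default, rfl⟩⟩
    split_ifs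
    · exact Subgroup.subset_closure hmem
    · exact Subgroup.inv_mem _ (Subgroup.subset_closure hmem)
  · intro g hg
    have hg' : g ∈ Submonoid.closure (s ∪ s⁻¹) := by
      rw [← Subgroup.closure_toSubmonoid]
      exact hg
    obtain ⟨l, hl, rfl⟩ := Submonoid.exists_list_of_mem_closure hg'
    have key : ∀ l : List (𝟙_ (Over (Spec (CommRingCat.of k))) ⟶ G), (∀ y ∈ l, y ∈ s ∪ s⁻¹) →
        ∃ (n : ℕ) (x : Fin n → (𝟙_ (Over (Spec (CommRingCat.of k))) ⟶ X)) (ε : Fin n → Bool),
          word f x ε = l.prod := by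
      intro l
      induction l with
      | nil =>
        intro _
        exact ⟨0, Fin.elim0, Fin.elim0, by simp [word]⟩
      | cons a l ih =>
        intro hl
        obtain ⟨n, x, ε, hx⟩ := ih (fun y hy => hl y (List.mem_cons_of_mem _ hy))
        have ha := hl a List.mem_cons_self
        rcases ha with ha | ha
        · obtain ⟨p₀, x₀, hx₀⟩ := ha
          obtain ⟨y, hy⟩ := exists_point_fibre f a x₀ p₀ hx₀
          refine ⟨n + 1, Fin.cons y x, Fin.cons true ε, ?_⟩
          unfold word at hx ⊢
          rw [List.ofFn_succ, List.prod_cons, List.prod_cons, ← hx]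
          simp only [Fin.cons_zero, Fin.cons_succ, if_true, hy]
        · obtain ⟨p₀, x₀, hx₀⟩ := ha
          obtain ⟨y, hy⟩ := exists_point_fibre f a⁻¹ x₀ p₀ hx₀
          refine ⟨n + 1, Fin.cons y x, Fin.cons false ε, ?_⟩
          unfold word at hx ⊢
          rw [List.ofFn_succ, List.prod_cons, List.prod_cons, ← hx]
          simp only [Fin.cons_zero, Fin.cons_succ, Bool.false_eq_true, if_false, hy,
            _root_.inv_inv]
    obtain ⟨n, x, ε, hx⟩ := key l hl
    exact ⟨n, 𝟙_ _, default, default, x, ε, by rw [hx]⟩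

end

end Groth.Agent.Lib.Helper14.WordPts
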