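import Mathlib
import Groth.Prelude.Def_AlgGrp
import Groth.Agent.Lib.Helper14.RatPtGeomConn
import Groth.Agent.Lib.Helper14.OrbitLC1
import Groth.Agent.Lib.Helper1.SmoothReduced

/-!
# helper14: a connected smooth group over a field acts trivially on a reduced scheme of finite
type of dimension zero
-/

set_option autoImplicit false
set_option linter.style.haveILetI false
universe u
open CategoryTheory MonoidalCategory CartesianMonoidalCategory MonObj GrpObj AlgebraicGeometry
  CategoryTheory.Limits TopologicalSpace

namespace Groth.Agent.Lib.Helper14.ZeroDimAct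

open Groth.Agent.Lib.helper22 Groth.Agent.Lib.Helper14.OrbitLC

variable {k : Type u} [Field k]

/-- a scheme locally of finite type over a field with discrete underlying space has a discrete
self-product -/
theorem discreteTopology_tensor (Z : Over (Spec (CommRingCat.of k))) [LocallyOfFiniteType Z.hom]
    [DiscreteTopology Z.left] : DiscreteTopology (Z ⊗ Z).left := by
  haveI : LocallyQuasiFinite Z.hom := by
    rw [locallyQuasiFinite_iff_isDiscrete_preimage_singleton]
    intro x
    exact (isDiscrete_univ_iff.mpr inferInstance).mono (Set.subset_univ _)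
  have h1 : (Z ⊗ Z).hom = (snd Z Z).left ≫ Z.hom := (Over.w (snd Z Z)).symm
  haveI : LocallyQuasiFinite (snd Z Z).left := by
    change LocallyQuasiFinite (pullback.snd Z.hom Z.hom); infer_instance
  haveI : LocallyQuasiFinite (Z ⊗ Z).hom := by rw [h1]; infer_instance
  rw [← isDiscrete_univ_iff]
  have h2 := (Z ⊗ Z).hom.isDiscrete_preimage_singleton (IsLocalRing.closedPoint k)
  refine h2.mono ?_
  intro w _
  exact Subsingleton.elim _ _


/-- **A connected smooth group scheme acts trivially on a reduced scheme of finite type with
discrete underlying space.** -/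
theorem act_eq_snd (G Z : Over (Spec (CommRingCat.of k))) [GrpObj G] [Smooth G.hom]
    [ConnectedSpace ↥G.left] [LocallyOfFiniteType Z.hom] [IsReduced Z.left]
    [DiscreteTopology Z.left] (a : AlgGrp.Action G Z) : a.act = snd G Z := by
  haveI := discreteTopology_tensor Z
  -- the equalizer as a pullback of the diagonal
  let e := equalizer.ι a.act (snd G Z)
  have hpb : IsPullback e (e ≫ a.act) (lift a.act (snd G Z)) (lift (𝟙 Z) (𝟙 Z)) := by
    apply isPullback_of_points
    · apply CartesianMonoidalCategory.hom_ext
      · simp
      · simp only [Category.assoc, lift_snd, Category.comp_id]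
        exact (equalizer.condition a.act (snd G Z)).symm
    · intro T s t hst
      have h1 : s ≫ a.act = t := by
        have := congrArg (fun f => f ≫ fst Z Z) hst
        simpa using this
      have h2 : s ≫ snd G Z = t := by
        have := congrArg (fun f => f ≫ snd Z Z) hst
        simpa using this
      refine ⟨equalizer.lift s (h1.trans h2.symm), equalizer.lift_ι _ _, ?_⟩
      rw [← Category.assoc, equalizer.lift_ι, h1]
    · intro T l l' h1 _
      exact (cancel_mono e).mp h1
  have hpbL := hpb.map (Over.forget _)
  -- the range of `e.left` is clopen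
  let D : Set (Z ⊗ Z).left := Set.range (lift (𝟙 Z) (𝟙 Z)).left
  have hrange : Set.range e.left = (lift a.act (snd G Z)).left ⁻¹' D := by
    ext w
    constructor
    · rintro ⟨x, rfl⟩
      refine ⟨(e ≫ a.act).left x, ?_⟩
      rw [← Scheme.Hom.comp_apply, ← Scheme.Hom.comp_apply, ← Over.comp_left, ← Over.comp_left,
        hpb.w]
    · rintro ⟨z, hz⟩
      obtain ⟨x, hx, -⟩ := exists_preimage_of_isPullback hpbL w z hz.symm
      exact ⟨x, hx⟩
  have hclopen : IsClopen (Set.range e.left) := by
    rw [hrange]
    exact ⟨(isClosed_discrete D).preimage (lift a.act (snd G Z)).left.continuous,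
      (isOpen_discrete D).preimage (lift a.act (snd G Z)).left.continuous⟩
  -- the fibres of the projection are connected
  haveI : GeometricallyConnected G.hom :=
    Groth.Agent.Lib.Helper14.RatPtGeomConn.geometricallyConnected_of_section G η[G]
  haveI : GeometricallyConnected (snd G Z).left := by
    change GeometricallyConnected (pullback.snd G.hom Z.hom); infer_instance
  have hsurj : Set.range e.left = Set.univ := by
    rw [Set.eq_univ_iff_forall]
    intro w
    have hconn := (snd G Z).left.isConnected_preimage_singleton ((snd G Z).left w)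
    let s : Z ⟶ G ⊗ Z := lift (toUnit Z ≫ η[G]) (𝟙 Z)
    have hs : s ≫ a.act = s ≫ snd G Z := by
      rw [lift_snd]
      exact one_smul a (𝟙 Z)
    have hw₀ : s.left ((snd G Z).left w) ∈ Set.range e.left :=
      ⟨(equalizer.lift s hs).left ((snd G Z).left w), by
        rw [← Scheme.Hom.comp_apply, ← Over.comp_left, equalizer.lift_ι]⟩
    have hw₀' : s.left ((snd G Z).left w) ∈ (snd G Z).left ⁻¹' {(snd G Z).left w} := by
      change (snd G Z).left (s.left ((snd G Z).left w)) = (snd G Z).left w
      rw [← Scheme.Hom.comp_apply, ← Over.comp_left, lift_snd]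
      rfl
    exact hconn.isPreconnected.subset_isClopen hclopen ⟨_, hw₀', hw₀⟩ (rfl : _ = _)
  -- `e.left` is a surjective closed immersion onto a reduced scheme
  haveI : IsImmersion (lift (𝟙 Z) (𝟙 Z)).left := by
    have h1 : (lift (𝟙 Z) (𝟙 Z)).left = pullback.diagonal Z.hom := by
      apply pullback.hom_ext
      · rw [pullback.diagonal_fst]
        exact congrArg CommaMorphism.left (lift_fst (𝟙 Z) (𝟙 Z))
      · rw [pullback.diagonal_snd]
        exact congrArg CommaMorphism.left (lift_snd (𝟙 Z) (𝟙 Z))
    rw [h1]
    infer_instance
  haveI : IsImmersion e.left :=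
    MorphismProperty.of_isPullback (P := @IsImmersion) hpbL.flip
      (inferInstanceAs (IsImmersion (lift (𝟙 Z) (𝟙 Z)).left))
  haveI : IsClosedImmersion e.left := .of_isPreimmersion _ (by rw [hsurj]; exact isClosed_univ)
  haveI : Surjective e.left := ⟨Set.range_eq_univ.mp hsurj⟩
  haveI : Smooth (snd G Z).left := by
    change Smooth (pullback.snd G.hom Z.hom); infer_instance
  haveI : IsReduced (G ⊗ Z).left :=
    Groth.Agent.H1.SmoothReduced.isReduced_of_smooth (snd G Z).left
  haveI : IsIso e.left := isIso_of_isClosedImmersion_of_surjective e.left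
  haveI : Epi e := by
    haveI : Epi ((Over.forget _).map e) := inferInstanceAs (Epi e.left)
    exact (Over.forget _).epi_of_epi_map ‹_›
  rw [← cancel_epi e]
  exact equalizer.condition _ _

end Groth.Agent.Lib.Helper14.ZeroDimAct
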